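import Cfsg.Agent.Lib.Dade.Virtual
import Cfsg.Agent.Lib.Coherence.Extend
import Cfsg.Agent.S1500

/-!
# Elementary properties of the Dade map (owner: helper34)

* `dadeIsometry_add/_sub/_neg/_zsmul/_smul/_sum/_conj/_one`, `dadeIsometry_self`
* `dadeIsometry_inner`, `dade_linearIsometryOn`
-/

set_option autoImplicit false

namespace Cfsg.Agent.Peterfalvi

open Cfsg Cfsg.Agent Cfsg.Agent.Char Cfsg.Agent.Coherence

universe u

variable {G : Type u} [Group G] {A : Set G} {L : Subgroup G} {R : G → Subgroup G}

theorem dadeIsometry_add (α β : L → ℂ) :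
    dadeIsometry A L R (α + β) = dadeIsometry A L R α + dadeIsometry A L R β := by
  funext g
  simp only [dadeIsometry, Pi.add_apply]
  split_ifs <;> simp

theorem dadeIsometry_sub (α β : L → ℂ) :
    dadeIsometry A L R (α - β) = dadeIsometry A L R α - dadeIsometry A L R β := by
  funext g
  simp only [dadeIsometry, Pi.sub_apply]
  split_ifs <;> simp

theorem dadeIsometry_neg (α : L → ℂ) :
    dadeIsometry A L R (-α) = -dadeIsometry A L R α := by
  funext g
  simp only [dadeIsometry, Pi.neg_apply]
  split_ifs <;> simp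

theorem dadeIsometry_zsmul (n : ℤ) (α : L → ℂ) :
    dadeIsometry A L R (n • α) = n • dadeIsometry A L R α := by
  funext g
  simp only [dadeIsometry, Pi.smul_apply]
  split_ifs <;> simp

theorem dadeIsometry_smul (c : ℂ) (α : L → ℂ) :
    dadeIsometry A L R (c • α) = c • dadeIsometry A L R α := by
  funext g
  simp only [dadeIsometry, Pi.smul_apply]
  split_ifs <;> simp

theorem dadeIsometry_sum {ι : Type*} (s : Finset ι) (f : ι → L → ℂ) :
    dadeIsometry A L R (∑ i ∈ s, f i) = ∑ i ∈ s, dadeIsometry A L R (f i) := by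
  funext g
  simp only [dadeIsometry, Finset.sum_apply]
  split_ifs <;> simp

theorem dadeIsometry_conj (α : L → ℂ) :
    dadeIsometry A L R (conjFun α) = conjFun (dadeIsometry A L R α) := by
  funext g
  simp only [dadeIsometry, conjFun]
  split_ifs <;> simp

variable [Fintype G]

theorem dadeIsometry_one (hD : DadeHypothesis A L R) (α : L → ℂ) :
    dadeIsometry A L R α 1 = 0 := by
  refine Dade.dadeIsometry_eq_zero hD ?_
  rintro ⟨a, ha, u, hu, x, hx⟩
  rw [mul_one, mul_inv_cancel] at hx
  have h1 : u = a⁻¹ := eq_inv_of_mul_eq_one_right hx.symm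
  have h2 : u ∈ L := h1 ▸ L.inv_mem (hD.subset ha)
  have h3 : u = 1 := Dade.eq_one_of_mem_H_of_mem hD ha hu h2
  rw [h3, eq_comm, inv_eq_one] at h1
  exact hD.one_not_mem (h1 ▸ ha)

/-- On `A` itself the Dade image takes the values of the function. -/
theorem dadeIsometry_self (hD : DadeHypothesis A L R) {α : L → ℂ} (hα : IsClassFunction L α)
    (a : L) (ha : (a : G) ∈ A) : dadeIsometry A L R α (a : G) = α a :=
  Dade.dadeIsometry_apply hD hα a ha (Subgroup.one_mem _) (x := 1) (by group)

theorem dadeIsometry_inner [Fintype L] (hD : DadeHypothesis A L R) {α β : L → ℂ}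
    (hα : IsClassFunction L α) (hαA : ∀ x : L, (x : G) ∉ A → α x = 0)
    (hβ : IsClassFunction L β) (hβA : ∀ x : L, (x : G) ∉ A → β x = 0) :
    classInner (dadeIsometry A L R α) (dadeIsometry A L R β) = classInner α β :=
  (S1500.result A L R hD α hα hαA).1 β hβ hβA

/-- The Dade map is a linear isometry on the virtual characters in a set supported in `A`. -/
theorem dade_linearIsometryOn [Fintype L] (hD : DadeHypothesis A L R) {E : Set (L → ℂ)}
    (hE : ∀ α ∈ E, IsGeneralizedCharacter L α ∧ ∀ x : L, (x : G) ∉ A → α x = 0) :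
    IsLinearIsometryOn E (dadeIsometry A L R) := by
  refine ⟨fun α _ β _ => dadeIsometry_add α β, fun α _ n => dadeIsometry_zsmul n α,
    fun α hα β hβ => ?_, fun α hα => Dade.dadeIsometry_isGeneralized hD (hE α hα).1 (hE α hα).2⟩
  exact dadeIsometry_inner hD (isGC_isClassFunction (hE α hα).1) (hE α hα).2
    (isGC_isClassFunction (hE β hβ).1) (hE β hβ).2

end Cfsg.Agent.Peterfalvi
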