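import Cfsg.Agent.Lib.Peterfalvi.Sec8

/-!
# The frozen sets `typeA1`, `typeA`, `typeA0` inside the core sets (owner: helper34)

* `typeSet_subset_core`, `dade_hypothesis_type` (statement 1537), `typeII_ti` (statement 1538)
-/

set_option autoImplicit false

namespace Cfsg.Agent.Peterfalvi

open scoped Pointwise commutatorElement
open Cfsg OddMax

universe u

variable {G : Type u} [Group G] [Finite G] (hG : IsMinSimpleOddOrder G) (F : Sec16Facts G)
  {M : Subgroup G} (hM : IsCoatom M)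
include hG F hM

theorem typeA1_eq_core : typeA1 M = coreA1 M := typeA1_eq hG F hM

theorem typeA_subset_core : typeA M ⊆ coreA M := by
  obtain ⟨K, U, hKU⟩ := exists_decomp F.toSec15Facts hM
  exact fun a ha => ⟨K, U, hKU, typeA_subset hG F hM hKU ha⟩

theorem typeA0_subset_core : typeA0 M ⊆ coreA0 M := by
  obtain ⟨K, U, hKU⟩ := exists_decomp F.toSec15Facts hM
  intro v hv
  rcases typeA0_cases hG F hM hKU hv with h | ⟨hK, h⟩
  · exact Or.inl (typeA_subset_core hG F hM h)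
  · exact Or.inr ⟨K, U, hKU, hK, h⟩

theorem coreA1_subset_typeA : coreA1 M ⊆ typeA M := by
  obtain ⟨K, U, hKU⟩ := exists_decomp F.toSec15Facts hM
  rintro x ⟨hx, hx1⟩
  have hs : typeCore M = sigmaCore M := typeCore_eq hG F hM
  unfold typeA
  split_ifs with h
  · have hK : K = ⊥ := K_eq_bot_of_typeI hG F hM hKU h
    subst hK
    obtain ⟨-, -, hH⟩ := typeOne_basic hG F hM hKU
    exact ⟨sigmaCore_le M hx, hx1, x, hH.symm ▸ hx, hx1, rfl⟩
  · exact ⟨sigmaCore_le_commutator F.toSec15Facts hM hx, hx1, x, hs.symm ▸ hx, hx1, rfl⟩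

theorem conj_mem_typeA {m a : G} (hm : m ∈ M) (ha : a ∈ typeA M) : m * a * m⁻¹ ∈ typeA M := by
  have hs : typeCore M = sigmaCore M := typeCore_eq hG F hM
  unfold typeA at ha ⊢
  split_ifs at ha ⊢ with h
  · obtain ⟨h1, h2, y, hy, hy1, hc⟩ := ha
    exact ⟨M.mul_mem (M.mul_mem hm h1) (M.inv_mem hm), fun e => h2 (conj_eq_one_iff.1 e),
      m * y * m⁻¹, conj_mem_of_le_normalizer (le_normalizer_fittingHallOf M) hm hy,
      fun e => hy1 (conj_eq_one_iff.1 e), comm_conj hc⟩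
  · obtain ⟨h1, h2, y, hy, hy1, hc⟩ := ha
    refine ⟨conj_mem_of_le_normalizer (le_normalizer_commutator_self M) hm h1,
      fun e => h2 (conj_eq_one_iff.1 e), m * y * m⁻¹, ?_,
      fun e => hy1 (conj_eq_one_iff.1 e), comm_conj hc⟩
    rw [hs] at hy ⊢
    exact conj_mem_of_le_normalizer (le_normalizer_sigmaCore M) hm hy

theorem typeSet_facts {A : Set G} (hA : A = typeA1 M ∨ A = typeA M ∨ A = typeA0 M) :
    A ⊆ coreA0 M ∧ coreA1 M ⊆ A ∧ ∀ m ∈ M, ∀ a ∈ A, m * a * m⁻¹ ∈ A := by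
  rcases hA with rfl | rfl | rfl
  · rw [typeA1_eq_core hG F hM]
    exact coreSet_facts hG F hM (Or.inl rfl)
  · exact ⟨fun a ha => Or.inl (typeA_subset_core hG F hM ha), coreA1_subset_typeA hG F hM,
      fun m hm a ha => conj_mem_typeA hG F hM hm ha⟩
  · refine ⟨typeA0_subset_core hG F hM, fun a ha => Or.inl (coreA1_subset_typeA hG F hM ha),
      fun m hm a ha => ?_⟩
    rcases ha with ha | ⟨hI, W₁, U, W₂, hP, n, hn, w, hw, hw1, hw2, rfl⟩
    · exact Or.inl (conj_mem_typeA hG F hM hm ha)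
    · exact Or.inr ⟨hI, W₁, U, W₂, hP, m * n, M.mul_mem hm hn, w, hw, hw1, hw2, by group⟩

/-- Statement 1537. -/
theorem dade_hypothesis_type {A : Set G} (hA : A = typeA1 M ∨ A = typeA M ∨ A = typeA0 M) :
    Subgroup.normalizer A = M ∧ DadeHypothesis A M (supportR M) := by
  obtain ⟨hA0, hA1, hinv⟩ := typeSet_facts hG F hM hA
  obtain ⟨a, ha⟩ := exists_mem_coreA1 hG F hM
  refine ⟨normalizer_set_eq hG hM (fun x hx => (coreA0_facts hG F hM (hA0 hx)).1) hinv (hA1 ha)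
    (coreA0_facts hG F hM (hA0 (hA1 ha))).2, ?_⟩
  have hD := dade_hypothesis hG F hM (A := coreA0 M) (Or.inr (Or.inr rfl))
  exact ⟨fun h => hD.one_not_mem (hA0 h), fun a ha => hD.subset (hA0 ha), hinv,
    fun a ha g hg => hD.fusion a (hA0 ha) g (hA0 hg), fun a ha => hD.le_centralizer a (hA0 ha),
    fun a ha => hD.conj_mem_H a (hA0 ha), fun a ha => hD.inf_eq_bot a (hA0 ha),
    fun a ha => hD.sup_eq a (hA0 ha), fun a ha b hb => hD.coprime a (hA0 ha) b (hA0 hb)⟩

/-- Statement 1538. -/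
theorem typeII_ti (hII : IsOfTypeII M) {A : Set G}
    (hA : A = typeA1 M ∨ A = typeA M ∨ A = typeA0 M) :
    IsTISubset A ∧ Subgroup.normalizer A = M := by
  obtain ⟨K, U, hKU⟩ := exists_decomp F.toSec15Facts hM
  obtain ⟨hK, hU⟩ := (typeII_iff hG F hM hKU).1 hII
  obtain ⟨hA0, hA1, -⟩ := typeSet_facts hG F hM hA
  obtain ⟨hN, hD⟩ := dade_hypothesis_type hG F hM hA
  obtain ⟨a, ha⟩ := exists_mem_coreA1 hG F hM
  refine (S1497.result A ⟨a, hA1 ha⟩ hD.one_not_mem M).2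
    ⟨hD.one_not_mem, hD.subset, hD.conj_mem, hD.fusion, fun b hb => bot_le,
      fun b hb c hc u hu => ?_, fun b hb => bot_inf_eq _, fun b hb => ?_, fun b hb b' hb' => ?_⟩
  · rw [Subgroup.mem_bot] at hu ⊢
    simp [hu]
  · have h := hD.sup_eq b hb
    rwa [supportR_eq_bot (centralizer_le_of_typeP2 hG F hM hKU hK hU (hA0 hb))] at h
  · simp

end Cfsg.Agent.Peterfalvi
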