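import Cfsg.Agent.Lib.Peterfalvi.DadeMap

/-!
# Peterfalvi (7.2)-(7.5): the adjoint `ρ` of the Dade map (owner: helper40)

* `dadeRho A L R χ` : `χ^ρ`, the averages of `χ` over the cosets `a R(a)`, zero off `A`
* `dade_reciprocity` : `⟨α^τ, χ⟩ = ⟨α, χ^ρ⟩`; `dadeRho_dade` : `(α^τ)^ρ = α`
* `rhoSq A L R χ` : `‖χ^ρ‖²`; `rhoSq_le` : (7.3); `rhoSq_one` : `|A| / |L|`
* `offSupports`, `family_bound`, `family_one`, `family_ineq` : (7.5)
-/

set_option autoImplicit false

namespace Cfsg.Agent.Peterfalvi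

open Cfsg Cfsg.Agent Cfsg.Agent.Char
open scoped ComplexConjugate

universe u

variable {G : Type u} [Group G] {A : Set G} {L : Subgroup G} {R : G → Subgroup G}

open Classical in
/-- `χ^ρ`. -/
noncomputable def dadeRho (A : Set G) (L : Subgroup G) (R : G → Subgroup G) (χ : G → ℂ) : ↥L → ℂ :=
  fun a => if (a : G) ∈ A then
    (Nat.card (R (a : G)) : ℂ)⁻¹ * ∑ᶠ u : R (a : G), χ ((a : G) * (u : G)) else 0

theorem dadeRho_of_not_mem {a : ↥L} (ha : (a : G) ∉ A) (χ : G → ℂ) : dadeRho A L R χ a = 0 :=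
  if_neg ha

theorem dadeRho_of_mem {a : ↥L} (ha : (a : G) ∈ A) [Fintype (R (a : G))] (χ : G → ℂ) :
    dadeRho A L R χ a =
      (Nat.card (R (a : G)) : ℂ)⁻¹ * ∑ u : R (a : G), χ ((a : G) * (u : G)) := by
  rw [dadeRho, if_pos ha, finsum_eq_sum_of_fintype]

variable [Finite G]

theorem dadeRho_add (χ ψ : G → ℂ) :
    dadeRho A L R (χ + ψ) = dadeRho A L R χ + dadeRho A L R ψ := by
  funext a
  by_cases ha : (a : G) ∈ A
  · have := Fintype.ofFinite (R (a : G))
    simp only [Pi.add_apply, dadeRho_of_mem ha, Finset.sum_add_distrib, mul_add]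
  · simp [dadeRho_of_not_mem ha]

theorem dadeRho_smul (c : ℂ) (χ : G → ℂ) : dadeRho A L R (c • χ) = c • dadeRho A L R χ := by
  funext a
  by_cases ha : (a : G) ∈ A
  · have := Fintype.ofFinite (R (a : G))
    simp only [Pi.smul_apply, smul_eq_mul, dadeRho_of_mem ha, ← Finset.mul_sum, mul_left_comm _ c]
  · simp [dadeRho_of_not_mem ha]

theorem dadeRho_neg (χ : G → ℂ) : dadeRho A L R (-χ) = -dadeRho A L R χ := by
  rw [← neg_one_smul ℂ χ, dadeRho_smul, neg_one_smul]

theorem dadeRho_sub (χ ψ : G → ℂ) :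
    dadeRho A L R (χ - ψ) = dadeRho A L R χ - dadeRho A L R ψ := by
  rw [sub_eq_add_neg, dadeRho_add, dadeRho_neg, ← sub_eq_add_neg]

theorem dadeRho_sum {ι : Type*} (s : Finset ι) (f : ι → G → ℂ) :
    dadeRho A L R (∑ i ∈ s, f i) = ∑ i ∈ s, dadeRho A L R (f i) := by
  funext a
  by_cases ha : (a : G) ∈ A
  · have := Fintype.ofFinite (R (a : G))
    simp only [Finset.sum_apply, dadeRho_of_mem ha, Finset.mul_sum]
    exact Finset.sum_comm
  · simp [dadeRho_of_not_mem ha]

theorem dadeRho_conj (χ : G → ℂ) : dadeRho A L R (conjFun χ) = conjFun (dadeRho A L R χ) := by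
  funext a
  by_cases ha : (a : G) ∈ A
  · have := Fintype.ofFinite (R (a : G))
    simp [conjFun, dadeRho_of_mem ha, map_sum]
  · simp [conjFun, dadeRho_of_not_mem ha]

/-- Where `χ` is constant on `a R(a)` its image takes that value. -/
theorem dadeRho_of_const {a : ↥L} (ha : (a : G) ∈ A) {χ : G → ℂ} {c : ℂ}
    (h : ∀ u ∈ R (a : G), χ ((a : G) * u) = c) : dadeRho A L R χ a = c := by
  have := Fintype.ofFinite (R (a : G))
  rw [dadeRho_of_mem ha, Finset.sum_congr rfl fun (u : R (a : G)) _ => h u u.2, Finset.sum_const,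
    Finset.card_univ, nsmul_eq_mul, ← Nat.card_eq_fintype_card,
    inv_mul_cancel_left₀ (Nat.cast_ne_zero.2 Nat.card_pos.ne')]

/-- With trivial `R` the map is restriction. -/
theorem dadeRho_of_bot {a : ↥L} (ha : (a : G) ∈ A) (hR : R (a : G) = ⊥) (χ : G → ℂ) :
    dadeRho A L R χ a = χ (a : G) :=
  dadeRho_of_const ha fun u hu => by
    rw [hR, Subgroup.mem_bot] at hu
    rw [hu, mul_one]

theorem dadeRho_one (a : ↥L) [Decidable ((a : G) ∈ A)] :
    dadeRho A L R (fun _ => 1) a = if (a : G) ∈ A then 1 else 0 := by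
  split_ifs with ha
  exacts [dadeRho_of_const ha fun _ _ => rfl, dadeRho_of_not_mem ha _]

variable (hD : DadeHypothesis A L R)
include hD

theorem dadeRho_isClassFunction {χ : G → ℂ} (hχ : IsClassFunction G χ) :
    IsClassFunction ↥L (dadeRho A L R χ) := by
  intro a x
  have hcoe : ((x * a * x⁻¹ : ↥L) : G) = (x : G) * (a : G) * (x : G)⁻¹ := rfl
  by_cases ha : (a : G) ∈ A
  · have ha' : ((x * a * x⁻¹ : ↥L) : G) ∈ A := hD.conj_mem x x.2 a ha
    have := Fintype.ofFinite (R (a : G))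
    have := Fintype.ofFinite (R ((x * a * x⁻¹ : ↥L) : G))
    rw [dadeRho_of_mem ha', dadeRho_of_mem ha,
      show Nat.card (R ((x * a * x⁻¹ : ↥L) : G)) = Nat.card (R (a : G)) by
        rw [hcoe]; exact Dade.card_H_conj hD ha x.2]
    congr 1
    refine (Fintype.sum_bijective (fun u : R (a : G) => (⟨(x : G) * u * (x : G)⁻¹, ?_⟩ :
      R ((x * a * x⁻¹ : ↥L) : G))) ((Nat.bijective_iff_injective_and_card _).2
        ⟨fun u v h => Subtype.ext ?_, ?_⟩) _ _ fun u => ?_).symm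
    · rw [hcoe]; exact Dade.conj_mem_H_conj hD ha x.2 u.2
    · exact mul_left_cancel (mul_right_cancel (congrArg Subtype.val h))
    · rw [hcoe]; exact (Dade.card_H_conj hD ha x.2).symm
    · show χ ((a : G) * u) = χ (((x * a * x⁻¹ : ↥L) : G) * ((x : G) * u * (x : G)⁻¹))
      rw [hcoe, ← hχ ((a : G) * u) x]
      congr 1
      group
  · have ha' : ((x * a * x⁻¹ : ↥L) : G) ∉ A := fun h => ha (by
      have := hD.conj_mem _ (inv_mem x.2) _ h
      simpa [mul_assoc] using this)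
    rw [dadeRho_of_not_mem ha', dadeRho_of_not_mem ha]

omit [Finite G] in
/-- Peterfalvi (2.7): reciprocity. -/
theorem dade_reciprocity [Fintype G] [Fintype ↥L] {α : ↥L → ℂ} (hα : IsClassFunction ↥L α)
    (hαA : ∀ x : ↥L, (x : G) ∉ A → α x = 0) {χ : G → ℂ} (hχ : IsClassFunction G χ) :
    classInner (dadeIsometry A L R α) χ = classInner α (dadeRho A L R χ) := by
  classical
  exact Dade.classInner_dade hD hα hαA χ _ hχ fun a ha => dadeRho_of_mem ha χ

/-- `(α^τ)^ρ = α`. -/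
theorem dadeRho_dade {α : ↥L → ℂ} (hα : IsClassFunction ↥L α)
    (hαA : ∀ x : ↥L, (x : G) ∉ A → α x = 0) : dadeRho A L R (dadeIsometry A L R α) = α := by
  funext a
  by_cases ha : (a : G) ∈ A
  · exact dadeRho_of_const ha fun u hu =>
      Dade.dadeIsometry_apply hD hα a ha hu (x := 1) (by group)
  · rw [dadeRho_of_not_mem ha, hαA a ha]

omit hD in
/-- `‖χ^ρ‖²`. -/
noncomputable def rhoSq (A : Set G) (L : Subgroup G) [Fintype ↥L] (R : G → Subgroup G)
    (χ : G → ℂ) : ℝ :=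
  (Nat.card ↥L : ℝ)⁻¹ * ∑ a : ↥L, ‖dadeRho A L R χ a‖ ^ 2

omit hD [Finite G] in
theorem classInner_rho_self [Fintype ↥L] (χ : G → ℂ) :
    classInner (dadeRho A L R χ) (dadeRho A L R χ) = (rhoSq A L R χ : ℂ) := by
  rw [rhoSq, classInner, Complex.ofReal_mul, Complex.ofReal_inv, Complex.ofReal_natCast,
    Complex.ofReal_sum]
  congr 1
  refine Finset.sum_congr rfl fun a _ => ?_
  rw [Complex.mul_conj, Complex.normSq_eq_norm_sq]

omit hD [Finite G] in
theorem rhoSq_nonneg [Fintype ↥L] (χ : G → ℂ) : 0 ≤ rhoSq A L R χ :=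
  mul_nonneg (inv_nonneg.2 (Nat.cast_nonneg _)) (Finset.sum_nonneg fun _ _ => sq_nonneg _)

omit hD in
open Classical in
theorem rhoSq_one [Fintype ↥L] :
    rhoSq A L R (fun _ => 1) =
      ((Finset.univ.filter fun a : ↥L => (a : G) ∈ A).card : ℝ) / (Nat.card ↥L : ℝ) := by
  rw [rhoSq, div_eq_inv_mul, Finset.card_filter, Nat.cast_sum]
  congr 1
  refine Finset.sum_congr rfl fun a _ => ?_
  rw [dadeRho_one]
  split_ifs <;> simp

/-- Peterfalvi (7.3). -/
theorem rhoSq_le [Fintype G] [Fintype ↥L] {χ : G → ℂ} (hχ : IsClassFunction G χ)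
    [DecidablePred (· ∈ Dade.support A R)] :
    rhoSq A L R χ ≤
      (Nat.card G : ℝ)⁻¹ * ∑ g ∈ Finset.univ.filter (· ∈ Dade.support A R), ‖χ g‖ ^ 2 := by
  classical
  have key := Dade.sum_support hD (fun g => if g ∈ Dade.support A R then ‖χ g‖ ^ 2 else 0)
    (fun g x => by simp only [Dade.mem_support_conj_iff, hχ g x]) (fun g hg => if_neg hg)
  rw [← Finset.sum_filter] at key
  rw [key, rhoSq]
  refine mul_le_mul_of_nonneg_left ?_ (inv_nonneg.2 (Nat.cast_nonneg _))
  rw [← Finset.sum_filter_add_sum_filter_not Finset.univ (fun a : ↥L => (a : G) ∈ A),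
    Finset.sum_eq_zero (s := Finset.univ.filter fun a : ↥L => ¬ (a : G) ∈ A) (fun a ha => by
      rw [dadeRho_of_not_mem (Finset.mem_filter.1 ha).2, norm_zero, zero_pow two_ne_zero]),
    add_zero]
  refine Finset.sum_le_sum fun a ha => ?_
  have ha' : (a : G) ∈ A := (Finset.mem_filter.1 ha).2
  rw [Finset.sum_congr rfl fun (u : R (a : G)) _ =>
      if_pos (show (a : G) * u ∈ Dade.support A R from ⟨a, ha', u, u.2, 1, by simp⟩),
    dadeRho_of_mem ha', norm_mul, norm_inv, Complex.norm_natCast, mul_pow]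
  set n : ℝ := (Nat.card (R (a : G)) : ℝ) with hn
  have hpos : 0 < n := Nat.cast_pos.mpr Nat.card_pos
  calc n⁻¹ ^ 2 * ‖∑ u : R (a : G), χ ((a : G) * u)‖ ^ 2
      ≤ n⁻¹ ^ 2 * (∑ u : R (a : G), ‖χ ((a : G) * u)‖) ^ 2 := by
        gcongr; exact norm_sum_le _ _
    _ ≤ n⁻¹ ^ 2 * (n * ∑ u : R (a : G), ‖χ ((a : G) * u)‖ ^ 2) := by
        gcongr
        have := sq_sum_le_card_mul_sum_sq (s := Finset.univ)
          (f := fun u : R (a : G) => ‖χ ((a : G) * u)‖)
        simpa [hn, Nat.card_eq_fintype_card] using this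
    _ = n⁻¹ * ∑ u : R (a : G), ‖χ ((a : G) * u)‖ ^ 2 := by field_simp

/-- The support carries exactly `|A| / |L|` of the group. -/
theorem card_support [Fintype G] [Fintype ↥L] [DecidablePred (· ∈ Dade.support A R)] :
    (Nat.card G : ℝ)⁻¹ * ((Finset.univ.filter (· ∈ Dade.support A R)).card : ℝ) =
      rhoSq A L R (fun _ => 1) := by
  classical
  have key := Dade.sum_support hD (fun g => if g ∈ Dade.support A R then (1 : ℝ) else 0)
    (fun g x => by simp only [Dade.mem_support_conj_iff]) (fun g hg => if_neg hg)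
  rw [← Finset.sum_filter, Finset.sum_const, nsmul_eq_mul, mul_one] at key
  rw [key, rhoSq_one, div_eq_inv_mul]
  congr 1
  rw [Finset.card_eq_sum_ones, Nat.cast_sum]
  refine Finset.sum_congr rfl fun a ha => ?_
  have ha' : (a : G) ∈ A := (Finset.mem_filter.1 ha).2
  rw [Finset.sum_congr rfl fun (u : R (a : G)) _ =>
      if_pos (show (a : G) * u ∈ Dade.support A R from ⟨a, ha', u, u.2, 1, by simp⟩),
    Finset.sum_const, Finset.card_univ, nsmul_eq_mul, mul_one, Nat.card_eq_fintype_card,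
    inv_mul_cancel₀ (Nat.cast_ne_zero.2 Fintype.card_ne_zero), Nat.cast_one]

omit hD

section family

variable [Fintype G] {ι : Type*} [Fintype ι] {As : ι → Set G} {Ls : ι → Subgroup G}
  {Rs : ι → G → Subgroup G} [∀ i, Fintype ↥(Ls i)]
  (hDs : ∀ i, DadeHypothesis (As i) (Ls i) (Rs i))
  (hdis : ∀ i j, i ≠ j → Disjoint (Dade.support (As i) (Rs i)) (Dade.support (As j) (Rs j)))

omit [Finite G] in
open Classical in
/-- `G₀`: the elements outside every support. -/
noncomputable def offSupports (As : ι → Set G) (Rs : ι → G → Subgroup G) : Finset G :=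
  Finset.univ.filter fun g => ∀ i, g ∉ Dade.support (As i) (Rs i)

omit [Finite G] in
theorem mem_offSupports {g : G} :
    g ∈ offSupports As Rs ↔ ∀ i, g ∉ Dade.support (As i) (Rs i) := by
  simp [offSupports]

include hDs hdis

omit hDs [Finite G] [∀ i, Fintype ↥(Ls i)] in
open Classical in
theorem sum_univ_split (f : G → ℝ) :
    ∑ g, f g = ∑ g ∈ offSupports As Rs, f g +
      ∑ i, ∑ g ∈ Finset.univ.filter (· ∈ Dade.support (As i) (Rs i)), f g := by
  have hd : (↑(Finset.univ : Finset ι) : Set ι).PairwiseDisjoint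
      fun i => Finset.univ.filter (· ∈ Dade.support (As i) (Rs i)) := fun i _ j _ hij => by
    refine Finset.disjoint_left.2 fun g hi hj => ?_
    exact Set.disjoint_left.1 (hdis i j hij) (Finset.mem_filter.1 hi).2 (Finset.mem_filter.1 hj).2
  rw [← Finset.sum_biUnion hd, ← Finset.sum_filter_add_sum_filter_not Finset.univ
    (fun g => ∀ i, g ∉ Dade.support (As i) (Rs i)) f]
  congr 1
  exact Finset.sum_congr (by ext g; simp) fun _ _ => rfl

/-- Peterfalvi (7.5), the bound. -/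
theorem family_bound {χ : G → ℂ} (hχ : IsClassFunction G χ) :
    (Nat.card G : ℝ)⁻¹ * ∑ g ∈ offSupports As Rs, ‖χ g‖ ^ 2 +
      ∑ i, rhoSq (As i) (Ls i) (Rs i) χ ≤ (classInner χ χ).re := by
  classical
  have h1 : (classInner χ χ).re = (Nat.card G : ℝ)⁻¹ * ∑ g, ‖χ g‖ ^ 2 := by
    rw [classInner, show (Nat.card G : ℂ)⁻¹ = (((Nat.card G : ℝ)⁻¹ : ℝ) : ℂ) by push_cast; rfl,
      Complex.re_ofReal_mul, Complex.re_sum]
    congr 1
    refine Finset.sum_congr rfl fun g _ => ?_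
    rw [Complex.mul_conj, Complex.ofReal_re, Complex.normSq_eq_norm_sq]
  rw [h1, sum_univ_split hdis, mul_add, Finset.mul_sum (s := (Finset.univ : Finset ι))]
  exact add_le_add le_rfl (Finset.sum_le_sum fun i _ => rhoSq_le (hDs i) hχ)

/-- Peterfalvi (7.5), the partition of `G`. -/
theorem family_one :
    (Nat.card G : ℝ)⁻¹ * ((offSupports As Rs).card : ℝ) +
      ∑ i, rhoSq (As i) (Ls i) (Rs i) (fun _ => 1) = 1 := by
  classical
  have h := sum_univ_split hdis (fun _ : G => (1 : ℝ))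
  simp only [Finset.sum_const, nsmul_eq_mul, mul_one, Finset.card_univ] at h
  have hG : (Nat.card G : ℝ) ≠ 0 := Nat.cast_ne_zero.2 Nat.card_pos.ne'
  rw [Finset.sum_congr rfl fun i _ => (card_support (hDs i)).symm, ← Finset.mul_sum, ← mul_add,
    ← h, ← Nat.card_eq_fintype_card, inv_mul_cancel₀ hG]

/-- Peterfalvi (7.5), combined. -/
theorem family_ineq {χ : G → ℂ} (hχ : IsClassFunction G χ) (hn : classInner χ χ = 1) :
    (Nat.card G : ℝ)⁻¹ * ∑ g ∈ offSupports As Rs, (‖χ g‖ ^ 2 - 1) +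
      ∑ i, (rhoSq (As i) (Ls i) (Rs i) χ - rhoSq (As i) (Ls i) (Rs i) (fun _ => 1)) ≤ 0 := by
  have h1 := family_bound hDs hdis hχ
  have h2 := family_one hDs hdis
  rw [hn, Complex.one_re] at h1
  rw [Finset.sum_sub_distrib, Finset.sum_sub_distrib, Finset.sum_const, nsmul_eq_mul, mul_one,
    mul_sub]
  linarith

end family

end Cfsg.Agent.Peterfalvi
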