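import Cfsg.Agent.Lib.Peterfalvi.Sec10Derived
import Cfsg.Agent.Lib.Peterfalvi.Sec7Rho

/-!
# Peterfalvi (10.8), first half: the bridge of a coherent `S(M')` (owner: helper34)

* `conjFun_eta` : `conj (η π) = η π⁻¹`
* `exists_bridge` : if `S(M')` is coherent for a subgroup of type P not of Type II, there is a signed
  irreducible `ψ` that is, off the Dade support of `A₀(M)`, the sum of the first column of `η`,
  and whose square sum there is at most `|G| q² / |M|`, where `q = |W₁|`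
-/

set_option autoImplicit false

namespace Cfsg.Agent.Peterfalvi

open scoped Pointwise commutatorElement ComplexConjugate
open Cfsg OddMax Cfsg.Agent.Coherence Cfsg.Agent.Char Cfsg.Agent.CyclicTI

universe u

variable {G : Type u} [Group G]

/-- Complex conjugation of the family. -/
theorem conjFun_eta [Fintype G] {W₁ W₂ : Subgroup G} (hW : IsSelfNormalizingCyclic W₁ W₂)
    (hodd : Odd (Nat.card ↥(W₁ ⊔ W₂))) {η : (↥(W₁ ⊔ W₂) →* ℂˣ) → G → ℂ}
    (hη : IsCyclicTIFamily W₁ W₂ η) (π : ↥(W₁ ⊔ W₂) →* ℂˣ) : conjFun (η π) = η π⁻¹ := by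
  haveI := Fintype.ofFinite ↥(W₁ ⊔ W₂)
  refine eq_of_eq_on hW hodd hη ?_ π⁻¹ fun w h1 h2 => ?_
  · rcases hη.irr_or_neg π with h | h
    · exact Or.inl (IsIrrCharacter.conj h)
    · refine Or.inr ?_
      have e := IsIrrCharacter.conj h
      convert e using 1
      funext g
      simp [conjFun]
  · simp only [conjFun, hη.eq_on π w h1 h2]
    have := IsCharacter.apply_inv (IsIrrCharacter.isCharacter (lin_irr π)) w
    simp only [lin_apply, map_inv] at this
    rw [← this, MonoidHom.inv_apply]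

/-- A linear character takes the value `1` on the derived subgroup. -/
theorem apply_eq_one_of_commutator {X : Type*} [Group X] [Finite X] {χ : X → ℂ}
    (hχ : IsCharacter X χ) (h1 : χ 1 = 1) {a : X} (ha : a ∈ commutator X) : χ a = 1 := by
  obtain ⟨l, rfl⟩ := exists_hom_of_degree_one hχ h1
  have := Abelianization.commutator_subset_ker l.toHomUnits ha
  rw [MonoidHom.mem_ker] at this
  simpa [MonoidHom.toHomUnits] using congrArg Units.val this

variable [Finite G] {L K W₁ W₂ : Subgroup G}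

/-- A column whose degree is kept on `W₂` is the principal one. -/
theorem MuFamily.sameCol_one_of_ker {h : PrimeTI L K W₁ W₂}
    {μ : (↥(W₁ ⊔ W₂) →* ℂˣ) → ↥L → ℂ} {δ : (↥(W₁ ⊔ W₂) →* ℂˣ) → ℂ} (hμ : MuFamily h μ δ)
    {ω : ↥(W₁ ⊔ W₂) →* ℂˣ}
    (hk : ∀ u : ↥(W₁ ⊔ W₂), (u : G) ∈ W₂ → μ ω (h.emb u) = μ ω 1) : SameCol ω 1 := by
  intro u hu
  obtain ⟨a, -, -, ha2⟩ := h.exists_off
  have h1 : μ ω (h.emb u * h.emb a) = μ ω (h.emb a) := TwoClassChar.ker_mul (hμ.irr ω) (hk u hu) _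
  have hn : ((u * a : ↥(W₁ ⊔ W₂)) : G) ∉ W₂ := fun e => ha2 (by
    simpa using W₂.mul_mem (W₂.inv_mem hu) e)
  rw [← map_mul, hμ.apply_W ω _ hn, hμ.apply_W ω a ha2, map_mul, Units.val_mul] at h1
  have h2 : (ω u : ℂ) * (ω a : ℂ) = ω a := mul_left_cancel₀ (hμ.sign_ne ω) h1
  refine Units.ext ?_
  rw [MonoidHom.one_apply, Units.val_one]
  exact mul_left_eq_self₀.1 h2 |>.resolve_right (Units.ne_zero _)

omit [Finite G] in
/-- The arithmetic of (10.8). -/
theorem bridge_arith {ι : Type*} [DecidableEq ι] (R : Finset ι) {o : ι} (ho : o ∈ R) (a : ι → ℤ)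
    (h ℓ : ℤ) {q d : ℕ} (hq : 3 ≤ q) (hcard : R.card = q) (ha : a o = 1) (inv : ι → ι)
    (hinv : ∀ i ∈ R.erase o, inv i ∈ R.erase o ∧ inv i ≠ i ∧ inv (inv i) = i ∧ a (inv i) = a i)
    (hd : q ≤ d + 1) (hsum : (∑ i ∈ R, a i + q * h) ^ 2 = ((d : ℤ) * (ℓ + 1)) ^ 2)
    (hb : ∑ i ∈ R, (a i ^ 2 + 2 * (a i + h) ^ 2) + (ℓ ^ 2 + (ℓ + 1) ^ 2) ≤ (q : ℤ) + 1) :
    h = -1 ∧ ℓ = -1 ∧ ∀ i ∈ R, a i = 1 := by
  have hll : 1 ≤ ℓ ^ 2 + (ℓ + 1) ^ 2 := by
    rcases lt_or_ge ℓ 0 with e | e <;> nlinarith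
  have hd0 : (d : ℤ) ≠ 0 := by
    intro e
    have : d = 0 := by exact_mod_cast e
    omega
  by_cases h0 : h = 0
  · exfalso
    subst h0
    simp only [mul_zero, add_zero] at hsum hb
    rw [Finset.sum_congr rfl (g := fun i => 3 * a i ^ 2) (fun i _ => by ring), ← Finset.mul_sum] at hb
    by_cases hm : ℓ + 1 = 0
    · have hs : ∑ i ∈ R, a i = 0 := by
        rw [hm, mul_zero] at hsum
        exact sq_eq_zero_iff.1 (hsum.trans (by ring))
      rw [← Finset.add_sum_erase _ _ ho, ha] at hs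
      have h2 : (((∑ i ∈ R.erase o, a i : ℤ)) : ZMod 2) = 0 := by
        push_cast
        refine Finset.sum_involution (fun i _ => inv i) ?_ (fun i hi _ => (hinv i hi).2.1)
          (fun i hi => (hinv i hi).1) (fun i hi => (hinv i hi).2.2.1)
        intro i hi
        rw [(hinv i hi).2.2.2]
        exact CharTwo.add_self_eq_zero _
      rw [show (∑ i ∈ R.erase o, a i) = -1 by linarith] at h2
      exact absurd h2 (by decide)
    · have h1 : |∑ i ∈ R, a i| ≤ ∑ i ∈ R, a i ^ 2 :=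
        (Finset.abs_sum_le_sum_abs _ _).trans (Finset.sum_le_sum fun i _ => by
          rcases eq_or_ne (a i) 0 with e | e
          · simp [e]
          · calc |a i| = |a i| * 1 := (mul_one _).symm
              _ ≤ |a i| * |a i| := by
                  exact mul_le_mul_of_nonneg_left (Int.one_le_abs e) (abs_nonneg _)
              _ = a i ^ 2 := by rw [abs_mul_abs_self]; ring)
      have h2 : |∑ i ∈ R, a i| = (d : ℤ) * |ℓ + 1| := by
        rw [(sq_eq_sq_iff_abs_eq_abs _ _).1 hsum, abs_mul, Nat.abs_cast]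
      have h3 : (1 : ℤ) ≤ |ℓ + 1| := Int.one_le_abs hm
      have h4 : (q : ℤ) ≤ d + 1 := by exact_mod_cast hd
      nlinarith [Int.natCast_nonneg d]
  · have hterm : ∀ i ∈ R.erase o, 1 ≤ a i ^ 2 + 2 * (a i + h) ^ 2 := by
      intro i _
      rcases eq_or_ne (a i) 0 with e | e
      · rw [e]
        nlinarith [Int.one_le_abs h0, abs_mul_abs_self h]
      · nlinarith [Int.one_le_abs e, abs_mul_abs_self (a i), sq_nonneg (a i + h)]
    have hlow := Finset.card_nsmul_le_sum _ _ _ hterm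
    rw [Finset.card_erase_of_mem ho, hcard, nsmul_eq_mul, mul_one, Nat.cast_sub (by omega)] at hlow
    push_cast at hlow
    rw [← Finset.add_sum_erase _ _ ho, ha] at hb
    have hh : (1 + h) ^ 2 ≤ 0 := by nlinarith
    have hh1 : h = -1 := by nlinarith [sq_nonneg (1 + h)]
    subst hh1
    have hall : ∀ i ∈ R.erase o, a i = 1 := by
      intro i hi
      by_contra hne
      have h2 : 2 ≤ a i ^ 2 + 2 * (a i + -1) ^ 2 := by
        rcases lt_or_gt_of_ne hne with e | e <;> nlinarith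
      have := Finset.sum_lt_sum hterm ⟨i, hi, by linarith⟩
      rw [Finset.sum_const, Finset.card_erase_of_mem ho, hcard, nsmul_eq_mul, mul_one,
        Nat.cast_sub (by omega)] at this
      push_cast at this
      linarith
    have hs : ∑ i ∈ R, a i = q := by
      rw [Finset.sum_congr rfl (g := fun _ => (1 : ℤ)) fun i hi => ?_, Finset.sum_const, hcard]
      · simp
      · by_cases e : i = o
        · rw [e, ha]
        · exact hall i (Finset.mem_erase.2 ⟨e, hi⟩)
    rw [hs, mul_neg_one, add_neg_cancel, zero_pow two_ne_zero, eq_comm, sq_eq_zero_iff,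
      mul_eq_zero] at hsum
    refine ⟨rfl, by linarith [hsum.resolve_left hd0], fun i hi => ?_⟩
    by_cases e : i = o
    · rw [e, ha]
    · exact hall i (Finset.mem_erase.2 ⟨e, hi⟩)

/-- The translation of the principal column onto the column of `ω`. -/
theorem sum_colClass_eq {β : Type*} [AddCommMonoid β] (hP : IsPair W₁ W₂)
    (ω : ↥(W₁ ⊔ W₂) →* ℂˣ) (f : (↥(W₁ ⊔ W₂) →* ℂˣ) → β) :
    ∑ π ∈ colClass ω, f π = ∑ φ ∈ colClass (1 : ↥(W₁ ⊔ W₂) →* ℂˣ), f (φ * hP.lsnd ω) := by
  have htriv : ∀ φ ∈ colClass (1 : ↥(W₁ ⊔ W₂) →* ℂˣ), ∀ w : ↥(W₁ ⊔ W₂), (w : G) ∈ W₂ → φ w = 1 :=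
    fun φ hφ w hw => (mem_colClass.1 hφ w hw).trans (MonoidHom.one_apply w)
  refine Finset.sum_nbij' hP.lfst (· * hP.lsnd ω) (fun π _ => ?_) (fun φ hφ => ?_) (fun π hπ => ?_)
    (fun φ hφ => ?_) (fun π hπ => ?_)
  · exact mem_colClass.2 fun w hw => by rw [hP.lfst_apply_of_mem₂ π hw, MonoidHom.one_apply]
  · refine mem_colClass.2 fun w hw => ?_
    rw [MonoidHom.mul_apply, htriv φ hφ w hw, one_mul, hP.lsnd_apply_of_mem₂ ω hw]
  · show hP.lfst π * hP.lsnd ω = π
    rw [← (sameCol_lsnd hP).1 (mem_colClass.1 hπ), hP.lfst_mul_lsnd]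
  · exact (hP.split_mul (htriv φ hφ) fun w hw => hP.lsnd_apply_of_mem₁ ω hw).1
  · show f π = f (hP.lfst π * hP.lsnd ω)
    rw [← (sameCol_lsnd hP).1 (mem_colClass.1 hπ), hP.lfst_mul_lsnd]

variable [Fintype G] (hG : IsMinSimpleOddOrder G) {M U : Subgroup G} [Fintype ↥M]
  (hM : IsCoatom M) (hP : IsTypePWith M W₁ U W₂) (hnII : ¬ IsOfTypeII M)
include hG hM hP hnII

theorem coreA_eq_derived {a : G} : a ∈ coreA M ↔ a ∈ ⁅M, M⁆ ∧ a ≠ 1 := by
  refine ⟨coreA_subset_derived hG hM hP a, fun h => ?_⟩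
  exact coreA1_subset_coreA hG (OddOrder14.sec16 hG) hM
    ⟨derived_eq_sigmaCore hG hM hP hnII ▸ h.1, h.2⟩

/-- Peterfalvi (10.8), the consequences of coherence. -/
theorem exists_bridge
    (hcoh : IsCoherent (inducedIrrAbove (derivedIn M) ⊥) {1}ᶜ
      (dadeIsometry (coreA0 M) M (supportR M)))
    [DecidablePred (· ∈ Dade.support (coreA0 M) (supportR M))] :
    ∃ (η : (↥(W₁ ⊔ W₂) →* ℂˣ) → G → ℂ) (ψ : G → ℂ),
      IsCyclicTIFamily W₁ W₂ η ∧ IsSignedIrr G ψ ∧
      (∀ x, x ∉ Dade.support (coreA0 M) (supportR M) →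
        ψ x = ∑ π ∈ colClass (1 : ↥(W₁ ⊔ W₂) →* ℂˣ), η π x) ∧
      ∑ x ∈ Finset.univ.filter (fun x => x ∉ Dade.support (coreA0 M) (supportR M)), ‖ψ x‖ ^ 2 ≤
        (Nat.card G : ℝ) * (Nat.card W₁ : ℝ) ^ 2 / (Nat.card ↥M : ℝ) := by
  classical
  obtain ⟨μ, δ, η, R₀, h⟩ := exists_typePChars hG hM hP
  have F := OddOrder14.sec16 hG
  have hD : DadeHypothesis (coreA0 M) M (supportR M) := dade_hypothesis hG F hM (Or.inr (Or.inr rfl))
  set τ := dadeIsometry (coreA0 M) M (supportR M) with hτdef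
  set K : Subgroup ↥M := derivedIn M with hKdef
  haveI : K.Normal := derivedIn_normal M
  haveI := Fintype.ofFinite ↥K
  set S := inducedIrrAbove K ⊥ with hSdef
  have hSseq : S = seqIndD M (sigmaCore M) ⊥ :=
    inducedIrrAbove_eq_seqIndD (derived_eq_sigmaCore hG hM hP hnII).le
  have hS := h.sys
  rw [← hSseq] at hS
  obtain ⟨-, τ₁, hiso, hag⟩ := hcoh
  have hag' : ∀ α ∈ zspanOn (seqIndD M (sigmaCore M) ⊥) {1}ᶜ, τ₁ α = τ α := hSseq ▸ hag
  have hiso' : IsLinearIsometryOn (zspan (seqIndD M (sigmaCore M) ⊥)) τ₁ := hSseq ▸ hiso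
  have hT := h.dade.toPrimeTI
  have hWP : IsPair W₁ W₂ := hT.isPair
  have hoddW : Odd (Nat.card ↥(W₁ ⊔ W₂)) :=
    hT.odd.of_dvd_nat (Subgroup.card_dvd_of_le hT.sup_le)
  set q := Nat.card W₁ with hq
  have hq3 : 3 ≤ q := hT.three_le₁
  have hKidx : K.index = q := hT.index_K
  -- the linear character
  have hW₂KK : ∀ u ∈ W₂, u ∈ ⁅⁅M, M⁆, ⁅M, M⁆⁆ := fun u hu => (hP.W₂_le hu).2
  obtain ⟨θ, hθ1, -, hθd⟩ := exists_linear_above (K := K) (⊥ : Subgroup ↥M)
    (by haveI : Group.IsSolvable ↥M := OddSigma.proper_solvable hG hM.1; infer_instance) (bot_lt_iff_ne_bot.2 fun e => hT.ne₂ (by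
        rw [eq_bot_iff]
        intro u hu
        have : (⟨u, hT.K_le (hT.W₂_le hu)⟩ : ↥M) ∈ K := hT.W₂_le hu
        rw [e, Subgroup.mem_bot] at this
        exact Subgroup.mem_bot.2 (congrArg Subtype.val this)))
  set ζ := indFun K (θ : ↥K → ℂ) with hζdef
  have hζS : ζ ∈ S := ⟨θ, θ.2, hθ1, fun a ha => by
    rw [show a = 1 from Subtype.ext (Subgroup.mem_bot.1 ha)], rfl⟩
  have hζS' : ζ ∈ seqIndD M (sigmaCore M) ⊥ := hSseq ▸ hζS
  have hζ1 : ζ 1 = (q : ℂ) := by rw [hζdef, indFun_one_apply, hKidx, hθd, mul_one]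
  have hker : ∀ (χ : ↥K → ℂ), IsCharacter ↥K χ → χ 1 = 1 →
      ∀ u (hu : u ∈ W₂), χ ⟨⟨u, hT.K_le (hT.W₂_le hu)⟩, hT.W₂_le hu⟩ = 1 := by
    intro χ hχ hχ1 u hu
    refine apply_eq_one_of_commutator hχ hχ1 ?_
    let f : ↥K →* G := M.subtype.comp K.subtype
    have hf : Function.Injective f := M.subtype_injective.comp K.subtype_injective
    have hmap : (⊤ : Subgroup ↥K).map f = ⁅M, M⁆ := by
      ext x
      constructor
      · rintro ⟨y, -, rfl⟩
        exact y.2
      · intro hx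
        exact ⟨⟨⟨x, hT.K_le hx⟩, hx⟩, trivial, rfl⟩
    have h2 : (commutator ↥K).map f = ⁅⁅M, M⁆, ⁅M, M⁆⁆ := by
      rw [commutator_def, Subgroup.map_commutator, hmap]
    obtain ⟨y, hy, hyu⟩ := (Subgroup.mem_map (f := f) (K := commutator ↥K)).1
      (h2.symm ▸ hW₂KK u hu)
    rwa [show y = ⟨⟨u, hT.K_le (hT.W₂_le hu)⟩, hT.W₂_le hu⟩ from hf hyu] at hy
  have hres_ne : ∀ ω, ¬ SameCol ω 1 → μ ω 1 ≠ 1 := by
    intro ω hω e
    refine hω (h.mu.sameCol_one_of_ker fun u hu => ?_)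
    have := hker (resK M ⁅M, M⁆ (μ ω)) (IsIrrCharacter.isCharacter (h.mu.resK_facts ω).1) e u hu
    rw [e]
    exact this
  have hζi : IsIrrCharacter ↥M ζ := by
    rcases h.mu.dichotomy θ.2 with ⟨ω, hω⟩ | ⟨hi, -⟩
    · exfalso
      by_cases hc : SameCol ω 1
      · refine hθ1 (hω.trans ?_)
        rw [h.mu.res_col ω 1 hc, h.mu.mu_one.1]
        rfl
      · exact hres_ne ω hc ((congrFun hω 1).symm.trans hθd)
    · exact hi
  have hζmu : ∀ ω, classInner ζ (μ ω) = 0 := by
    rcases h.cases hζS' with ⟨ω, -, e⟩ | ⟨-, e⟩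
    · exact absurd (e ▸ hζi) (h.dade.colSum_not_irr h.mu ω)
    · exact e
  have hmuζ : ∀ ω, classInner (μ ω) ζ = 0 := fun ω => classInner_symm_zero (hζmu ω)
  have hζcol : ∀ ω, classInner ζ (colSum μ ω) = 0 := fun ω => by
    rw [colSum, classInner_sum_right]; exact Finset.sum_eq_zero fun π _ => hζmu π
  have hcolζ : ∀ ω, classInner (colSum μ ω) ζ = 0 := fun ω => classInner_symm_zero (hζcol ω)
  have hζc : conjFun ζ ∈ S := hS.conj_mem ζ hζS
  have hζci : IsIrrCharacter ↥M (conjFun ζ) := IsIrrCharacter.conj hζi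
  have hζne : conjFun ζ ≠ ζ := hS.conj_ne ζ hζS
  -- the images of the two linear members
  set ψ := τ₁ ζ with hψdef
  set ψ' := τ₁ (conjFun ζ) with hψ'def
  have hψgc : IsGeneralizedCharacter G ψ := hiso.2.2.2 ζ (subset_zspan hζS)
  have hψ'gc : IsGeneralizedCharacter G ψ' := hiso.2.2.2 _ (subset_zspan hζc)
  have hψψ : classInner ψ ψ = 1 := by
    rw [hψdef, hiso.2.2.1 _ (subset_zspan hζS) _ (subset_zspan hζS), classInner_irr_self hζi]
  have hψ'ψ' : classInner ψ' ψ' = 1 := by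
    rw [hψ'def, hiso.2.2.1 _ (subset_zspan hζc) _ (subset_zspan hζc), classInner_irr_self hζci]
  have hψψ' : classInner ψ ψ' = 0 := by
    rw [hψdef, hψ'def, hiso.2.2.1 _ (subset_zspan hζS) _ (subset_zspan hζc),
      classInner_irr_of_ne hζi hζci hζne.symm]
  have hψη : ∀ π, classInner ψ (η π) = 0 := fun π =>
    h.coherent_irr_orth subset_rfl hiso' hag' hζS' (hSseq ▸ hζc) hζi π
  have hψ'η : ∀ π, classInner ψ' (η π) = 0 := fun π =>
    h.coherent_irr_orth subset_rfl hiso' hag' (hSseq ▸ hζc) (by rw [conjFun_conjFun]; exact hζS')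
      hζci π
  -- the function supported on `K` minus the identity
  have hcol1 : indFun K (fun _ => 1) = colSum μ 1 := by
    rw [← (h.mu.resK_facts 1).2, h.mu.mu_one.1]
    rfl
  set γ := colSum μ 1 - ζ with hγdef
  have hcolval : colSum μ 1 1 = (q : ℂ) := by rw [← hcol1, indFun_one_apply, hKidx, mul_one]
  have hγ1 : γ 1 = 0 := by rw [hγdef, Pi.sub_apply, hcolval, hζ1, sub_self]
  have hoffK : ∀ (χ : ↥K → ℂ) (x : ↥M), (x : G) ∉ ⁅M, M⁆ → indFun K χ x = 0 := fun χ x hx =>
    CliffordChar.indFun_not_mem K χ hx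
  have hsupp : ∀ f : ↥M → ℂ, f 1 = 0 → (∀ x : ↥M, (x : G) ∉ ⁅M, M⁆ → f x = 0) →
      ∀ x : ↥M, (x : G) ∉ coreA0 M → f x = 0 := by
    intro f hf1 hf x hx
    by_cases hxK : (x : G) ∈ ⁅M, M⁆
    · by_cases hx1 : (x : G) = 1
      · rw [show x = 1 from Subtype.ext hx1, hf1]
      · exact absurd (Or.inl ((coreA_eq_derived hG hM hP hnII).2 ⟨hxK, hx1⟩)) hx
    · exact hf x hxK
  have hγoff : ∀ x : ↥M, (x : G) ∉ ⁅M, M⁆ → γ x = 0 := fun x hx => by
    rw [hγdef, Pi.sub_apply, ← hcol1, hζdef, hoffK _ x hx, hoffK _ x hx, sub_self]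
  have hγA := hsupp γ hγ1 hγoff
  have hγgc : IsGeneralizedCharacter ↥M γ :=
    isGC_sub (isGC_of_isCharacter (hcol1 ▸ IsCharacter.indFun K (IsIrrCharacter.isCharacter
      isIrrCharacter_one))) (isGC_of_irr hζi)
  have hγcl := isGC_isClassFunction hγgc
  have hcol11 : classInner (colSum μ 1) (colSum μ 1) = (q : ℂ) := by
    rw [h.mu.inner_colSum, if_pos (sameCol_refl _)]
  have hγγ : classInner γ γ = (q : ℂ) + 1 := by
    rw [hγdef]
    simp only [classInner_sub_left, classInner_sub_right, hcol11, hζcol, hcolζ,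
      classInner_irr_self hζi]
    ring
  have h1inv : (1 : ↥(W₁ ⊔ W₂) →* ℂˣ)⁻¹ = 1 := MonoidHom.ext fun w => by simp
  set T := τ γ with hTdef
  have hTgc : IsGeneralizedCharacter G T := Dade.dadeIsometry_isGeneralized hD hγgc hγA
  have hTcl := isGC_isClassFunction hTgc
  have hTT : classInner T T = (q : ℂ) + 1 := by
    rw [hTdef, hτdef, dadeIsometry_inner hD hγcl hγA hγcl hγA, hγγ]
  have hTV : ∀ w : ↥(W₁ ⊔ W₂), (w : G) ∉ W₁ → (w : G) ∉ W₂ → T w = 0 :=
    fun w h1 h2 => h.tau_apply_V hγcl hγoff w h1 h2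
  have hone : ∀ f : ↥M → ℂ, IsClassFunction ↥M f → (∀ x : ↥M, (x : G) ∉ coreA0 M → f x = 0) →
      classInner (τ f) (fun _ => 1) = classInner f (μ 1) := by
    intro f hf hfA
    rw [dade_reciprocity hD hf hfA fun _ _ => rfl, h.mu.mu_one.1]
    unfold classInner
    congr 1
    refine Finset.sum_congr rfl fun x _ => ?_
    by_cases hx : (x : G) ∈ coreA0 M
    · rw [dadeRho_one, if_pos hx]
    · rw [hfA x hx, zero_mul, zero_mul]
  have hTη : ∀ π, ∃ c : ℤ, classInner T (η π) = (c : ℂ) := fun π =>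
    classInner_gc_int hTgc (isGC_signed (h.eta.irr_or_neg π))
  choose c hc using hTη
  obtain ⟨ℓ, hℓ⟩ := classInner_gc_int hTgc hψgc
  have hc1 : c 1 = 1 := by
    have h1 := hc 1
    rw [h.eta.map_one, hTdef, hone γ hγcl hγA, hγdef, classInner_sub_left, hζmu 1,
      classInner_symm_eq (r := 1) (by
        rw [h.mu.inner_mu_colSum, if_pos (sameCol_refl _), Complex.ofReal_one])] at h1
    simp only [sub_zero, Complex.ofReal_one] at h1
    exact_mod_cast h1.symm
  -- `T` against the images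
  have hdiff : ζ - conjFun ζ ∈ zspanOn S {1}ᶜ := mem_zspanOn_one.2
    ⟨zspan_sub (subset_zspan hζS) (subset_zspan hζc), by simp [conjFun, hζ1]⟩
  have hτdiff : τ (ζ - conjFun ζ) = ψ - ψ' := by
    rw [← hag _ hdiff, sub_eq_add_neg, hiso.1 _ (subset_zspan hζS) _ (zspan_neg (subset_zspan hζc)),
      lin_neg hiso (subset_zspan hζc), ← sub_eq_add_neg]
  have hdiffoff : ∀ x : ↥M, (x : G) ∉ coreA0 M → (ζ - conjFun ζ) x = 0 :=
    hsupp _ (by simp [conjFun, hζ1]) fun x hx => by
      rw [Pi.sub_apply, conjFun, hζdef, hoffK _ x hx, map_zero, sub_zero]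
  have hdiffcl : IsClassFunction ↥M (ζ - conjFun ζ) :=
    isClassFunction_sub (IsIrrCharacter.isClassFunction hζi) (IsIrrCharacter.isClassFunction hζci)
  have hζcmu : classInner (colSum μ 1) (conjFun ζ) = 0 := by
    have e : conjFun (colSum μ 1) = colSum μ 1 := (h.mu.colSum_inv 1).symm.trans (congrArg (colSum μ) h1inv)
    rw [← e, classInner_conjFun, hcolζ, map_zero]
  have hTψ' : classInner T ψ' = ((ℓ + 1 : ℤ) : ℂ) := by
    have h1 : classInner T (ψ - ψ') = -1 := by
      rw [← hτdiff, hTdef, hτdef, dadeIsometry_inner hD hγcl hγA hdiffcl hdiffoff, hγdef]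
      simp only [classInner_sub_left, classInner_sub_right, hcolζ, hζcmu,
        classInner_irr_self hζi, classInner_irr_of_ne hζi hζci hζne.symm]
      norm_num
    rw [classInner_sub_right, hℓ] at h1
    push_cast
    linear_combination -h1
  -- conjugation symmetry
  have hTconj : conjFun T = T + (ψ - ψ') := by
    rw [hTdef, hτdef, ← dadeIsometry_conj, ← hτdef, ← hτdiff, hτdef, ← dadeIsometry_add]
    congr 1
    funext x
    have e : conjFun (colSum μ 1) = colSum μ 1 := (h.mu.colSum_inv 1).symm.trans (congrArg (colSum μ) h1inv)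
    have ex := congrFun e x
    simp only [hγdef, Pi.add_apply, Pi.sub_apply, conjFun, map_sub] at ex ⊢
    rw [ex]
    ring
  have hcinv : ∀ π, c π⁻¹ = c π := by
    intro π
    have h1 : classInner T (η π⁻¹) = conj (classInner (conjFun T) (η π)) := by
      rw [← conjFun_eta h.dade.ti hoddW h.eta π, ← classInner_conjFun, conjFun_conjFun]
    rw [hc, hTconj, classInner_add_left, classInner_sub_left, hψη, hψ'η, sub_self, add_zero, hc,
      map_intCast] at h1
    exact_mod_cast h1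
  -- a nonprincipal column
  obtain ⟨ω, hω⟩ := h.dade.exists_not_sameCol_one
  obtain ⟨d, hd⟩ := IsCharacter.exists_degree (IsIrrCharacter.isCharacter (h.mu.irr ω))
  have hd1 : d ≠ 1 := fun e => hres_ne ω hω (by rw [hd, e, Nat.cast_one])
  have hdq : q ≤ d + 1 := by
    obtain ⟨n, hn⟩ := h.mu.congr ω
    rw [hd] at hn
    have hd0 : d ≠ 0 := fun e => IsIrrCharacter.apply_one_ne_zero (h.mu.irr ω) (by rw [hd, e, Nat.cast_zero])
    obtain ⟨s, hs, hsδ⟩ : ∃ s : ℤ, (s = 1 ∨ s = -1) ∧ δ ω = (s : ℂ) := by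
      rcases h.mu.sign ω with e | e
      · exact ⟨1, Or.inl rfl, by simp [e]⟩
      · exact ⟨-1, Or.inr rfl, by simp [e]⟩
    rw [hsδ] at hn
    have hn' : (d : ℤ) - s = n * q := by exact_mod_cast hn
    by_contra hlt
    push Not at hlt
    rcases lt_trichotomy n 0 with e | rfl | e
    · have e2 : n * (q : ℤ) ≤ (-1) * q := mul_le_mul_of_nonneg_right (by omega) (Int.natCast_nonneg q)
      rcases hs with rfl | rfl <;> omega
    · rcases hs with rfl | rfl <;> omega
    · have e2 : 1 * (q : ℤ) ≤ n * q := mul_le_mul_of_nonneg_right (by omega) (Int.natCast_nonneg q)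
      rcases hs with rfl | rfl <;> omega
  have hcolS' := h.colSum_mem hω
  have hcolS : colSum μ ω ∈ S := hSseq.symm ▸ hcolS'
  have hne1 : ζ ≠ colSum μ ω := fun e => h.dade.colSum_not_irr h.mu ω (e ▸ hζi)
  have hne2 : ζ ≠ conjFun (colSum μ ω) := fun e => h.dade.colSum_not_irr h.mu ω⁻¹ (by
    rw [h.mu.colSum_inv, ← e]; exact hζi)
  have h58 := h.coherent_colSum (T := seqIndD M (sigmaCore M) ⊥) subset_rfl hiso' hag' hω hcolS'
    (seqIndD_conj_mem hcolS') hζS' (seqIndD_conj_mem hζS') hne1 hne2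
  -- `T` against the image of the column sum
  have hX : classInner T (τ₁ (colSum μ ω)) = (((d : ℤ) * (ℓ + 1) : ℤ) : ℂ) := by
    have hcv : colSum μ ω 1 = (q : ℂ) * d := by
      rw [h.mu.colSum_apply_K ω (x := 1) (one_mem _), hd]
    set α := colSum μ ω - (d : ℤ) • ζ with hα
    have hαS : α ∈ zspanOn S {1}ᶜ := mem_zspanOn_one.2
      ⟨zspan_sub (subset_zspan hcolS) (zspan_zsmul _ (subset_zspan hζS)), by
        simp [hα, hcv, hζ1]; ring⟩
    have hαe : τ α = τ₁ (colSum μ ω) - (d : ℤ) • ψ := by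
      rw [← hag _ hαS, hα, sub_eq_add_neg, hiso.1 _ (subset_zspan hcolS) _
        (zspan_neg (zspan_zsmul _ (subset_zspan hζS))), lin_neg hiso (zspan_zsmul _ (subset_zspan hζS)),
        hiso.2.1 _ (subset_zspan hζS), ← sub_eq_add_neg]
    have hαcl : IsClassFunction ↥M α := isGC_isClassFunction (isGC_sub
      (isGC_of_isCharacter (hS.isCharacter _ hcolS)) (isGC_zsmul (isGC_of_irr hζi) _))
    have hαA := hsupp α (by simpa using hαS.2 1 (by simp)) fun x hx => by
      have h1 : colSum μ ω x = 0 := by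
        rw [← (h.mu.resK_facts ω).2]; exact hoffK _ x hx
      simp [hα, h1, hζdef, hoffK _ x hx]
    have h1 : classInner T (τ α) = (d : ℂ) := by
      rw [hTdef, hτdef, dadeIsometry_inner hD hγcl hγA hαcl hαA, hγdef, hα]
      simp only [classInner_sub_left, classInner_sub_right, classInner_zsmul_right,
        h.mu.inner_colSum, if_neg (fun e : SameCol 1 ω => hω e.symm), hcolζ, hζcol,
        classInner_irr_self hζi]
      push_cast
      ring
    rw [hαe, classInner_sub_right, classInner_zsmul_right, hℓ] at h1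
    push_cast at h1 ⊢
    linear_combination h1
  -- coefficients on the columns
  set R := colClass (1 : ↥(W₁ ⊔ W₂) →* ℂˣ) with hR
  set h₀ := c (hWP.lsnd ω) - 1 with hh₀
  have htriv : ∀ φ ∈ R, ∀ w : ↥(W₁ ⊔ W₂), (w : G) ∈ W₂ → φ w = 1 := fun φ hφ w hw =>
    (mem_colClass.1 hφ w hw).trans (MonoidHom.one_apply w)
  have hlsinv : hWP.lsnd ω⁻¹ = (hWP.lsnd ω)⁻¹ := rfl
  have hrect : ∀ φ ∈ R, ∀ ν, c (φ * hWP.lsnd ν) = c φ + c (hWP.lsnd ν) - 1 := by
    intro φ hφ ν
    have h1 := S1506.rectangle hWP h.eta hTcl hTV (φ := φ) (φ' := 1) (ψ := hWP.lsnd ν) (ψ' := 1)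
      (htriv φ hφ) (fun w _ => rfl) (fun w hw => hWP.lsnd_apply_of_mem₁ ν hw) (fun w _ => rfl)
    have m1 : ∀ ρ : ↥(W₁ ⊔ W₂) →* ℂˣ, ρ * 1 = ρ := fun ρ => MonoidHom.ext fun w => mul_one _
    have m2 : ∀ ρ : ↥(W₁ ⊔ W₂) →* ℂˣ, 1 * ρ = ρ := fun ρ => MonoidHom.ext fun w => one_mul _
    rw [m1, m2, m1, hc, hc, hc, hc, hc1] at h1
    have h2 : c (φ * hWP.lsnd ν) + 1 = c φ + c (hWP.lsnd ν) := by exact_mod_cast h1
    omega
  have hcolc : ∀ φ ∈ R, c (φ * hWP.lsnd ω) = c φ + h₀ ∧ c (φ * hWP.lsnd ω⁻¹) = c φ + h₀ := by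
    intro φ hφ
    refine ⟨by rw [hrect φ hφ, hh₀]; ring, ?_⟩
    rw [hrect φ hφ, hh₀, hlsinv, hcinv]
    ring
  have hcardR : R.card = q := MuFamily.card_colClass (h := hT) 1
  have hsq : (∑ i ∈ R, c i + (q : ℤ) * h₀) ^ 2 = ((d : ℤ) * (ℓ + 1)) ^ 2 := by
    have key : ∀ ν, (∀ φ ∈ R, c (φ * hWP.lsnd ν) = c φ + h₀) →
        classInner T (∑ π ∈ colClass ν, η π) = ((∑ i ∈ R, c i + (q : ℤ) * h₀ : ℤ) : ℂ) := by
      intro ν hν
      rw [classInner_sum_right, sum_colClass_eq hWP ν (fun π => classInner T (η π)),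
        Finset.sum_congr rfl fun φ hφ => by rw [hc, hν φ hφ], ← hR]
      push_cast
      rw [Finset.sum_add_distrib, Finset.sum_const, hcardR, nsmul_eq_mul]
    rcases h58 with e | e
    all_goals
      rw [e] at hX
      first
        | rw [classInner_smul_right, key ω fun φ hφ => (hcolc φ hφ).1, h.mu.sign_conj] at hX
        | rw [classInner_neg_right, classInner_smul_right, key ω⁻¹ fun φ hφ => (hcolc φ hφ).2,
            h.mu.sign_conj] at hX
      rcases h.mu.sign ω with es | es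
      all_goals
        rw [es] at hX
        have hX' : (((∑ i ∈ R, c i + (q : ℤ) * h₀) ^ 2 : ℤ) : ℂ) =
            ((((d : ℤ) * (ℓ + 1)) ^ 2 : ℤ) : ℂ) := by
          rw [Int.cast_pow, Int.cast_pow, ← hX]
          ring
        exact_mod_cast hX'
  -- Bessel
  have hdisj : ∀ ν ν' : ↥(W₁ ⊔ W₂) →* ℂˣ, ¬ SameCol ν ν' → Disjoint (colClass ν) (colClass ν') :=
    fun ν ν' hne => Finset.disjoint_left.2 fun π h1 h2 =>
      hne ((mem_colClass.1 h1).symm.trans (mem_colClass.1 h2))
  have d1 := hdisj 1 ω fun e => hω e.symm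
  have d2 := hdisj 1 ω⁻¹ fun e => h.dade.not_sameCol_one_inv hω e.symm
  have d3 := hdisj ω ω⁻¹ (h.dade.not_sameCol_inv hω)
  have hbes : ∑ i ∈ R, (c i ^ 2 + 2 * (c i + h₀) ^ 2) + (ℓ ^ 2 + (ℓ + 1) ^ 2) ≤ (q : ℤ) + 1 := by
    set C := R ∪ colClass ω ∪ colClass ω⁻¹ with hC
    have hηn : ∀ π, classInner (η π) (η π) = 1 := fun π => by rw [h.eta.orthonormal, if_pos rfl]
    have hηo : ∀ π π', π ≠ π' → classInner (η π) (η π') = 0 := fun π π' e => by
      rw [h.eta.orthonormal, if_neg e]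
    have hb := (bessel (C.disjSum (Finset.univ : Finset Bool))
      (Sum.elim η fun b => if b then ψ else ψ') (fun _ => 1) (fun _ _ => one_pos)
      (fun i _ => by
        rcases i with π | b
        · simpa using hηn π
        · cases b <;> simp [hψψ, hψ'ψ'])
      (fun i _ j _ e => by
        rcases i with π | b <;> rcases j with π' | b'
        · exact hηo π π' fun e' => e (by rw [e'])
        · cases b' <;> simp [classInner_symm_zero (hψη π), classInner_symm_zero (hψ'η π)]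
        · cases b <;> simp [hψη π', hψ'η π']
        · cases b <;> cases b' <;> first
            | exact absurd rfl e
            | simp [hψψ', classInner_symm_zero hψψ']) T).1
    rw [Finset.sum_disjSum, Fintype.sum_bool] at hb
    simp only [Sum.elim_inl, Sum.elim_inr, Bool.false_eq_true, if_false, if_true, div_one, hc, hℓ,
      hTψ', Complex.norm_intCast, sq_abs, hTT] at hb
    have hb' : ((∑ π ∈ C, c π ^ 2 + (ℓ ^ 2 + (ℓ + 1) ^ 2) : ℤ) : ℝ) ≤ (((q : ℤ) + 1 : ℤ) : ℝ) := by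
      push_cast
      simp only [Complex.add_re, Complex.natCast_re, Complex.one_re] at hb
      push_cast at hb
      linarith
    have hsumC : ∑ π ∈ C, c π ^ 2 = ∑ i ∈ R, (c i ^ 2 + 2 * (c i + h₀) ^ 2) := by
      rw [hC, Finset.sum_union (Finset.disjoint_union_left.2 ⟨d2, d3⟩), Finset.sum_union d1,
        sum_colClass_eq hWP ω fun π => c π ^ 2, sum_colClass_eq hWP ω⁻¹ fun π => c π ^ 2, ← hR,
        ← Finset.sum_add_distrib, ← Finset.sum_add_distrib]
      refine Finset.sum_congr rfl fun φ hφ => ?_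
      rw [(hcolc φ hφ).1, (hcolc φ hφ).2]
      ring
    rw [← hsumC]
    exact_mod_cast hb'
  obtain ⟨hh, hℓ1, hall⟩ := bridge_arith R (mem_colClass.2 (sameCol_refl 1)) c h₀ ℓ hq3 hcardR hc1
    (fun i => i⁻¹) (fun i hi => by
      obtain ⟨hi1, hiR⟩ := Finset.mem_erase.1 hi
      refine ⟨Finset.mem_erase.2 ⟨fun e => hi1 (MonoidHom.ext fun w => by simpa using DFunLike.congr_fun e w), mem_colClass.2 fun w hw => by
        rw [MonoidHom.inv_apply, htriv i hiR w hw, inv_one, MonoidHom.one_apply]⟩, fun e => hi1 ?_,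
        inv_inv i, hcinv i⟩
      refine hWP.lin_ext (fun w hw => ?_) fun w hw => by rw [htriv i hiR w hw, MonoidHom.one_apply]
      have h2 : i (w * w) = 1 := by
        rw [map_mul]
        nth_rewrite 1 [← e]
        rw [MonoidHom.inv_apply, inv_mul_cancel]
      have hodd : Odd (orderOf w) := hoddW.of_dvd_nat (orderOf_dvd_natCard w)
      obtain ⟨k, hk⟩ := exists_pow_eq_self_of_coprime (x := w) (n := 2) hodd.coprime_two_left
      rw [← hk, map_pow, pow_two, h2, one_pow, MonoidHom.one_apply])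
    hdq hsq hbes
  -- the image of `γ`
  have hTψ : classInner T ψ = -1 := by rw [hℓ, hℓ1]; norm_num
  have hTeq : T = (∑ π ∈ R, η π) - ψ := by
    refine sub_eq_zero.1 (classInner_self_eq_zero.1 ?_)
    set E := ∑ π ∈ R, η π with hE
    have hTE : classInner T E = (q : ℂ) := by
      rw [hE, classInner_sum_right, Finset.sum_congr rfl (g := fun _ => (1 : ℂ))
        (fun φ hφ => by rw [hc, hall φ hφ, Int.cast_one]), Finset.sum_const, hcardR, nsmul_eq_mul,
        mul_one]
    have hET : classInner E T = (q : ℂ) := by rw [← classInner_conj_symm, hTE, Complex.conj_natCast]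
    have hψT : classInner ψ T = -1 := by rw [← classInner_conj_symm, hTψ, map_neg, map_one]
    have hEψ : classInner E ψ = 0 := by
      rw [hE, classInner_sum_left]
      exact Finset.sum_eq_zero fun π _ => classInner_symm_zero (hψη π)
    have hψE : classInner ψ E = 0 := classInner_symm_zero hEψ
    have hEE : classInner E E = (q : ℂ) := by
      rw [hE, classInner_sum_left, Finset.sum_congr rfl (g := fun _ => (1 : ℂ)) (fun π hπ => ?_),
        Finset.sum_const, hcardR, nsmul_eq_mul, mul_one]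
      rw [classInner_sum_right, Finset.sum_eq_single π (fun π' _ e => by
        rw [h.eta.orthonormal, if_neg e.symm]) fun e => absurd hπ e, h.eta.orthonormal, if_pos rfl]
    simp only [classInner_sub_left, classInner_sub_right, hTT, hTE, hTψ, hET, hψT, hEψ, hψE, hEE,
      hψψ]
    ring
  -- the inner products with the Dade image of functions on `K` minus the identity
  have hψpair : ∀ f : ↥M → ℂ, IsClassFunction ↥M f → f 1 = 0 →
      (∀ x : ↥M, (x : G) ∉ ⁅M, M⁆ → f x = 0) → classInner ψ (τ f) = classInner ζ f := by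
    intro f hf hf1 hfK
    haveI := Fintype.ofFinite (IrrCharacter ↥K)
    have hfres : IsClassFunction ↥K (fun k : ↥K => f k) := fun g x => hf (g : ↥M) (x : ↥M)
    set a : IrrCharacter ↥K → ℂ := fun χ => classInner (fun k : ↥K => f k) (χ : ↥K → ℂ) with ha
    have hexp := classFunction_eq_sum hfres
    have ha0 : ∑ χ, a χ * (χ : ↥K → ℂ) 1 = 0 := by
      have := congrFun hexp 1
      simpa [ha, hf1] using this.symm
    set g : IrrCharacter ↥K → ↥M → ℂ := fun χ =>
      indFun K (χ : ↥K → ℂ) - (χ : ↥K → ℂ) 1 • colSum μ 1 with hg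
    have hfeq : (q : ℂ) • f = ∑ χ, a χ • g χ := by
      have h1 : indFun K (fun k : ↥K => f k) = (q : ℂ) • f := by
        funext x
        by_cases hx : (x : G) ∈ ⁅M, M⁆
        · have hn : ∀ y : ↥M, y⁻¹ * x * y ∈ K := fun y => by
            simpa using (derivedIn_normal M).conj_mem x hx y⁻¹
          rw [indFun, Finset.sum_congr rfl (g := fun _ => f x) (fun y _ => ?_), Finset.sum_const,
            Finset.card_univ, ← Nat.card_eq_fintype_card, ← Subgroup.card_mul_index K, hKidx,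
            nsmul_eq_mul, Nat.cast_mul, ← mul_assoc, ← mul_assoc,
            inv_mul_cancel₀ (Nat.cast_ne_zero.2 Nat.card_pos.ne'), one_mul]
          · rfl
          · rw [extendByZero_eq, dif_pos (hn y)]
            have := hf x y⁻¹
            rwa [inv_inv] at this
        · rw [CliffordChar.indFun_not_mem K _ hx, Pi.smul_apply, hfK x hx, smul_zero]
      have h2 : indFun K (fun k : ↥K => f k) = ∑ χ, a χ • indFun K (χ : ↥K → ℂ) := by
        conv_lhs => rw [hexp]
        rw [indFun_sum]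
        exact Finset.sum_congr rfl fun χ _ => indFun_smul _ _ _
      rw [← h1, h2]
      simp only [hg, smul_sub, smul_smul, Finset.sum_sub_distrib, ← Finset.sum_smul, ha0, zero_smul,
        sub_zero]
    have hgpair : ∀ χ, classInner ψ (τ (g χ)) = classInner ζ (g χ) := by
      intro χ
      obtain ⟨n, hn⟩ := IsCharacter.exists_degree (IsIrrCharacter.isCharacter χ.2)
      by_cases hχ : (χ : ↥K → ℂ) = fun _ => 1
      · have : g χ = 0 := by
          simp only [hg, hχ, hcol1, one_smul, sub_self]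
        have hz : τ 0 = 0 := by
          rw [hτdef, ← sub_self (0 : ↥M → ℂ), dadeIsometry_sub, sub_self]
        rw [this, hz, classInner_zero_right, classInner_zero_right]
      · have hmem : indFun K (χ : ↥K → ℂ) ∈ S := ⟨χ, χ.2, hχ, fun b hb => by
          rw [show b = 1 from Subtype.ext (Subgroup.mem_bot.1 hb)], rfl⟩
        set e := indFun K (χ : ↥K → ℂ) - (n : ℤ) • ζ with he
        have heS : e ∈ zspanOn S {1}ᶜ := mem_zspanOn_one.2
          ⟨zspan_sub (subset_zspan hmem) (zspan_zsmul _ (subset_zspan hζS)), by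
            rw [he, Pi.sub_apply, Pi.smul_apply, indFun_one_apply, hKidx, hn, hζ1, zsmul_eq_mul]
            push_cast
            ring⟩
        have hge : g χ = e - (n : ℂ) • γ := by
          funext x
          simp only [hg, he, hγdef, hn, Pi.sub_apply, Pi.smul_apply, smul_eq_mul, zsmul_eq_mul,
            Pi.mul_apply, Pi.intCast_apply, Pi.natCast_apply]
          push_cast
          ring
        have h1 : classInner ψ (τ e) = classInner ζ e := by
          rw [← hag _ heS, hψdef, hiso.2.2.1 _ (subset_zspan hζS) _ heS.1]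
        have h2 : classInner ψ (τ γ) = classInner ζ γ := by
          rw [← hTdef, ← classInner_conj_symm, hTψ, hγdef, classInner_sub_right, hζcol,
            classInner_irr_self hζi, map_neg, map_one]
          ring
        rw [hge, hτdef, dadeIsometry_sub, dadeIsometry_smul, ← hτdef, classInner_sub_right,
          classInner_sub_right, classInner_smul_right, classInner_smul_right, h1, h2]
    have h3 : classInner ψ (τ ((q : ℂ) • f)) = classInner ζ ((q : ℂ) • f) := by
      rw [hfeq, hτdef, dadeIsometry_sum, classInner_sum_right, classInner_sum_right]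
      refine Finset.sum_congr rfl fun χ _ => ?_
      rw [dadeIsometry_smul, ← hτdef, classInner_smul_right, classInner_smul_right, hgpair]
    rw [hτdef, dadeIsometry_smul, ← hτdef, classInner_smul_right, classInner_smul_right] at h3
    exact mul_left_cancel₀ (by rw [Complex.conj_natCast]; exact Nat.cast_ne_zero.2 (by omega)) h3
  -- the projection
  set β : ↥M → ℂ := fun x => if x = 1 then 0 else ζ x with hβ
  have hβcl : IsClassFunction ↥M β := fun g x => by
    simp only [hβ, conj_eq_one_iff, IsIrrCharacter.isClassFunction hζi g x]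
  have hβ1 : β 1 = 0 := if_pos rfl
  have hβK : ∀ x : ↥M, (x : G) ∉ ⁅M, M⁆ → β x = 0 := fun x hx => by
    simp only [hβ]
    split_ifs
    · rfl
    · exact hoffK _ x hx
  set b : ℝ := 1 - (q : ℝ) ^ 2 / (Nat.card ↥M : ℝ) with hb
  have hββ : classInner β β = (b : ℂ) ∧ classInner ζ β = (b : ℂ) := by
    have hsum : ∑ x : ↥M, ζ x * conj (ζ x) = (Nat.card ↥M : ℂ) := by
      have h1 := classInner_irr_self hζi
      rw [classInner, inv_mul_eq_iff_eq_mul₀ (Nat.cast_ne_zero.2 Nat.card_pos.ne'), mul_one] at h1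
      exact h1
    have hkey : ∀ F : ↥M → ℂ, (∀ x, x ≠ 1 → F x = ζ x * conj (ζ x)) → F 1 = 0 →
        (Nat.card ↥M : ℂ)⁻¹ * ∑ x, F x = (b : ℂ) := by
      intro F hF hF1
      rw [← Finset.add_sum_erase _ _ (Finset.mem_univ 1), hF1, zero_add,
        Finset.sum_congr rfl fun x hx => hF x (Finset.ne_of_mem_erase hx),
        Finset.sum_erase_eq_sub (Finset.mem_univ 1), hsum, hζ1, hb]
      push_cast
      rw [Complex.conj_natCast, mul_sub, inv_mul_cancel₀ (Nat.cast_ne_zero.2 Nat.card_pos.ne')]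
      ring
    exact ⟨hkey _ (fun x hx => by simp [hβ, hx]) (by simp [hβ]),
      hkey _ (fun x hx => by simp [hβ, hx]) (by simp [hβ])⟩
  refine ⟨η, ψ, h.eta, ?_, fun x hx => ?_, ?_⟩
  · rcases gc_norm_one hψgc hψψ with e | e
    · exact Or.inl e
    · exact Or.inr e
  · have h1 : T x = 0 := Dade.dadeIsometry_eq_zero hD hx
    rw [hTeq, Pi.sub_apply, Finset.sum_apply, sub_eq_zero] at h1
    exact h1.symm
  · set Y := τ β with hY
    have hYY : classInner Y Y = (b : ℂ) := by
      rw [hY, hτdef, dadeIsometry_inner hD hβcl (hsupp β hβ1 hβK) hβcl (hsupp β hβ1 hβK), hββ.1]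
    have hψY : classInner ψ Y = (b : ℂ) := by rw [hY, hψpair β hβcl hβ1 hβK, hββ.2]
    have hr : (classInner (ψ - Y) (ψ - Y)).re = (q : ℝ) ^ 2 / (Nat.card ↥M : ℝ) := by
      rw [classInner_sub_left, classInner_sub_right, classInner_sub_right, hψψ, hYY, hψY,
        classInner_symm_eq hψY]
      simp only [Complex.sub_re, Complex.one_re, Complex.ofReal_re, hb]
      ring
    have hsq : (classInner (ψ - Y) (ψ - Y)).re =
        (Nat.card G : ℝ)⁻¹ * ∑ x, ‖(ψ - Y) x‖ ^ 2 := by
      rw [classInner, show (Nat.card G : ℂ)⁻¹ = (((Nat.card G : ℝ)⁻¹ : ℝ) : ℂ) by push_cast; rfl,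
        Complex.re_ofReal_mul, Complex.re_sum]
      congr 1
      refine Finset.sum_congr rfl fun g _ => ?_
      rw [Complex.mul_conj, Complex.ofReal_re, Complex.normSq_eq_norm_sq]
    rw [mul_div_assoc, ← hr, hsq,
      mul_inv_cancel_left₀ (Nat.cast_ne_zero.2 Nat.card_pos.ne'),
      Finset.sum_congr rfl (g := fun x => ‖(ψ - Y) x‖ ^ 2) fun x hx => by
        rw [Pi.sub_apply, hY, hτdef, Dade.dadeIsometry_eq_zero hD (Finset.mem_filter.1 hx).2, sub_zero]]
    exact Finset.sum_le_sum_of_subset_of_nonneg (Finset.filter_subset _ _)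
      fun _ _ _ => sq_nonneg _

end Cfsg.Agent.Peterfalvi
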