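import Cfsg.Agent.Lib.Peterfalvi.Sec10Derived
import Cfsg.Agent.Lib.Frobenius.Basic

/-!
# Peterfalvi section 10: the partner of a subgroup of type P not of Type II (owner: helper34)

* `Partner10 T W₁ W₂ V`, `exists_partner10` : `T` is of Type II with `W₁ = T_σ ∩ C(W₂)`
* `Partner10.prime`, `Partner10.two_mul_lt` : `p = |W₂|` is prime and `2 p < |V|`
* `card_conj_mul_le` : a set invariant under `H` has at most `[G : H]` times its size in conjugates
* `Partner10.card_bad` : the elements outside `Ã₀(M)` of order not prime to `|W₁|` are few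
-/

set_option autoImplicit false

namespace Cfsg.Agent.Peterfalvi

open scoped Pointwise commutatorElement
open Cfsg OddMax Cfsg.Agent.CyclicTI

universe u

variable {G : Type u} [Group G]

/-- Conjugates of a set invariant under `H`. -/
theorem card_conj_mul_le [Fintype G] [DecidableEq G] (H : Subgroup G) (S : Finset G)
    (hS : ∀ h ∈ H, ∀ s ∈ S, h * s * h⁻¹ ∈ S) :
    ((Finset.univ ×ˢ S).image fun z : G × G => z.1 * z.2 * z.1⁻¹).card * Nat.card H ≤
      Nat.card G * S.card := by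
  classical
  haveI := Fintype.ofFinite (G ⧸ H)
  have hsub : ((Finset.univ ×ˢ S).image fun z : G × G => z.1 * z.2 * z.1⁻¹) ⊆
      ((Finset.univ : Finset (G ⧸ H)) ×ˢ S).image fun z => z.1.out * z.2 * z.1.out⁻¹ := by
    intro x hx
    obtain ⟨⟨g, s⟩, hz, rfl⟩ := Finset.mem_image.1 hx
    have hs : s ∈ S := (Finset.mem_product.1 hz).2
    have hh : (g : G ⧸ H).out⁻¹ * g ∈ H := QuotientGroup.eq.1 (QuotientGroup.out_eq' (g : G ⧸ H))
    refine Finset.mem_image.2 ⟨((g : G ⧸ H), ((g : G ⧸ H).out⁻¹ * g) * s *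
      ((g : G ⧸ H).out⁻¹ * g)⁻¹), Finset.mem_product.2 ⟨Finset.mem_univ _, hS _ hh s hs⟩, ?_⟩
    group
  have h1 := (Finset.card_le_card hsub).trans Finset.card_image_le
  rw [Finset.card_product, Finset.card_univ, ← Nat.card_eq_fintype_card] at h1
  calc _ ≤ Nat.card (G ⧸ H) * S.card * Nat.card H := Nat.mul_le_mul_right _ h1
    _ = Nat.card G * S.card := by
      rw [Subgroup.card_eq_card_quotient_mul_card_subgroup H]; ring

variable [Finite G]

/-- The partner of a subgroup of type P not of Type II. -/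
structure Partner10 (T W₁ W₂ V : Subgroup G) : Prop where
  coatom : IsCoatom T
  decomp : IsSigmaDecomposition T W₂ V
  W₁_eq : W₁ = sigmaCore T ⊓ Subgroup.centralizer (W₂ : Set G)
  ne : W₂ ≠ ⊥
  V_ne : V ≠ ⊥

theorem exists_partner10 (hG : IsMinSimpleOddOrder G) {M W₁ U W₂ : Subgroup G} (hM : IsCoatom M)
    (hP : IsTypePWith M W₁ U W₂) (hnII : ¬ IsOfTypeII M) :
    ∃ T V : Subgroup G, Partner10 T W₁ W₂ V := by
  have F := OddOrder14.sec16 hG
  obtain ⟨U₁, hd, hW₂, -⟩ := exists_decomp_of_typeP hG hM hP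
  have hU : U₁ = ⊥ := by
    by_contra hU
    exact hnII ((typeII_iff hG F hM hd).2 ⟨hP.W₁_ne, hU⟩)
  obtain ⟨T, hT, hW₁, hhall⟩ := F.s1366 M hM W₁ U₁ hd hP.W₁_ne
  have hne : W₂ ≠ ⊥ := hW₂ ▸ F.s1354 M hM W₁ hd.cyclic hd.hall
  obtain ⟨V, hV⟩ := F.s1352_exists T hT _ ((F.s1351 T hT).2 _ hhall) hhall
  have hVne := ((F.s1369 M hM W₁ U₁ hd hP.W₁_ne T hT hW₁ hhall).resolve_left fun h => h hU) V hV
  change W₁ = sigmaCore T ⊓ Subgroup.centralizer
    ((sigmaCore M ⊓ Subgroup.centralizer (W₁ : Set G) : Subgroup G) : Set G) at hW₁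
  rw [← hW₂] at hV hW₁
  exact ⟨T, V, hT, hV, hW₁, hne, hVne⟩

namespace Partner10

variable (hG : IsMinSimpleOddOrder G) {T W₁ W₂ V : Subgroup G} (h : Partner10 T W₁ W₂ V)
include hG h

theorem prime : (Nat.card W₂).Prime := by
  have F := OddOrder14.sec16 hG
  exact (type_p2_facts hG F.toSec15Facts h.coatom F.fittingTI h.decomp h.ne h.V_ne).1

theorem primeTI : PrimeTI T ⁅T, T⁆ W₂ W₁ := by
  have F := OddOrder14.sec16 hG
  obtain ⟨U', hn, hKn, hc, -⟩ := exists_typeP_compl hG F h.coatom h.decomp h.ne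
  have hP := isTypePWith_mk hG F h.coatom h.decomp h.ne hn hKn hc
  rw [← h.W₁_eq] at hP
  exact primeTI_of_typeP hG h.coatom hP

theorem derived_eq : ⁅T, T⁆ = V ⊔ sigmaCore T :=
  (kappa_basic hG (OddOrder14.sec16 hG) h.coatom h.decomp h.ne).1

theorem fpf : Frobenius.FPF W₂ V := by
  have F := OddOrder14.sec16 hG
  refine Frobenius.fpf_iff_inf_centralizer.2 fun b hb hb1 => ?_
  exact F.s1353 T h.coatom W₂ V h.decomp b hb hb1

theorem two_mul_lt : 2 * Nat.card W₂ < Nat.card V := by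
  have hp := h.prime hG
  haveI := Fact.mk hp
  have hmod := (h.fpf hG).card_modEq_one h.decomp.normal (dvd_refl _)
  have h1 : 1 < Nat.card V := (Subgroup.one_lt_card_iff_ne_bot _).2 h.V_ne
  obtain ⟨k, hk⟩ := (Nat.modEq_iff_dvd' h1.le).1 hmod.symm
  have hodd := OddSigma.odd_card hG V
  have hodd' := OddSigma.odd_card hG W₂
  have hk2 : Even k := by
    have h2 : Even (Nat.card W₂ * k) := by
      rw [← hk]
      obtain ⟨a, ha⟩ := hodd
      exact ⟨a, by omega⟩
    rcases Nat.even_mul.1 h2 with h3 | h3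
    · exact absurd h3 (Nat.not_even_iff_odd.2 hodd')
    · exact h3
  obtain ⟨a, rfl⟩ := hk2
  have ha : 1 ≤ a := by
    by_contra ha
    obtain rfl : a = 0 := by omega
    simp at hk
    omega
  have : Nat.card W₂ * 2 ≤ Nat.card W₂ * (a + a) := Nat.mul_le_mul_left _ (by omega)
  omega

/-- An element of `T'` is conjugate in `T` to `u y` with `u ∈ V` commuting with `y ∈ T_σ`. -/
theorem exists_parts {x : G} (hx : x ∈ ⁅T, T⁆) :
    ∃ g : G, ∃ u ∈ V, ∃ y ∈ sigmaCore T, u * y = y * u ∧ g * x * g⁻¹ = u * y := by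
  have F := OddOrder14.sec16 hG
  rw [h.derived_eq hG] at hx
  obtain ⟨a, b, ha, hb, hab, haπ, hbπ⟩ := exists_pi_parts (sigma T) x
  have hTx : x ∈ T := sup_le (U_le h.decomp) (sigmaCore_le T) hx
  have haσ : a ∈ sigmaCore T :=
    mem_sigmaCore_of_sigma F.toSigFacts h.coatom (Subgroup.zpowers_le.2 hTx ha) haπ
  have hbx : Subgroup.zpowers b ≤ V ⊔ sigmaCore T := Subgroup.zpowers_le.2
    (Subgroup.zpowers_le.2 hx hb)
  have hbN : Subgroup.zpowers b ≤ Subgroup.normalizer (sigmaCore T : Set G) :=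
    (hbx.trans (sup_le (U_le h.decomp) (sigmaCore_le T))).trans (le_normalizer_sigmaCore T)
  have hcop : (Nat.card (Subgroup.zpowers b)).Coprime (Nat.card (sigmaCore T)) := by
    rw [Nat.card_zpowers]
    exact Nat.coprime_of_dvd fun p hp h1 h2 => hbπ p hp h1 (sigmaCore_pi T p hp h2)
  have hVN : V ≤ Subgroup.normalizer (sigmaCore T : Set G) :=
    (U_le h.decomp).trans (le_normalizer_sigmaCore T)
  obtain ⟨n, hn, hnV⟩ := Coprime.exists_conj_le_of_forall hbN hcop
    (Or.inr (Coprime.isSolvable_of_le (sigmaCore_le T) (OddSigma.proper_solvable hG h.coatom.1))) V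
    (fun c hc => by
      have h1 := hbx hc
      rw [sup_comm, Coprime.mem_sup_iff hVN] at h1
      obtain ⟨k, hk, v, hv, e⟩ := h1
      exact ⟨k⁻¹, inv_mem hk, by rw [← e, inv_mul_cancel_left]; exact hv⟩)
  refine ⟨n, n * b * n⁻¹, hnV (Coprime.conj_mem_conj.2 (Subgroup.mem_zpowers b)), n * a * n⁻¹,
    (sigmaCore T).mul_mem ((sigmaCore T).mul_mem hn haσ) (inv_mem hn), ?_, ?_⟩
  · obtain ⟨i, rfl⟩ := ha
    obtain ⟨j, rfl⟩ := hb
    exact comm_conj ((Commute.zpow_zpow_self x j i).eq)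
  · obtain ⟨i, rfl⟩ := ha
    obtain ⟨j, rfl⟩ := hb
    rw [show n * x ^ j * n⁻¹ * (n * x ^ i * n⁻¹) = n * (x ^ j * x ^ i) * n⁻¹ by group,
      (Commute.zpow_zpow_self x j i).eq]
    exact congrArg (fun t => n * t * n⁻¹) hab.symm

variable {M U : Subgroup G}

/-- The elements outside `Ã₀(M)` whose order is not prime to `|W₁|` come from `T'`. -/
theorem bad_cover (hM : IsCoatom M) (hP : IsTypePWith M W₁ U W₂) {x : G}
    (hx : x ∉ Dade.support (coreA0 M) (supportR M))
    (hcop : ¬ (orderOf x).Coprime (Nat.card W₁)) :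
    (∃ g : G, g * x * g⁻¹ ∈ sigmaCore T ∧ x ≠ 1) ∨
      ∃ g : G, ∃ u ∈ V, u ≠ 1 ∧ ∃ y ∈ sigmaCore T, y ≠ 1 ∧ u * y = y * u ∧
        g * x * g⁻¹ = u * y := by
  have F := OddOrder14.sec16 hG
  obtain ⟨r, hr, hrx, hrq⟩ := Nat.Prime.not_coprime_iff_dvd.1 hcop
  haveI := Fact.mk hr
  have hW₁σ : W₁ ≤ sigmaCore T := h.W₁_eq ▸ inf_le_left
  have hrσ : r ∈ sigma T :=
    sigmaCore_pi T r hr (hrq.trans (Subgroup.card_dvd_of_le hW₁σ))
  set a := x ^ (orderOf x / r) with hadef
  have hao : orderOf a = r := orderOf_pow_orderOf_div (orderOf_pos x).ne' hrx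
  have hRp : IsPGroup r (Subgroup.zpowers a) :=
    IsPGroup.of_card (n := 1) (by rw [Nat.card_zpowers, hao, pow_one])
  obtain ⟨g, hg⟩ := OddSigma.exists_conj_le_of_sigma hrσ hRp
  set a' := g⁻¹ * a * g with ha'def
  have ha'T : a' ∈ T := Coprime.mem_conj.1 (hg (Subgroup.mem_zpowers a))
  have ha'o : orderOf a' = r := by
    rw [ha'def, ← hao]
    simpa using orderOf_injective (MulAut.conj g⁻¹).toMonoidHom (MulAut.conj g⁻¹).injective a
  have ha'σ : a' ∈ sigmaCore T := mem_sigmaCore_of_sigma F.toSigFacts h.coatom ha'T fun s hs hd => by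
    rw [ha'o] at hd
    rwa [(Nat.prime_dvd_prime_iff_eq hs hr).1 hd]
  have ha'1 : a' ≠ 1 := fun e => hr.one_lt.ne (by rw [← ha'o, e, orderOf_one])
  have hCT := centralizer_le_of_typeP2 hG F h.coatom h.decomp h.ne h.V_ne
    (Or.inl (coreA1_subset_coreA hG F h.coatom ⟨ha'σ, ha'1⟩))
  set x' := g⁻¹ * x * g with hx'def
  have hx'T : x' ∈ T := hCT (Subgroup.mem_centralizer_singleton_iff.2 (by
    have e : x * a = a * x := (Commute.self_pow x _).eq
    calc x' * a' = g⁻¹ * (x * a) * g := by rw [hx'def, ha'def]; group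
      _ = g⁻¹ * (a * x) * g := by rw [e]
      _ = a' * x' := by rw [hx'def, ha'def]; group))
  have hx'o : orderOf x' = orderOf x := by
    rw [hx'def]
    simpa using orderOf_injective (MulAut.conj g⁻¹).toMonoidHom (MulAut.conj g⁻¹).injective x
  have hx'supp : x' ∉ Dade.support (coreA0 M) (supportR M) := by
    rw [hx'def, show g⁻¹ * x * g = g⁻¹ * x * g⁻¹⁻¹ by rw [inv_inv], Dade.mem_support_conj_iff]
    exact hx
  have hpq : (Nat.card W₂).Coprime (Nat.card W₁) := by
    obtain ⟨U₁, hd, -, -⟩ := exists_decomp_of_typeP hG hM hP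
    obtain ⟨-, -, hc⟩ := kappa_basic hG F hM hd hP.W₁_ne
    exact hc.coprime_dvd_left (Subgroup.card_dvd_of_le (typeP_W₂_le hP))
  have hx'T' : x' ∈ ⁅T, T⁆ := by
    by_contra hn
    obtain ⟨k, w, hw, e⟩ := (h.primeTI hG).exists_conj_W (x := ⟨x', hx'T⟩) hn
    have e' : x' = (k : G) * (w : G) * (k : G)⁻¹ := congrArg Subtype.val e
    by_cases hw2 : (w : G) ∈ W₂
    · refine hr.not_dvd_one (hpq ▸ Nat.dvd_gcd ?_ hrq)
      refine dvd_trans ?_ (Subgroup.orderOf_dvd_natCard W₂ hw2)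
      have : orderOf x' = orderOf (w : G) := by
        rw [e']
        simpa using orderOf_injective (MulAut.conj (k : G)).toMonoidHom
          (MulAut.conj (k : G)).injective (w : G)
      rwa [← this, hx'o]
    · refine hx'supp ?_
      rw [e', Dade.mem_support_conj_iff]
      have hwA : (w : G) ∈ coreA0 M := by
        rw [coreA0_eq_a0Set hG hM hP]
        exact Or.inr ⟨1, one_mem _, w, (sup_comm W₂ W₁).le w.2, hw, hw2, by group⟩
      exact ⟨(w : G), hwA, 1, one_mem _, 1, by group⟩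
  obtain ⟨k, u, hu, y, hy, hc, e⟩ := h.exists_parts hG hx'T'
  have hconj : k * g⁻¹ * x * (k * g⁻¹)⁻¹ = u * y := by rw [← e, hx'def]; group
  by_cases hu1 : u = 1
  · refine Or.inl ⟨k * g⁻¹, by rw [hconj, hu1, one_mul]; exact hy, fun ex => ?_⟩
    rw [ex, orderOf_one] at hrx
    exact hr.not_dvd_one hrx
  · refine Or.inr ⟨k * g⁻¹, u, hu, hu1, y, hy, fun hy1 => ?_, hc, hconj⟩
    have hord : orderOf x = orderOf u := by
      rw [hy1, mul_one] at hconj
      rw [← hconj]
      exact (orderOf_injective (MulAut.conj (k * g⁻¹)).toMonoidHom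
        (MulAut.conj (k * g⁻¹)).injective x).symm
    exact (U_primes F.toSec15Facts h.coatom h.decomp hr
      ((hord ▸ hrx).trans (Subgroup.orderOf_dvd_natCard V hu))).1 hrσ

/-- The elements outside `Ã₀(M)` whose order is not prime to `|W₁|`. -/
theorem card_bad [Fintype G] (hM : IsCoatom M) (hP : IsTypePWith M W₁ U W₂) (s : Finset G)
    (hs : ∀ x ∈ s, x ∉ Dade.support (coreA0 M) (supportR M) ∧
      ¬ (orderOf x).Coprime (Nat.card W₁)) :
    s.card * (3 * Nat.card W₂ * Nat.card V) ≤ Nat.card G * (3 + Nat.card V) := by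
  classical
  have F := OddOrder14.sec16 hG
  set p := Nat.card W₂ with hp
  set v := Nat.card V with hv
  -- the first part
  set Q := Finset.univ.filter (fun y : G => y ∈ sigmaCore T ∧ y ≠ 1) with hQ
  set B₁ := (Finset.univ ×ˢ Q).image (fun z : G × G => z.1 * z.2 * z.1⁻¹) with hB₁
  have hB₁c : B₁.card * (p * v) ≤ Nat.card G := by
    have h1 := card_conj_mul_le T Q fun t ht y hy => by
      obtain ⟨h1, h2⟩ := (Finset.mem_filter.1 hy).2
      exact Finset.mem_filter.2 ⟨Finset.mem_univ _,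
        conj_mem_of_le_normalizer (le_normalizer_sigmaCore T) ht h1,
        fun e => h2 (conj_eq_one_iff.1 e)⟩
    have hQc : Q.card ≤ Nat.card (sigmaCore T) := by
      rw [hQ, ← Fintype.card_subtype, ← Nat.card_eq_fintype_card]
      exact Nat.card_le_card_of_injective (fun z => (⟨z.1, z.2.1⟩ : sigmaCore T))
        fun a b e => Subtype.ext (congrArg (fun z : sigmaCore T => (z : G)) e)
    have hTc : Nat.card T = p * v * Nat.card (sigmaCore T) := by
      obtain ⟨-, hcompl, -⟩ := kappa_basic hG F h.coatom h.decomp h.ne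
      rw [← compl_card hcompl, h.derived_eq hG, ← compl_card (U_compl_sup F h.coatom h.decomp)]
      ring
    rw [hTc] at h1
    refine Nat.le_of_mul_le_mul_right ?_ (Nat.card_pos (α := sigmaCore T))
    calc B₁.card * (p * v) * Nat.card (sigmaCore T)
        = B₁.card * (p * v * Nat.card (sigmaCore T)) := by ring
      _ ≤ Nat.card G * Q.card := h1
      _ ≤ _ := Nat.mul_le_mul_left _ hQc
  -- the second part
  set D := Finset.univ.filter
    (fun u : G => u ∈ V ∧ u ≠ 1 ∧ ∃ y ∈ sigmaCore T, y ≠ 1 ∧ u * y = y * u) with hD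
  set S : G → Finset G := fun u =>
    (Finset.univ.filter fun y : G => y ∈ sigmaCore T ∧ y ≠ 1 ∧ u * y = y * u).image (u * ·) with hS
  set B₂ : G → Finset G := fun u =>
    (Finset.univ ×ˢ S u).image (fun z : G × G => z.1 * z.2 * z.1⁻¹) with hB₂
  have hcent : ∀ u ∈ D, Subgroup.centralizer ({u} : Set G) ≤ T := by
    intro u hu
    obtain ⟨huV, hu1, y, hy, hy1, hc⟩ := (Finset.mem_filter.1 hu).2
    have h1 := (F.s1361 T h.coatom W₂ V h.decomp (Subgroup.zpowers u) (Subgroup.zpowers_le.2 huV)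
      (fun e => hu1 (Subgroup.zpowers_eq_bot.1 e)) (fun e => hy1 ?_)).1
    · intro c hc'
      refine h1 ?_
      rw [Subgroup.mem_centralizer_iff]
      rintro z ⟨i, rfl⟩
      exact (Commute.zpow_left (show Commute u c from
        (Subgroup.mem_centralizer_singleton_iff.1 hc').symm) i).eq
    · rw [← Subgroup.mem_bot, ← e]
      refine ⟨hy, ?_⟩
      show y ∈ Subgroup.centralizer (Subgroup.zpowers u : Set G)
      rw [Subgroup.mem_centralizer_iff]
      rintro z ⟨i, rfl⟩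
      exact (Commute.zpow_left (show Commute u y from hc) i).eq
  have hVab := (F.s1363 T h.coatom W₂ V h.decomp h.ne).1
  have hcomm : ∀ a ∈ V, ∀ b ∈ V, a * b = b * a := fun a ha b hb =>
    congrArg Subtype.val (hVab.is_comm.comm (⟨a, ha⟩ : V) ⟨b, hb⟩)
  have hVσ : V ⊓ sigmaCore T = ⊥ :=
    Coprime.inf_eq_bot (U_sigmaCore_coprime F h.coatom h.decomp).symm
  have hB₂c : ∀ u ∈ D, (B₂ u).card * v ≤ Nat.card G := by
    intro u hu
    have hCT := hcent u hu
    obtain ⟨huV, -⟩ := (Finset.mem_filter.1 hu).2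
    have h1 := card_conj_mul_le (Subgroup.centralizer ({u} : Set G)) (S u) fun c hc z hz => by
      obtain ⟨y, hy, rfl⟩ := Finset.mem_image.1 hz
      obtain ⟨hy1, hy2, hy3⟩ := (Finset.mem_filter.1 hy).2
      have ecu : c * u * c⁻¹ = u := by
        rw [Subgroup.mem_centralizer_singleton_iff.1 hc, mul_inv_cancel_right]
      refine Finset.mem_image.2 ⟨c * y * c⁻¹, Finset.mem_filter.2 ⟨Finset.mem_univ _,
        conj_mem_of_le_normalizer (le_normalizer_sigmaCore T) (hCT hc) hy1,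
        fun e => hy2 (conj_eq_one_iff.1 e), ?_⟩, ?_⟩
      · have := comm_conj (m := c) hy3
        rwa [ecu] at this
      · calc u * (c * y * c⁻¹) = c * u * c⁻¹ * (c * y * c⁻¹) := by rw [ecu]
          _ = c * (u * y) * c⁻¹ := by group
    set Cσ := sigmaCore T ⊓ Subgroup.centralizer ({u} : Set G) with hCσ
    have hSc : (S u).card ≤ Nat.card Cσ := by
      refine Finset.card_image_le.trans ?_
      rw [← Fintype.card_subtype, ← Nat.card_eq_fintype_card]
      exact Nat.card_le_card_of_injective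
        (fun z => (⟨z.1, z.2.1, Subgroup.mem_centralizer_singleton_iff.2 z.2.2.2.symm⟩ : Cσ))
        fun a b e => Subtype.ext (congrArg (fun z : Cσ => (z : G)) e)
    have hCc : v * Nat.card Cσ ≤ Nat.card (Subgroup.centralizer ({u} : Set G)) := by
      rw [hv, ← Nat.card_prod]
      refine Nat.card_le_card_of_injective (fun z : V × Cσ => (⟨z.1 * z.2, mul_mem
        (Subgroup.mem_centralizer_singleton_iff.2 (hcomm _ z.1.2 u huV))
        (show (z.2 : G) ∈ Subgroup.centralizer ({u} : Set G) from z.2.2.2)⟩ :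
          Subgroup.centralizer ({u} : Set G))) fun a b e => ?_
      have e' : (a.1 : G) * (a.2 : G) = b.1 * b.2 := congrArg Subtype.val e
      have hm : (b.1 : G)⁻¹ * a.1 ∈ V ⊓ sigmaCore T := by
        refine ⟨V.mul_mem (inv_mem b.1.2) a.1.2, ?_⟩
        rw [show (b.1 : G)⁻¹ * a.1 = b.2 * (a.2 : G)⁻¹ by
          rw [eq_mul_inv_iff_mul_eq, mul_assoc, e', inv_mul_cancel_left]]
        exact (sigmaCore T).mul_mem b.2.2.1 ((sigmaCore T).inv_mem a.2.2.1)
      rw [hVσ, Subgroup.mem_bot, inv_mul_eq_one] at hm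
      rw [← hm] at e'
      exact Prod.ext (Subtype.ext hm.symm) (Subtype.ext (mul_left_cancel e'))
    refine Nat.le_of_mul_le_mul_right ?_ (Nat.card_pos (α := Cσ))
    calc (B₂ u).card * v * Nat.card Cσ = (B₂ u).card * (v * Nat.card Cσ) := by ring
      _ ≤ _ := Nat.mul_le_mul_left _ hCc
      _ ≤ Nat.card G * (S u).card := h1
      _ ≤ _ := Nat.mul_le_mul_left _ hSc
  have hmult : ∀ x ∈ D.biUnion B₂, p ≤ (D.filter fun u => x ∈ B₂ u).card := by
    intro x hx
    obtain ⟨u, hu, hxu⟩ := Finset.mem_biUnion.1 hx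
    obtain ⟨huV, hu1, -⟩ := (Finset.mem_filter.1 hu).2
    obtain ⟨⟨g, z⟩, hz, rfl⟩ := Finset.mem_image.1 hxu
    obtain ⟨y, hy, hzy⟩ := Finset.mem_image.1 (Finset.mem_product.1 hz).2
    obtain ⟨hy1, hy2, hy3⟩ := (Finset.mem_filter.1 hy).2
    have hin : ∀ b : W₂, (b : G) * u * (b : G)⁻¹ ∈ D.filter fun u' => g * z * g⁻¹ ∈ B₂ u' := by
      intro b
      have hbV : (b : G) * u * (b : G)⁻¹ ∈ V := conj_mem_of_le_normalizer h.decomp.normal b.2 huV
      have hbσ : (b : G) * y * (b : G)⁻¹ ∈ sigmaCore T :=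
        conj_mem_of_le_normalizer (le_normalizer_sigmaCore T) (K_le h.decomp b.2) hy1
      refine Finset.mem_filter.2 ⟨Finset.mem_filter.2 ⟨Finset.mem_univ _, hbV,
        fun e => hu1 (conj_eq_one_iff.1 e), _, hbσ, fun e => hy2 (conj_eq_one_iff.1 e),
        comm_conj hy3⟩, ?_⟩
      refine Finset.mem_image.2 ⟨(g * (b : G)⁻¹,
        (b : G) * u * (b : G)⁻¹ * ((b : G) * y * (b : G)⁻¹)), Finset.mem_product.2
          ⟨Finset.mem_univ _, Finset.mem_image.2 ⟨_, Finset.mem_filter.2 ⟨Finset.mem_univ _, hbσ,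
            fun e => hy2 (conj_eq_one_iff.1 e), comm_conj hy3⟩, rfl⟩⟩, ?_⟩
      simp only at hzy ⊢
      rw [← hzy]
      group
    have hinj : Function.Injective (fun b : W₂ => (⟨_, hin b⟩ :
        ↥(D.filter fun u' => g * z * g⁻¹ ∈ B₂ u'))) := by
      intro b c e
      have e' : (b : G) * u * (b : G)⁻¹ = (c : G) * u * (c : G)⁻¹ := congrArg Subtype.val e
      by_contra hne
      refine hu1 (h.fpf hG _ (W₂.mul_mem (inv_mem c.2) b.2) (fun e1 => hne ?_) u huV ?_)
      · exact Subtype.ext (inv_mul_eq_one.1 e1).symm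
      · calc (c : G)⁻¹ * b * u = (c : G)⁻¹ * ((b : G) * u * (b : G)⁻¹) * b := by group
          _ = (c : G)⁻¹ * ((c : G) * u * (c : G)⁻¹) * b := by rw [e']
          _ = _ := by group
    have h2 := Nat.card_le_card_of_injective _ hinj
    rwa [Nat.card_eq_finsetCard] at h2
  have hD3 : 3 * D.card ≤ v := by
    rcases D.eq_empty_or_nonempty with hDe | ⟨u₀, hu₀⟩
    · simp [hDe]
    set X := sigmaA T V \ (sigmaCore T : Set G) with hX
    have hDX : ∀ u ∈ D, u ∈ X := by
      intro u hu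
      obtain ⟨huV, hu1, y, hy, hy1, hc⟩ := (Finset.mem_filter.1 hu).2
      refine ⟨⟨⟨U_le h.decomp huV, y, hy, hy1, hc⟩, Subgroup.mem_sup_left huV⟩, fun hσ => hu1 ?_⟩
      rw [← Subgroup.mem_bot, ← hVσ]
      exact ⟨huV, hσ⟩
    have hTX : ∀ k ∈ T, ∀ a ∈ X, k * a * k⁻¹ ∈ X := by
      intro k hk a ha
      obtain ⟨-, z, hz, hz1, hc⟩ := ha.1.1
      exact ⟨⟨⟨T.mul_mem (T.mul_mem hk ha.1.1.1) (T.inv_mem hk), k * z * k⁻¹,
        conj_mem_of_le_normalizer (le_normalizer_sigmaCore T) hk hz,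
        fun e => hz1 (conj_eq_one_iff.1 e), comm_conj hc⟩,
        conj_mem_of_le_normalizer (sup_sigmaCore_normal F h.coatom h.decomp) hk ha.1.2⟩,
        fun e => ha.2 ((Subgroup.mem_normalizer_iff.1 (le_normalizer_sigmaCore T hk) a).2 e)⟩
    have hNX : Subgroup.normalizer X = T := normalizer_set_eq hG h.coatom (fun a ha => ha.1.1.1) hTX
      (hDX u₀ hu₀) (Finset.mem_filter.1 hu₀).2.2.1
    have hTI := F.s1362 T h.coatom W₂ V h.decomp
    set NN := Subgroup.normalizer (V : Set G) with hNN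
    set N₀ := T.subgroupOf NN with hN₀
    haveI := Fintype.ofFinite (↥NN ⧸ N₀)
    have hidx : 3 ≤ Nat.card (↥NN ⧸ N₀) := by
      have hne : N₀ ≠ ⊤ := fun e => (F.s1363 T h.coatom W₂ V h.decomp h.ne).2
        (Subgroup.subgroupOf_eq_top.1 e)
      have hodd : Odd (Nat.card (↥NN ⧸ N₀)) :=
        (OddSigma.odd_card hG NN).of_dvd_nat (Subgroup.card_quotient_dvd_card N₀)
      have h1 : Nat.card (↥NN ⧸ N₀) ≠ 1 := fun e => hne (Subgroup.index_eq_one.1 e)
      obtain ⟨m, hm⟩ := hodd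
      omega
    have hsub : ((Finset.univ : Finset (↥NN ⧸ N₀)) ×ˢ D).image
        (fun z => ((z.1.out : ↥NN) : G) * z.2 * ((z.1.out : ↥NN) : G)⁻¹) ⊆
        Finset.univ.filter (fun y : G => y ∈ V) := by
      intro y hy
      obtain ⟨⟨c, u⟩, hz, rfl⟩ := Finset.mem_image.1 hy
      exact Finset.mem_filter.2 ⟨Finset.mem_univ _, (Subgroup.mem_normalizer_iff.1 c.out.2 u).1
        (Finset.mem_filter.1 (Finset.mem_product.1 hz).2).2.1⟩
    have hc1 := Finset.card_le_card hsub
    have hVc : (Finset.univ.filter (fun y : G => y ∈ V)).card = v := by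
      rw [← Fintype.card_subtype, ← Nat.card_eq_fintype_card]
    rw [Finset.card_image_of_injOn ?_, Finset.card_product, Finset.card_univ,
      ← Nat.card_eq_fintype_card, hVc] at hc1
    · calc 3 * D.card ≤ Nat.card (↥NN ⧸ N₀) * D.card := Nat.mul_le_mul_right _ hidx
        _ ≤ _ := hc1
    · rintro ⟨c, u⟩ hz ⟨c', u'⟩ hz' e
      simp only [Finset.coe_product, Set.mem_prod, Finset.mem_coe] at hz hz'
      simp only at e
      have hcc : c = c' := by
        set g := ((c'.out : ↥NN) : G)⁻¹ * ((c.out : ↥NN) : G) with hg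
        have e2 : g * u * g⁻¹ = u' := by
          calc g * u * g⁻¹ = ((c'.out : ↥NN) : G)⁻¹ *
                (((c.out : ↥NN) : G) * u * ((c.out : ↥NN) : G)⁻¹) * ((c'.out : ↥NN) : G) := by
                rw [hg]; group
            _ = _ := by rw [e]; group
        have hgT : g ∈ T := by
          by_contra hgT
          exact (Finset.mem_filter.1 hz.2).2.2.1
            (hTI g (fun hgN => hgT (hNX ▸ hgN)) u (hDX u hz.2) (e2.symm ▸ hDX u' hz'.2))
        rw [← QuotientGroup.out_eq' c, ← QuotientGroup.out_eq' c']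
        exact (QuotientGroup.eq.2 (show (c'.out)⁻¹ * c.out ∈ N₀ from hgT)).symm
      subst hcc
      exact Prod.ext rfl (mul_left_cancel (mul_right_cancel e))
  have hB₂U : (D.biUnion B₂).card * (3 * p) ≤ Nat.card G := by
    have h1 := Finset.sum_le_sum hmult
    rw [Finset.sum_const, smul_eq_mul] at h1
    have h2 : ∑ x ∈ D.biUnion B₂, (D.filter fun u => x ∈ B₂ u).card ≤ ∑ u ∈ D, (B₂ u).card := by
      simp only [Finset.card_filter]
      rw [Finset.sum_comm]
      refine Finset.sum_le_sum fun u hu => ?_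
      rw [← Finset.card_filter]
      exact Finset.card_le_card fun x hx => (Finset.mem_filter.1 hx).2
    have h3 : (∑ u ∈ D, (B₂ u).card) * v ≤ D.card * Nat.card G := by
      rw [Finset.sum_mul, ← smul_eq_mul D.card, ← Finset.sum_const]
      exact Finset.sum_le_sum hB₂c
    refine Nat.le_of_mul_le_mul_right ?_ (Nat.card_pos (α := V))
    calc (D.biUnion B₂).card * (3 * p) * v = 3 * ((D.biUnion B₂).card * p * v) := by ring
      _ ≤ 3 * ((∑ u ∈ D, (B₂ u).card) * v) := by
          gcongr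
          exact h1.trans h2
      _ ≤ 3 * (D.card * Nat.card G) := Nat.mul_le_mul_left _ h3
      _ = 3 * D.card * Nat.card G := by ring
      _ ≤ v * Nat.card G := Nat.mul_le_mul_right _ hD3
      _ = _ := mul_comm _ _
  have hcov : s ⊆ B₁ ∪ D.biUnion B₂ := by
    intro x hx
    rcases h.bad_cover hG hM hP (hs x hx).1 (hs x hx).2 with ⟨g, hg, hx1⟩ |
      ⟨g, u, hu, hu1, y, hy, hy1, hc, e⟩
    · refine Finset.mem_union_left _ (Finset.mem_image.2 ⟨(g⁻¹, g * x * g⁻¹), Finset.mem_product.2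
        ⟨Finset.mem_univ _, Finset.mem_filter.2 ⟨Finset.mem_univ _, hg,
          fun e => hx1 (conj_eq_one_iff.1 e)⟩⟩, ?_⟩)
      group
    · refine Finset.mem_union_right _ (Finset.mem_biUnion.2 ⟨u, Finset.mem_filter.2
        ⟨Finset.mem_univ _, hu, hu1, y, hy, hy1, hc⟩, Finset.mem_image.2 ⟨(g⁻¹, u * y),
          Finset.mem_product.2 ⟨Finset.mem_univ _, Finset.mem_image.2 ⟨y, Finset.mem_filter.2
            ⟨Finset.mem_univ _, hy, hy1, hc⟩, rfl⟩⟩, ?_⟩⟩)
      show g⁻¹ * (u * y) * g⁻¹⁻¹ = x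
      rw [← e]
      group
  calc s.card * (3 * p * v)
      ≤ (B₁.card + (D.biUnion B₂).card) * (3 * p * v) :=
        Nat.mul_le_mul_right _ ((Finset.card_le_card hcov).trans (Finset.card_union_le _ _))
    _ = 3 * (B₁.card * (p * v)) + (D.biUnion B₂).card * (3 * p) * v := by ring
    _ ≤ 3 * Nat.card G + Nat.card G * v :=
        Nat.add_le_add (Nat.mul_le_mul_left _ hB₁c) (Nat.mul_le_mul_right _ hB₂U)
    _ = _ := by ring

end Partner10

end Cfsg.Agent.Peterfalvi
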