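import Cfsg.Agent.Lib.Peterfalvi.Sec10Bridge
import Cfsg.Agent.Lib.Peterfalvi.Sec10Partner
import Cfsg.Agent.Lib.Peterfalvi.Sec13.Values
import Cfsg.Agent.Lib.CharApp.Schur
import Cfsg.Agent.Lib.CharApp.Clifford
import Cfsg.Agent.Lib.PSL2.Groups

/-!
# Peterfalvi section 10: orders and counts for (10.8) (owner: helper34)

* `card_dvd_diff` : a group acting freely on `A ∖ B` by conjugation has order dividing `|A| - |B|`
* `four_mul_le_derived` : `|W₂| (4 |W₁| + 1) ≤ |M'|`
* `card_off` : the complement of `Ã₀(M)` is at least `|G| (q - 1) / (p q)`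
* `one_le_norm_rowSum` : the sum of the first column is an odd integer off the order of `W₁`
-/

set_option autoImplicit false

namespace Cfsg.Agent.Peterfalvi

open scoped Pointwise commutatorElement ComplexConjugate
open Cfsg OddMax Cfsg.Agent.Coherence Cfsg.Agent.Char Cfsg.Agent.CyclicTI

universe u

variable {G : Type u} [Group G]

theorem card_dvd_diff [Finite G] {A B W : Subgroup G} (hBA : B ≤ A)
    (hWA : W ≤ Subgroup.normalizer (A : Set G)) (hWB : W ≤ Subgroup.normalizer (B : Set G))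
    (hfree : ∀ w ∈ W, w ≠ 1 → ∀ a ∈ A, w * a = a * w → a ∈ B) :
    Nat.card W ∣ Nat.card A - Nat.card B := by
  classical
  let X := {a : G // a ∈ A ∧ a ∉ B}
  let inst : MulAction W X :=
    { smul := fun w a => ⟨(w : G) * a.1 * (w : G)⁻¹, conj_mem_of_le_normalizer hWA w.2 a.2.1,
        fun e => a.2.2 ((Subgroup.mem_normalizer_iff.1 (hWB w.2) a.1).2 e)⟩
      one_smul := fun a => Subtype.ext (by
        show ((1 : W) : G) * a.1 * ((1 : W) : G)⁻¹ = a.1
        simp)
      mul_smul := fun v w a => Subtype.ext (by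
        show ((v * w : W) : G) * a.1 * ((v * w : W) : G)⁻¹ =
          (v : G) * ((w : G) * a.1 * (w : G)⁻¹) * (v : G)⁻¹
        simp [mul_assoc]) }
  have hX : Nat.card X = Nat.card A - Nat.card B := by
    have e1 : Nat.card {a : A // (a : G) ∈ B} = Nat.card B :=
      Nat.card_congr ⟨fun a => ⟨a.1, a.2⟩, fun b => ⟨⟨b, hBA b.2⟩, b.2⟩, fun _ => rfl, fun _ => rfl⟩
    have e2 : Nat.card {a : A // (a : G) ∉ B} = Nat.card X :=
      Nat.card_congr ⟨fun a => ⟨a.1, a.1.2, a.2⟩, fun a => ⟨⟨a.1, a.2.1⟩, a.2.2⟩, fun _ => rfl,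
        fun _ => rfl⟩
    have h := Nat.card_congr (Equiv.sumCompl fun a : A => (a : G) ∈ B)
    rw [Nat.card_sum, e1, e2] at h
    omega
  rw [← hX]
  refine @PSL2.dvd_card_of_free W _ _ X inst _ fun a w e => ?_
  by_contra hw
  have e' : (w : G) * a.1 * (w : G)⁻¹ = a.1 := congrArg Subtype.val e
  exact a.2.2 (hfree w w.2 (fun h => hw (Subtype.ext h)) a.1 a.2.1 (mul_inv_eq_iff_eq_mul.1 e'))

/-- The derived subgroup of `A` inside a subgroup `M ≥ A`. -/
theorem mem_commutator_subgroupOf {A M : Subgroup G} (hA : A ≤ M) {u : ↥(A.subgroupOf M)}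
    (hu : ((u : ↥M) : G) ∈ ⁅A, A⁆) : u ∈ commutator ↥(A.subgroupOf M) := by
  let f : ↥(A.subgroupOf M) →* G := M.subtype.comp (A.subgroupOf M).subtype
  have hf : Function.Injective f := M.subtype_injective.comp (A.subgroupOf M).subtype_injective
  have hmap : (⊤ : Subgroup ↥(A.subgroupOf M)).map f = A := by
    ext x
    constructor
    · rintro ⟨y, -, rfl⟩
      exact y.2
    · intro hx
      exact ⟨⟨⟨x, hA hx⟩, hx⟩, trivial, rfl⟩
  have h2 : (commutator ↥(A.subgroupOf M)).map f = ⁅A, A⁆ := by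
    rw [commutator_def, Subgroup.map_commutator, hmap]
  obtain ⟨y, hy, hyu⟩ := (Subgroup.mem_map (f := f) (K := commutator ↥(A.subgroupOf M))).1
    (show f u ∈ (commutator ↥(A.subgroupOf M)).map f from h2.symm ▸ hu)
  rwa [hf hyu] at hy

/-- The square of a degree is at most the index of a central subgroup. -/
theorem sq_degree_le_index {X : Type*} [Group X] [Finite X] {χ : X → ℂ}
    (hχ : IsIrrCharacter X χ) {Z : Subgroup X} (hZ : ∀ z ∈ Z, ∀ x : X, x * z = z * x) {d : ℕ}
    (hd : χ 1 = d) : d ^ 2 ≤ Z.index := by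
  classical
  haveI := Fintype.ofFinite X
  haveI := Fintype.ofFinite Z
  haveI : Z.Normal := ⟨fun z hz g => by rwa [hZ z hz g, mul_inv_cancel_right]⟩
  have h1 := CharApp.multiplicity_sq_le_index Z hχ
  rw [classInner_self_eq, Complex.ofReal_re] at h1
  have hnorm : ∀ z : Z, ‖χ z‖ = (d : ℝ) := by
    obtain ⟨n, ρ, hirr, rfl⟩ := hχ
    intro z
    obtain ⟨c, hc⟩ := CharApp.exists_scalar_of_mem_center ρ
      (Subgroup.mem_center_iff.2 fun x => hZ _ z.2 x)
    rw [Representation.char_one] at hd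
    rw [(norm_character_eq_iff ρ (z : X)).2 ⟨c, hc⟩]
    exact_mod_cast hd
  rw [Finset.sum_congr rfl (g := fun _ => (d : ℝ) ^ 2) fun z _ => by rw [hnorm], Finset.sum_const,
    Finset.card_univ, nsmul_eq_mul, ← Nat.card_eq_fintype_card, ← mul_assoc,
    inv_mul_cancel₀ (Nat.cast_ne_zero.2 Nat.card_pos.ne'), one_mul] at h1
  exact_mod_cast h1

theorem odd_int_sum_one {ι : Type*} [DecidableEq ι] (R : Finset ι) {o : ι} (ho : o ∈ R) (a : ι → ℤ)
    (ha : a o = 1) (inv : ι → ι)
    (hinv : ∀ i ∈ R.erase o, inv i ∈ R.erase o ∧ inv i ≠ i ∧ inv (inv i) = i ∧ a (inv i) = a i) :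
    ∑ i ∈ R, a i ≠ 0 := by
  intro hs
  rw [← Finset.add_sum_erase _ _ ho, ha] at hs
  have h2 : (((∑ i ∈ R.erase o, a i : ℤ)) : ZMod 2) = 0 := by
    push_cast
    refine Finset.sum_involution (fun i _ => inv i) ?_ (fun i hi _ => (hinv i hi).2.1)
      (fun i hi => (hinv i hi).1) (fun i hi => (hinv i hi).2.2.1)
    intro i hi
    rw [(hinv i hi).2.2.2]
    exact CharTwo.add_self_eq_zero _
  rw [show (∑ i ∈ R.erase o, a i) = -1 by linarith] at h2
  exact absurd h2 (by decide)

/-- The sum of the first column at an element of order prime to `|W₁|`. -/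
theorem one_le_norm_rowSum [Fintype G] {W₁ W₂ : Subgroup G} (hW : IsSelfNormalizingCyclic W₁ W₂)
    (hodd : Odd (Nat.card ↥(W₁ ⊔ W₂))) {η : (↥(W₁ ⊔ W₂) →* ℂˣ) → G → ℂ}
    (hη : IsCyclicTIFamily W₁ W₂ η) {x : G} (hx : (orderOf x).Coprime (Nat.card W₁)) :
    1 ≤ ‖∑ π ∈ colClass (1 : ↥(W₁ ⊔ W₂) →* ℂˣ), η π x‖ ^ 2 := by
  classical
  have hP := isPair_of_selfNormalizing hW
  set R := colClass (1 : ↥(W₁ ⊔ W₂) →* ℂˣ) with hR
  have htriv : ∀ π ∈ R, ∀ w : ↥(W₁ ⊔ W₂), (w : G) ∈ W₂ → π w = 1 := fun π hπ w hw =>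
    (mem_colClass.1 hπ w hw).trans (MonoidHom.one_apply w)
  have hq : ∀ π ∈ R, orderOf π ∣ Nat.card W₁ := fun π hπ =>
    orderOf_dvd_of_pow_eq_one (Sec13.trivial₂_pow_card hP (htriv π hπ))
  have hco : ∀ π ∈ R, (orderOf x).Coprime (orderOf π) := fun π hπ => hx.coprime_dvd_right (hq π hπ)
  have hint : ∀ π, ∃ n : ℤ, π ∈ R → η π x = n := fun π => by
    by_cases hπ : π ∈ R
    · obtain ⟨n, hn⟩ := Cfsg.Agent.S1508.result W₁ W₂ hW hodd η hη π x (hco π hπ)
      exact ⟨n, fun _ => hn⟩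
    · exact ⟨0, fun e => absurd e hπ⟩
  choose a ha using hint
  have h1R : (1 : ↥(W₁ ⊔ W₂) →* ℂˣ) ∈ R := mem_colClass.2 (sameCol_refl 1)
  have ha1 : a 1 = 1 := by
    have := ha 1 h1R
    rw [hη.map_one] at this
    simp only at this
    exact_mod_cast this.symm
  have hne : ∑ π ∈ R, a π ≠ 0 := by
    refine odd_int_sum_one R h1R a ha1 (fun π => π⁻¹) fun π hπ => ?_
    obtain ⟨hπ1, hπR⟩ := Finset.mem_erase.1 hπ
    have hmem : π⁻¹ ∈ R := mem_colClass.2 fun w hw => by
      rw [MonoidHom.inv_apply, htriv π hπR w hw, inv_one, MonoidHom.one_apply]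
    have hne : π⁻¹ ≠ π := by
      intro e
      refine hπ1 (hP.lin_ext (fun w hw => ?_) fun w hw => by rw [htriv π hπR w hw, MonoidHom.one_apply])
      have h2 : π (w * w) = 1 := by
        rw [map_mul]
        nth_rewrite 1 [← e]
        rw [MonoidHom.inv_apply, inv_mul_cancel]
      have hodd' : Odd (orderOf w) := hodd.of_dvd_nat (orderOf_dvd_natCard w)
      obtain ⟨k, hk⟩ := exists_pow_eq_self_of_coprime (x := w) (n := 2) hodd'.coprime_two_left
      rw [← hk, map_pow, pow_two, h2, one_pow, MonoidHom.one_apply]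
    refine ⟨Finset.mem_erase.2 ⟨fun e => hπ1 (MonoidHom.ext fun w => by
      simpa using DFunLike.congr_fun e w), hmem⟩, hne, inv_inv π, ?_⟩
    have hpos : 1 ≤ orderOf π := orderOf_pos_iff.2 (isOfFinOrder_iff_pow_eq_one.2
      ⟨_, Nat.card_pos, Sec13.trivial₂_pow_card hP (htriv π hπR)⟩)
    have hpow : π ^ (orderOf π - 1) = π⁻¹ := by
      refine MonoidHom.ext fun w => ?_
      rw [MonoidHom.pow_apply, MonoidHom.inv_apply, eq_inv_iff_mul_eq_one, ← pow_succ,
        Nat.sub_add_cancel hpos, ← MonoidHom.pow_apply, pow_orderOf_eq_one, MonoidHom.one_apply]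
    have hi : (orderOf π - 1).Coprime (orderOf π) := by
      obtain ⟨m, hm⟩ : ∃ m, orderOf π = m + 1 := ⟨orderOf π - 1, by omega⟩
      rw [hm, Nat.add_sub_cancel]
      exact Nat.coprime_self_add_right.2 (Nat.coprime_one_right m)
    have hv := Sec13.value_galois hW hodd hη π (hco π hπR) hi
    rw [hpow, ha _ hmem, ha _ hπR] at hv
    exact_mod_cast hv
  rw [Finset.sum_congr rfl fun π hπ => ha π hπ, ← Int.cast_sum, Complex.norm_intCast, sq_abs]
  have : (1 : ℤ) ≤ (∑ π ∈ R, a π) ^ 2 := by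
    nlinarith [Int.one_le_abs hne, abs_mul_abs_self (∑ π ∈ R, a π)]
  exact_mod_cast this

variable [Finite G] (hG : IsMinSimpleOddOrder G) {M W₁ W₂ U : Subgroup G} (hM : IsCoatom M)
  (hP : IsTypePWith M W₁ U W₂) (hnII : ¬ IsOfTypeII M)
include hG hM hP hnII

/-- `p (4 q + 1) ≤ |M'|`. -/
theorem four_mul_le_derived : Nat.card W₂ * (4 * Nat.card W₁ + 1) ≤ Nat.card ↥⁅M, M⁆ := by
  classical
  haveI := Fintype.ofFinite G
  haveI := Fintype.ofFinite ↥M
  have F := OddOrder14.sec16 hG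
  obtain ⟨T, V, hT⟩ := exists_partner10 hG hM hP hnII
  have hp := hT.prime hG
  have hpti := primeTI_of_typeP hG hM hP
  set K := ⁅M, M⁆ with hK
  set L := ⁅K, K⁆ with hL
  set q := Nat.card W₁ with hq
  set p := Nat.card W₂ with hpdef
  have hKsolv : Group.IsSolvable K :=
    Coprime.isSolvable_of_le hpti.K_le (OddSigma.proper_solvable hG hM.1)
  have hLK : L ≤ K := Subgroup.commutator_le_self K
  have hW₂L : W₂ ≤ L := fun u hu => (hP.W₂_le hu).2
  have hW₁K : W₁ ≤ Subgroup.normalizer (K : Set G) :=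
    hpti.W₁_le.trans (le_normalizer_commutator_self M)
  have hW₁L : W₁ ≤ Subgroup.normalizer (L : Set G) := by
    intro w hw
    refine Coprime.mem_normalizer_of_forall fun z hz => ?_
    have h : ⁅MulAut.conj w • K, MulAut.conj w • K⁆ = MulAut.conj w • L :=
      (Subgroup.map_commutator _ _ _).symm
    rw [Coprime.conj_eq_of_mem_normalizer (hW₁K hw)] at h
    rw [← hL] at h
    rw [h]
    exact Coprime.conj_mem_conj.2 hz
  have hW₁W₂ : W₁ ≤ Subgroup.normalizer (W₂ : Set G) := fun w hw =>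
    Coprime.mem_normalizer_of_forall fun z hz => by
      rwa [hpti.isPair.comm w hw z hz, mul_inv_cancel_right]
  have hcent : ∀ w ∈ W₁, w ≠ 1 → ∀ a ∈ K, w * a = a * w → a ∈ W₂ := fun w hw hw1 a ha e => by
    rw [← hP.W₂_centralizer w hw hw1]
    exact ⟨ha, Subgroup.mem_centralizer_singleton_iff.2 e.symm⟩
  have h1 := card_dvd_diff hLK hW₁K hW₁L fun w hw hw1 a ha e => hW₂L (hcent w hw hw1 a ha e)
  have h2 := card_dvd_diff hW₂L hW₁L hW₁W₂ fun w hw hw1 a ha e =>
    hcent w hw hw1 a (hLK ha) e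
  have hcop : (Nat.card K).Coprime q := by
    obtain ⟨U₁, hd, -, -⟩ := exists_decomp_of_typeP hG hM hP
    exact (kappa_basic hG F hM hd hP.W₁_ne).2.2
  set a := L.relIndex K with hadef
  set t := W₂.relIndex L with htdef
  have hKa : Nat.card L * a = Nat.card K := card_mul_relIndex hLK
  have hLt : p * t = Nat.card L := card_mul_relIndex hW₂L
  have hoK := OddSigma.odd_card hG K
  have hao : Odd a := hoK.of_dvd_nat ⟨Nat.card L, by rw [← hKa]; ring⟩
  have hto : Odd t := hoK.of_dvd_nat (dvd_trans ⟨p, by rw [← hLt]; ring⟩ (Subgroup.card_dvd_of_le hLK))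
  have hqo := OddSigma.odd_card hG W₁
  have hq3 : 3 ≤ q := hpti.three_le₁
  have hqa : q ∣ a - 1 := by
    rw [← hKa, show Nat.card L * a - Nat.card L = Nat.card L * (a - 1) by
      rw [Nat.mul_sub, mul_one]] at h1
    exact ((hcop.coprime_dvd_left (Subgroup.card_dvd_of_le hLK)).symm).dvd_of_dvd_mul_left h1
  have hqt : q ∣ t - 1 := by
    rw [← hLt, show p * t - p = p * (t - 1) by rw [Nat.mul_sub, mul_one]] at h2
    exact ((hcop.coprime_dvd_left (Subgroup.card_dvd_of_le (hW₂L.trans hLK))).symm).dvd_of_dvd_mul_left h2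
  have ha1 : 1 < a := by
    rcases Nat.lt_trichotomy a 1 with e | e | e
    · have : a = 0 := by omega
      rw [this, mul_zero] at hKa
      exact absurd hKa.symm Nat.card_pos.ne'
    · exfalso
      rw [e, mul_one] at hKa
      have hLeq : L = K := Subgroup.eq_of_le_of_card_ge hLK hKa.ge
      have hKne : K ≠ ⊥ := fun e' => hpti.ne₂ (le_bot_iff.1 (hpti.W₂_le.trans_eq e'))
      haveI : Nontrivial K := (Subgroup.nontrivial_iff_ne_bot K).2 hKne
      refine (Group.IsSolvable.commutator_lt_top_of_nontrivial K).ne ?_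
      rw [eq_top_iff]
      intro x _
      have hx : (x : G) ∈ L := hLeq.symm ▸ x.2
      rw [hL, ← Subgroup.map_subtype_commutator] at hx
      obtain ⟨y, hy, hyx⟩ := Subgroup.mem_map.1 hx
      rwa [← K.subtype_injective hyx]
    · exact e
  have hev : ∀ {b : ℕ}, Odd b → q ∣ b - 1 → 1 < b → ∃ k, 1 ≤ k ∧ b = 2 * k * q + 1 := by
    intro b hb ⟨k, hk⟩ hb1
    have hk2 : Even k := by
      have h2 : Even (q * k) := by
        rw [← hk]
        obtain ⟨c, hc⟩ := hb
        exact ⟨c, by omega⟩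
      rcases Nat.even_mul.1 h2 with h3 | h3
      · exact absurd h3 (Nat.not_even_iff_odd.2 hqo)
      · exact h3
    obtain ⟨c, rfl⟩ := hk2
    refine ⟨c, by
      by_contra hc
      obtain rfl : c = 0 := by omega
      simp at hk
      omega, ?_⟩
    have : q * (c + c) = 2 * c * q := by ring
    omega
  obtain ⟨k, hk, hka⟩ := hev hao hqa ha1
  rw [← hKa, ← hLt]
  by_cases ht1 : t = 1
  swap
  · have ht0 : t ≠ 0 := fun e => by
      rw [e, mul_zero] at hLt; exact absurd hLt.symm Nat.card_pos.ne'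
    obtain ⟨l, hl, hlt⟩ := hev hto hqt (by omega)
    rw [hka, hlt, mul_assoc p]
    refine Nat.mul_le_mul_left _ ?_
    have h3 : 2 * q + 1 ≤ 2 * l * q + 1 := by nlinarith
    have h4 : 2 * q + 1 ≤ 2 * k * q + 1 := by nlinarith
    calc 4 * q + 1 ≤ (2 * q + 1) * (2 * q + 1) := by nlinarith
      _ ≤ _ := Nat.mul_le_mul h3 h4
  · have hLW : W₂ = L := Subgroup.eq_of_le_of_card_ge hW₂L (by rw [← hLt, ht1, mul_one])
    -- `W₂ = M''` is central in `M'`
    set C := K ⊓ Subgroup.centralizer (W₂ : Set G) with hC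
    have hW₂N : ∀ k ∈ K, ∀ b ∈ W₂, k * b * k⁻¹ ∈ W₂ := by
      intro k hk b hb
      rw [hLW] at hb ⊢
      exact conj_mem_of_le_normalizer (le_normalizer_commutator_self K) hk hb
    have hW₁C : W₁ ≤ Subgroup.normalizer (C : Set G) := fun w hw =>
      Coprime.mem_normalizer_of_forall fun z hz => ⟨conj_mem_of_le_normalizer hW₁K hw hz.1,
        Subgroup.mem_centralizer_iff.2 fun b hb => by
          have e : b * z = z * b := Subgroup.mem_centralizer_iff.1 hz.2 b hb
          have e2 : w * b = b * w := hpti.isPair.comm w hw b hb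
          have e3 : b * w⁻¹ = w⁻¹ * b := by rw [eq_inv_mul_iff_mul_eq, ← mul_assoc, e2, mul_inv_cancel_right]
          calc b * (w * z * w⁻¹) = w * (b * z) * w⁻¹ := by rw [← mul_assoc, ← mul_assoc, ← e2]; group
            _ = w * z * (b * w⁻¹) := by rw [e]; group
            _ = w * z * w⁻¹ * b := by rw [e3]; group⟩
    have hcentral : ∀ k ∈ K, k ∈ Subgroup.centralizer (W₂ : Set G) := by
      intro k hk
      obtain ⟨c, hc, hck⟩ := Coprime.exists_mem_centralizer_of_coset hW₁K hcop.symm (Or.inr hKsolv)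
        (N := C) inf_le_left hW₁C hk fun w hw => by
          refine ⟨K.mul_mem (conj_mem_of_le_normalizer hW₁K hw hk) (inv_mem hk),
            Subgroup.mem_centralizer_iff.2 fun b hb => ?_⟩
          have e0 : k⁻¹ * b * k ∈ W₂ := by
            simpa using hW₂N k⁻¹ (inv_mem hk) b hb
          have e1 : w * (k⁻¹ * b * k) = k⁻¹ * b * k * w := hpti.isPair.comm w hw _ e0
          have e2 : w * b = b * w := hpti.isPair.comm w hw b hb
          calc b * (w * k * w⁻¹ * k⁻¹) = (b * w) * k * w⁻¹ * k⁻¹ := by group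
            _ = (w * b) * k * w⁻¹ * k⁻¹ := by rw [e2]
            _ = w * k * (k⁻¹ * b * k) * w⁻¹ * k⁻¹ := by group
            _ = w * k * w⁻¹ * (w * (k⁻¹ * b * k)) * w⁻¹ * k⁻¹ := by group
            _ = w * k * w⁻¹ * (k⁻¹ * b * k * w) * w⁻¹ * k⁻¹ := by rw [e1]
            _ = w * k * w⁻¹ * k⁻¹ * b := by group
      obtain ⟨w₀, hw₀, hw₀1⟩ := W₁.bot_or_exists_ne_one.resolve_left hpti.ne₁
      have hcW : c ∈ W₂ := hcent w₀ hw₀ hw₀1 c hc.1 (Subgroup.mem_centralizer_iff.1 hc.2 w₀ hw₀)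
      have hcC : c ∈ Subgroup.centralizer (W₂ : Set G) := Subgroup.mem_centralizer_iff.2 fun b hb =>
        congrArg Subtype.val (show (⟨b, hb⟩ : W₂) * ⟨c, hcW⟩ = ⟨c, hcW⟩ * ⟨b, hb⟩ from
          haveI : IsCyclic W₂ := by
            haveI := Fact.mk hp
            exact isCyclic_of_prime_card (p := p) rfl
          IsCyclic.commGroup.mul_comm _ _)
      have := Subgroup.mul_mem _ (inv_mem hck.2) hcC
      simpa [mul_assoc] using this
    obtain ⟨μ, δ, hμ⟩ := exists_muFamily hpti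
    obtain ⟨μ', δ', η', R', h'⟩ := exists_typePChars hG hM hP
    obtain ⟨ω, hω⟩ := h'.dade.exists_not_sameCol_one
    obtain ⟨d, hd⟩ := IsCharacter.exists_degree (IsIrrCharacter.isCharacter (hμ.irr ω))
    have hres := (hμ.resK_facts ω).1
    have hd' : resK M K (μ ω) 1 = d := hd
    have hW₂M : W₂ ≤ M := hpti.W₂_le.trans hpti.K_le
    set Z := (W₂.subgroupOf M).subgroupOf (K.subgroupOf M) with hZ
    have hZc : ∀ z ∈ Z, ∀ x : ↥(K.subgroupOf M), x * z = z * x := fun z hz x =>
      Subtype.ext (Subtype.ext ((Subgroup.mem_centralizer_iff.1 (hcentral _ x.2) _ hz).symm))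
    have hsq := sq_degree_le_index hres hZc hd'
    have hZi : Z.index = a := by
      have e1 : Z.index = W₂.relIndex K := by
        rw [hZ, ← Subgroup.relIndex, Subgroup.relIndex_subgroupOf hpti.K_le]
      rw [e1, hadef, hLW]
    rw [hZi] at hsq
    have hd1 : d ≠ 1 := by
      intro e
      refine hω (hμ.sameCol_one_of_ker fun u hu => ?_)
      have := apply_eq_one_of_commutator (IsIrrCharacter.isCharacter hres) (by rw [hd', e, Nat.cast_one])
        (mem_commutator_subgroupOf hpti.K_le (u := ⟨⟨u, hW₂M hu⟩, hpti.W₂_le hu⟩)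
          (hW₂L hu))
      rw [hd, e, Nat.cast_one]
      exact this
    have hdq : q ≤ d + 1 := by
      obtain ⟨n, hn⟩ := hμ.congr ω
      rw [hd] at hn
      have hd0 : d ≠ 0 := fun e =>
        IsIrrCharacter.apply_one_ne_zero (hμ.irr ω) (by rw [hd, e, Nat.cast_zero])
      obtain ⟨s, hs, hsδ⟩ : ∃ s : ℤ, (s = 1 ∨ s = -1) ∧ δ ω = (s : ℂ) := by
        rcases hμ.sign ω with e | e
        · exact ⟨1, Or.inl rfl, by simp [e]⟩
        · exact ⟨-1, Or.inr rfl, by simp [e]⟩
      rw [hsδ] at hn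
      have hn' : (d : ℤ) - s = n * q := by exact_mod_cast hn
      by_contra hlt
      push Not at hlt
      rcases lt_trichotomy n 0 with e | rfl | e
      · have e2 : n * (q : ℤ) ≤ (-1) * q :=
          mul_le_mul_of_nonneg_right (by omega) (Int.natCast_nonneg q)
        rcases hs with rfl | rfl <;> omega
      · rcases hs with rfl | rfl <;> omega
      · have e2 : 1 * (q : ℤ) ≤ n * q :=
          mul_le_mul_of_nonneg_right (by omega) (Int.natCast_nonneg q)
        rcases hs with rfl | rfl <;> omega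
    have hdo : Odd d := by
      have h3 := IsIrrCharacter.degree_dvd_card hres
      obtain ⟨e, -, he, hdvd⟩ := h3
      obtain rfl : d = e := by exact_mod_cast hd'.symm.trans he
      exact hoK.of_dvd_nat (by
        rwa [Nat.card_congr (Subgroup.subgroupOfEquivOfLe hpti.K_le).toEquiv] at hdvd)
    rw [ht1, mul_one]
    refine Nat.mul_le_mul_left _ ?_
    by_contra hlt
    push Not at hlt
    obtain rfl : k = 1 := by
      by_contra hk1
      have : 2 * 2 * q ≤ 2 * k * q := by gcongr; omega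
      omega
    rcases Nat.lt_or_ge q 5 with h5 | h5
    · have : q = 3 := by obtain ⟨c, hc⟩ := hqo; omega
      have hd3 : 3 ≤ d := by obtain ⟨c, hc⟩ := hdo; omega
      have : 9 ≤ d ^ 2 := by nlinarith
      omega
    · obtain ⟨c, hc⟩ := Nat.exists_eq_add_of_le h5
      have h6 : q - 1 ≤ d := by omega
      have h7 : (q - 1) * (q - 1) ≤ d ^ 2 := by rw [pow_two]; exact Nat.mul_le_mul h6 h6
      rw [hc, show 5 + c - 1 = 4 + c by omega] at h7
      nlinarith

variable [Fintype G]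

/-- The complement of `Ã₀(M)`. -/
theorem card_off [DecidablePred (· ∈ Dade.support (coreA0 M) (supportR M))] :
    Nat.card G * (Nat.card W₁ - 1) ≤
      (Finset.univ.filter fun x : G => x ∉ Dade.support (coreA0 M) (supportR M)).card *
        (Nat.card W₂ * Nat.card W₁) := by
  classical
  haveI := Fintype.ofFinite ↥M
  have F := OddOrder14.sec16 hG
  have hD : DadeHypothesis (coreA0 M) M (supportR M) := dade_hypothesis hG F hM (Or.inr (Or.inr rfl))
  have hpti := primeTI_of_typeP hG hM hP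
  set q := Nat.card W₁ with hq
  set p := Nat.card W₂ with hp
  set A := Finset.univ.filter fun a : ↥M => (a : G) ∈ coreA0 M with hA
  have hsup := card_support hD
  rw [rhoSq_one] at hsup
  set W' := (W₁ ⊔ W₂).subgroupOf M with hW'
  have hWM : W₁ ⊔ W₂ ≤ M := hpti.sup_le
  set Vs := Finset.univ.filter fun w : ↥M =>
    (w : G) ∈ W₁ ⊔ W₂ ∧ (w : G) ∉ W₁ ∧ (w : G) ∉ W₂ with hVs
  set X := (Finset.univ ×ˢ Vs).image (fun z : ↥M × ↥M => z.1 * z.2 * z.1⁻¹) with hX
  have hcomm : ∀ x ∈ W₁ ⊔ W₂, ∀ y ∈ W₁ ⊔ W₂, x * y * x⁻¹ = y := fun x hx y hy => by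
    have := congrArg Subtype.val (hpti.comm ⟨x, hx⟩ ⟨y, hy⟩)
    simp only [Subgroup.coe_mul] at this
    rw [this, mul_inv_cancel_right]
  have hXc := card_conj_mul_le W' Vs fun c hc w hw => by
    have e : c * w * c⁻¹ = w := Subtype.ext (hcomm c hc w (Finset.mem_filter.1 hw).2.1)
    rwa [e]
  have hWc : Nat.card W' = q * p := by
    rw [hW', Nat.card_congr (Subgroup.subgroupOfEquivOfLe hWM).toEquiv, ← Nat.card_prod]
    exact Nat.card_congr hpti.isPair.prodEquiv.symm.toEquiv
  have hVc : Vs.card ≤ (q - 1) * (p - 1) := by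
    have hsub : Vs ⊆ ((Finset.univ.filter fun w : ↥M => (w : G) ∈ W₁ ∧ w ≠ 1) ×ˢ
        (Finset.univ.filter fun w : ↥M => (w : G) ∈ W₂ ∧ w ≠ 1)).image (fun z => z.1 * z.2) := by
      intro w hw
      obtain ⟨hw0, hw1, hw2⟩ := (Finset.mem_filter.1 hw).2
      obtain ⟨a, ha, b, hb, e⟩ := hpti.isPair.exists_mul hw0
      refine Finset.mem_image.2 ⟨(⟨a, hpti.W₁_le ha⟩, ⟨b, hpti.K_le (hpti.W₂_le hb)⟩),
        Finset.mem_product.2 ⟨Finset.mem_filter.2 ⟨Finset.mem_univ _, ha, fun e' => hw2 ?_⟩,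
          Finset.mem_filter.2 ⟨Finset.mem_univ _, hb, fun e' => hw1 ?_⟩⟩, Subtype.ext e⟩
      · have : a = 1 := congrArg Subtype.val e'
        rwa [← e, this, one_mul]
      · have : b = 1 := congrArg Subtype.val e'
        rwa [← e, this, mul_one]
    refine (Finset.card_le_card hsub).trans (Finset.card_image_le.trans ?_)
    rw [Finset.card_product]
    have key : ∀ H : Subgroup G, H ≤ M →
        (Finset.univ.filter fun w : ↥M => (w : G) ∈ H ∧ w ≠ 1).card = Nat.card H - 1 := by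
      intro H hH
      rw [← Nat.card_congr (Subgroup.subgroupOfEquivOfLe hH).toEquiv,
        Nat.card_eq_fintype_card, ← Finset.card_univ,
        ← Finset.card_erase_of_mem (Finset.mem_univ (1 : H.subgroupOf M))]
      refine Finset.card_bij (fun w hw => ⟨w, (Finset.mem_filter.1 hw).2.1⟩) (fun w hw => ?_)
        (fun a _ b _ e => congrArg Subtype.val e) fun b hb => ⟨b.1, ?_, rfl⟩
      · exact Finset.mem_erase.2 ⟨fun e => (Finset.mem_filter.1 hw).2.2 (congrArg Subtype.val e),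
          Finset.mem_univ _⟩
      · exact Finset.mem_filter.2 ⟨Finset.mem_univ _, b.2,
          fun e => (Finset.mem_erase.1 hb).1 (Subtype.ext e)⟩
    rw [key W₁ hpti.W₁_le, key W₂ (hpti.W₂_le.trans hpti.K_le)]
  set Y := Finset.univ.filter fun a : ↥M => (a : G) ∈ ⁅M, M⁆ with hY
  have hAsub : A ⊆ Y ∪ X := by
    intro a ha
    have ha' := (Finset.mem_filter.1 ha).2
    rw [coreA0_eq_a0Set hG hM hP] at ha'
    rcases ha' with h1 | ⟨x, hx, w, hw, h1, h2, e⟩
    · exact Finset.mem_union_left _ (Finset.mem_filter.2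
        ⟨Finset.mem_univ _, (coreA_subset_derived hG hM hP _ h1).1⟩)
    · exact Finset.mem_union_right _ (Finset.mem_image.2 ⟨(⟨x, hx⟩, ⟨w, hWM hw⟩),
        Finset.mem_product.2 ⟨Finset.mem_univ _, Finset.mem_filter.2 ⟨Finset.mem_univ _, hw, h1, h2⟩⟩,
        Subtype.ext e.symm⟩)
  have hYc : Y.card * q = Nat.card ↥M := by
    have e : Y.card = Nat.card (⁅M, M⁆.subgroupOf M) := by
      rw [hY, ← Fintype.card_subtype, ← Nat.card_eq_fintype_card]
      rfl
    rw [e, ← Subgroup.card_mul_index (⁅M, M⁆.subgroupOf M), hpti.index_K]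
  have hAc : A.card * (p * q) ≤ Nat.card ↥M * (p + (q - 1) * (p - 1)) := by
    calc A.card * (p * q) ≤ (Y.card + X.card) * (p * q) :=
          Nat.mul_le_mul_right _ ((Finset.card_le_card hAsub).trans (Finset.card_union_le _ _))
      _ = Y.card * q * p + X.card * (q * p) := by ring
      _ ≤ Nat.card ↥M * p + Nat.card ↥M * ((q - 1) * (p - 1)) := by
          rw [hYc]
          refine Nat.add_le_add le_rfl ?_
          rw [← hWc]
          exact hXc.trans (Nat.mul_le_mul_left _ hVc)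
      _ = _ := by ring
  have hsplit := Finset.card_filter_add_card_filter_not (s := (Finset.univ : Finset G))
    (fun x => x ∈ Dade.support (coreA0 M) (supportR M))
  rw [Finset.card_univ, ← Nat.card_eq_fintype_card] at hsplit
  set S := (Finset.univ.filter (· ∈ Dade.support (coreA0 M) (supportR M))).card
  have hS : S * Nat.card ↥M = A.card * Nat.card G := by
    rw [eq_div_iff (Nat.cast_ne_zero.2 Nat.card_pos.ne'), mul_assoc,
      inv_mul_eq_iff_eq_mul₀ (Nat.cast_ne_zero.2 Nat.card_pos.ne'), mul_comm (Nat.card G : ℝ)] at hsup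
    exact_mod_cast hsup
  have hSpq : S * (p * q) ≤ Nat.card G * (p + (q - 1) * (p - 1)) := by
    refine Nat.le_of_mul_le_mul_right ?_ (Nat.card_pos (α := ↥M))
    calc S * (p * q) * Nat.card ↥M = S * Nat.card ↥M * (p * q) := by ring
      _ = Nat.card G * (A.card * (p * q)) := by rw [hS]; ring
      _ ≤ _ := Nat.mul_le_mul_left _ hAc
      _ = _ := by ring
  have hid : q - 1 + (p + (q - 1) * (p - 1)) = p * q := by
    obtain ⟨a, ha⟩ : ∃ a, q = a + 1 := ⟨q - 1, by have := hpti.three_le₁; omega⟩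
    obtain ⟨b, hb⟩ : ∃ b, p = b + 1 := ⟨p - 1, by have := hpti.three_le₂; omega⟩
    rw [ha, hb, Nat.add_sub_cancel, Nat.add_sub_cancel]
    ring
  set O := (Finset.univ.filter fun x => x ∉ Dade.support (coreA0 M) (supportR M)).card
  have h8 : Nat.card G * (q - 1) + Nat.card G * (p + (q - 1) * (p - 1)) =
      S * (p * q) + O * (p * q) := by
    rw [← Nat.mul_add, hid, ← Nat.add_mul, hsplit]
  omega

end Cfsg.Agent.Peterfalvi
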