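import Cfsg.Agent.Lib.Peterfalvi.Sec9Interface

/-!
# Peterfalvi section 11: interface (owner: helper43)

* `NonCoherence G` : (10.8) for Types III and IV, an input of section 11
* `DerivedSystem G` : the coherence system of (5.7) on all of `S(M')`, an input of section 11
* `Sec11Facts G` : the results of section 11 for a maximal subgroup of Type III or IV, that is
  `Hyp9 M W₁ U W₂` without `IsOfTypeII M`; with `p = |W₂|` and `q = |W₁|` they say that `H` is
  elementary abelian of order `p ^ q`, `M'' = H C`, `C = U'` and `p < q`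
-/

set_option autoImplicit false

namespace Cfsg.Agent.Peterfalvi

open scoped Pointwise commutatorElement
open Cfsg OddMax

universe u

variable {G : Type u} [Group G]

/-- (10.8) for Types III and IV: the functions induced from the non-principal irreducible
characters of `M'` are not coherent. -/
def NonCoherence (G : Type u) [Group G] [Fintype G] : Prop :=
  ∀ M W₁ U W₂ : Subgroup G, Hyp9 M W₁ U W₂ → ¬ IsOfTypeII M → ∀ [Fintype ↥M],
    ¬ IsCoherent (inducedIrrAbove (derivedIn M) ⊥) {1}ᶜ (dadeIsometry (coreA0 M) M (supportR M))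

/-- (5.7) for Types III and IV: the same set carries a coherence system. -/
def DerivedSystem (G : Type u) [Group G] [Fintype G] : Prop :=
  ∀ M W₁ U W₂ : Subgroup G, Hyp9 M W₁ U W₂ → ¬ IsOfTypeII M → ∀ [Fintype ↥M],
    ∃ R, IsCoherenceSystem (inducedIrrAbove (derivedIn M) ⊥)
      (dadeIsometry (coreA0 M) M (supportR M)) R

/-- The results of section 11. -/
structure Sec11Facts (G : Type u) [Group G] [Fintype G] : Prop where
  /-- (11.5) -/
  derived_two : ∀ M W₁ U W₂ H₀ : Subgroup G, Hyp9 M W₁ U W₂ → IsChiefKernel M U H₀ →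
    ¬ IsOfTypeII M →
    ⁅⁅M, M⁆, ⁅M, M⁆⁆ = fittingHallOf M ⊔ stabC M U H₀ ∧ stabC M U H₀ = ⁅U, U⁆
  /-- (11.6)-(11.7): `H` is elementary abelian of order `p ^ q` -/
  kernel_trivial : ∀ M W₁ U W₂ H₀ : Subgroup G, Hyp9 M W₁ U W₂ → IsChiefKernel M U H₀ →
    ¬ IsOfTypeII M →
    H₀ = ⊥ ∧ (Nat.card W₂).Prime ∧
      Nat.card (fittingHallOf M) = Nat.card W₂ ^ Nat.card W₁ ∧
      IsElementaryAbelian (Nat.card W₂) (fittingHallOf M)
  /-- (11.9)(b): `p < q` -/
  card_lt : ∀ M W₁ U W₂ : Subgroup G, Hyp9 M W₁ U W₂ → ¬ IsOfTypeII M →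
    Nat.card W₂ < Nat.card W₁

end Cfsg.Agent.Peterfalvi
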