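import Cfsg.Agent.Lib.Peterfalvi.Sec5TypeP
import Cfsg.Agent.Lib.Peterfalvi.Sec11Interface

/-!
# Peterfalvi section 10: the set `S(M')` for Types III, IV, V (owner: helper34)

* `derived_eq_sigmaCore` : `M' = M_σ` for a subgroup of type P not of Type II
* `inducedIrrAbove_eq_seqIndD`, `derivedSystem` : the coherence system on `S(M')`
-/

set_option autoImplicit false

namespace Cfsg.Agent.Peterfalvi

open scoped Pointwise commutatorElement ComplexConjugate
open Cfsg OddMax Cfsg.Agent.Coherence Cfsg.Agent.Char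

universe u

variable {G : Type u} [Group G]

theorem eq_one_of_const {X : Type*} [Group X] [Finite X] {θ : X → ℂ} (hθ : IsIrrCharacter X θ)
    (h : ∀ x, θ x = θ 1) : θ = fun _ => 1 := by
  haveI := Fintype.ofFinite X
  by_contra hne
  have h0 := classInner_irr_of_ne hθ (isIrrCharacter_one (G := X)) hne
  rw [classInner, Finset.sum_congr rfl (g := fun _ : X => θ 1) (fun a _ => by simp [h a]),
    Finset.sum_const, Finset.card_univ, nsmul_eq_mul, Nat.card_eq_fintype_card, ← mul_assoc,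
    inv_mul_cancel₀ (Nat.cast_ne_zero.2 Fintype.card_ne_zero), one_mul] at h0
  exact IsIrrCharacter.apply_one_ne_zero hθ h0

variable [Finite G]

theorem derived_eq_sigmaCore (hG : IsMinSimpleOddOrder G) {M W₁ U W₂ : Subgroup G}
    (hM : IsCoatom M) (hP : IsTypePWith M W₁ U W₂) (hnII : ¬ IsOfTypeII M) :
    ⁅M, M⁆ = sigmaCore M := by
  have F := OddOrder14.sec16 hG
  obtain ⟨U₁, hd, -, hM'⟩ := exists_decomp_of_typeP hG hM hP
  have hU : U₁ = ⊥ := by
    by_contra hU
    exact hnII ((typeII_iff hG F hM hd).2 ⟨hP.W₁_ne, hU⟩)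
  rw [hM', hU, bot_sup_eq]

omit [Finite G] in
/-- If `M' ≤ N`, every nonprincipal irreducible character of `M'` has `N` outside its kernel. -/
theorem inducedIrrAbove_eq_seqIndD [Finite G] {M N : Subgroup G} [Fintype ↥M]
    (hN : ⁅M, M⁆ ≤ N) : inducedIrrAbove (derivedIn M) ⊥ = seqIndD M N ⊥ := by
  ext φ
  constructor
  · rintro ⟨θ, hθ, hne, h0, rfl⟩
    refine ⟨θ, ⟨hθ, fun a ha => h0 a ?_, ?_⟩, rfl⟩
    · rw [Subgroup.mem_bot] at ha ⊢
      exact Subtype.ext ha
    · by_contra hall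
      push Not at hall
      exact hne (eq_one_of_const hθ fun a => hall a (hN a.2))
  · rintro ⟨θ, ⟨hθ, h0, a, -, ha⟩, rfl⟩
    refine ⟨θ, hθ, fun e => ha (by rw [e]), fun b hb => h0 b ?_, rfl⟩
    rw [Subgroup.mem_bot] at hb ⊢
    exact congrArg Subtype.val hb

/-- (5.7) on `S(M')` for Types III, IV and V. -/
theorem exists_derived_system [Fintype G] (hG : IsMinSimpleOddOrder G) {M W₁ U W₂ : Subgroup G}
    [Fintype ↥M] (hM : IsCoatom M) (hP : IsTypePWith M W₁ U W₂) (hnII : ¬ IsOfTypeII M) :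
    ∃ R, IsCoherenceSystem (inducedIrrAbove (derivedIn M) ⊥)
      (dadeIsometry (coreA0 M) M (supportR M)) R := by
  obtain ⟨μ, δ, η, R, h⟩ := exists_typePChars hG hM hP
  refine ⟨R, ?_⟩
  rw [inducedIrrAbove_eq_seqIndD (derived_eq_sigmaCore hG hM hP hnII).le]
  exact h.sys

/-- The input of section 11. -/
theorem derivedSystem [Fintype G] (hG : IsMinSimpleOddOrder G) : DerivedSystem G :=
  fun _ _ _ _ h9 hnII => by
    intro
    exact exists_derived_system hG h9.coatom h9.data hnII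

end Cfsg.Agent.Peterfalvi
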