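import Cfsg.Agent.Lib.Peterfalvi.Sec10NonCoherence

/-!
# Peterfalvi (10.10), (10.11): no subgroup of Type V; the pair (owner: helper34)

* `TypeVCoherent G` : the coherence half of (10.10)
* `not_typeII_of_U_bot` : data with `U = 1` is not of Type II
* `noTypeV_of` : given `TypeVCoherent G`, no maximal subgroup is of Type V
* `type_of_typeP`, `hyp9_of_typeP` : without Type V every type P data is of Type II, III or IV
* `pair_facts` : (10.11) for a pair
-/

set_option autoImplicit false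

namespace Cfsg.Agent.Peterfalvi

open scoped Pointwise commutatorElement
open Cfsg OddMax

universe u

variable {G : Type u} [Group G]

/-- The coherence half of (10.10). -/
def TypeVCoherent (G : Type u) [Group G] [Fintype G] : Prop :=
  ∀ (M W₁ U W₂ : Subgroup G) [Fintype ↥M], IsCoatom M → IsTypePWith M W₁ U W₂ → U = ⊥ →
    ( IsTISubset (fittingHallOf M : Set G) ∨
      (∃ p : ℕ, p.Prime ∧ p ∣ Nat.card (fittingHallOf M) ∧ Nat.card W₁ ∣ p - 1 ∧
        IsCyclic (pPrimeCore p (fittingHallOf M))) ∨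
      (∃ p : ℕ, p.Prime ∧ p ∣ Nat.card (fittingHallOf M) ∧
        Nat.card (pCore p (fittingHallOf M)) = p ^ 3 ∧
        Nat.card W₁ ∣ p + 1 ∧ IsCyclic (pPrimeCore p (fittingHallOf M))) ) →
    IsCoherent (inducedIrrAbove (derivedIn M) ⊥) {1}ᶜ (dadeIsometry (coreA0 M) M (supportR M))

theorem not_typeII_of_U_bot [Finite G] {M W₁ U W₂ : Subgroup G} (hP : IsTypePWith M W₁ U W₂)
    (hU : U = ⊥) : ¬ IsOfTypeII M := by
  rintro ⟨V₁, U', V₂, hP', hU', -⟩
  refine hU' (Subgroup.card_eq_one.1 ?_)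
  have h := (compl_card hP.U_compl).trans (compl_card hP'.U_compl).symm
  rw [hU, Subgroup.card_bot] at h
  exact (Nat.eq_of_mul_eq_mul_left Nat.card_pos h).symm

/-- Peterfalvi (10.10), given the coherence half. -/
theorem noTypeV_of [Fintype G] (hG : IsMinSimpleOddOrder G) (hC : TypeVCoherent G) :
    ∀ N : Subgroup G, IsCoatom N → ¬ IsOfTypeV N := by
  rintro M hM ⟨W₁, U, W₂, hP, hU, hcase⟩
  haveI := Fintype.ofFinite ↥M
  exact not_coherent_of_typeP hG hM hP (not_typeII_of_U_bot hP hU) (hC M W₁ U W₂ hM hP hU hcase)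

variable [Finite G]

/-- Without Type V, data of type P are of Type II, III or IV. -/
theorem type_of_typeP (hG : IsMinSimpleOddOrder G)
    (hV : ∀ N : Subgroup G, IsCoatom N → ¬ IsOfTypeV N) {M W₁ U W₂ : Subgroup G} (hM : IsCoatom M)
    (hP : IsTypePWith M W₁ U W₂) : IsOfTypeII M ∨ IsOfTypeIII M ∨ IsOfTypeIV M := by
  have F := OddOrder14.sec16 hG
  obtain ⟨U₁, hd, -, -⟩ := exists_decomp_of_typeP hG hM hP
  by_cases hU : U₁ = ⊥
  · by_cases heq : fittingHallOf M = sigmaCore M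
    · exact absurd (isOfTypeV_of hG F hM hd hP.W₁_ne hU heq) (hV M hM)
    · exact Or.inr (isOfTypeIII_or_IV_of hG F hM hd heq)
  · exact Or.inl (isOfTypeII_of hG F hM hd hP.W₁_ne hU)

theorem hyp9_of_typeP (hG : IsMinSimpleOddOrder G)
    (hV : ∀ N : Subgroup G, IsCoatom N → ¬ IsOfTypeV N) {M W₁ U W₂ : Subgroup G} (hM : IsCoatom M)
    (hP : IsTypePWith M W₁ U W₂) : Hyp9 M W₁ U W₂ :=
  hyp9_of_type hM hP (type_of_typeP hG hV hM hP)

/-- Peterfalvi (10.11) for a pair. -/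
theorem pair_facts (hG : IsMinSimpleOddOrder G)
    (hV : ∀ N : Subgroup G, IsCoatom N → ¬ IsOfTypeV N) {S T W₁ W₂ U V : Subgroup G}
    (hS : IsCoatom S) (hT : IsCoatom T) (hSP : IsTypePWith S W₁ U W₂)
    (hTP : IsTypePWith T W₂ V W₁) :
    Hyp9 S W₁ U W₂ ∧ Hyp9 T W₂ V W₁ ∧ (Nat.card W₁).Prime ∧ (Nat.card W₂).Prime :=
  ⟨hyp9_of_typeP hG hV hS hSP, hyp9_of_typeP hG hV hT hTP,
    (hyp9_of_typeP hG hV hS hSP).prime, (hyp9_of_typeP hG hV hT hTP).prime⟩

end Cfsg.Agent.Peterfalvi
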