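import Cfsg.Agent.Lib.Peterfalvi.Sec10Count

/-!
# Peterfalvi (10.8): for a subgroup of type P not of Type II the set `S(M')` is not coherent
(owner: helper34)

* `not_coherent_of_typeP` : for any data of Types III, IV or V
* `nonCoherence` : the input `NonCoherence G` of section 11
-/

set_option autoImplicit false

namespace Cfsg.Agent.Peterfalvi

open scoped Pointwise commutatorElement
open Cfsg OddMax

universe u

variable {G : Type u} [Group G]

/-- Peterfalvi (10.8). -/
theorem not_coherent_of_typeP [Fintype G] (hG : IsMinSimpleOddOrder G) {M W₁ U W₂ : Subgroup G}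
    [Fintype ↥M] (hM : IsCoatom M) (hP : IsTypePWith M W₁ U W₂) (hnII : ¬ IsOfTypeII M) :
    ¬ IsCoherent (inducedIrrAbove (derivedIn M) ⊥) {1}ᶜ
      (dadeIsometry (coreA0 M) M (supportR M)) := by
  classical
  intro hcoh
  have F := OddOrder14.sec16 hG
  have hpti := primeTI_of_typeP hG hM hP
  obtain ⟨η, ψ, hη, -, hval, hsum⟩ := exists_bridge hG hM hP hnII hcoh
  obtain ⟨T, V, hT⟩ := exists_partner10 hG hM hP hnII
  have hp := hT.prime hG
  have hv := hT.two_mul_lt hG
  have hoff := card_off hG hM hP hnII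
  set N := Nat.card G with hN
  set q := Nat.card W₁ with hq
  set p := Nat.card W₂ with hpdef
  set v := Nat.card V with hvdef
  set O := Finset.univ.filter fun x : G => x ∉ Dade.support (coreA0 M) (supportR M) with hO
  set Gd := O.filter fun x => (orderOf x).Coprime q with hGd
  set Bd := O.filter fun x => ¬ (orderOf x).Coprime q with hBd
  have hsplit : Gd.card + Bd.card = O.card := Finset.card_filter_add_card_filter_not _
  have hbad : Bd.card * (3 * p * v) ≤ N * (3 + v) := hT.card_bad hG hM hP Bd fun x hx => by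
    obtain ⟨h1, h2⟩ := Finset.mem_filter.1 hx
    exact ⟨(Finset.mem_filter.1 h1).2, h2⟩
  have hMK : Nat.card ↥M = q * Nat.card ↥⁅M, M⁆ := by
    rw [← compl_card hP.W₁_compl, hq, mul_comm]
  have hgood : Gd.card * Nat.card ↥⁅M, M⁆ ≤ N * q := by
    have h1 : (Gd.card : ℝ) ≤ (N : ℝ) * (q : ℝ) ^ 2 / (Nat.card ↥M : ℝ) := by
      refine le_trans ?_ hsum
      rw [Finset.card_eq_sum_ones, Nat.cast_sum]
      refine le_trans (Finset.sum_le_sum fun x hx => ?_)
        (Finset.sum_le_sum_of_subset_of_nonneg (Finset.filter_subset _ _)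
          fun _ _ _ => sq_nonneg _)
      obtain ⟨h1, h2⟩ := Finset.mem_filter.1 hx
      rw [hval x (Finset.mem_filter.1 h1).2, Nat.cast_one]
      exact one_le_norm_rowSum hP.selfNormalizing (OddSigma.odd_card hG _) hη h2
    rw [le_div_iff₀ (Nat.cast_pos.2 Nat.card_pos)] at h1
    have h2 : Gd.card * Nat.card ↥M ≤ N * q ^ 2 := by exact_mod_cast h1
    rw [hMK] at h2
    refine Nat.le_of_mul_le_mul_right ?_ (Nat.card_pos (α := W₁))
    calc Gd.card * Nat.card ↥⁅M, M⁆ * Nat.card W₁ = Gd.card * (q * Nat.card ↥⁅M, M⁆) := by ring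
      _ ≤ N * q ^ 2 := h2
      _ = N * q * Nat.card W₁ := by rw [← hq]; ring
  have hgood' : Gd.card * (p * (4 * q + 1)) ≤ N * q :=
    (Nat.mul_le_mul_left _ (four_mul_le_derived hG hM hP hnII)).trans hgood
  -- the inequality
  have hmain : (q - 1) * (3 * v) * (4 * q + 1) ≤ 3 * v * q * q + q * (3 + v) * (4 * q + 1) := by
    refine Nat.le_of_mul_le_mul_left ?_ (show 0 < N from Nat.card_pos)
    calc N * ((q - 1) * (3 * v) * (4 * q + 1)) = N * (q - 1) * (3 * v * (4 * q + 1)) := by ring
      _ ≤ O.card * (p * q) * (3 * v * (4 * q + 1)) := Nat.mul_le_mul_right _ hoff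
      _ = Gd.card * (p * (4 * q + 1)) * (3 * v * q) +
          Bd.card * (3 * p * v) * (q * (4 * q + 1)) := by rw [← hsplit]; ring
      _ ≤ N * q * (3 * v * q) + N * (3 + v) * (q * (4 * q + 1)) :=
          Nat.add_le_add (Nat.mul_le_mul_right _ hgood') (Nat.mul_le_mul_right _ hbad)
      _ = _ := by ring
  have hq3 : 3 ≤ q := hpti.three_le₁
  have hp3 : 3 ≤ p := hpti.three_le₂
  have hqo : Odd q := OddSigma.odd_card hG W₁
  obtain ⟨a, ha⟩ : ∃ a, q = a + 1 := ⟨q - 1, by omega⟩
  rcases Nat.lt_or_ge q 5 with h5 | h5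
  · have hq' : q = 3 := by obtain ⟨c, hc⟩ := hqo; omega
    have hp' : p ≠ 3 := by
      obtain ⟨U₁, hd, -, -⟩ := exists_decomp_of_typeP hG hM hP
      have hc := ((kappa_basic hG F hM hd hP.W₁_ne).2.2).coprime_dvd_left
        (Subgroup.card_dvd_of_le (typeP_W₂_le hP))
      rw [← hq, ← hpdef, hq'] at hc
      intro e
      rw [e] at hc
      exact absurd hc (by decide)
    have hpo : Odd p := OddSigma.odd_card hG W₂
    have : 5 ≤ p := by obtain ⟨c, hc⟩ := hpo; omega
    rw [hq'] at hmain
    omega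
  · have hv7 : 7 ≤ v := by omega
    obtain ⟨b, hb⟩ := Nat.exists_eq_add_of_le h5
    obtain ⟨c, hc⟩ := Nat.exists_eq_add_of_le hv7
    rw [hb, hc, show 5 + b - 1 = 4 + b by omega] at hmain
    nlinarith [Nat.zero_le (b * b * c), Nat.zero_le (b * c), Nat.zero_le (b * b), Nat.zero_le b,
      Nat.zero_le c]

/-- The input of section 11. -/
theorem nonCoherence [Fintype G] (hG : IsMinSimpleOddOrder G) : NonCoherence G :=
  fun _ _ _ _ h9 hnII => by
    intro
    exact not_coherent_of_typeP hG h9.coatom h9.data hnII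

end Cfsg.Agent.Peterfalvi
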