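import Cfsg.Agent.Lib.Peterfalvi.Frozen
import Cfsg.Agent.Lib.Peterfalvi.DadeMap
import Cfsg.Agent.Lib.Coherence.TIFN
import Cfsg.Agent.Lib.CharApp.PermLemma
import Cfsg.Agent.Lib.Frobenius.Structure
import Cfsg.Agent.Lib.OddOrder.UniqueBasic
import Cfsg.Agent.S1500
import Cfsg.Agent.S1501
import Cfsg.Agent.S1514
import Cfsg.Agent.S1521
import Cfsg.Agent.S1524

/-!
# Type I maximal subgroups of Frobenius kind: coherence (owner: helper34)

* `typeI_frobenius_coherent_of_dade` : statement 1542 from the Dade hypothesis on `typeA L`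
* `typeI_frobenius_coherent` : statement 1542 from `Sec16Facts`
-/

set_option autoImplicit false
set_option linter.unusedSectionVars false

namespace Cfsg.Agent.Peterfalvi

open scoped Pointwise commutatorElement
open Cfsg OddMax Cfsg.Agent.Coherence Cfsg.Agent.Char

universe u

variable {G : Type u} [Group G] [Fintype G]

section Generic

variable {A : Set G} {L : Subgroup G} {R : G → Subgroup G}

theorem indFun_ti {T : Set G} (hTI : IsTISubset T) (hN : Subgroup.normalizer T = L) [Fintype L]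
    {α : L → ℂ} (hα : IsClassFunction L α) (hαT : ∀ x : L, (x : G) ∉ T → α x = 0)
    (t : L) (ht : (t : G) ∈ T) (ht1 : t ≠ 1) : indFun L α t = α t := by
  subst hN
  exact indFun_eq_on_ti T hTI hα hαT t ht ht1

/-- On functions supported in a TI subset, the Dade map is induction. -/
theorem dade_eq_indFun (hD : DadeHypothesis A L R) [Fintype L] {T : Set G}
    (hTI : IsTISubset T) (hN : Subgroup.normalizer T = L) (hAT : A ⊆ T)
    (hR : ∀ a ∈ A, R a = ⊥) {α : L → ℂ} (hα : IsClassFunction L α)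
    (hαA : ∀ x : L, (x : G) ∉ A → α x = 0) : dadeIsometry A L R α = indFun L α := by
  classical
  funext g
  by_cases hg : g ∈ Dade.support A R
  · obtain ⟨a, ha, u, hu, x, hx⟩ := hg
    have hu1 : u = 1 := by rwa [hR a ha, Subgroup.mem_bot] at hu
    rw [Dade.dadeIsometry_apply hD hα ⟨a, hD.subset ha⟩ ha hu hx]
    have h1 : indFun L α (x * g * x⁻¹) = indFun L α g := indFun_isClassFunction L α g x
    rw [← h1, hx, hu1, mul_one]
    exact (indFun_ti hTI hN hα (fun y hy => hαA y fun h => hy (hAT h)) ⟨a, hD.subset ha⟩ (hAT ha)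
      (fun e => hD.one_not_mem (by
        have e' : a = 1 := congrArg Subtype.val e
        rwa [← e']))).symm
  · rw [Dade.dadeIsometry_eq_zero hD hg, indFun, Finset.sum_eq_zero, mul_zero]
    intro y _
    unfold extendByZero
    by_cases h : ∃ z : L, (z : G) = y⁻¹ * g * y
    · obtain ⟨z, hz⟩ := h
      rw [← hz, Subtype.val_injective.extend_apply]
      exact hαA z fun hA => hg ⟨z, hA, 1, Subgroup.one_mem _, y⁻¹, by rw [hz]; group⟩
    · rw [Function.extend_apply' _ _ _ h]; rfl

theorem coherent_congr {Λ : Type u} [Group Λ] [Fintype Λ] {S : Set (Λ → ℂ)} {B : Set Λ}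
    {τ τ' : (Λ → ℂ) → (G → ℂ)} (h : ∀ α ∈ zspanOn S B, τ α = τ' α)
    (hc : IsCoherent S B τ) : IsCoherent S B τ' := by
  obtain ⟨hne, τ₁, h1, h2⟩ := hc
  exact ⟨hne, τ₁, h1, fun α hα => (h2 α hα).trans (h α hα)⟩

end Generic

variable (hG : IsMinSimpleOddOrder G) {L : Subgroup G} [Fintype L] (hL : IsCoatom L)
  (hI : IsOfTypeI L)
  (hfrob : ∀ x ∈ fittingHallOf L, x ≠ 1 →
    L ⊓ Subgroup.centralizer ({x} : Set G) ≤ fittingHallOf L)

theorem mem_fittingHallOf_coe {x : L} : (x : G) ∈ fittingHallOf L ↔ x ∈ fittingHall L :=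
  ⟨fun h => (Subgroup.mem_map_iff_mem L.subtype_injective).1 h, fun h => Subgroup.mem_map_of_mem _ h⟩

include hfrob in
theorem frobK_fittingHall : FrobK (fittingHall L) := by
  intro h hh h1 x hx
  rw [Subgroup.mem_centralizer_singleton_iff] at hx
  refine mem_fittingHallOf_coe.1 (hfrob h (mem_fittingHallOf_coe.2 hh)
    (fun e => h1 (Subtype.ext e)) ⟨x.2, ?_⟩)
  exact Subgroup.mem_centralizer_singleton_iff.2 (congrArg Subtype.val hx)

include hI hfrob in
theorem typeA_eq_kernel : typeA L = (fittingHallOf L : Set G) \ {1} := by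
  rw [typeA, if_pos hI]
  ext a
  constructor
  · rintro ⟨haL, ha1, x, hx, hx1, hc⟩
    exact ⟨hfrob x hx hx1 ⟨haL, Subgroup.mem_centralizer_singleton_iff.2 hc⟩, ha1⟩
  · rintro ⟨ha, ha1⟩
    exact ⟨Subgroup.map_subtype_le _ ha, ha1, a, ha, ha1, rfl⟩

include hI hfrob in
theorem zspanOn_kernel {α : L → ℂ}
    (hα : α ∈ zspanOn (inducedIrrAbove (fittingHall L) ⊥) {1}ᶜ) :
    IsClassFunction L α ∧ IsGeneralizedCharacter L α ∧
      ∀ x : L, (x : G) ∉ typeA L → α x = 0 := by
  have key : IsClassFunction L α ∧ ∀ x : L, x ∉ fittingHall L → α x = 0 := by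
    refine zspan_induction (P := fun β : L → ℂ =>
        IsClassFunction L β ∧ ∀ x : L, x ∉ fittingHall L → β x = 0) ?_
      ⟨fun _ _ => rfl, fun _ _ => rfl⟩
      (fun a _ b _ ha hb => ⟨isClassFunction_add ha.1 hb.1,
        fun x hx => by simp [ha.2 x hx, hb.2 x hx]⟩)
      (fun n a _ ha => ⟨fun g x => by simp [ha.1 g x], fun x hx => by simp [ha.2 x hx]⟩) hα.1
    rintro φ ⟨θ, -, -, -, rfl⟩
    exact ⟨indFun_isClassFunction _ θ, fun x hx => CliffordChar.indFun_not_mem _ θ hx⟩
  refine ⟨key.1, isGC_of_mem_zspan ?_ hα.1, fun x hx => ?_⟩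
  · exact fun φ hφ => isGC_of_isCharacter
      (IsIrrCharacter.isCharacter ((frobK_fittingHall hfrob).irr_of_mem hφ))
  · rw [typeA_eq_kernel hI hfrob, Set.mem_diff, not_and, not_not] at hx
    by_cases hxH : x ∈ fittingHall L
    · exact hα.2 x (by simpa using hx (mem_fittingHallOf_coe.2 hxH))
    · exact key.2 x hxH

include hI hfrob in
theorem isometry_kernel (hD : DadeHypothesis (typeA L) L (supportR L)) :
    IsLinearIsometryOn (zspanOn (inducedIrrAbove (fittingHall L) ⊥) {1}ᶜ)
      (dadeIsometry (typeA L) L (supportR L)) := by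
  refine ⟨fun α _ β _ => dadeIsometry_add α β, fun α _ n => dadeIsometry_zsmul n α,
    fun α hα β hβ => ?_, fun α hα => ?_⟩
  · obtain ⟨h1, -, h2⟩ := zspanOn_kernel hI hfrob hα
    obtain ⟨h3, -, h4⟩ := zspanOn_kernel hI hfrob hβ
    exact (S1500.result _ L _ hD α h1 h2).1 β h3 h4
  · obtain ⟨-, h1, h2⟩ := zspanOn_kernel hI hfrob hα
    exact S1501.result _ L _ hD α h1 h2

include hG hI in
theorem fittingHallOf_ne_bot_typeI : fittingHallOf L ≠ ⊥ := fun e =>
  hI.1.2.2.1 ((Subgroup.map_eq_bot_iff_of_injective _ L.subtype_injective).1 e)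

include hG hL hI in
theorem normalizer_kernel : Subgroup.normalizer (fittingHallOf L : Set G) = L :=
  OddUniq.normalizer_eq_of_coatom hG.2.1 hL (fittingHallOf_ne_bot_typeI hG hI)
    (Subgroup.map_subtype_le _) (OddMax.le_normalizer_fittingHallOf L)

include hG hL hI hfrob in
/-- In the TI case centralisers of kernel elements stay inside `L`. -/
theorem supportR_kernel_eq_bot (hTI : IsTISubset (fittingHallOf L : Set G)) :
    ∀ a ∈ typeA L, supportR L a = ⊥ := by
  intro a ha
  rw [typeA_eq_kernel hI hfrob] at ha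
  refine supportR_eq_bot fun g hg => ?_
  rw [Subgroup.mem_centralizer_singleton_iff] at hg
  rw [← normalizer_kernel hG hL hI]
  by_contra hn
  refine ha.2 (hTI g hn a ha.1 ?_)
  rw [hg, mul_inv_cancel_right]
  exact ha.1

include hG hL hI hfrob in
theorem conj_ne_kernel : ∀ χ ∈ inducedIrrAbove (fittingHall L) ⊥,
    Cfsg.conjFun χ ∈ inducedIrrAbove (fittingHall L) ⊥ ∧ Cfsg.conjFun χ ≠ χ := by
  intro χ hχ
  refine ⟨inducedSet_conj_mem ⊥ hχ, fun e => ?_⟩
  have hC := frobK_fittingHall hfrob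
  have hodd : Odd (Nat.card L) := hG.1.of_dvd_nat (Subgroup.card_subgroup_dvd_card L)
  rw [← hC.set_eq] at hχ
  obtain ⟨hirr, h, -, hne⟩ := hχ
  have hone := CharApp.real_irr_of_odd hodd hirr fun g => by
    have := congrFun e g
    exact Complex.conj_eq_iff_im.1 this
  exact hne (by rw [hone])

include hG hL hI hfrob in
theorem complement_cyclic_sylow {U : Subgroup L}
    (hU : Subgroup.IsComplement' (fittingHall L) U) :
    Monoid.exponent (L ⧸ fittingHall L) = (fittingHall L).index := by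
  have hH1 : fittingHall L ≠ ⊥ := hI.1.2.2.1
  have hfpf : Frobenius.FPF U (fittingHall L) := fun u hu hu1 k hk e => by
    by_contra hk1
    have hmem := (frobK_fittingHall hfrob) k hk hk1
      (Subgroup.mem_centralizer_singleton_iff.2 e)
    exact hu1 (Subgroup.disjoint_def.1 hU.disjoint hmem hu)
  have hsc : Frobenius.SmallCyclic U := Frobenius.smallCyclic_of_fpf hH1
    (by rw [Subgroup.normalizer_eq_top]; exact le_top) hfpf
  have hoddU : ¬ 2 ∣ Nat.card U := by
    have : Odd (Nat.card U) := (hG.1.of_dvd_nat (Subgroup.card_subgroup_dvd_card L)).of_dvd_nat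
      (Subgroup.card_subgroup_dvd_card U)
    exact this.not_two_dvd_nat
  haveI := hsc.isZGroup_of_odd hoddU
  have e := hU.symm.QuotientMulEquiv
  rw [Monoid.exponent_eq_of_mulEquiv e, IsZGroup.exponent_eq_card, Subgroup.index_eq_card,
    Nat.card_congr e.toEquiv]

include hG hL hI hfrob in
/-- Statement 1542 from the Dade hypothesis. -/
theorem typeI_frobenius_coherent_of_dade (hD : DadeHypothesis (typeA L) L (supportR L)) :
    (∀ χ ∈ inducedIrrAbove (fittingHall L) ⊥, IsIrrCharacter L χ) ∧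
      IsCoherent (inducedIrrAbove (fittingHall L) ⊥) {1}ᶜ
        (dadeIsometry (typeA L) L (supportR L)) := by
  classical
  have hC := frobK_fittingHall hfrob
  have hirr : ∀ χ ∈ inducedIrrAbove (fittingHall L) ⊥, IsIrrCharacter L χ :=
    fun χ => hC.irr_of_mem
  refine ⟨hirr, ?_⟩
  have hodd : Odd (Nat.card L) := hG.1.of_dvd_nat (Subgroup.card_subgroup_dvd_card L)
  have hH1 : fittingHall L ≠ ⊥ := hI.1.2.2.1
  have hH2 : fittingHall L ≠ ⊤ := hI.1.2.2.2.1
  obtain ⟨U, hU1, hU, -, -⟩ := hI.1.2.2.2.2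
  haveI hnil : Group.IsNilpotent (fittingHall L) := hC.nilpotent hH2
  have hsolv : Group.IsSolvable (fittingHall L) := inferInstance
  obtain ⟨φ, hφ, -⟩ := exists_linear_mem ⊥ hsolv (bot_lt_iff_ne_bot.2 hH1)
  obtain ⟨R', hR'⟩ := S1514.result (inducedIrrAbove (fittingHall L) ⊥) ⟨φ, hφ⟩ hirr
    (conj_ne_kernel hG hL hI hfrob) (dadeIsometry (typeA L) L (supportR L))
    (isometry_kernel hI hfrob hD) (fun α _ => dadeIsometry_one hD α)
  have use21 : (¬ ∃ p m : ℕ, p.Prime ∧ Nat.card (fittingHall L) = p ^ m) ∨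
      ⁅fittingHall L, fittingHall L⁆ ≤ ⊥ ∨
      (∃ p m : ℕ, p.Prime ∧ Nat.card (fittingHall L) = p ^ m ∧
        (fittingHall L).index ∣ p - 1) →
      IsCoherent (inducedIrrAbove (fittingHall L) ⊥) {1}ᶜ
        (dadeIsometry (typeA L) L (supportR L)) := by
    intro hgood
    have hlt : ⁅fittingHall L, fittingHall L⁆ ⊔ ⊥ < fittingHall L := by
      rw [sup_bot_eq]
      refine lt_of_le_of_ne (Subgroup.commutator_le_self _) fun h => ?_
      haveI : Nontrivial (fittingHall L) := (Subgroup.nontrivial_iff_ne_bot _).2 hH1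
      apply (Group.IsSolvable.commutator_lt_top_of_nontrivial (fittingHall L)).ne
      apply Subgroup.map_injective (fittingHall L).subtype_injective
      rw [Subgroup.map_subtype_commutator, h, ← MonoidHom.range_eq_map, Subgroup.range_subtype]
    refine S1521.result (fittingHall L) hsolv _ R' hR' hodd ⊥ bot_le inferInstance _ rfl hlt
      (lt_top_iff_ne_top.2 hH2) ?_ ?_
    · exact hC.frob_mod _ hlt.le
    · rw [Subgroup.relIndex_bot_left]
      exact Or.inr (Or.inr hgood)
  rcases hI.2 with hTI | ⟨hab, -, -⟩ | ⟨hexp, -⟩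
  · have hN := normalizer_kernel hG hL hI
    have hW := S1524.result (fittingHallOf L) L (U.map L.subtype) hodd
      (Subgroup.map_subtype_le _) (Subgroup.map_subtype_le _) (fittingHallOf_ne_bot_typeI hG hI)
      (fun e => hU1 ((Subgroup.map_eq_bot_iff_of_injective _ L.subtype_injective).1 e))
      ?_ ?_ ?_ ?_ ?_ hTI hN
    · rw [show (fittingHallOf L).subgroupOf L = fittingHall L from
        Subgroup.comap_map_eq_self_of_injective L.subtype_injective (fittingHall L)] at hW
      refine coherent_congr (fun α hα => ?_) hW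
      obtain ⟨h1, -, h2⟩ := zspanOn_kernel hI hfrob hα
      exact (dade_eq_indFun hD hTI hN
        (fun a ha => (typeA_eq_kernel hI hfrob ▸ ha : a ∈ (fittingHallOf L : Set G) \ {1}).1)
        (supportR_kernel_eq_bot hG hL hI hfrob hTI) h1 h2).symm
    · exact Group.nilpotent_of_mulEquiv
        ((fittingHall L).equivMapOfInjective L.subtype L.subtype_injective)
    · intro x hx h hh
      exact conj_mem_of_le_normalizer (OddMax.le_normalizer_fittingHallOf L) hx hh
    · rw [fittingHallOf, ← Subgroup.map_inf _ _ _ L.subtype_injective, hU.disjoint.eq_bot,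
        Subgroup.map_bot]
    · rw [fittingHallOf, ← Subgroup.map_sup, hU.sup_eq_top, ← MonoidHom.range_eq_map,
        Subgroup.range_subtype]
    · rintro w ⟨w', hw', rfl⟩ hw1 h hh e
      by_contra hh1
      have hmem := hfrob h hh hh1 ⟨w'.2,
        Subgroup.mem_centralizer_singleton_iff.2 e⟩
      exact hw1 (congrArg Subtype.val
        (Subgroup.disjoint_def.1 hU.disjoint (mem_fittingHallOf_coe.1 hmem) hw'))
  · refine use21 (Or.inr (Or.inl ?_))
    rw [le_bot_iff, Subgroup.commutator_eq_bot_iff_le_centralizer]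
    intro a ha
    rw [Subgroup.mem_centralizer_iff]
    intro b hb
    exact Subtype.ext (congrArg (fun z : fittingHallOf L => (z : G)) (hab.1.1
      (⟨(b : G), mem_fittingHallOf_coe.2 hb⟩ : fittingHallOf L)
      ⟨(a : G), mem_fittingHallOf_coe.2 ha⟩))
  · by_cases hp : ∃ p m : ℕ, p.Prime ∧ Nat.card (fittingHall L) = p ^ m
    · obtain ⟨p, m, hp1, hpm⟩ := hp
      refine use21 (Or.inr (Or.inr ⟨p, m, hp1, hpm, ?_⟩))
      rw [← complement_cyclic_sylow hG hL hI hfrob hU]
      refine hexp p hp1 ?_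
      rw [fittingHallOf, Subgroup.card_map_of_injective L.subtype_injective, hpm]
      refine dvd_pow_self p fun hm => hH1 (Subgroup.card_eq_one.1 ?_)
      rw [hpm, hm, pow_zero]
    · exact use21 (Or.inl hp)

include hG hL hI hfrob in
/-- Statement 1542 from `Sec16Facts`. -/
theorem typeI_frobenius_coherent (F : Sec16Facts G) :
    (∀ χ ∈ inducedIrrAbove (fittingHall L) ⊥, IsIrrCharacter L χ) ∧
      IsCoherent (inducedIrrAbove (fittingHall L) ⊥) {1}ᶜ
        (dadeIsometry (typeA L) L (supportR L)) :=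
  typeI_frobenius_coherent_of_dade hG hL hI hfrob
    (dade_hypothesis_type hG F hL (Or.inr (Or.inl rfl))).2

end Cfsg.Agent.Peterfalvi
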