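import Cfsg.Agent.Lib.Peterfalvi.Sec10TypeVGroup
import Cfsg.Agent.Lib.Peterfalvi.Sec10Partner
import Cfsg.Agent.Lib.Peterfalvi.TypeIFrobenius

/-!
# Subgroups of type P with `U = 1`: setting for Peterfalvi (10.10) (owner: helper40)

`TypeVData hG hM hP hU` facts: `M' = M_F = M_σ` is nilpotent, `[M : M'] = |W₁|`, `|W₂|` prime, the
action of `W₁` on `M'`, `S(M'')`.
-/

set_option autoImplicit false
set_option linter.unusedSectionVars false

namespace Cfsg.Agent.Peterfalvi

open scoped Pointwise commutatorElement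
open Cfsg OddMax Cfsg.Agent.Coherence Cfsg.Agent.Char

universe u

variable {G : Type u} [Group G]

/-- The data: a maximal subgroup of type P with `U = 1`. -/
structure TypeVData (M W₁ W₂ : Subgroup G) : Prop where
  minimal : IsMinSimpleOddOrder G
  coatom : IsCoatom M
  data : IsTypePWith M W₁ ⊥ W₂

namespace TypeVData

variable [Fintype G] {M W₁ W₂ : Subgroup G} (h : TypeVData M W₁ W₂)
include h

theorem fittingHall_eq : fittingHallOf M = ⁅M, M⁆ := by
  rw [← compl_eq_sup h.data.U_compl, sup_bot_eq]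

theorem not_II : ¬ IsOfTypeII M := by
  rintro ⟨W₁', U', W₂', hP', hU', -⟩
  have h1 := compl_card hP'.U_compl
  rw [h.fittingHall_eq] at h1
  refine hU' (Subgroup.eq_bot_of_card_eq U' ?_)
  exact Nat.eq_of_mul_eq_mul_left Nat.card_pos (h1.trans (mul_one _).symm)

theorem derived_eq : ⁅M, M⁆ = sigmaCore M :=
  derived_eq_sigmaCore h.minimal h.coatom h.data h.not_II

theorem primeTI : PrimeTI M ⁅M, M⁆ W₁ W₂ := primeTI_of_typeP h.minimal h.coatom h.data

theorem index_eq : (derivedIn M).index = Nat.card W₁ := h.primeTI.index_K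

theorem nilpotent : Group.IsNilpotent (derivedIn M) := by
  haveI := fittingHallOf_nilpotent M
  have e : derivedIn M ≃* ↥(fittingHallOf M) :=
    (Subgroup.subgroupOfEquivOfLe h.data.W₁_compl.1).trans
      (MulEquiv.subgroupCongr h.fittingHall_eq.symm)
  exact Group.nilpotent_of_mulEquiv e.symm

theorem card_W₂_prime : (Nat.card W₂).Prime := by
  obtain ⟨T, V, hT⟩ := exists_partner10 h.minimal h.coatom h.data h.not_II
  exact hT.prime h.minimal

theorem W₂_ne : W₂ ≠ ⊥ := h.data.selfNormalizing.2.1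

theorem map_derived : (⁅derivedIn M, derivedIn M⁆).map M.subtype = ⁅⁅M, M⁆, ⁅M, M⁆⁆ := by
  rw [Subgroup.map_commutator, derivedIn, Subgroup.map_subgroupOf_eq_of_le h.data.W₁_compl.1]

theorem W₂_le_derived : W₂.subgroupOf M ≤ ⁅derivedIn M, derivedIn M⁆ := by
  intro x hx
  have h1 : (x : G) ∈ (⁅derivedIn M, derivedIn M⁆).map M.subtype := by
    rw [h.map_derived]; exact (h.data.W₂_le hx).2
  exact (Subgroup.mem_map_iff_mem M.subtype_injective).1 h1

theorem primeAct : PrimeAct (derivedIn M) (W₁.subgroupOf M) (W₂.subgroupOf M) where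
  decomp x := by
    obtain ⟨a, ha, b, hb, e⟩ := h.data.W₁_compl.2.2.2 x x.2
    exact ⟨⟨a, h.data.W₁_compl.1 ha⟩, ha, ⟨b, h.data.W₁_compl.2.1 hb⟩, hb, Subtype.ext e⟩
  coprime := by
    have e1 := Nat.card_congr (Subgroup.subgroupOfEquivOfLe h.data.W₁_compl.1).toEquiv
    have e2 := Nat.card_congr (Subgroup.subgroupOfEquivOfLe h.data.W₁_compl.2.1).toEquiv
    have e3 := compl_card h.data.W₁_compl
    have e4 := Subgroup.card_mul_index (W₁.subgroupOf M)
    rw [e2, ← e3, mul_comm (Nat.card ↥⁅M, M⁆)] at e4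
    rw [derivedIn, e1, e2, ← Nat.eq_of_mul_eq_mul_left Nat.card_pos e4]
    exact h.data.W₁_hall
  fixed v hv hv1 c hc e := by
    rw [Subgroup.mem_subgroupOf, ← h.data.W₂_centralizer (v : G) hv fun e' => hv1 (Subtype.ext e')]
    exact ⟨hc, Subgroup.mem_centralizer_singleton_iff.2 (congrArg Subtype.val e).symm⟩
  le := h.W₂_le_derived

theorem derived_lt : ⁅derivedIn M, derivedIn M⁆ < derivedIn M := by
  haveI := h.nilpotent
  refine lt_of_le_of_ne (Subgroup.commutator_le_self _) fun e => ?_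
  have hne : derivedIn M ≠ ⊥ := fun e' => h.W₂_ne ((Subgroup.subgroupOf_eq_bot.1
    (le_bot_iff.1 (e' ▸ h.W₂_le_derived.trans (Subgroup.commutator_le_self _)))).eq_bot_of_le
      (h.data.W₂_le.trans' le_rfl |>.trans inf_le_left |>.trans (Subgroup.map_subtype_le _)))
  haveI : Nontrivial (derivedIn M) := (Subgroup.nontrivial_iff_ne_bot _).2 hne
  apply (Group.IsSolvable.commutator_lt_top_of_nontrivial (derivedIn M)).ne
  apply Subgroup.map_injective (derivedIn M).subtype_injective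
  rw [Subgroup.map_subtype_commutator, e, ← MonoidHom.range_eq_map, Subgroup.range_subtype]

theorem derived_ne : ⁅derivedIn M, derivedIn M⁆ ≠ ⊥ := fun e => h.W₂_ne ((Subgroup.subgroupOf_eq_bot.1
    (le_bot_iff.1 (e ▸ h.W₂_le_derived))).eq_bot_of_le
      (h.data.W₂_le.trans inf_le_left |>.trans (Subgroup.map_subtype_le _)))

variable [Fintype ↥M]

/-- The members of `S(M'')` are irreducible of degree `|W₁|`. -/
theorem linear_irr {φ : ↥M → ℂ} (hφ : φ ∈ inducedIrrAbove (derivedIn M) ⁅derivedIn M, derivedIn M⁆) :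
    IsIrrCharacter ↥M φ ∧ φ 1 = ((derivedIn M).index : ℂ) := by
  refine ⟨?_, degree_derived hφ⟩
  obtain ⟨θ, hθ, hne, hker, rfl⟩ := hφ
  obtain ⟨e₀, he₀⟩ : ∃ e : derivedIn M, θ e ≠ θ 1 := by
    by_contra hno
    push Not at hno
    exact hne (eq_one_of_const hθ hno)
  refine h.primeAct.irr_of_ker ⁅derivedIn M, derivedIn M⁆ (derivedIn M)
    (Subgroup.commutator_le_self _) le_rfl
    (fun e he g hg => ?_) (inf_le_left.trans h.primeAct.le) hθ hker (fun e _ g => ?_) e₀.2 he₀
  · have := Subgroup.commutator_mem_commutator he hg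
    rwa [commutatorElement_def] at this
  · refine hker _ ?_
    have := Subgroup.commutator_mem_commutator e.2 g.2
    rwa [commutatorElement_def] at this

theorem linear_nonempty :
    (inducedIrrAbove (derivedIn M) ⁅derivedIn M, derivedIn M⁆).Nonempty := by
  haveI := h.nilpotent
  obtain ⟨φ, hφ, -⟩ := exists_linear_mem ⁅derivedIn M, derivedIn M⁆ inferInstance h.derived_lt
  exact ⟨φ, hφ⟩

/-- The coherence system on `S(M')`. -/
theorem exists_system : ∃ R, IsCoherenceSystem (inducedIrrAbove (derivedIn M) ⊥)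
    (dadeIsometry (coreA0 M) M (supportR M)) R :=
  exists_derived_system h.minimal h.coatom h.data h.not_II

theorem primeDade : PrimeDade M ⁅M, M⁆ (sigmaCore M) W₁ W₂ (coreA M) (supportR M) :=
  primeDade_of_typeP h.minimal h.coatom h.data

theorem mem_coreA {x : G} (hx : x ∈ ⁅M, M⁆) (hx1 : x ≠ 1) : x ∈ coreA M :=
  h.primeDade.A_cent x hx hx1 x (h.derived_eq ▸ hx) hx1 rfl

theorem mem_coreA0 {x : G} (hx : x ∈ ⁅M, M⁆) (hx1 : x ≠ 1) : x ∈ coreA0 M :=
  Or.inl (h.mem_coreA hx hx1)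

theorem dade : DadeHypothesis (coreA0 M) M (supportR M) := by
  rw [coreA0_eq_a0Set h.minimal h.coatom h.data]
  exact h.primeDade.dade

/-- Members of `ℤ[S, M^#]` are class functions supported on `(M')^#`. -/
theorem zspanOn_supp {α : ↥M → ℂ}
    (hα : α ∈ zspanOn (inducedIrrAbove (derivedIn M) ⊥) {1}ᶜ) :
    IsClassFunction ↥M α ∧ ∀ x : ↥M, ((x : G) ∉ ⁅M, M⁆ ∨ x = 1) → α x = 0 := by
  have key : IsClassFunction ↥M α ∧ ∀ x : ↥M, x ∉ derivedIn M → α x = 0 := by
    refine zspan_induction (P := fun β : ↥M → ℂ =>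
        IsClassFunction ↥M β ∧ ∀ x : ↥M, x ∉ derivedIn M → β x = 0) ?_
      ⟨fun _ _ => rfl, fun _ _ => rfl⟩
      (fun a _ b _ ha hb => ⟨isClassFunction_add ha.1 hb.1,
        fun x hx => by simp [ha.2 x hx, hb.2 x hx]⟩)
      (fun n a _ ha => ⟨fun g x => by simp [ha.1 g x], fun x hx => by simp [ha.2 x hx]⟩) hα.1
    rintro φ ⟨θ, -, -, -, rfl⟩
    exact ⟨indFun_isClassFunction _ θ, fun x hx => CliffordChar.indFun_not_mem _ θ hx⟩
  refine ⟨key.1, fun x hx => ?_⟩
  rcases hx with hx | hx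
  · exact key.2 x hx
  · exact hα.2 x (by simp [hx])

end TypeVData

end Cfsg.Agent.Peterfalvi
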