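import Cfsg.Agent.Lib.Peterfalvi.Sec6Pivot
import Cfsg.Agent.Lib.Peterfalvi.Sec10Bridge
import Cfsg.Agent.Lib.Peterfalvi.Sec10TypeVSetup
import Cfsg.Agent.Lib.Char.Integral

/-!
# Peterfalvi (10.10): the case `|M'| = p³`, `|W₁|` divides `p + 1` (owner: helper34)

* `card_commutator_of_cube` : a nonabelian group of order `p³` has derived group of order `p`
* `cube_rows_eq_zero`, `cube_rows_eq_one` : the arithmetic on the rows
* `TypeVData.cube_members` : the degrees in `S(M')`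
* `TypeVData.coherent_cube` : `S(M')` is coherent
-/

set_option autoImplicit false

namespace Cfsg.Agent.Peterfalvi

open scoped Pointwise commutatorElement ComplexConjugate
open Cfsg OddMax Cfsg.Agent.Coherence Cfsg.Agent.Char Cfsg.Agent.CyclicTI

universe u

theorem card_commutator_of_cube {X : Type*} [Group X] [Finite X] {p : ℕ} (hp : p.Prime)
    (hX : Nat.card X = p ^ 3) (hne : commutator X ≠ ⊥) : Nat.card (commutator X) = p := by
  haveI := Fact.mk hp
  haveI : Nontrivial X := Finite.one_lt_card_iff_nontrivial.1 (by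
    rw [hX]; exact Nat.one_lt_pow (by norm_num) hp.one_lt)
  obtain ⟨k, hk0, hk⟩ := IsPGroup.card_center_eq_prime_pow hX (by norm_num)
  have hk3 : k ≤ 3 := by
    have := Subgroup.card_subgroup_dvd_card (Subgroup.center X)
    rw [hk, hX] at this
    exact (Nat.pow_dvd_pow_iff_le_right hp.one_lt).1 this
  have hq : Nat.card (X ⧸ Subgroup.center X) = p ^ (3 - k) := by
    have h := Subgroup.card_eq_card_quotient_mul_card_subgroup (Subgroup.center X)
    rw [hX, hk, ← Nat.sub_add_cancel hk3, pow_add] at h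
    exact (Nat.eq_of_mul_eq_mul_right (pow_pos hp.pos k) h).symm
  have hnc : Subgroup.center X ≠ ⊤ := fun e => hne ((commutator_eq_bot_iff_center_eq_top X).2 e)
  obtain rfl : k = 1 := by
    interval_cases k
    · rfl
    · exfalso
      haveI : IsCyclic (X ⧸ Subgroup.center X) := isCyclic_of_prime_card (p := p) (by simpa using hq)
      refine hnc (Subgroup.eq_top_iff' _ |>.2 fun x => Subgroup.mem_center_iff.2 fun y => ?_)
      exact commutative_of_cyclic_center_quotient (QuotientGroup.mk' (Subgroup.center X))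
        (QuotientGroup.ker_mk' _).le y x
    · exact absurd (Subgroup.eq_top_of_card_eq _ (by rw [hk, hX])) hnc
  have hle : commutator X ≤ Subgroup.center X := by
    rw [← QuotientGroup.ker_mk' (Subgroup.center X), commutator_def, Subgroup.commutator_le]
    intro a _ b _
    rw [MonoidHom.mem_ker, map_commutatorElement, commutatorElement_eq_one_iff_mul_comm]
    exact IsPGroup.commutative_of_card_eq_prime_sq (p := p) hq _ _
  have hd := Subgroup.card_dvd_of_le hle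
  rw [hk, pow_one] at hd
  exact (hp.eq_one_or_self_of_dvd _ hd).resolve_left fun e => hne (Subgroup.card_eq_one.1 e)

/-- The rows of `τ (μ_j - p ζ)`. -/
theorem cube_rows_eq_zero {ι : Type*} [DecidableEq ι] (R : Finset ι) {o : ι} (ho : o ∈ R)
    (a : ι → ℤ) (ha : a o = 0) {u v : ℤ} (huv : u - v = 1 ∨ u - v = -1) {P : ℕ} (hP : 5 ≤ P)
    (hb : ∑ i ∈ R, (a i ^ 2 + (a i + u) ^ 2 + ((P : ℤ) - 2) * (a i + v) ^ 2) ≤ (R.card : ℤ) + 2) :
    ∀ i ∈ R, a i = 0 := by
  have hP' : (3 : ℤ) ≤ (P : ℤ) - 2 := by omega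
  have hu1 : (u - v) ^ 2 = 1 := by rcases huv with e | e <;> rw [e] <;> norm_num
  set F : ι → ℤ := fun i => a i ^ 2 + (a i + u) ^ 2 + ((P : ℤ) - 2) * (a i + v) ^ 2 with hF
  have h1 : ∀ i ∈ R, 1 ≤ F i := by
    intro i _
    rcases eq_or_ne (a i + v) 0 with e | e
    · have : a i + u = u - v := by linarith
      rw [hF]; simp only [this, hu1, e]
      nlinarith [sq_nonneg (a i)]
    · have : 1 ≤ (a i + v) ^ 2 := Int.pos_of_ne_zero_of_sq (a i + v) e
      rw [hF]; simp only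
      nlinarith [sq_nonneg (a i), sq_nonneg (a i + u)]
  intro i hi
  by_contra hne
  have hoi : i ≠ o := fun e => hne (e ▸ ha)
  have h4 : 4 ≤ (F i - 1) + (F o - 1) + 1 := by
    have hai : 1 ≤ a i ^ 2 := Int.pos_of_ne_zero_of_sq (a i) hne
    rcases eq_or_ne (a i + v) 0 with e | e
    · have hv : 1 ≤ v ^ 2 := by
        rw [show v = -a i by linarith, neg_sq]; exact hai
      have e' : a i + u = u - v := by linarith
      simp only [hF, ha, e, e', hu1, zero_add]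
      nlinarith [sq_nonneg u]
    · have : 1 ≤ (a i + v) ^ 2 := Int.pos_of_ne_zero_of_sq (a i + v) e
      have := h1 o ho
      simp only [hF] at this ⊢
      nlinarith [sq_nonneg (a i + u)]
  have h5 : ∑ j ∈ R, (1 : ℤ) + 2 < ∑ j ∈ R, F j := by
    have hsub : ({i, o} : Finset ι) ⊆ R := by
      intro x hx
      rcases Finset.mem_insert.1 hx with rfl | hx
      · exact hi
      · rwa [Finset.mem_singleton.1 hx]
    have := Finset.sum_le_sum_of_subset_of_nonneg (f := fun j => F j - 1) hsub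
      fun j hj _ => sub_nonneg.2 (h1 j hj)
    rw [Finset.sum_pair hoi, Finset.sum_sub_distrib] at this
    linarith
  rw [Finset.sum_const, nsmul_eq_mul, mul_one] at h5
  linarith
where
  Int.pos_of_ne_zero_of_sq (x : ℤ) (h : x ≠ 0) : 1 ≤ x ^ 2 := by
    have := sq_pos_of_ne_zero h
    omega

/-- The rows of `τ (Ind 1 - ζ)`. -/
theorem cube_rows_eq_one {ι : Type*} [DecidableEq ι] (R : Finset ι) {o : ι} (ho : o ∈ R)
    (e : ι → ℤ) (he : e o = 1) {g t : ℤ} {n P : ℕ} (hn : 3 ≤ n) (hP : R.card + 1 ≤ P) (hq : 3 ≤ R.card)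
    (hb : ∑ i ∈ R, (e i ^ 2 + ((P : ℤ) - 1) * (e i + g) ^ 2) + ((n : ℤ) * t ^ 2 - 2 * t) ≤
      (R.card : ℤ)) :
    g = -1 ∧ t = 0 ∧ ∀ i ∈ R, e i = 1 := by
  have hP' : (R.card : ℤ) + 1 ≤ P := by exact_mod_cast hP
  have hq' : (3 : ℤ) ≤ R.card := by exact_mod_cast hq
  have hn' : (3 : ℤ) ≤ n := by exact_mod_cast hn
  set F : ι → ℤ := fun i => e i ^ 2 + ((P : ℤ) - 1) * (e i + g) ^ 2 with hF
  have hnt : 0 ≤ (n : ℤ) * t ^ 2 - 2 * t := by
    rcases eq_or_ne t 0 with rfl | ht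
    · simp
    · have := sq_pos_of_ne_zero ht
      nlinarith [sq_nonneg (t - 1)]
  have hnn : ∀ i ∈ R, 0 ≤ F i := fun i _ => by
    simp only [hF]; nlinarith [sq_nonneg (e i), sq_nonneg (e i + g)]
  obtain rfl : g = -1 := by
    by_contra hg
    have h2 : 1 ≤ (1 + g) ^ 2 := by
      have := sq_pos_of_ne_zero (show (1 + g : ℤ) ≠ 0 by omega)
      omega
    have h3 : (R.card : ℤ) + 1 ≤ F o := by simp only [hF, he]; nlinarith
    have := Finset.single_le_sum hnn ho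
    linarith
  have h1 : ∀ i ∈ R, 1 ≤ F i := fun i _ => by
    rcases eq_or_ne (e i) 1 with h | h
    · simp [hF, h]
    · have := sq_pos_of_ne_zero (show (e i + -1 : ℤ) ≠ 0 by omega)
      simp only [hF]; nlinarith [sq_nonneg (e i)]
  have hall : ∀ i ∈ R, e i = 1 := by
    intro i hi
    by_contra hne
    have h3 : 2 ≤ F i := by
      have := sq_pos_of_ne_zero (show (e i + -1 : ℤ) ≠ 0 by omega)
      simp only [hF]; nlinarith [sq_nonneg (e i)]
    have := Finset.sum_lt_sum h1 ⟨i, hi, by linarith⟩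
    rw [Finset.sum_const, nsmul_eq_mul, mul_one] at this
    linarith
  refine ⟨rfl, ?_, hall⟩
  have hs : ∑ i ∈ R, F i = R.card := by
    rw [Finset.sum_congr rfl (g := fun _ => (1 : ℤ)) fun i hi => by simp [hF, hall i hi]]
    simp
  by_contra ht
  have := sq_pos_of_ne_zero ht
  nlinarith [sq_nonneg (t - 1)]

variable {G : Type u} [Group G] [Fintype G]

/-- Bessel on the images of the pivot set and on the products of a rectangle of the family. -/
theorem pivot_family_bound {W₁ W₂ : Subgroup G} {η : (↥(W₁ ⊔ W₂) →* ℂˣ) → G → ℂ}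
    (hη : IsCyclicTIFamily W₁ W₂ η) {L : Type*} (Y : Finset (L → ℂ))
    {τ₁ : (L → ℂ) → (G → ℂ)} (hn : ∀ φ ∈ Y, classInner (τ₁ φ) (τ₁ φ) = 1)
    (ho : ∀ φ ∈ Y, ∀ φ' ∈ Y, φ ≠ φ' → classInner (τ₁ φ) (τ₁ φ') = 0)
    (hYη : ∀ φ ∈ Y, ∀ π, classInner (τ₁ φ) (η π) = 0)
    (R C : Finset (↥(W₁ ⊔ W₂) →* ℂˣ))
    (hinj : ∀ a ∈ R, ∀ b ∈ C, ∀ a' ∈ R, ∀ b' ∈ C, a * b = a' * b' → a = a' ∧ b = b')
    {θ : G → ℂ} {N : ℤ} (hN : classInner θ θ = (N : ℂ)) {x : (L → ℂ) → ℤ}
    (hx : ∀ φ ∈ Y, classInner θ (τ₁ φ) = (x φ : ℂ)) {c : (↥(W₁ ⊔ W₂) →* ℂˣ) → ℤ}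
    (hc : ∀ π, classInner θ (η π) = (c π : ℂ)) :
    ∑ φ ∈ Y, x φ ^ 2 + ∑ i ∈ R, ∑ j ∈ C, c (i * j) ^ 2 ≤ N := by
  classical
  have hb := (bessel (Y.disjSum (R ×ˢ C)) (Sum.elim τ₁ fun z => η (z.1 * z.2)) (fun _ => 1)
    (fun _ _ => one_pos)
    (by rintro (i | z) hi
        · simpa using hn i (Finset.inl_mem_disjSum.1 hi)
        · simp [hη.orthonormal])
    (by rintro (i | z) hi (j | z') hj hne
        · exact ho i (Finset.inl_mem_disjSum.1 hi) j (Finset.inl_mem_disjSum.1 hj)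
            fun e => hne (congrArg Sum.inl e)
        · exact hYη i (Finset.inl_mem_disjSum.1 hi) _
        · exact classInner_symm_zero (hYη j (Finset.inl_mem_disjSum.1 hj) _)
        · have h1 := Finset.mem_product.1 (Finset.inr_mem_disjSum.1 hi)
          have h2 := Finset.mem_product.1 (Finset.inr_mem_disjSum.1 hj)
          rw [Sum.elim_inr, Sum.elim_inr, hη.orthonormal, if_neg]
          intro e
          obtain ⟨e1, e2⟩ := hinj _ h1.1 _ h1.2 _ h2.1 _ h2.2 e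
          exact hne (congrArg Sum.inr (Prod.ext e1 e2)))
    θ).1
  rw [Finset.sum_disjSum, Finset.sum_product] at hb
  simp only [Sum.elim_inl, Sum.elim_inr, div_one, hc, Complex.norm_intCast, sq_abs, hN,
    Complex.intCast_re] at hb
  rw [Finset.sum_congr rfl fun φ hφ => by rw [hx φ hφ, Complex.norm_intCast, sq_abs]] at hb
  exact_mod_cast hb

namespace TypeVData

variable {M W₁ W₂ : Subgroup G} (h : TypeVData M W₁ W₂) [Fintype ↥M] {p : ℕ}
  {μ : (↥(W₁ ⊔ W₂) →* ℂˣ) → ↥M → ℂ} {δ : (↥(W₁ ⊔ W₂) →* ℂˣ) → ℂ}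
  {η : (↥(W₁ ⊔ W₂) →* ℂˣ) → G → ℂ} {R₀ : (↥M → ℂ) → Finset (G → ℂ)}
include h

omit [Fintype ↥M] in
theorem cube_derived (hp : p.Prime) (hcard : Nat.card (derivedIn M) = p ^ 3) :
    Nat.card ↥⁅derivedIn M, derivedIn M⁆ = p ∧
      ⁅derivedIn M, derivedIn M⁆.relIndex (derivedIn M) = p ^ 2 ∧ Nat.card W₂ = p := by
  have hmap := Subgroup.map_subtype_commutator (derivedIn M)
  have hD : Nat.card ↥⁅derivedIn M, derivedIn M⁆ = p := by
    rw [← hmap, Subgroup.card_map_of_injective (derivedIn M).subtype_injective]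
    refine card_commutator_of_cube hp hcard fun e => h.derived_ne ?_
    rw [← hmap, e, Subgroup.map_bot]
  refine ⟨hD, ?_, ?_⟩
  · have h1 := Subgroup.card_mul_index (⁅derivedIn M, derivedIn M⁆.subgroupOf (derivedIn M))
    rw [Nat.card_congr (Subgroup.subgroupOfEquivOfLe (Subgroup.commutator_le_self _)).toEquiv, hD,
      hcard] at h1
    refine Nat.eq_of_mul_eq_mul_left hp.pos (h1.trans ?_)
    ring
  · have hle : W₂ ≤ M := h.primeTI.K_le.trans' h.primeTI.W₂_le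
    have h1 := Subgroup.card_dvd_of_le h.W₂_le_derived
    rw [Nat.card_congr (Subgroup.subgroupOfEquivOfLe hle).toEquiv, hD] at h1
    exact (Nat.prime_dvd_prime_iff_eq h.card_W₂_prime hp).1 h1

/-- `S(M')` consists of `S(M'')` and the nonprincipal column sums, of degree `p |W₁|`. -/
theorem cube_members (hc : TypePChars M W₁ W₂ μ δ η R₀) (hp : p.Prime)
    (hcard : Nat.card (derivedIn M) = p ^ 3) :
    (∀ ω, ¬ SameCol ω 1 → μ ω 1 = (p : ℂ)) ∧
      ∀ φ ∈ inducedIrrAbove (derivedIn M) ⊥,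
        φ ∈ inducedIrrAbove (derivedIn M) ⁅derivedIn M, derivedIn M⁆ ∨
          ∃ ω, ¬ SameCol ω 1 ∧ φ = colSum μ ω := by
  classical
  haveI : (derivedIn M).Normal := derivedIn_normal M
  haveI := Fintype.ofFinite ↥(derivedIn M)
  obtain ⟨-, hidx, hW₂⟩ := h.cube_derived hp hcard
  set K := derivedIn M with hK
  set D := ⁅K, K⁆ with hD
  set S := inducedIrrAbove K ⊥ with hS
  have hSseq : S = seqIndD M (sigmaCore M) ⊥ := inducedIrrAbove_eq_seqIndD h.derived_eq.le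
  have hsys := hc.sys
  rw [← hSseq] at hsys
  have hfin := sys_finite hsys
  set s := hfin.toFinset with hs
  have hms : ∀ φ, φ ∈ s ↔ φ ∈ S := fun φ => hfin.mem_toFinset
  set Y := s.filter (fun φ => φ ∈ inducedIrrAbove K D) with hY
  set f : (↥M → ℂ) → ℝ := fun φ => (φ 1).re ^ 2 / (classInner φ φ).re with hf
  have hfpos : ∀ φ ∈ s, 0 < f φ := by
    intro φ hφ
    obtain ⟨d, hd0, hd⟩ := sys_degree hsys ((hms φ).1 hφ)
    obtain ⟨m, hm0, hm⟩ := sys_norm hsys ((hms φ).1 hφ)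
    simp only [hf, hd, hm, Complex.natCast_re]
    positivity
  have hfcast : ∀ φ ∈ s, φ 1 ^ 2 / classInner φ φ = (f φ : ℂ) := by
    intro φ hφ
    obtain ⟨d, hd0, hd⟩ := sys_degree hsys ((hms φ).1 hφ)
    obtain ⟨m, hm0, hm⟩ := sys_norm hsys ((hms φ).1 hφ)
    simp only [hf, hd, hm, Complex.natCast_re]
    push_cast
    rfl
  set q := Nat.card W₁ with hq
  have hKidx : K.index = q := h.index_eq
  have hq0 : (0 : ℝ) < q := Nat.cast_pos.2 Nat.card_pos
  have htot : ∑ φ ∈ s, f φ = (q : ℝ) * ((p : ℝ) ^ 3 - 1) := by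
    have h1 := sum_sq_div (K := K) ⊥ bot_le s hfin.coe_toFinset
    rw [Finset.sum_congr rfl hfcast, hKidx, Subgroup.relIndex_bot_left, hcard] at h1
    exact_mod_cast h1
  have hYs : ∑ φ ∈ Y, f φ = (q : ℝ) * ((p : ℝ) ^ 2 - 1) := by
    have hcoe : (↑Y : Set (↥M → ℂ)) = inducedIrrAbove K D := by
      ext φ
      simp only [hY, Finset.coe_filter, Set.mem_ofPred_eq, hms]
      exact ⟨fun h' => h'.2, fun h' => ⟨inducedSet_le_bot D h', h'⟩⟩
    have h1 := sum_sq_div (K := K) D (Subgroup.commutator_le_self _) Y hcoe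
    rw [Finset.sum_congr rfl (fun φ hφ => hfcast φ (Finset.mem_filter.1 hφ).1), hKidx, hidx] at h1
    exact_mod_cast h1
  have hcolS : ∀ ω, ¬ SameCol ω 1 → colSum μ ω ∈ S := fun ω hω => hSseq ▸ hc.colSum_mem hω
  have hcolval : ∀ ω, ¬ SameCol ω 1 → ∀ d : ℕ, μ ω 1 = (d : ℂ) →
      f (colSum μ ω) = (q : ℝ) * (d : ℝ) ^ 2 := by
    intro ω _ d hd
    simp only [hf, hc.mu.colSum_apply_K ω (x := 1) (one_mem _), hd, hc.mu.inner_colSum,
      if_pos (sameCol_refl ω)]
    rw [show ((Nat.card W₁ : ℂ) * d).re = (q : ℝ) * d by simp [hq],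
      show ((Nat.card W₁ : ℂ)).re = (q : ℝ) by simp [hq]]
    field_simp
  have hdeg : ∀ ω, ¬ SameCol ω 1 → μ ω 1 = (p : ℂ) := by
    intro ω hω
    obtain ⟨hri, -⟩ := hc.mu.resK_facts ω
    obtain ⟨d, hd0, hd, hdvd⟩ := IsIrrCharacter.degree_dvd_card hri
    change μ ω 1 = _ at hd
    rw [show Nat.card ↥(⁅M, M⁆.subgroupOf M) = p ^ 3 from hcard] at hdvd
    obtain ⟨k, hk, rfl⟩ := (Nat.dvd_prime_pow hp).1 hdvd
    have hk0 : k ≠ 0 := by
      rintro rfl
      refine hω (hc.mu.sameCol_one_of_ker fun w hw => ?_)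
      have hwK : hc.dade.toPrimeTI.emb w ∈ K := h.primeTI.W₂_le hw
      have hwD : (⟨_, hwK⟩ : ↥K) ∈ commutator ↥K := by
        have h1 : hc.dade.toPrimeTI.emb w ∈ D := h.W₂_le_derived hw
        rw [hD, ← Subgroup.map_subtype_commutator] at h1
        exact (Subgroup.mem_map_iff_mem K.subtype_injective).1 h1
      have hv : resK M ⁅M, M⁆ (μ ω) 1 = 1 := by
        show μ ω 1 = 1
        rw [hd, pow_zero, Nat.cast_one]
      rw [hd, pow_zero, Nat.cast_one]
      exact apply_eq_one_of_commutator (IsIrrCharacter.isCharacter hri) hv hwD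
    have hk1 : k < 2 := by
      by_contra hk2
      have h1 := Finset.single_le_sum (fun φ hφ => (hfpos φ hφ).le) ((hms _).2 (hcolS ω hω))
      rw [hcolval ω hω _ hd, htot] at h1
      have h2 : (p : ℝ) ^ 3 ≤ (((p ^ k : ℕ) : ℝ)) ^ 2 := by
        push_cast
        rw [← pow_mul]
        exact pow_le_pow_right₀ (by exact_mod_cast hp.one_lt.le) (by omega)
      nlinarith
    rw [hd, show k = 1 by omega, pow_one]
  refine ⟨hdeg, fun φ hφ => ?_⟩
  by_contra hno
  push Not at hno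
  obtain ⟨hφD, hφc⟩ := hno
  have hP : IsPair W₁ W₂ := hc.dade.toPrimeTI.isPair
  haveI := finite_lin ↥(W₁ ⊔ W₂)
  haveI := Fintype.ofFinite (↥(W₁ ⊔ W₂) →* ℂˣ)
  set C := Finset.univ.filter fun ν : ↥(W₁ ⊔ W₂) →* ℂˣ =>
    ∀ w : ↥(W₁ ⊔ W₂), (w : G) ∈ W₁ → ν w = 1 with hC
  have hCcard : C.card = p := by
    rw [← hW₂, ← card_lin_factor₂ hP hc.dade.toPrimeTI.comm, Nat.card_eq_fintype_card,
      Fintype.card_subtype]
  have hC1 : (1 : ↥(W₁ ⊔ W₂) →* ℂˣ) ∈ C := by simp [hC]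
  have hne : ∀ ν ∈ C.erase 1, ¬ SameCol ν 1 := fun ν hν e => (Finset.mem_erase.1 hν).1
    (hP.lin_ext (fun w hw => by rw [(Finset.mem_filter.1 (Finset.mem_erase.1 hν).2).2 w hw,
      MonoidHom.one_apply]) e)
  have hinj : Set.InjOn (colSum μ) ↑(C.erase 1) := fun a ha b hb e => hP.lin_ext
    (fun w hw => by rw [(Finset.mem_filter.1 (Finset.mem_erase.1 ha).2).2 w hw,
      (Finset.mem_filter.1 (Finset.mem_erase.1 hb).2).2 w hw]) (hc.dade.colSum_sameCol hc.mu e)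
  have hdisj : Disjoint Y ((C.erase 1).image (colSum μ)) := by
    rw [Finset.disjoint_left]
    intro ψ h1 h2
    obtain ⟨ν, -, rfl⟩ := Finset.mem_image.1 h2
    exact hc.dade.colSum_not_irr hc.mu ν (h.linear_irr (Finset.mem_filter.1 h1).2).1
  have hsub : insert φ (Y ∪ (C.erase 1).image (colSum μ)) ⊆ s := by
    intro ψ hψ
    rcases Finset.mem_insert.1 hψ with rfl | hψ
    · exact (hms _).2 hφ
    · rcases Finset.mem_union.1 hψ with h1 | h1
      · exact (Finset.mem_filter.1 h1).1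
      · obtain ⟨ν, hν, rfl⟩ := Finset.mem_image.1 h1
        exact (hms _).2 (hcolS ν (hne ν hν))
  have hφn : φ ∉ Y ∪ (C.erase 1).image (colSum μ) := by
    intro h1
    rcases Finset.mem_union.1 h1 with h1 | h1
    · exact hφD (Finset.mem_filter.1 h1).2
    · obtain ⟨ν, hν, rfl⟩ := Finset.mem_image.1 h1
      exact hφc ν (hne ν hν) rfl
  have h1 := Finset.sum_le_sum_of_subset_of_nonneg (f := f) hsub fun ψ hψ _ => (hfpos ψ hψ).le
  rw [Finset.sum_insert hφn, Finset.sum_union hdisj, Finset.sum_image hinj, hYs, htot,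
    Finset.sum_congr rfl (fun ν hν => hcolval ν (hne ν hν) p (hdeg ν (hne ν hν))),
    Finset.sum_const, Finset.card_erase_of_mem hC1, hCcard, nsmul_eq_mul,
    Nat.cast_sub hp.one_lt.le, Nat.cast_one] at h1
  have := hfpos φ ((hms φ).2 hφ)
  nlinarith

/-- The case `|M'| = p³`, `|W₁| ∣ p + 1` of (10.10). -/
theorem coherent_cube (hp : p.Prime) (hcard : Nat.card (derivedIn M) = p ^ 3)
    (hdvd : Nat.card W₁ ∣ p + 1) :
    IsCoherent (inducedIrrAbove (derivedIn M) ⊥) {1}ᶜ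
      (dadeIsometry (coreA0 M) M (supportR M)) := by
  classical
  obtain ⟨μ, δ, η, R₀, hc⟩ := exists_typePChars h.minimal h.coatom h.data
  obtain ⟨hdeg, hmem⟩ := h.cube_members hc hp hcard
  obtain ⟨-, hidx, hW₂⟩ := h.cube_derived hp hcard
  haveI : (derivedIn M).Normal := derivedIn_normal M
  haveI := Fintype.ofFinite ↥(derivedIn M)
  haveI := finite_lin ↥(W₁ ⊔ W₂)
  haveI := Fintype.ofFinite (↥(W₁ ⊔ W₂) →* ℂˣ)
  have hD : DadeHypothesis (coreA0 M) M (supportR M) := h.dade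
  set τ := dadeIsometry (coreA0 M) M (supportR M) with hτdef
  set K := derivedIn M with hKdef
  set D := ⁅K, K⁆ with hDdef
  set S := inducedIrrAbove K ⊥ with hSdef
  have hSseq : S = seqIndD M (sigmaCore M) ⊥ := inducedIrrAbove_eq_seqIndD h.derived_eq.le
  have hsys := hc.sys
  rw [← hSseq] at hsys
  set q := Nat.card W₁ with hqdef
  have hq3 : 3 ≤ q := h.primeTI.three_le₁
  have hqodd : Odd q := h.primeTI.odd_W₁
  have hpodd : Odd p := hW₂ ▸ h.primeTI.odd_W₂
  have hKidx : K.index = q := h.index_eq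
  have hoddW : Odd (Nat.card ↥(W₁ ⊔ W₂)) := OddSigma.odd_card h.minimal _
  have hP : IsPair W₁ W₂ := h.primeTI.isPair
  -- the pivot
  have hYD : inducedIrrAbove K D ⊆ S := inducedSet_le_bot D
  obtain ⟨ζ, hζY⟩ := h.linear_nonempty
  have hsysY := sys_subset hsys hYD ⟨ζ, hζY⟩ fun φ hφ => inducedSet_conj_mem D hφ
  obtain ⟨-, τ₁, hiso, hag⟩ := Coherence.uniform hsysY fun φ hφ ψ hψ =>
    (h.linear_irr hφ).2.trans (h.linear_irr hψ).2.symm
  set Y := (sys_finite hsysY).toFinset with hYdef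
  have hmY : ∀ φ, φ ∈ Y ↔ φ ∈ inducedIrrAbove K D := fun φ => (sys_finite hsysY).mem_toFinset
  have hYcoe : (↑Y : Set (↥M → ℂ)) = inducedIrrAbove K D := (sys_finite hsysY).coe_toFinset
  have P : Pivot S τ R₀ Y τ₁ ζ :=
    ⟨hsys, hYcoe ▸ hYD, fun φ hφ => (hmY _).2 (inducedSet_conj_mem D ((hmY φ).1 hφ)),
      fun φ hφ => classInner_irr_self (h.linear_irr ((hmY φ).1 hφ)).1,
      fun φ hφ => (h.linear_irr ((hmY φ).1 hφ)).2.trans (h.linear_irr hζY).2.symm,
      (hmY ζ).2 hζY, hYcoe ▸ hiso, hYcoe ▸ hag⟩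
  have hζ1 : ζ 1 = (q : ℂ) := by rw [(h.linear_irr hζY).2, hKidx]
  have hζi := (h.linear_irr hζY).1
  have hζn : classInner ζ ζ = 1 := classInner_irr_self hζi
  set ψ := τ₁ ζ with hψdef
  have hψψ : classInner ψ ψ = 1 := P.image_norm P.mem
  have hYη : ∀ φ ∈ Y, ∀ π, classInner (τ₁ φ) (η π) = 0 := fun φ hφ π =>
    hc.coherent_irr_orth (hSseq ▸ hYD) hiso hag ((hmY φ).1 hφ)
      (inducedSet_conj_mem D ((hmY φ).1 hφ)) (h.linear_irr ((hmY φ).1 hφ)).1 π
  -- the arithmetic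
  set n := Y.card with hn
  have hnq : n * q + 1 = p ^ 2 := by
    have hs := sum_sq_div (K := K) D (Subgroup.commutator_le_self _) Y hYcoe
    rw [hKidx, hidx, Finset.sum_congr rfl (g := fun _ => (q : ℂ) ^ 2) fun φ hφ => by
      rw [P.deg φ hφ, hζ1, P.norm φ hφ, div_one],
      Finset.sum_const, nsmul_eq_mul] at hs
    have h1 : ((n * q + 1 : ℕ) : ℂ) * (q : ℂ) = ((p ^ 2 : ℕ) : ℂ) * (q : ℂ) := by
      push_cast at hs ⊢
      linear_combination hs
    exact_mod_cast mul_right_cancel₀ (Nat.cast_ne_zero.2 (by omega)) h1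
  obtain ⟨hp5, hn2p, hqp⟩ : 5 ≤ p ∧ 2 * p ≤ n + 2 ∧ q + 1 ≤ p := by
    obtain ⟨m, hm⟩ := hdvd
    have hmev : Even m := by
      have h1 : Even (q * m) := hm ▸ hpodd.add_one
      exact (Nat.even_mul.1 h1).resolve_left (Nat.not_even_iff_odd.2 hqodd)
    obtain ⟨k, rfl⟩ := hmev
    have hk : 1 ≤ k := by rcases k with _ | k <;> omega
    have h2 : 2 * q ≤ p + 1 := by
      have : q * 2 ≤ q * (k + k) := Nat.mul_le_mul_left _ (by omega)
      omega
    refine ⟨by omega, ?_, by omega⟩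
    have h3 : (2 * p - 2) * q ≤ n * q := by
      have h4 : (p - 1) * (2 * q) ≤ (p - 1) * (p + 1) := Nat.mul_le_mul_left _ h2
      have h5 : (p - 1) * (p + 1) + 1 = p ^ 2 := by
        obtain ⟨r, rfl⟩ : ∃ r, p = r + 1 := ⟨p - 1, by omega⟩
        simp only [Nat.add_sub_cancel]; ring
      have h6 : (2 * p - 2) * q = (p - 1) * (2 * q) := by
        rw [show 2 * p - 2 = (p - 1) * 2 by omega]; ring
      omega
    have := Nat.le_of_mul_le_mul_right h3 (by omega)
    omega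
  -- transfer to `G`
  have hoffK : ∀ θ : ↥K → ℂ, ∀ x : ↥M, (x : G) ∉ ⁅M, M⁆ → indFun K θ x = 0 := fun θ x hx =>
    CliffordChar.indFun_not_mem K θ hx
  have hsupp : ∀ f : ↥M → ℂ, f 1 = 0 → (∀ x : ↥M, (x : G) ∉ ⁅M, M⁆ → f x = 0) →
      ∀ x : ↥M, (x : G) ∉ coreA0 M → f x = 0 := by
    intro f hf1 hf x hx
    by_cases hxK : (x : G) ∈ ⁅M, M⁆
    · by_cases hx1 : x = 1
      · rw [hx1, hf1]
      · exact absurd (h.mem_coreA0 hxK fun e => hx1 (Subtype.ext e)) hx
    · exact hf x hxK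
  have hone : ∀ f : ↥M → ℂ, IsClassFunction ↥M f → (∀ x : ↥M, (x : G) ∉ coreA0 M → f x = 0) →
      classInner (τ f) (fun _ => 1) = classInner f (μ 1) := by
    intro f hf hfA
    rw [hτdef, dade_reciprocity hD hf hfA fun _ _ => rfl, hc.mu.mu_one.1]
    unfold classInner
    congr 1
    refine Finset.sum_congr rfl fun x _ => ?_
    by_cases hx : (x : G) ∈ coreA0 M
    · rw [dadeRho_one, if_pos hx]
    · rw [hfA x hx, zero_mul, zero_mul]
  have hres1 : colSum μ 1 = indFun K (fun _ => (1 : ℂ)) := by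
    rw [← (hc.mu.resK_facts 1).2]
    have : resK M ⁅M, M⁆ (μ 1) = fun _ => 1 := by rw [hc.mu.mu_one.1]; rfl
    rw [this]
    rfl
  have hζmu : ∀ φ ∈ Y, ∀ ω, classInner φ (μ ω) = 0 := by
    intro φ hφ
    rcases hc.cases (hSseq ▸ hYD ((hmY φ).1 hφ)) with ⟨ω, -, e⟩ | ⟨-, e⟩
    · exact absurd (e ▸ (h.linear_irr ((hmY φ).1 hφ)).1) (hc.dade.colSum_not_irr hc.mu ω)
    · exact e
  have hcolY : ∀ φ ∈ Y, ∀ ω, classInner (colSum μ ω) φ = 0 := fun φ hφ ω => by
    rw [colSum, classInner_sum_left]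
    exact Finset.sum_eq_zero fun π _ => classInner_symm_zero (hζmu φ hφ π)
  -- the rectangle
  set R := colClass (1 : ↥(W₁ ⊔ W₂) →* ℂˣ) with hRdef
  set C := Finset.univ.filter fun ν : ↥(W₁ ⊔ W₂) →* ℂˣ =>
    ∀ w : ↥(W₁ ⊔ W₂), (w : G) ∈ W₁ → ν w = 1 with hCdef
  have hRcard : R.card = q := MuFamily.card_colClass (h := hc.dade.toPrimeTI) 1
  have hRtriv : ∀ φ ∈ R, ∀ w : ↥(W₁ ⊔ W₂), (w : G) ∈ W₂ → φ w = 1 := fun φ hφ w hw =>
    (mem_colClass.1 hφ w hw).trans (MonoidHom.one_apply w)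
  have hCtriv : ∀ ν ∈ C, ∀ w : ↥(W₁ ⊔ W₂), (w : G) ∈ W₁ → ν w = 1 := fun ν hν =>
    (Finset.mem_filter.1 hν).2
  have hCcard : C.card = p := by
    rw [← hW₂, ← card_lin_factor₂ hP h.primeTI.comm, Nat.card_eq_fintype_card, Fintype.card_subtype]
  have hR1 : (1 : ↥(W₁ ⊔ W₂) →* ℂˣ) ∈ R := mem_colClass.2 (sameCol_refl 1)
  have hC1 : (1 : ↥(W₁ ⊔ W₂) →* ℂˣ) ∈ C := by simp [hCdef]
  have hCne : ∀ ν ∈ C.erase 1, ¬ SameCol ν 1 := fun ν hν e => (Finset.mem_erase.1 hν).1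
    (hP.lin_ext (fun w hw => by rw [hCtriv ν (Finset.mem_erase.1 hν).2 w hw, MonoidHom.one_apply]) e)
  have hlsndC : ∀ ω, hP.lsnd ω ∈ C := fun ω => Finset.mem_filter.2
    ⟨Finset.mem_univ _, fun w hw => hP.lsnd_apply_of_mem₁ ω hw⟩
  have hlsndne : ∀ ω, ¬ SameCol ω 1 → hP.lsnd ω ≠ 1 := fun ω hω e => hω fun w hw => by
    rw [← hP.lsnd_apply_of_mem₂ ω hw, e]
  have hinj : ∀ a ∈ R, ∀ b ∈ C, ∀ a' ∈ R, ∀ b' ∈ C, a * b = a' * b' → a = a' ∧ b = b' := by
    intro a ha b hb a' ha' b' hb' e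
    refine ⟨?_, ?_⟩
    · rw [← (hP.split_mul (hRtriv a ha) (hCtriv b hb)).1, e,
        (hP.split_mul (hRtriv a' ha') (hCtriv b' hb')).1]
    · rw [← (hP.split_mul (hRtriv a ha) (hCtriv b hb)).2, e,
        (hP.split_mul (hRtriv a' ha') (hCtriv b' hb')).2]
  have hcolC : ∀ ν ∈ C, ∀ f : (↥(W₁ ⊔ W₂) →* ℂˣ) → ℂ,
      ∑ π ∈ colClass ν, f π = ∑ i ∈ R, f (i * ν) := by
    intro ν hν f
    have e : hP.lsnd ν = ν := hP.lin_ext
      (fun w hw => by rw [hP.lsnd_apply_of_mem₁ ν hw, hCtriv ν hν w hw])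
      fun w hw => hP.lsnd_apply_of_mem₂ ν hw
    rw [sum_colClass_eq hP ν f, e]
  have mul1 : ∀ ρ : ↥(W₁ ⊔ W₂) →* ℂˣ, ρ * 1 = ρ := fun ρ => MonoidHom.ext fun w => mul_one _
  have one1 : ∀ ρ : ↥(W₁ ⊔ W₂) →* ℂˣ, 1 * ρ = ρ := fun ρ => MonoidHom.ext fun w => one_mul _
  -- coefficients of a virtual character vanishing on `V`
  have hrect : ∀ (T : G → ℂ) (c : (↥(W₁ ⊔ W₂) →* ℂˣ) → ℤ), IsClassFunction G T →
      (∀ w : ↥(W₁ ⊔ W₂), (w : G) ∉ W₁ → (w : G) ∉ W₂ → T w = 0) →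
      (∀ π, classInner T (η π) = (c π : ℂ)) →
      ∀ i ∈ R, ∀ ν ∈ C, c (i * ν) = c i + c ν - c 1 := by
    intro T c hT hTV hc' i hi ν hν
    have h1 := S1506.rectangle hP hc.eta hT hTV (φ := i) (φ' := 1) (ψ := ν) (ψ' := 1)
      (hRtriv i hi) (fun w _ => rfl) (hCtriv ν hν) (fun w _ => rfl)
    rw [mul1, one1, mul1, hc', hc', hc', hc'] at h1
    have h2 : c (i * ν) + c 1 = c i + c ν := by exact_mod_cast h1
    omega
  -- `τ (Ind 1 - ζ)`
  set γ : ↥M → ℂ := colSum μ 1 - ζ with hγdef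
  obtain ⟨θ₀, hθ₀, -, -, hζe⟩ := hζY
  have hγ1 : γ 1 = 0 := by
    rw [hγdef, Pi.sub_apply, hc.mu.colSum_apply_K 1 (x := 1) (one_mem _), hc.mu.mu_one.1, hζ1,
      mul_one, sub_self]
  have hγoff : ∀ x : ↥M, (x : G) ∉ ⁅M, M⁆ → γ x = 0 := fun x hx => by
    rw [hγdef, Pi.sub_apply, hres1, hζe, hoffK _ x hx, hoffK _ x hx, sub_self]
  have hγA := hsupp γ hγ1 hγoff
  have hγgc : IsGeneralizedCharacter ↥M γ :=
    isGC_sub (isGC_of_isCharacter (hres1 ▸ IsCharacter.indFun K (IsIrrCharacter.isCharacter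
      isIrrCharacter_one))) (isGC_of_irr hζi)
  have hγcl := isGC_isClassFunction hγgc
  have hcol11 : classInner (colSum μ 1) (colSum μ 1) = (q : ℂ) := by
    rw [hc.mu.inner_colSum, if_pos (sameCol_refl _)]
  have hcolζ := hcolY ζ P.mem
  have hζcol : ∀ ω, classInner ζ (colSum μ ω) = 0 := fun ω => classInner_symm_zero (hcolζ ω)
  set β := τ γ with hβdef
  have hβgc : IsGeneralizedCharacter G β := Dade.dadeIsometry_isGeneralized hD hγgc hγA
  have hββ : classInner β β = (((q : ℤ) + 1 : ℤ) : ℂ) := by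
    rw [hβdef, hτdef, dadeIsometry_inner hD hγcl hγA hγcl hγA, hγdef]
    simp only [classInner_sub_left, classInner_sub_right, hcol11, hζcol, hcolζ, hζn]
    push_cast
    ring
  have hSA : ∀ α ∈ zspanOn S {1}ᶜ,
      IsClassFunction ↥M α ∧ ∀ x : ↥M, (x : G) ∉ coreA0 M → α x = 0 := fun α hα =>
    ⟨(h.zspanOn_supp hα).1, hsupp α (hα.2 1 (by simp))
      fun x hx => (h.zspanOn_supp hα).2 x (Or.inl hx)⟩
  have hβα : ∀ α ∈ zspanOn S {1}ᶜ, classInner β (τ α) = classInner γ α := fun α hα => by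
    rw [hβdef, hτdef, dadeIsometry_inner hD hγcl hγA (hSA α hα).1 (hSA α hα).2]
  choose cβ hcβ using fun π => classInner_gc_int hβgc (isGC_signed (hc.eta.irr_or_neg π))
  obtain ⟨t₀, ht₀⟩ := classInner_gc_int hβgc (P.image_gc P.mem)
  have hβY : ∀ φ ∈ Y, classInner β (τ₁ φ) = ((t₀ + 1 + if φ = ζ then -1 else 0 : ℤ) : ℂ) := by
    intro φ hφ
    have h1 := hβα _ (zspanOn_mono P.sub (P.sub_mem hφ P.mem))
    rw [P.tau_sub hφ P.mem, classInner_sub_right, classInner_sub_right, ht₀] at h1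
    split_ifs with e
    · subst e; rw [ht₀]; push_cast; ring
    · have e1 : classInner γ φ = 0 := by
        rw [hγdef, classInner_sub_left, hcolY φ hφ,
          hsys.orthogonal ζ (P.sub P.mem) φ (P.sub hφ) (Ne.symm e), sub_self]
      have e2 : classInner γ ζ = -1 := by
        rw [hγdef, classInner_sub_left, hcolζ, hζn]; ring
      rw [e1, e2] at h1
      push_cast
      linear_combination h1
  have hcβ1 : cβ 1 = 1 := by
    have h1 := hcβ 1
    rw [hc.eta.map_one, hβdef, hone γ hγcl hγA, hγdef, classInner_sub_left, hζmu ζ P.mem 1,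
      classInner_symm_eq (r := 1) (by
        rw [hc.mu.inner_mu_colSum, if_pos (sameCol_refl _), Complex.ofReal_one])] at h1
    simp only [sub_zero, Complex.ofReal_one] at h1
    exact_mod_cast h1.symm
  have hβV : ∀ w : ↥(W₁ ⊔ W₂), (w : G) ∉ W₁ → (w : G) ∉ W₂ → β w = 0 :=
    fun w h1 h2 => hc.tau_apply_V hγcl hγoff w h1 h2
  have hrβ := hrect β cβ (isGC_isClassFunction hβgc) hβV hcβ
  have hsame : ∀ ω ν, ¬ SameCol ω 1 → ¬ SameCol ν 1 → μ ω 1 = μ ν 1 := fun ω ν h1 h2 => by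
    rw [hdeg ω h1, hdeg ν h2]
  have hdiffS : ∀ ω ν, ¬ SameCol ω 1 → ¬ SameCol ν 1 → colSum μ ω - colSum μ ν ∈ zspanOn S {1}ᶜ :=
    fun ω ν h1 h2 => mem_zspanOn_one.2
      ⟨zspan_sub (subset_zspan (hSseq ▸ hc.colSum_mem h1)) (subset_zspan (hSseq ▸ hc.colSum_mem h2)),
        by simp [hc.mu.colSum_apply_K _ (x := 1) (one_mem _), hsame ω ν h1 h2]⟩
  have hpairC : ∀ (T : G → ℂ) (c : (↥(W₁ ⊔ W₂) →* ℂˣ) → ℤ),
      (∀ π, classInner T (η π) = (c π : ℂ)) →
      (∀ i ∈ R, ∀ ν ∈ C, c (i * ν) = c i + c ν - c 1) → ∀ ω ∈ C.erase 1, ∀ ν ∈ C.erase 1,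
      classInner T (τ (colSum μ ω - colSum μ ν)) = δ ω * (((q : ℤ) * (c ω - c ν) : ℤ) : ℂ) := by
    intro T c hc' hr ω hω ν hν
    rw [hτdef, hc.tau_colSum_sub (hCne ω hω) (hCne ν hν) (hsame ω ν (hCne ω hω) (hCne ν hν)),
      classInner_smul_right, classInner_sub_right, classInner_sum_right, classInner_sum_right,
      hc.mu.sign_conj, hcolC ω (Finset.mem_erase.1 hω).2, hcolC ν (Finset.mem_erase.1 hν).2,
      ← Finset.sum_sub_distrib, Finset.sum_congr rfl (g := fun _ => (((c ω - c ν : ℤ)) : ℂ))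
      fun i hi => by
        rw [hc', hc', hr i hi ω (Finset.mem_erase.1 hω).2, hr i hi ν (Finset.mem_erase.1 hν).2]
        push_cast; ring, Finset.sum_const, hRcard, nsmul_eq_mul]
    push_cast
    ring
  -- the main step
  have hcol : ∀ ω, ¬ SameCol ω 1 → pivotDev τ ζ ψ (colSum μ ω - (p : ℤ) • ζ) = 0 := by
    intro ω hω
    set χ := colSum μ ω with hχdef
    have hχS : χ ∈ S := hSseq ▸ hc.colSum_mem hω
    have hχY : χ ∉ Y := fun e =>
      hc.dade.colSum_not_irr hc.mu ω (h.linear_irr ((hmY _).1 e)).1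
    have hd : χ 1 = ((p : ℤ) : ℂ) * ζ 1 := by
      rw [hχdef, hc.mu.colSum_apply_K ω (x := 1) (one_mem _), hdeg ω hω, hζ1]; push_cast; ring
    have hα := P.char_sub_mem hχS hd
    set α := χ - (p : ℤ) • ζ with hαdef
    obtain ⟨a, ha, hab⟩ := P.dev_char hχS hχY hd
    rw [ha]
    have ha01 : a = 0 ∨ a = 1 := by
      rw [← hn] at hab
      have h1 : 0 ≤ a := by
        by_contra hlt
        nlinarith [mul_nonneg (Int.natCast_nonneg n) (sq_nonneg a),
          (show (0 : ℤ) < p by exact_mod_cast hp.pos)]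
      have h2 : a ≤ 1 := by
        by_contra hlt
        have h3 : (n : ℤ) * a ≤ 2 * p := by nlinarith
        have h4 : (n : ℤ) * 2 ≤ n * a := mul_le_mul_of_nonneg_left (by omega) (Int.natCast_nonneg n)
        omega
      omega
    set Φ := τ α with hΦdef
    have hΦgc : IsGeneralizedCharacter G Φ := hsys.isometry.2.2.2 _ hα
    choose cΦ hcΦ using fun π => classInner_gc_int hΦgc (isGC_signed (hc.eta.irr_or_neg π))
    have hΦ1 : cΦ 1 = 0 := by
      have h1 := hcΦ 1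
      rw [hc.eta.map_one, hΦdef, hone α (hSA α hα).1 (hSA α hα).2, hαdef, hχdef,
        classInner_sub_left, classInner_zsmul_left, hζmu ζ P.mem 1, mul_zero, sub_zero,
        classInner_symm_eq (r := 0) (by
          rw [hc.mu.inner_mu_colSum, if_neg (fun e : SameCol 1 ω => hω e.symm),
            Complex.ofReal_zero])] at h1
      simp only [Complex.ofReal_zero] at h1
      exact_mod_cast h1.symm
    have hrΦ := hrect Φ cΦ (isGC_isClassFunction hΦgc)
      (fun w h1 h2 => hc.tau_apply_V (hSA α hα).1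
        (fun x hx => (h.zspanOn_supp hα).2 x (Or.inl hx)) w h1 h2) hcΦ
    set ω' := hP.lsnd ω with hω'def
    have hω'C : ω' ∈ C.erase 1 := Finset.mem_erase.2 ⟨hlsndne ω hω, hlsndC ω⟩
    have hω'col : SameCol ω' ω := fun w hw => hP.lsnd_apply_of_mem₂ ω hw
    obtain ⟨s, hs, hsδ⟩ : ∃ s : ℤ, (s = 1 ∨ s = -1) ∧ δ ω' = (s : ℂ) := by
      rcases hc.mu.sign ω' with e | e
      · exact ⟨1, Or.inl rfl, by simp [e]⟩
      · exact ⟨-1, Or.inr rfl, by simp [e]⟩
    have hv : ∀ ν ∈ (C.erase 1).erase ω', cΦ ν = cΦ ω' - s := by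
      intro ν hν
      obtain ⟨hne, hνC⟩ := Finset.mem_erase.1 hν
      have h1 := hpairC Φ cΦ hcΦ hrΦ ω' hω'C ν hνC
      rw [hΦdef, hsys.isometry.2.2.1 _ hα _ (hdiffS ω' ν (hCne _ hω'C) (hCne ν hνC)), hsδ] at h1
      have e1 : ¬ SameCol ω ν := fun e => hne (hP.lin_ext
        (fun w hw => by rw [hCtriv ν (Finset.mem_erase.1 hνC).2 w hw, hCtriv ω' (hlsndC ω) w hw])
        fun w hw => ((hω'col.trans e) w hw).symm)
      simp only [hαdef, hχdef, classInner_sub_left, classInner_sub_right, classInner_zsmul_left,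
        hζcol, hc.mu.inner_colSum, if_pos hω'col.symm, if_neg e1, mul_zero, sub_zero] at h1
      have h2 : (q : ℤ) * 1 = (q : ℤ) * (s * (cΦ ω' - cΦ ν)) := by
        have : (((q : ℤ) * 1 : ℤ) : ℂ) = (((q : ℤ) * (s * (cΦ ω' - cΦ ν)) : ℤ) : ℂ) := by
          push_cast at h1 ⊢
          linear_combination h1
        exact_mod_cast this
      have h3 := mul_left_cancel₀ (by omega) h2
      rcases hs with rfl | rfl <;> omega
    have hN : classInner Φ Φ = (((q : ℤ) + (p : ℤ) ^ 2 : ℤ) : ℂ) := by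
      rw [hΦdef, hsys.isometry.2.2.1 _ hα _ hα, hαdef, P.char_norm hχS hχY, hχdef,
        hc.mu.inner_colSum, if_pos (sameCol_refl _)]
      push_cast
      rfl
    have hxY : ∀ φ ∈ Y, classInner Φ (τ₁ φ) = ((a + if φ = ζ then -(p : ℤ) else 0 : ℤ) : ℂ) := by
      intro φ hφ
      rw [hΦdef, P.coeff hα hφ, ha, Pivot.char_inner P hχS hχY _ hφ]
      split_ifs <;> simp
    have hb := pivot_family_bound hc.eta Y (fun φ hφ => P.image_norm hφ)
      (fun φ hφ φ' hφ' hne => P.image_orth hφ hφ' hne) hYη R C hinj hN hxY hcΦ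
    have hsumY : ∀ b d : ℤ, ∑ φ ∈ Y, (b + if φ = ζ then -d else 0) ^ 2 =
        (n : ℤ) * b ^ 2 - 2 * d * b + d ^ 2 := by
      intro b d
      rw [Finset.sum_congr rfl (g := fun φ => b ^ 2 + if φ = ζ then -2 * d * b + d ^ 2 else 0)
        fun φ _ => by split_ifs <;> ring, Finset.sum_add_distrib, Finset.sum_const,
        Finset.sum_ite_eq', if_pos P.mem, nsmul_eq_mul, ← hn]
      ring
    have hrows : ∀ i ∈ R, ∑ j ∈ C, cΦ (i * j) ^ 2 =
        cΦ i ^ 2 + (cΦ i + cΦ ω') ^ 2 + ((p : ℤ) - 2) * (cΦ i + (cΦ ω' - s)) ^ 2 := by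
      intro i hi
      rw [← Finset.add_sum_erase _ _ hC1, ← Finset.add_sum_erase _ _ hω'C,
        Finset.sum_congr rfl (g := fun _ => (cΦ i + (cΦ ω' - s)) ^ 2) fun ν hν => by
          rw [hrΦ i hi ν (Finset.mem_erase.1 (Finset.mem_erase.1 hν).2).2, hΦ1, hv ν hν, sub_zero],
        hrΦ i hi ω' (hlsndC ω), hΦ1, mul1, Finset.sum_const, Finset.card_erase_of_mem hω'C,
        Finset.card_erase_of_mem hC1, hCcard, nsmul_eq_mul, Nat.cast_sub (by omega),
        Nat.cast_sub (by omega)]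
      push_cast
      ring
    rw [hsumY a p, Finset.sum_congr rfl hrows] at hb
    have hzero := cube_rows_eq_zero R hR1 cΦ hΦ1 (u := cΦ ω') (v := cΦ ω' - s)
      (by rcases hs with rfl | rfl <;> simp) hp5 (by
        rw [hRcard]
        rcases ha01 with rfl | rfl <;> omega)
    -- against `β`
    obtain ⟨g, hg⟩ : ∃ g, ∀ ν ∈ C.erase 1, cβ ν = g + 1 := by
      refine ⟨cβ ω' - 1, fun ν hν => ?_⟩
      have h1 := hpairC β cβ hcβ hrβ ω' hω'C ν hν
      rw [hβα _ (hdiffS ω' ν (hCne _ hω'C) (hCne ν hν))] at h1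
      simp only [hγdef, classInner_sub_left, classInner_sub_right, hζcol, hc.mu.inner_colSum,
        if_neg (fun e : SameCol 1 ω' => hCne _ hω'C e.symm),
        if_neg (fun e : SameCol 1 ν => hCne _ hν e.symm), sub_zero] at h1
      have h2 := (mul_eq_zero.1 h1.symm).resolve_left (hc.mu.sign_ne ω')
      have h3 : (q : ℤ) * (cβ ω' - cβ ν) = 0 := by exact_mod_cast h2
      have h4 := (mul_eq_zero.1 h3).resolve_left (by omega)
      omega
    have hbβ := pivot_family_bound hc.eta Y (fun φ hφ => P.image_norm hφ)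
      (fun φ hφ φ' hφ' hne => P.image_orth hφ hφ' hne) hYη R C hinj hββ hβY hcβ
    have hrowsβ : ∀ i ∈ R, ∑ j ∈ C, cβ (i * j) ^ 2 =
        cβ i ^ 2 + ((p : ℤ) - 1) * (cβ i + g) ^ 2 := by
      intro i hi
      rw [← Finset.add_sum_erase _ _ hC1,
        Finset.sum_congr rfl (g := fun _ => (cβ i + g) ^ 2) fun ν hν => by
          rw [hrβ i hi ν (Finset.mem_erase.1 hν).2, hcβ1, hg ν hν]; ring,
        mul1, Finset.sum_const, Finset.card_erase_of_mem hC1, hCcard, nsmul_eq_mul,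
        Nat.cast_sub (by omega)]
      push_cast
      ring
    rw [hsumY (t₀ + 1) 1, Finset.sum_congr rfl hrowsβ] at hbβ
    obtain ⟨-, ht, hall⟩ := cube_rows_eq_one R hR1 cβ hcβ1 (g := g) (t := t₀ + 1) (n := n) (P := p)
      (by omega) (by omega) (by omega) (by rw [hRcard]; linarith)
    set E := ∑ i ∈ R, η i with hEdef
    have hβE : classInner β E = (q : ℂ) := by
      rw [hEdef, classInner_sum_right, Finset.sum_congr rfl (g := fun _ => (1 : ℂ))
        (fun i hi => by rw [hcβ, hall i hi, Int.cast_one]), Finset.sum_const, hRcard, nsmul_eq_mul,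
        mul_one]
    have hEβ : classInner E β = (q : ℂ) := by rw [← classInner_conj_symm, hβE, Complex.conj_natCast]
    have hβψ : classInner β ψ = -1 := by
      rw [hψdef, ht₀, show t₀ = -1 by omega]; norm_num
    have hψβ : classInner ψ β = -1 := by rw [← classInner_conj_symm, hβψ, map_neg, map_one]
    have hψE : classInner ψ E = 0 := by
      rw [hEdef, classInner_sum_right]
      exact Finset.sum_eq_zero fun i _ => hYη ζ P.mem i
    have hEψ : classInner E ψ = 0 := classInner_symm_zero hψE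
    have hEE : classInner E E = (q : ℂ) := by
      rw [hEdef, classInner_sum_left, Finset.sum_congr rfl (g := fun _ => (1 : ℂ)) (fun i hi => ?_),
        Finset.sum_const, hRcard, nsmul_eq_mul, mul_one]
      rw [classInner_sum_right, Finset.sum_eq_single i (fun j _ e => by
        rw [hc.eta.orthonormal, if_neg e.symm]) fun e => absurd hi e, hc.eta.orthonormal, if_pos rfl]
    have hβeq : β = E - ψ := by
      refine sub_eq_zero.1 (classInner_self_eq_zero.1 ?_)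
      simp only [classInner_sub_left, classInner_sub_right, hββ, hβE, hβψ, hEβ, hψβ, hEψ, hψE, hEE,
        hψψ]
      push_cast
      ring
    have hΦE : classInner Φ E = 0 := by
      rw [hEdef, classInner_sum_right]
      exact Finset.sum_eq_zero fun i hi => by rw [hcΦ, hzero i hi, Int.cast_zero]
    have hΦψ : classInner Φ ψ = ((a - (p : ℤ) : ℤ) : ℂ) := by
      rw [hψdef, hxY ζ P.mem, if_pos rfl]; push_cast; ring
    have hβΦ : classInner β Φ = ((p : ℤ) : ℂ) := by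
      rw [hΦdef, hβα α hα, hαdef, hγdef, hχdef]
      simp only [classInner_sub_left, classInner_sub_right, classInner_zsmul_right,
        hc.mu.inner_colSum, if_neg (fun e : SameCol 1 ω => hω e.symm), hcolζ, hζcol, hζn]
      push_cast
      ring
    have hfin : classInner Φ β = ((p : ℤ) : ℂ) := classInner_symm_of_int hβΦ
    rw [hβeq, classInner_sub_right, hΦE, hΦψ, zero_sub] at hfin
    push_cast at hfin ⊢
    linear_combination -hfin
  -- conclusion
  refine coherent_of_pivot hsys.isometry ?_ (hYD ((hmY ζ).1 P.mem)) hζn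
    (by rw [hζ1]; exact Nat.cast_ne_zero.2 (by omega)) (P.image_gc P.mem) hψψ fun φ hφ => ?_
  · exact ⟨_, zspanOn_mono P.sub (P.sub_mem (P.conj_closed ζ P.mem) P.mem),
      sub_ne_zero.2 (hsys.conj_ne ζ (P.sub P.mem))⟩
  · rcases hmem φ hφ with hφY | ⟨ω, hω, rfl⟩
    · exact ⟨1, by rw [P.deg φ ((hmY φ).2 hφY), Int.cast_one, one_mul],
        by rw [one_zsmul]; exact P.dev_self ((hmY φ).2 hφY)⟩
    · refine ⟨p, ?_, hcol ω hω⟩
      rw [hc.mu.colSum_apply_K ω (x := 1) (one_mem _), hdeg ω hω, hζ1]; push_cast; ring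

end TypeVData

end Cfsg.Agent.Peterfalvi
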