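import Cfsg.Agent.Lib.Peterfalvi.Sec10TypeVTI
import Cfsg.Agent.Lib.Peterfalvi.Sec10TypeVCube
import Cfsg.Agent.Lib.Peterfalvi.Sec10NoTypeV
import Cfsg.Agent.Lib.Cores.Basic
import Cfsg.Agent.S1521

/-!
# Peterfalvi (10.10): `S(M')` is coherent for a subgroup of Type V (owner: helper40)

* `TypeVData.coherent_of_not_exceptional` : through (6.8), unless `M'` is a `p`-group with
  `|W₁| ∤ p - 1`
* `TypeVData.card_derived_eq`
* `typeVCoherent` : the coherence half of (10.10)
* `noTypeV` : Peterfalvi (10.10), no maximal subgroup is of Type V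
-/

set_option autoImplicit false
set_option linter.unusedSectionVars false

namespace Cfsg.Agent.Peterfalvi

open scoped Pointwise commutatorElement
open Cfsg OddMax Cfsg.Agent.Coherence Cfsg.Agent.Char

universe u

variable {G : Type u} [Group G]

namespace TypeVData

variable [Fintype G] {M W₁ W₂ : Subgroup G} (h : TypeVData M W₁ W₂)
include h

theorem card_derived_eq : Nat.card (fittingHallOf M) = Nat.card (derivedIn M) :=
  Nat.card_congr ((MulEquiv.subgroupCongr h.fittingHall_eq).trans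
    (Subgroup.subgroupOfEquivOfLe h.data.W₁_compl.1).symm).toEquiv

variable [Fintype ↥M]

/-- Outside the exceptional configuration `S(M')` is coherent by (6.8). -/
theorem coherent_of_not_exceptional
    (hgood : (¬ ∃ p m : ℕ, p.Prime ∧ Nat.card (derivedIn M) = p ^ m) ∨
      (∃ p m : ℕ, p.Prime ∧ Nat.card (derivedIn M) = p ^ m ∧ Nat.card W₁ ∣ p - 1)) :
    IsCoherent (inducedIrrAbove (derivedIn M) ⊥) {1}ᶜ
      (dadeIsometry (coreA0 M) M (supportR M)) := by
  classical
  haveI := derivedIn_normal M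
  haveI := h.nilpotent
  obtain ⟨R, hR⟩ := h.exists_system
  have hKL : derivedIn M < ⊤ := lt_top_iff_ne_top.2 fun e => by
    have h1 := h.index_eq
    rw [e, Subgroup.index_top] at h1
    exact h.data.W₁_ne (Subgroup.eq_bot_of_card_eq _ h1.symm)
  refine S1521.result (derivedIn M) inferInstance _ R hR (OddSigma.odd_card h.minimal M) ⊥
    bot_le inferInstance ⁅derivedIn M, derivedIn M⁆ (by simp) h.derived_lt hKL
    h.primeAct.frob_derived ?_
  rw [h.index_eq, Subgroup.relIndex_bot_left]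
  rcases hgood with h' | h'
  · exact Or.inr (Or.inr (Or.inl h'))
  · exact Or.inr (Or.inr (Or.inr (Or.inr h')))

end TypeVData

/-- The coherence half of Peterfalvi (10.10). -/
theorem typeVCoherent [Fintype G] (hG : IsMinSimpleOddOrder G) : TypeVCoherent G := by
  classical
  intro M W₁ U W₂ _ hM hP hU hcase
  subst hU
  have h : TypeVData M W₁ W₂ := ⟨hG, hM, hP⟩
  by_cases hpm : ∃ p m : ℕ, p.Prime ∧ Nat.card (derivedIn M) = p ^ m
  swap
  · exact h.coherent_of_not_exceptional (Or.inl hpm)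
  obtain ⟨p, m, hp, hm⟩ := hpm
  by_cases hdiv : Nat.card W₁ ∣ p - 1
  · exact h.coherent_of_not_exceptional (Or.inr ⟨p, m, hp, hm, hdiv⟩)
  haveI := Fact.mk hp
  have hpK : IsPGroup p (derivedIn M) := IsPGroup.iff_card.2 ⟨m, hm⟩
  have heq : ∀ {p' : ℕ}, p'.Prime → p' ∣ Nat.card (fittingHallOf M) → p' = p := fun hp' hd => by
    rw [h.card_derived_eq, hm] at hd
    exact (Nat.prime_dvd_prime_iff_eq hp' hp).1 (hp'.dvd_of_dvd_pow hd)
  rcases hcase with hTI | ⟨p', hp', hd, hdv, -⟩ | ⟨p', hp', hd, hc, hdv, -⟩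
  · exact h.coherent_ti hTI hpK
  · exact absurd (heq hp' hd ▸ hdv) hdiv
  · obtain rfl := heq hp' hd
    refine h.coherent_cube hp ?_ hdv
    have hH : IsPGroup p' ↥(fittingHallOf M) :=
      IsPGroup.iff_card.2 ⟨m, h.card_derived_eq.trans hm⟩
    rw [Cores.pCore_eq_top_iff.2 hH, Subgroup.card_top] at hc
    exact h.card_derived_eq.symm.trans hc

/-- Peterfalvi (10.10): no maximal subgroup is of Type V. -/
theorem noTypeV [Fintype G] (hG : IsMinSimpleOddOrder G) :
    ∀ N : Subgroup G, IsCoatom N → ¬ IsOfTypeV N :=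
  noTypeV_of hG (typeVCoherent hG)

end Cfsg.Agent.Peterfalvi
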