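import Cfsg.Agent.Lib.Coherence.InducedSet
import Cfsg.Agent.Lib.Coherence.FrobKernel
import Cfsg.Agent.Lib.FPF.Basic

/-!
# A cyclic group acting on a nilpotent kernel with small fixed points (owner: helper40)

`PrimeAct K W C₀`: `L = K W` with `W` coprime to `K` and every nonidentity element of `W` having
all its fixed points on `K` in `C₀ ≤ K'`, the situation of a subgroup of Type V.

* `PrimeAct.fixed_coset`, `PrimeAct.frob_derived`, `PrimeAct.orbit_card`
* `PrimeAct.irr_of_moved`, `PrimeAct.irr_of_ker`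
* `degree_derived`, `sq_degree_le`
-/

set_option autoImplicit false
set_option linter.unusedSectionVars false

namespace Cfsg.Agent.Peterfalvi

open Cfsg Cfsg.Agent Cfsg.Agent.Char Cfsg.Agent.Coherence
open scoped commutatorElement ComplexConjugate

universe u

variable {L : Type u} [Group L] {K W C₀ : Subgroup L}

/-- `L = K W` and nonidentity elements of `W` fix only points of `C₀ ≤ K'` on `K`. -/
structure PrimeAct (K W C₀ : Subgroup L) : Prop where
  decomp : ∀ x : L, ∃ a ∈ K, ∃ w ∈ W, x = a * w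
  coprime : (Nat.card W).Coprime (Nat.card K)
  fixed : ∀ v ∈ W, v ≠ 1 → ∀ c ∈ K, v * c = c * v → c ∈ C₀
  le : C₀ ≤ ⁅K, K⁆

/-- If the commutators with `a` lie in the kernel then `a` acts as a scalar. -/
theorem char_mul_of_commutator_ker [Finite L] {θ : K → ℂ} (hθ : IsIrrCharacter K θ) {a : K}
    (hker : ∀ g : K, θ (a * g * a⁻¹ * g⁻¹) = θ 1) (b : K) : θ (a * b) * θ 1 = θ a * θ b := by
  obtain ⟨n, ρ, hρ, rfl⟩ := hθ
  obtain ⟨c, hc⟩ := CharApp.exists_scalar_of_commute (ρ := ρ) (ρ a) fun g => by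
    have h1 : ρ (a * g * a⁻¹ * g⁻¹) = LinearMap.id := by
      rw [← character_eq_finrank_iff, hker g, Representation.char_one]
    rw [← map_mul, ← map_mul, show a * g = (a * g * a⁻¹ * g⁻¹) * (g * a) by group, map_mul, h1]
    rfl
  have key : ∀ k : K, ρ.character (a * k) = c * ρ.character k := fun k => by
    simp [Representation.character, map_mul, hc]
  have h1 := key 1
  rw [mul_one] at h1
  rw [key, h1]
  ring

/-- `θ(1)² ≤ [K:Z]` when `Z` lies in the kernel. -/
theorem sq_degree_le [Finite L] {Z : Subgroup L} [Z.Normal] {θ : K → ℂ} (hθ : IsIrrCharacter K θ)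
    (hZ : ∀ a : K, (a : L) ∈ Z → θ a = θ 1) {d : ℕ} (hd : θ 1 = (d : ℂ)) :
    d ^ 2 ≤ Z.relIndex K := by
  classical
  haveI := Fintype.ofFinite (IrrCharacter K)
  have h := Codegree.index_sum (G := K) (Z.subgroupOf K)
  set F := Finset.univ.filter (fun χ : IrrCharacter K => Z.subgroupOf K ≤ Codegree.kerSub χ) with hF
  have hmem : (⟨θ, hθ⟩ : IrrCharacter K) ∈ F := by
    simp only [hF, Finset.mem_filter, Finset.mem_univ, true_and]
    exact fun a ha => hZ a ha
  have hd' : ∀ χ : IrrCharacter K, (χ : K → ℂ) 1 = (charDegree (χ : K → ℂ) : ℂ) := fun χ =>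
    TwoClassChar.deg_eq χ.2
  rw [Finset.sum_congr rfl (g := fun χ : IrrCharacter K => ((charDegree (χ : K → ℂ) ^ 2 : ℕ) : ℂ))
    fun χ _ => by rw [hd' χ, Nat.cast_pow], ← Nat.cast_sum, Nat.cast_inj] at h
  rw [Subgroup.relIndex, ← h]
  have he : d = charDegree θ := Nat.cast_injective (R := ℂ) (hd.symm.trans (hd' ⟨θ, hθ⟩))
  rw [he]
  exact Finset.single_le_sum (f := fun χ : IrrCharacter K => charDegree (χ : K → ℂ) ^ 2)
    (fun _ _ => Nat.zero_le _) hmem

/-- The members of `S(K')` have degree `[L:K]`. -/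
theorem degree_derived [Fintype L] [K.Normal] {φ : L → ℂ}
    (hφ : φ ∈ inducedIrrAbove K ⁅K, K⁆) : φ 1 = (K.index : ℂ) :=
  FrobK.degree_of_commutator_le (H := K) le_rfl hφ

namespace PrimeAct

variable (h : PrimeAct K W C₀) [K.Normal]
include h

/-- A coset fixed by a nonidentity element of `W` meets `C₀`. -/
theorem fixed_coset [Finite L] (D : Subgroup L) [hDn : D.Normal] (hDK : D ≤ K) {w k : L}
    (hw : w ∈ W) (hw1 : w ≠ 1) (hk : k ∈ K) (hmod : k⁻¹ * (w * k * w⁻¹) ∈ D) :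
    ∃ c ∈ C₀, k⁻¹ * c ∈ D := by
  set r := (orderOf w).minFac with hr
  have hord1 : orderOf w ≠ 1 := fun e => hw1 (orderOf_eq_one_iff.1 e)
  haveI : Fact r.Prime := ⟨Nat.minFac_prime hord1⟩
  set v := w ^ (orderOf w / r) with hv
  have hvord : orderOf v = r := orderOf_pow_orderOf_div (orderOf_pos w).ne' (Nat.minFac_dvd _)
  have hv1 : v ≠ 1 := fun e =>
    (Fact.out : r.Prime).ne_one (by rw [← hvord, e, orderOf_one])
  have hvW : v ∈ W := W.pow_mem hw _
  have hrW : r ∣ Nat.card W := hvord ▸ Subgroup.orderOf_dvd_natCard W hvW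
  let act : Subgroup.zpowers v →* MulAut K :=
    (MulAut.conjNormal (H := K)).comp (Subgroup.zpowers v).subtype
  have hA : IsPGroup r (Subgroup.zpowers v) :=
    IsPGroup.of_card (n := 1) (by rw [Nat.card_zpowers, hvord, pow_one])
  have hfix : ∀ a ∈ Subgroup.zpowers v, k⁻¹ * (a * k * a⁻¹) ∈ D := by
    have hT : ∀ a : L, k⁻¹ * (a * k * a⁻¹) ∈ D ↔
        (a : L ⧸ D) ∈ Subgroup.centralizer ({(k : L ⧸ D)} : Set (L ⧸ D)) := fun a => by
      rw [Subgroup.mem_centralizer_singleton_iff, ← QuotientGroup.eq_one_iff]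
      simp only [QuotientGroup.mk_mul, QuotientGroup.mk_inv]
      rw [inv_mul_eq_one, eq_mul_inv_iff_mul_eq, eq_comm]
    intro a ha
    obtain ⟨i, rfl⟩ := Subgroup.mem_zpowers_iff.1 ha
    rw [hT, QuotientGroup.mk_zpow]
    refine Subgroup.zpow_mem _ ?_ i
    rw [hv, QuotientGroup.mk_pow]
    exact Subgroup.pow_mem _ ((hT w).1 hmod) _
  obtain ⟨x, hx, hxf⟩ := FPF.exists_fixed_in_coset act hA (D.subgroupOf K)
    (fun a n hn => by
      show ((MulAut.conjNormal (a : L) n : K) : L) ∈ D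
      rw [MulAut.conjNormal_apply]
      exact hDn.conj_mem _ hn _)
    (fun hd => (Fact.out : r.Prime).ne_one (Nat.eq_one_of_dvd_coprimes h.coprime hrW
      (hd.trans (Subgroup.card_subgroup_dvd_card _))))
    ⟨k, hk⟩ (fun a => by
      show ((⟨k, hk⟩⁻¹ * MulAut.conjNormal (a : L) ⟨k, hk⟩ : K) : L) ∈ D
      simpa [MulAut.conjNormal_apply] using hfix a a.2)
  refine ⟨x, h.fixed v hvW hv1 x x.2 ?_, hx⟩
  have := congrArg Subtype.val (hxf ⟨v, Subgroup.mem_zpowers v⟩)
  rw [show ((act ⟨v, Subgroup.mem_zpowers v⟩ x : K) : L) = v * x * v⁻¹ from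
    MulAut.conjNormal_apply v x] at this
  exact mul_inv_eq_iff_eq_mul.1 this

/-- `L / K'` is a Frobenius group with kernel `K / K'`. -/
theorem frob_derived [Finite L] :
    ∀ k ∈ K, k ∉ ⁅K, K⁆ → ∀ x : L, x * k * x⁻¹ * k⁻¹ ∈ ⁅K, K⁆ → x ∈ K := by
  intro k hk hkD x hx
  obtain ⟨a, ha, w, hw, rfl⟩ := h.decomp x
  by_contra hxK
  have hw1 : w ≠ 1 := by rintro rfl; exact hxK (by simpa using ha)
  have hwk : w * k * w⁻¹ ∈ K := (inferInstance : K.Normal).conj_mem k hk w
  have h1 : w * k * w⁻¹ * k⁻¹ ∈ ⁅K, K⁆ := by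
    have e : w * k * w⁻¹ * k⁻¹ =
        ⁅a, w * k * w⁻¹⁆⁻¹ * (a * w * k * (a * w)⁻¹ * k⁻¹) := by
      rw [commutatorElement_def]; group
    rw [e]
    exact mul_mem (inv_mem (Subgroup.commutator_mem_commutator ha hwk)) hx
  have h2 : k⁻¹ * (w * k * w⁻¹) ∈ ⁅K, K⁆ := by
    have := (inferInstance : (⁅K, K⁆).Normal).conj_mem _ h1 k⁻¹
    simpa [mul_assoc] using this
  obtain ⟨c, hc, hck⟩ := h.fixed_coset ⁅K, K⁆ (Subgroup.commutator_le_self K) hw hw1 hk h2
  exact hkD (by simpa [mul_assoc] using mul_mem (h.le hc) (inv_mem hck))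

/-- A nontrivial coset of `A` in `B` has a regular orbit under `W`. -/
theorem orbit_card [Finite L] (A B : Subgroup L) [hAn : A.Normal] [hBn : B.Normal] (hAB : A ≤ B)
    (hBK : B ≤ K) (hC : C₀ ⊓ B ≤ A) (hne : ¬ B ≤ A) :
    Nat.card W + 1 ≤ A.relIndex B := by
  classical
  obtain ⟨k, hk, hkA⟩ := SetLike.not_le_iff_exists.1 hne
  have key : ∀ w ∈ W, w ≠ 1 → k⁻¹ * (w * k * w⁻¹) ∉ A := by
    intro w hw hw1 hmem
    obtain ⟨c, hc, hck⟩ := h.fixed_coset A (hAB.trans hBK) hw hw1 (hBK hk) hmem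
    have hcB : c ∈ B := by simpa using mul_mem hk (hAB hck)
    exact hkA (by simpa [mul_assoc] using mul_mem (hC ⟨hc, hcB⟩) (inv_mem hck))
  haveI : (A.subgroupOf B).Normal := inferInstance
  let F : Option W → ↥B ⧸ A.subgroupOf B := fun o =>
    match o with
    | none => 1
    | some w => QuotientGroup.mk ⟨(w : L) * k * (w : L)⁻¹, hBn.conj_mem k hk w⟩
  have hF : Function.Injective F := by
    rintro (_ | w) (_ | w') e
    · rfl
    · refine absurd ?_ hkA
      have : (w' : L) * k * (w' : L)⁻¹ ∈ A :=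
        Subgroup.mem_subgroupOf.1 ((QuotientGroup.eq_one_iff _).1 e.symm)
      simpa [mul_assoc] using hAn.conj_mem _ this (w' : L)⁻¹
    · refine absurd ?_ hkA
      have : (w : L) * k * (w : L)⁻¹ ∈ A :=
        Subgroup.mem_subgroupOf.1 ((QuotientGroup.eq_one_iff _).1 e)
      simpa [mul_assoc] using hAn.conj_mem _ this (w : L)⁻¹
    · by_contra hne'
      have h1 : ((w : L) * k * (w : L)⁻¹)⁻¹ * ((w' : L) * k * (w' : L)⁻¹) ∈ A :=
        Subgroup.mem_subgroupOf.1 (QuotientGroup.eq.1 e)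
      have h2 := hAn.conj_mem _ h1 (w : L)⁻¹
      refine key ((w : L)⁻¹ * w') (mul_mem (inv_mem w.2) w'.2) (fun e1 => hne' ?_) ?_
      · rw [show w = w' from Subtype.ext (inv_mul_eq_one.1 e1)]
      · simpa [mul_assoc] using h2
  have hc := Nat.card_le_card_of_injective F hF
  rwa [Finite.card_option] at hc

variable [Fintype L]

/-- An irreducible character moved by all of `W ∖ 1` induces irreducibly. -/
theorem irr_of_moved {θ : K → ℂ} (hθ : IsIrrCharacter K θ)
    (hmove : ∀ w ∈ W, w ≠ 1 → ∃ k k' : K, (k' : L) = w * k * w⁻¹ ∧ θ k' ≠ θ k) :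
    IsIrrCharacter L (indFun K θ) := by
  classical
  haveI := Fintype.ofFinite K
  rw [isIrrCharacter_iff_norm_one (IsCharacter.indFun (H := K) (IsIrrCharacter.isCharacter hθ)),
    frobenius_reciprocity K _ (indFun_isClassFunction K _),
    show (fun k : K => indFun K θ (k : L)) =
      (Nat.card K : ℂ)⁻¹ • CliffordChar.orbitSum K θ from
      funext fun k => CliffordChar.indFun_coe K θ k,
    classInner_smul_right, ← classInner_conj_symm (CliffordChar.orbitSum K θ),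
    CliffordChar.classInner_orbitSum K hθ hθ]
  have hfix : (Finset.univ.filter fun x : L => CliffordChar.conjFun K x θ = θ) =
      Finset.univ.filter (fun x : L => x ∈ K) := by
    ext x
    simp only [Finset.mem_filter, Finset.mem_univ, true_and]
    constructor
    · intro hx
      obtain ⟨a, ha, w, hw, rfl⟩ := h.decomp x
      by_contra hxK
      have hw1 : w ≠ 1 := by rintro rfl; exact hxK (by simpa using ha)
      obtain ⟨k, k', hk', hne⟩ := hmove w hw hw1
      refine hne ?_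
      have h1 := congrFun hx (⟨a, ha⟩ * k' * ⟨a, ha⟩⁻¹)
      rw [CliffordChar.conjFun_apply, IsIrrCharacter.isClassFunction hθ k' ⟨a, ha⟩] at h1
      rw [← h1]
      refine congrArg θ (Subtype.ext ?_)
      simp [hk', mul_assoc]
    · intro hx
      funext k
      rw [CliffordChar.conjFun_apply]
      have := IsIrrCharacter.isClassFunction hθ k (⟨x, hx⟩⁻¹ : K)
      rw [← this]
      refine congrArg θ (Subtype.ext ?_)
      simp
  rw [hfix]
  have hcard : (Finset.univ.filter (fun x : L => x ∈ K)).card = Nat.card K := by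
    rw [Nat.card_eq_fintype_card, Fintype.card_subtype]
  rw [hcard]
  simp

/-- `θ` induces irreducibly when it is multiplicative and nontrivial on a section without fixed
points. -/
theorem irr_of_ker (A E : Subgroup L) [hAn : A.Normal] [hEn : E.Normal] (hAE : A ≤ E) (hEK : E ≤ K)
    (hcomm : ∀ e ∈ E, ∀ g ∈ E, e * g * e⁻¹ * g⁻¹ ∈ A) (hC : C₀ ⊓ E ≤ A) {θ : K → ℂ}
    (hθ : IsIrrCharacter K θ) (hA : ∀ a : K, (a : L) ∈ A → θ a = θ 1)
    (hker : ∀ e : K, (e : L) ∈ E → ∀ g : K, θ (e * g * e⁻¹ * g⁻¹) = θ 1)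
    {e₀ : K} (he₀ : (e₀ : L) ∈ E) (hne : θ e₀ ≠ θ 1) : IsIrrCharacter L (indFun K θ) := by
  classical
  refine h.irr_of_moved hθ fun w hw hw1 => ?_
  by_contra hno
  push Not at hno
  haveI : (A.subgroupOf E).Normal := inferInstance
  let F : ↥E ⧸ A.subgroupOf E → ↥E ⧸ A.subgroupOf E := fun q =>
    QuotientGroup.mk ⟨(q.out : L)⁻¹ * (w * q.out * w⁻¹),
      mul_mem (inv_mem q.out.2) (hEn.conj_mem _ q.out.2 w)⟩
  have hmk : ∀ a b : E, (QuotientGroup.mk a : ↥E ⧸ A.subgroupOf E) = QuotientGroup.mk b ↔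
      (a : L ⧸ A) = (b : L ⧸ A) := fun a b => by
    rw [QuotientGroup.eq, QuotientGroup.eq, Subgroup.mem_subgroupOf]
    rfl
  have hcomm' : ∀ e ∈ E, ∀ g ∈ E, Commute (e : L ⧸ A) (g : L ⧸ A) := fun e he g hg => by
    have h1 := (QuotientGroup.eq_one_iff (N := A) _).2 (hcomm e he g hg)
    simp only [QuotientGroup.mk_mul, QuotientGroup.mk_inv] at h1
    exact mul_inv_eq_iff_eq_mul.1 (mul_inv_eq_one.1 h1)
  have hinj : Function.Injective F := by
    intro q q' e
    rw [hmk] at e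
    set x := (q.out : L) with hx
    set y := (q'.out : L) with hy
    have hxE : x ∈ E := q.out.2
    have hyE : y ∈ E := q'.out.2
    simp only [QuotientGroup.mk_mul, QuotientGroup.mk_inv] at e
    have h1 : (x⁻¹ * y)⁻¹ * (w * (x⁻¹ * y) * w⁻¹) ∈ A := by
      rw [← QuotientGroup.eq_one_iff]
      simp only [QuotientGroup.mk_mul, QuotientGroup.mk_inv]
      have hc : Commute ((w : L ⧸ A) * x * (w : L ⧸ A)⁻¹) (y : L ⧸ A)⁻¹ := by
        have := hcomm' _ (hEn.conj_mem x hxE w) _ (inv_mem hyE)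
        simpa using this
      calc ((x : L ⧸ A)⁻¹ * y)⁻¹ * ((w : L ⧸ A) * ((x : L ⧸ A)⁻¹ * y) * (w : L ⧸ A)⁻¹)
          = (y : L ⧸ A)⁻¹ * x * ((w : L ⧸ A) * x * (w : L ⧸ A)⁻¹)⁻¹ *
              ((w : L ⧸ A) * y * (w : L ⧸ A)⁻¹) := by group
        _ = (y : L ⧸ A)⁻¹ * ((x : L ⧸ A)⁻¹ * ((w : L ⧸ A) * x * (w : L ⧸ A)⁻¹))⁻¹ *
              ((w : L ⧸ A) * y * (w : L ⧸ A)⁻¹) := by
            rw [mul_inv_rev (x : L ⧸ A)⁻¹, inv_inv]
            have hc2 : Commute (x : L ⧸ A) ((w : L ⧸ A) * x * (w : L ⧸ A)⁻¹)⁻¹ := by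
              have := (hcomm' _ hxE _ (hEn.conj_mem x hxE w)).inv_right
              simpa using this
            rw [← hc2.eq, mul_assoc (y : L ⧸ A)⁻¹]
        _ = (y : L ⧸ A)⁻¹ * ((y : L ⧸ A)⁻¹ * ((w : L ⧸ A) * y * (w : L ⧸ A)⁻¹))⁻¹ *
              ((w : L ⧸ A) * y * (w : L ⧸ A)⁻¹) := by rw [e]
        _ = 1 := by
            rw [mul_inv_rev, inv_inv]
            have hc3 : Commute ((w : L ⧸ A) * y * (w : L ⧸ A)⁻¹)⁻¹ (y : L ⧸ A) := by
              have := (hcomm' _ (hEn.conj_mem y hyE w) _ hyE).inv_left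
              simpa using this
            rw [hc3.eq]; group
    obtain ⟨c, hc, hck⟩ := h.fixed_coset A (hAE.trans hEK) hw hw1
      (hEK (mul_mem (inv_mem hxE) hyE)) h1
    have hcE : c ∈ E := by
      have := mul_mem (mul_mem (inv_mem hxE) hyE) (hAE hck)
      rwa [mul_inv_cancel_left] at this
    have hxy : x⁻¹ * y ∈ A := by simpa [mul_assoc] using mul_mem (hC ⟨hc, hcE⟩) (inv_mem hck)
    rw [← q.out_eq, ← q'.out_eq, hmk]
    exact QuotientGroup.eq.2 hxy
  obtain ⟨q, hq⟩ := Finite.surjective_of_injective hinj (QuotientGroup.mk (⟨e₀, he₀⟩ : E))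
  rw [hmk, QuotientGroup.eq] at hq
  set x : K := ⟨(q.out : L), hEK q.out.2⟩ with hx
  set x' : K := ⟨w * (q.out : L) * w⁻¹, hEK (hEn.conj_mem _ q.out.2 w)⟩ with hx'
  have h1 : θ (x⁻¹ * x') = θ 1 := by
    have hi := char_mul_of_commutator_ker hθ (hker x q.out.2) x⁻¹
    have hj := char_mul_of_commutator_ker hθ (hker x⁻¹ (inv_mem q.out.2)) x'
    rw [hno x x' rfl] at hj
    rw [mul_inv_cancel] at hi
    have h0 := IsIrrCharacter.apply_one_ne_zero hθ
    exact mul_right_cancel₀ h0 (by linear_combination hj - hi)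
  set a : K := (x⁻¹ * x')⁻¹ * e₀ with ha
  have h2 := char_mul_of_commutator_ker hθ (a := x⁻¹ * x')
    (hker _ (mul_mem (inv_mem q.out.2) (hEn.conj_mem _ q.out.2 w))) a
  have h3 := hA a (by simpa [ha, hx, hx'] using hq)
  rw [h3, h1, ha, mul_inv_cancel_left] at h2
  exact hne (mul_right_cancel₀ (IsIrrCharacter.apply_one_ne_zero hθ) h2)

end PrimeAct

end Cfsg.Agent.Peterfalvi
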