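import Cfsg.Agent.Lib.Peterfalvi.Sec7Rho
import Cfsg.Agent.Lib.Coherence.InducedSet
import Cfsg.Agent.S1486

/-!
# Peterfalvi (7.7), (7.8): `ρ` on the images of a coherent set (owner: helper40)

Throughout, `A = K^#` for a normal subgroup `K` of `L`, `τ` is the Dade map, `S` the functions
induced from the nonprincipal irreducible characters of `K`.

* `indSet K` : all functions induced from `Irr K`; `supported_expansion`
* `dadeRho_expansion` : (7.7)
* `Coh` : a coherent extension and an irreducible member of degree `[L:K]`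
* `Coh.inner_one`, `Coh.coeff`, `Coh.beta_*` : (7.8)(a), with `‖Γ‖² ≤ e - 1`
* `Coh.rho_image`, `Coh.rhoSq_image_ge` : (7.8)(b)
* `Coh.rho_orth`, `Coh.rhoSq_orth` : (7.8)(c)
-/

set_option autoImplicit false
set_option linter.style.haveILetI false

namespace Cfsg.Agent.Peterfalvi

open Cfsg Cfsg.Agent Cfsg.Agent.Char Cfsg.Agent.Coherence
open scoped ComplexConjugate

universe u

section supported

variable {Λ : Type u} [Group Λ] [Fintype Λ] (K : Subgroup Λ)

open Classical in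
/-- All functions induced from irreducible characters of `K`. -/
noncomputable def indSet : Finset (Λ → ℂ) :=
  haveI := Fintype.ofFinite (IrrCharacter K)
  Finset.univ.image fun θ : IrrCharacter K => indFun K (θ : K → ℂ)

/-- The function induced from the principal character. -/
noncomputable def indOne : Λ → ℂ := indFun K fun _ => 1

theorem mem_indSet {φ : Λ → ℂ} :
    φ ∈ indSet K ↔ ∃ θ : K → ℂ, IsIrrCharacter K θ ∧ indFun K θ = φ := by
  simp only [indSet, Finset.mem_image, Finset.mem_univ, true_and]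
  exact ⟨fun ⟨θ, h⟩ => ⟨θ, θ.2, h⟩, fun ⟨θ, hθ, h⟩ => ⟨⟨θ, hθ⟩, h⟩⟩

variable [hK : K.Normal]

theorem indFun_one_of_mem {x : Λ} (hx : x ∈ K) : indOne K x = (K.index : ℂ) := by
  have h1 : ∀ y : Λ, extendByZero K (fun _ : K => (1 : ℂ)) (y⁻¹ * x * y) = 1 := fun y =>
    extendByZero_mem K _ (by simpa using hK.conj_mem x hx y⁻¹)
  rw [indOne, indFun, Finset.sum_congr rfl fun y _ => h1 y, Finset.sum_const, Finset.card_univ,
    nsmul_eq_mul, mul_one, ← Nat.card_eq_fintype_card, ← K.index_mul_card, Nat.cast_mul]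
  field_simp [(Nat.cast_ne_zero.2 Nat.card_pos.ne' : (Nat.card K : ℂ) ≠ 0)]

theorem indOne_norm : classInner (indOne K) (indOne K) = (K.index : ℂ) := by
  haveI := Fintype.ofFinite K
  rw [indOne, frobenius_reciprocity K _ (indFun_isClassFunction K _),
    show (fun h : K => indFun K (fun _ : K => (1 : ℂ)) (h : Λ)) =
      (K.index : ℂ) • fun _ : K => (1 : ℂ) from funext fun h => by
        show indOne K (h : Λ) = _
        simp [indFun_one_of_mem K h.2],
    classInner_smul_right, show (fun _ : K => (1 : ℂ)) = (1 : K → ℂ) from rfl,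
    classInner_irr_self isIrrCharacter_one, mul_one, Complex.conj_natCast]

theorem indSet_facts {φ : Λ → ℂ} (hφ : φ ∈ indSet K) :
    IsCharacter Λ φ ∧ (∀ x, x ∉ K → φ x = 0) ∧ φ ≠ 0 := by
  haveI := Fintype.ofFinite K
  obtain ⟨θ, hθ, rfl⟩ := (mem_indSet K).1 hφ
  refine ⟨IsCharacter.indFun K (IsIrrCharacter.isCharacter hθ),
    fun x hx => CliffordChar.indFun_not_mem K θ hx, fun h => ?_⟩
  have h1 := congrFun h 1
  rw [indFun_one_apply, Pi.zero_apply] at h1
  exact mul_ne_zero (Nat.cast_ne_zero.2 Subgroup.index_ne_zero_of_finite)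
    (IsIrrCharacter.apply_one_ne_zero hθ) h1

theorem indSet_orth {φ ψ : Λ → ℂ} (hφ : φ ∈ indSet K) (hψ : ψ ∈ indSet K) (hne : φ ≠ ψ) :
    classInner φ ψ = 0 := by
  obtain ⟨θ, hθ, rfl⟩ := (mem_indSet K).1 hφ
  obtain ⟨θ', hθ', rfl⟩ := (mem_indSet K).1 hψ
  by_contra h
  exact hne ((S1486.result K θ' θ hθ' hθ).1 (by_contra fun hc =>
    h ((S1486.result K θ' θ hθ' hθ).2 hc)))

omit hK in
theorem indOne_mem : indOne K ∈ indSet K :=
  (mem_indSet K).2 ⟨fun _ => 1, isIrrCharacter_one, rfl⟩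

omit hK in
theorem mem_indSet_iff {φ : Λ → ℂ} :
    φ ∈ indSet K ↔ φ = indOne K ∨ φ ∈ inducedIrrAbove K ⊥ := by
  rw [mem_indSet]
  constructor
  · rintro ⟨θ, hθ, rfl⟩
    by_cases h : θ = fun _ => 1
    · exact Or.inl (by rw [h]; rfl)
    · refine Or.inr ⟨θ, hθ, h, fun a ha => ?_, rfl⟩
      rw [show a = 1 from Subtype.ext (Subgroup.mem_bot.1 ha)]
  · rintro (rfl | ⟨θ, hθ, -, -, rfl⟩)
    exacts [⟨_, isIrrCharacter_one, rfl⟩, ⟨θ, hθ, rfl⟩]

theorem indOne_not_mem : indOne K ∉ inducedIrrAbove K ⊥ := by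
  rintro ⟨θ, hθ, hne, -, he⟩
  have h1 : ¬ ∃ g : Λ, θ = fun h : K => (fun _ : K => (1 : ℂ)) ⟨g * h * g⁻¹, hK.conj_mem h h.2 g⟩ :=
    fun ⟨g, hg⟩ => hne hg
  have h2 := (S1486.result K (fun _ => 1) θ isIrrCharacter_one hθ).2 h1
  rw [← he] at h2
  exact Subgroup.index_ne_zero_of_finite (Nat.cast_eq_zero.1 ((indOne_norm K).symm.trans h2))

/-- A class function vanishing off `K` is a combination of the induced functions. -/
theorem supported_expansion {f : Λ → ℂ} (hf : IsClassFunction Λ f) (h0 : ∀ x, x ∉ K → f x = 0) :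
    f = ∑ φ ∈ indSet K, (classInner f φ / classInner φ φ) • φ := by
  classical
  haveI := Fintype.ofFinite K
  set g := f - ∑ φ ∈ indSet K, (classInner f φ / classInner φ φ) • φ with hg
  have hgc : IsClassFunction Λ g := isClassFunction_sub hf (isClassFunction_sum _ fun φ hφ =>
    isClassFunction_smul (IsCharacter.isClassFunction (indSet_facts K hφ).1) _)
  have hg0 : ∀ x, x ∉ K → g x = 0 := fun x hx => by
    simp only [hg, Pi.sub_apply, Finset.sum_apply, Pi.smul_apply, smul_eq_mul, h0 x hx, zero_sub,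
      neg_eq_zero]
    exact Finset.sum_eq_zero fun φ hφ => by rw [(indSet_facts K hφ).2.1 x hx, mul_zero]
  have horth : ∀ φ ∈ indSet K, classInner g φ = 0 := by
    intro φ hφ
    have hn : classInner φ φ ≠ 0 := fun h => (indSet_facts K hφ).2.2 (classInner_self_eq_zero.1 h)
    rw [hg, classInner_sub_left, classInner_sum_left, Finset.sum_eq_single φ, classInner_smul_left,
      div_mul_cancel₀ _ hn, sub_self]
    · intro ψ hψ hne
      rw [classInner_smul_left, indSet_orth K hψ hφ hne, mul_zero]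
    · exact fun h => absurd hφ h
  have hres : (fun k : K => g k) = 0 := by
    refine eq_zero_of_forall_classInner_irr (fun a b => hgc (a : Λ) b) fun θ => ?_
    have h := horth _ ((mem_indSet K).2 ⟨θ, θ.2, rfl⟩)
    rw [← classInner_conj_symm, map_eq_zero, frobenius_reciprocity K _ hgc] at h
    rw [← classInner_conj_symm, h, map_zero]
  refine sub_eq_zero.1 (funext fun x => ?_)
  by_cases hx : x ∈ K
  exacts [congrFun hres ⟨x, hx⟩, hg0 x hx]

/-- The weighted sum of all induced functions is the regular character of `Λ`. -/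
theorem indSet_regular {x : Λ} (hx : x ≠ 1) :
    ∑ φ ∈ indSet K, φ 1 / classInner φ φ * φ x = 0 := by
  classical
  let δ : Λ → ℂ := fun y => if y = 1 then 1 else 0
  have hδ : IsClassFunction Λ δ := fun g h => by
    by_cases hg : g = 1 <;> simp [δ, hg]
  have he := congrFun (supported_expansion K hδ fun y hy => if_neg fun h : y = 1 => hy (h ▸ one_mem K)) x
  simp only [δ, if_neg hx, Finset.sum_apply, Pi.smul_apply, smul_eq_mul] at he
  have hval : ∀ φ ∈ indSet K, classInner δ φ = (Nat.card Λ : ℂ)⁻¹ * φ 1 := by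
    intro φ hφ
    obtain ⟨n, hn⟩ := IsCharacter.exists_degree (indSet_facts K hφ).1
    rw [classInner, Finset.sum_eq_single 1]
    · simp [δ, hn]
    · intro y _ hy; simp [δ, hy]
    · simp
  rw [Finset.sum_congr rfl fun φ hφ => by rw [hval φ hφ, mul_div_assoc, mul_assoc],
    ← Finset.mul_sum, eq_comm, mul_eq_zero] at he
  exact he.resolve_left (inv_ne_zero (Nat.cast_ne_zero.2 Nat.card_pos.ne'))

end supported

variable {G : Type u} [Group G] [Fintype G] {A : Set G} {L : Subgroup G} [Fintype ↥L]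
  {R : G → Subgroup G} {K : Subgroup ↥L} [hK : K.Normal] (hD : DadeHypothesis A L R)
  (hA : ∀ x : ↥L, (x : G) ∈ A ↔ x ∈ K ∧ x ≠ 1)
include hD hA

/-- Peterfalvi (7.7). -/
theorem dadeRho_expansion {χ : G → ℂ} (hχ : IsClassFunction G χ) {ζ : ↥L → ℂ}
    (hζ : ζ ∈ indSet K) {x : ↥L} (hx1 : x ≠ 1) :
    dadeRho A L R χ x = ∑ φ ∈ indSet K,
      conj (classInner (dadeIsometry A L R (φ - (φ 1 / ζ 1) • ζ)) χ) / classInner φ φ * φ x := by
  classical
  set f := dadeRho A L R χ with hf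
  have hfc : IsClassFunction ↥L f := dadeRho_isClassFunction hD hχ
  have hf0 : ∀ y, y ∉ K → f y = 0 := fun y hy => dadeRho_of_not_mem (fun h => hy ((hA y).1 h).1) χ
  have hζ1 : ζ 1 ≠ 0 := by
    obtain ⟨θ, hθ, rfl⟩ := (mem_indSet K).1 hζ
    rw [indFun_one_apply]
    exact mul_ne_zero (Nat.cast_ne_zero.2 Subgroup.index_ne_zero_of_finite)
      (IsIrrCharacter.apply_one_ne_zero hθ)
  have hc : ∀ φ ∈ indSet K, conj (classInner (dadeIsometry A L R (φ - (φ 1 / ζ 1) • ζ)) χ) =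
      classInner f φ - classInner f ζ / ζ 1 * φ 1 := by
    intro φ hφ
    obtain ⟨n, hn⟩ := IsCharacter.exists_degree (indSet_facts K hφ).1
    obtain ⟨m, hm⟩ := IsCharacter.exists_degree (indSet_facts K hζ).1
    rw [dade_reciprocity hD (isClassFunction_sub (IsCharacter.isClassFunction (indSet_facts K hφ).1)
        (isClassFunction_smul (IsCharacter.isClassFunction (indSet_facts K hζ).1) _)) ?_ hχ,
      classInner_conj_symm, classInner_sub_right, classInner_smul_right, map_div₀, hn, hm,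
      Complex.conj_natCast, Complex.conj_natCast]
    · ring
    · intro y hy
      by_cases hyK : y ∈ K
      · obtain rfl : y = 1 := by_contra fun h => hy ((hA y).2 ⟨hyK, h⟩)
        simp only [Pi.sub_apply, Pi.smul_apply, smul_eq_mul, div_mul_cancel₀ _ hζ1, sub_self]
      · simp [(indSet_facts K hφ).2.1 y hyK, (indSet_facts K hζ).2.1 y hyK]
  have he := congrFun (supported_expansion K hfc hf0) x
  simp only [Finset.sum_apply, Pi.smul_apply, smul_eq_mul] at he
  rw [he, ← sub_eq_zero, ← Finset.sum_sub_distrib]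
  rw [show (0 : ℂ) = classInner f ζ / ζ 1 * ∑ φ ∈ indSet K, φ 1 / classInner φ φ * φ x by
    rw [indSet_regular K hx1, mul_zero], Finset.mul_sum]
  exact Finset.sum_congr rfl fun φ hφ => by rw [hc φ hφ]; ring

omit hD hA in
/-- A coherent extension of the Dade map on `S` and a member of degree `[L:K]`. -/
structure Coh (A : Set G) (L : Subgroup G) [Fintype ↥L] (R : G → Subgroup G) (K : Subgroup ↥L)
    (τ₁ : (↥L → ℂ) → G → ℂ) (ζ : ↥L → ℂ) : Prop where
  isometry : IsLinearIsometryOn (zspan (inducedIrrAbove K ⊥)) τ₁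
  agree : ∀ α ∈ zspanOn (inducedIrrAbove K ⊥) {1}ᶜ, τ₁ α = dadeIsometry A L R α
  mem : ζ ∈ inducedIrrAbove K ⊥
  irr : IsIrrCharacter ↥L ζ
  degree : ζ 1 = (K.index : ℂ)
  nonreal : conjFun ζ ≠ ζ

namespace Coh

variable {τ₁ : (↥L → ℂ) → G → ℂ} {ζ : ↥L → ℂ} (hc : Coh A L R K τ₁ ζ)
include hc

omit hA hD hK in
theorem degree_div {φ : ↥L → ℂ} (hφ : φ ∈ inducedIrrAbove K ⊥) :
    ∃ d : ℕ, 0 < d ∧ φ 1 / ζ 1 = (d : ℂ) ∧ φ 1 = (K.index : ℂ) * d := by
  obtain ⟨θ, hθ, -, -, rfl⟩ := hφ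
  obtain ⟨d, hd, hd'⟩ := IsIrrCharacter.exists_degree hθ
  refine ⟨d, hd, ?_, by rw [indFun_one_apply, hd']⟩
  rw [indFun_one_apply, hc.degree, hd']
  field_simp [(Nat.cast_ne_zero.2 Subgroup.index_ne_zero_of_finite : (K.index : ℂ) ≠ 0)]

omit hA hD hK in
theorem diff_mem {φ : ↥L → ℂ} (hφ : φ ∈ inducedIrrAbove K ⊥) :
    φ - (φ 1 / ζ 1) • ζ ∈ zspanOn (inducedIrrAbove K ⊥) {1}ᶜ := by
  obtain ⟨d, -, hd, hd1⟩ := hc.degree_div hφ
  refine ⟨?_, fun x hx => ?_⟩
  · rw [hd, show ((d : ℂ) • ζ : ↥L → ℂ) = (d : ℤ) • ζ by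
      funext y; simp]
    exact zspan_sub (subset_zspan hφ) (zspan_zsmul _ (subset_zspan hc.mem))
  · rw [Set.mem_compl_iff, not_not, Set.mem_singleton_iff] at hx
    subst hx
    rw [Pi.sub_apply, Pi.smul_apply, smul_eq_mul, hd, hd1, hc.degree]
    ring

omit hD in
theorem diff_supp {φ : ↥L → ℂ} (hφ : φ ∈ indSet K) :
    IsClassFunction ↥L (φ - (φ 1 / ζ 1) • ζ) ∧
      ∀ y : ↥L, (y : G) ∉ A → (φ - (φ 1 / ζ 1) • ζ) y = 0 := by
  have hζ : ζ ∈ indSet K := (mem_indSet_iff K).2 (Or.inr hc.mem)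
  refine ⟨isClassFunction_sub (IsCharacter.isClassFunction (indSet_facts K hφ).1)
    (isClassFunction_smul (IsIrrCharacter.isClassFunction hc.irr) _), fun y hy => ?_⟩
  by_cases hyK : y ∈ K
  · obtain rfl : y = 1 := by_contra fun h => hy ((hA y).2 ⟨hyK, h⟩)
    simp only [Pi.sub_apply, Pi.smul_apply, smul_eq_mul,
      div_mul_cancel₀ _ (IsIrrCharacter.apply_one_ne_zero hc.irr), sub_self]
  · simp [(indSet_facts K hφ).2.1 y hyK, (indSet_facts K hζ).2.1 y hyK]

omit hK hD hA in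
/-- `τ₁` on the differences is the Dade map. -/
theorem image_sub {φ : ↥L → ℂ} (hφ : φ ∈ inducedIrrAbove K ⊥) :
    dadeIsometry A L R (φ - (φ 1 / ζ 1) • ζ) = τ₁ φ - (φ 1 / ζ 1) • τ₁ ζ := by
  obtain ⟨d, -, hd, -⟩ := hc.degree_div hφ
  obtain ⟨hadd, hsmul, -, -⟩ := hc.isometry
  rw [← hc.agree _ (hc.diff_mem hφ), hd]
  rw [show (φ - (d : ℂ) • ζ : ↥L → ℂ) = φ + (-(d : ℤ)) • ζ by
      funext y; simp [sub_eq_add_neg],
    hadd _ (subset_zspan hφ) _ (zspan_zsmul _ (subset_zspan hc.mem)),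
    hsmul _ (subset_zspan hc.mem)]
  funext y
  simp [sub_eq_add_neg]

omit hK hA hc in
theorem inner_dade_one {φ : ↥L → ℂ} (hφc : IsClassFunction ↥L φ)
    (hφA : ∀ y : ↥L, (y : G) ∉ A → φ y = 0) :
    classInner (dadeIsometry A L R φ) (fun _ => 1) = classInner φ (fun _ => 1) := by
  rw [dade_reciprocity hD hφc hφA fun _ _ => rfl, classInner, classInner]
  congr 1
  refine Finset.sum_congr rfl fun y _ => ?_
  by_cases hy : (y : G) ∈ A
  · rw [dadeRho_of_const hy fun _ _ => rfl]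
  · rw [hφA y hy, zero_mul, zero_mul]

omit hD hA hK [Fintype G] hc in
theorem inner_ind_one {φ : ↥L → ℂ} (hφ : φ ∈ inducedIrrAbove K ⊥) :
    classInner φ (fun _ => 1) = 0 := by
  haveI := Fintype.ofFinite K
  obtain ⟨θ, hθ, hne, -, rfl⟩ := hφ
  rw [frobenius_reciprocity K θ (fun _ _ => rfl)]
  exact classInner_irr_of_ne hθ isIrrCharacter_one hne

/-- The images are orthogonal to the principal character. -/
theorem inner_one {φ : ↥L → ℂ} (hφ : φ ∈ inducedIrrAbove K ⊥) :
    classInner (τ₁ φ) (fun _ => 1) = 0 := by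
  have key : ∀ φ ∈ inducedIrrAbove K ⊥,
      classInner (τ₁ φ) (fun _ => 1) = φ 1 / ζ 1 * classInner (τ₁ ζ) (fun _ => 1) := by
    intro φ hφ
    obtain ⟨h1, h2⟩ := hc.diff_supp hA ((mem_indSet_iff K).2 (Or.inr hφ))
    have h := inner_dade_one hD h1 h2
    rw [hc.image_sub hφ, classInner_sub_left, classInner_smul_left, classInner_sub_left,
      classInner_smul_left, inner_ind_one hφ, inner_ind_one hc.mem] at h
    simpa [sub_eq_zero] using h
  suffices h0 : classInner (τ₁ ζ) (fun _ => 1) = 0 by rw [key φ hφ, h0, mul_zero]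
  obtain ⟨-, -, hiso, hgc⟩ := hc.isometry
  have hz := subset_zspan hc.mem
  have hz' := subset_zspan (inducedSet_conj_mem ⊥ hc.mem)
  have hbar := key _ (inducedSet_conj_mem ⊥ hc.mem)
  rw [show conjFun ζ 1 / ζ 1 = 1 by
    rw [show conjFun ζ 1 = ζ 1 by simp [conjFun, hc.degree]]
    exact div_self (IsIrrCharacter.apply_one_ne_zero hc.irr), one_mul] at hbar
  have hn : classInner (τ₁ ζ) (τ₁ ζ) = 1 := by rw [hiso _ hz _ hz, classInner_irr_self hc.irr]
  have hn' : classInner (τ₁ (conjFun ζ)) (τ₁ (conjFun ζ)) = 1 := by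
    rw [hiso _ hz' _ hz']
    exact classInner_irr_self (IsIrrCharacter.conj hc.irr)
  have ho : classInner (τ₁ ζ) (τ₁ (conjFun ζ)) = 0 := by
    rw [hiso _ hz _ hz']
    exact classInner_irr_of_ne hc.irr (IsIrrCharacter.conj hc.irr) (Ne.symm hc.nonreal)
  rcases gc_norm_one (hgc _ hz) hn with hs | hs <;> rcases gc_norm_one (hgc _ hz') hn' with hs' | hs'
  all_goals
    by_contra hne
    have hv : ∀ {f : G → ℂ}, IsIrrCharacter G f → classInner f (fun _ => 1) ≠ 0 →
        f = fun _ => 1 := fun hf h => by_contra fun hn => h (classInner_irr_of_ne hf isIrrCharacter_one hn)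
    have hne' := hbar ▸ hne
    first
    | (have e1 := hv hs hne
       have e2 := hv hs' hne'
       rw [e1, e2] at ho
       exact one_ne_zero ((classInner_irr_self isIrrCharacter_one).symm.trans ho))
    | (have e1 := hv hs hne
       have e2 := hv hs' (by rw [classInner_neg_left, neg_ne_zero]; exact hne')
       rw [e1, neg_eq_iff_eq_neg.1 e2, classInner_neg_right] at ho
       exact one_ne_zero ((classInner_irr_self isIrrCharacter_one).symm.trans (neg_eq_zero.1 ho)))
    | (have e1 := hv hs (by rw [classInner_neg_left, neg_ne_zero]; exact hne)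
       have e2 := hv hs' hne'
       rw [neg_eq_iff_eq_neg.1 e1, e2, classInner_neg_left] at ho
       exact one_ne_zero ((classInner_irr_self isIrrCharacter_one).symm.trans (neg_eq_zero.1 ho)))
    | (have e1 := hv hs (by rw [classInner_neg_left, neg_ne_zero]; exact hne)
       have e2 := hv hs' (by rw [classInner_neg_left, neg_ne_zero]; exact hne')
       rw [neg_eq_iff_eq_neg.1 e1, neg_eq_iff_eq_neg.1 e2, classInner_neg_left,
         classInner_neg_right, neg_neg] at ho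
       exact one_ne_zero ((classInner_irr_self isIrrCharacter_one).symm.trans ho))

omit hD hA hc in
/-- `β = (1_K^L - ζ)^τ`. -/
noncomputable def beta (A : Set G) (L : Subgroup G) [Fintype ↥L] (R : G → Subgroup G)
    (K : Subgroup ↥L) (ζ : ↥L → ℂ) : G → ℂ := dadeIsometry A L R (indOne K - ζ)

omit hD hA in
theorem indOne_sub_eq : indOne K - (indOne K 1 / ζ 1) • ζ = indOne K - ζ := by
  rw [show indOne K 1 / ζ 1 = 1 by
    rw [indFun_one_of_mem K (one_mem K), hc.degree]
    exact div_self (Nat.cast_ne_zero.2 Subgroup.index_ne_zero_of_finite), one_smul]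

omit hD in
theorem beta_supp : IsClassFunction ↥L (indOne K - ζ) ∧
    ∀ y : ↥L, (y : G) ∉ A → (indOne K - ζ) y = 0 := by
  have h := hc.diff_supp hA (indOne_mem K)
  rwa [hc.indOne_sub_eq] at h

/-- `β` is a virtual character. -/
theorem beta_gc : IsGeneralizedCharacter G (beta A L R K ζ) := by
  obtain ⟨-, h2⟩ := hc.beta_supp hA
  exact Dade.dadeIsometry_isGeneralized hD
    (isGC_sub (isGC_of_isCharacter (indSet_facts K (indOne_mem K)).1)
      (isGC_of_isCharacter (IsIrrCharacter.isCharacter hc.irr))) h2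

theorem beta_one : classInner (beta A L R K ζ) (fun _ => 1) = 1 := by
  haveI := Fintype.ofFinite K
  obtain ⟨h1, h2⟩ := hc.beta_supp hA
  rw [beta, inner_dade_one hD h1 h2, classInner_sub_left, inner_ind_one hc.mem, sub_zero,
    indOne, frobenius_reciprocity K _ (fun _ _ => rfl)]
  exact classInner_irr_self isIrrCharacter_one

theorem beta_norm : classInner (beta A L R K ζ) (beta A L R K ζ) = (K.index : ℂ) + 1 := by
  obtain ⟨h1, h2⟩ := hc.beta_supp hA
  have ho : classInner (indOne K) ζ = 0 := indSet_orth K (indOne_mem K)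
    ((mem_indSet_iff K).2 (Or.inr hc.mem)) fun h => indOne_not_mem K (h ▸ hc.mem)
  rw [beta, dadeIsometry_inner hD h1 h2 h1 h2, classInner_sub_left, classInner_sub_right,
    classInner_sub_right, indOne_norm, classInner_irr_self hc.irr, ho,
    ← classInner_conj_symm (indOne K) ζ, ho, map_zero, sub_zero, zero_sub, sub_neg_eq_add]

/-- The coefficients of `β` on the images. -/
theorem coeff : ∃ a : ℤ, classInner (beta A L R K ζ) (τ₁ ζ) = (a : ℂ) - 1 ∧
    ∀ φ ∈ inducedIrrAbove K ⊥, φ ≠ ζ →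
      classInner (beta A L R K ζ) (τ₁ φ) = φ 1 / ζ 1 * (a : ℂ) := by
  obtain ⟨-, -, -, hgc⟩ := hc.isometry
  obtain ⟨a, ha⟩ := classInner_gc_int (hc.beta_gc hD hA) (hgc _ (subset_zspan hc.mem))
  refine ⟨a + 1, by rw [ha]; push_cast; ring, fun φ hφ hne => ?_⟩
  obtain ⟨h1, h2⟩ := hc.beta_supp hA
  obtain ⟨h3, h4⟩ := hc.diff_supp hA ((mem_indSet_iff K).2 (Or.inr hφ))
  obtain ⟨d, -, hd, -⟩ := hc.degree_div hφ
  have hmem := (mem_indSet_iff K).2 (Or.inr hφ)
  have hζ := (mem_indSet_iff K).2 (Or.inr hc.mem)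
  have h := dadeIsometry_inner hD h1 h2 h3 h4
  rw [hc.image_sub hφ, classInner_sub_right, classInner_smul_right, classInner_sub_left,
    classInner_sub_right, classInner_sub_right, classInner_smul_right, classInner_smul_right,
    indSet_orth K (indOne_mem K) hmem fun h => indOne_not_mem K (h ▸ hφ),
    indSet_orth K (indOne_mem K) hζ fun h => indOne_not_mem K (h ▸ hc.mem),
    indSet_orth K hζ hmem (Ne.symm hne), classInner_irr_self hc.irr, hd, Complex.conj_natCast] at h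
  change classInner (beta A L R K ζ) _ - _ * classInner (beta A L R K ζ) _ = _ at h
  rw [ha] at h
  rw [hd]
  push_cast
  linear_combination h

omit [Fintype G] hD hA hc hK in
theorem sum_split (F : (↥L → ℂ) → ℂ) :
    ∑ φ ∈ indSet K, F φ = F (indOne K) + ∑ φ ∈ (indSet K).erase (indOne K), F φ :=
  (Finset.add_sum_erase _ _ (indOne_mem K)).symm

omit [Fintype G] hD hA hc in
theorem mem_erase {φ : ↥L → ℂ} :
    φ ∈ (indSet K).erase (indOne K) ↔ φ ∈ inducedIrrAbove K ⊥ := by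
  rw [Finset.mem_erase, mem_indSet_iff]
  exact ⟨fun ⟨h, h'⟩ => h'.resolve_left h, fun h => ⟨fun e => indOne_not_mem K (e ▸ h), Or.inr h⟩⟩

/-- Peterfalvi (7.8)(b): the values of `ρ (τ₁ ζ)`. -/
theorem rho_image {a : ℤ} (ha : classInner (beta A L R K ζ) (τ₁ ζ) = (a : ℂ) - 1)
    {x : ↥L} (hxK : x ∈ K) (hx1 : x ≠ 1) : dadeRho A L R (τ₁ ζ) x = ζ x + a := by
  classical
  obtain ⟨-, -, hiso, hgc⟩ := hc.isometry
  have hz := subset_zspan hc.mem
  have hζ : ζ ∈ indSet K := (mem_indSet_iff K).2 (Or.inr hc.mem)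
  have he : (K.index : ℂ) ≠ 0 := Nat.cast_ne_zero.2 Subgroup.index_ne_zero_of_finite
  rw [dadeRho_expansion hD hA (isGC_isClassFunction (hgc _ hz)) hζ hx1, sum_split,
    hc.indOne_sub_eq, indOne_norm, indFun_one_of_mem K hxK]
  change conj (classInner (beta A L R K ζ) (τ₁ ζ)) / _ * _ + _ = _
  rw [ha, map_sub, map_intCast, map_one, div_mul_cancel₀ _ he]
  have hreg := indSet_regular K hx1
  rw [sum_split, indOne_norm, indFun_one_of_mem K (one_mem K), indFun_one_of_mem K hxK,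
    div_self he, one_mul] at hreg
  rw [Finset.sum_congr rfl (g := fun φ => (if φ = ζ then ζ x else 0) -
    φ 1 / classInner φ φ * φ x / (K.index : ℂ)) fun φ hφ => ?_]
  · rw [Finset.sum_sub_distrib, Finset.sum_ite_eq', if_pos (mem_erase.2 hc.mem), ← Finset.sum_div,
      eq_neg_of_add_eq_zero_right hreg]
    field_simp
    ring
  · have hφS := mem_erase.1 hφ
    obtain ⟨d, -, hd, hd1⟩ := hc.degree_div hφS
    rw [hc.image_sub hφS, classInner_sub_left, classInner_smul_left,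
      hiso _ (subset_zspan hφS) _ hz, hiso _ hz _ hz, classInner_irr_self hc.irr]
    split_ifs with hne
    · subst hne
      rw [classInner_irr_self hc.irr, div_self (IsIrrCharacter.apply_one_ne_zero hc.irr),
        hc.degree]
      field_simp
      simp
    · rw [indSet_orth K (Finset.mem_of_mem_erase hφ) hζ hne, hd, hd1, zero_sub, zero_sub,
        mul_one, map_neg, Complex.conj_natCast]
      field_simp

/-- Peterfalvi (7.8)(c). -/
theorem rho_orth {χ : G → ℂ} (hχ : IsClassFunction G χ)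
    (horth : ∀ φ ∈ inducedIrrAbove K ⊥, classInner (τ₁ φ) χ = 0) {x : ↥L} (hxK : x ∈ K)
    (hx1 : x ≠ 1) : dadeRho A L R χ x = classInner χ (beta A L R K ζ) := by
  classical
  have hζ : ζ ∈ indSet K := (mem_indSet_iff K).2 (Or.inr hc.mem)
  have he : (K.index : ℂ) ≠ 0 := Nat.cast_ne_zero.2 Subgroup.index_ne_zero_of_finite
  rw [dadeRho_expansion hD hA hχ hζ hx1, sum_split, hc.indOne_sub_eq, indOne_norm,
    indFun_one_of_mem K hxK, Finset.sum_eq_zero, add_zero, div_mul_cancel₀ _ he]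
  · exact classInner_conj_symm _ _
  · intro φ hφ
    have hφS := mem_erase.1 hφ
    rw [hc.image_sub hφS, classInner_sub_left, classInner_smul_left, horth φ hφS,
      horth ζ hc.mem, mul_zero, sub_zero, map_zero, zero_div, zero_mul]

theorem rhoSq_orth {χ : G → ℂ} (hχ : IsClassFunction G χ)
    (horth : ∀ φ ∈ inducedIrrAbove K ⊥, classInner (τ₁ φ) χ = 0) :
    rhoSq A L R χ = (Nat.card ↥L : ℝ)⁻¹ * ((Nat.card K : ℝ) - 1) *
      ‖classInner χ (beta A L R K ζ)‖ ^ 2 := by
  classical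
  rw [rhoSq, mul_assoc]
  congr 1
  rw [← Finset.sum_subset (Finset.subset_univ ((Finset.univ.filter (· ∈ K)).erase 1)),
    Finset.sum_congr rfl (g := fun _ => ‖classInner χ (beta A L R K ζ)‖ ^ 2), Finset.sum_const,
    Finset.card_erase_of_mem (Finset.mem_filter.2 ⟨Finset.mem_univ _, one_mem K⟩), nsmul_eq_mul,
    ← Fintype.card_subtype, ← Nat.card_eq_fintype_card, Nat.cast_sub Nat.card_pos, Nat.cast_one]
  · intro x hx
    rw [hc.rho_orth hD hA hχ horth (Finset.mem_filter.1 (Finset.mem_of_mem_erase hx)).2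
      (Finset.ne_of_mem_erase hx)]
  · intro x _ hx
    rw [dadeRho_of_not_mem (fun h => hx ?_), norm_zero, zero_pow two_ne_zero]
    exact Finset.mem_erase.2 ⟨((hA x).1 h).2, Finset.mem_filter.2 ⟨Finset.mem_univ _, ((hA x).1 h).1⟩⟩

/-- The norm of `ρ (τ₁ ζ)`. -/
theorem rhoSq_image {a : ℤ} (ha : classInner (beta A L R K ζ) (τ₁ ζ) = (a : ℂ) - 1) :
    rhoSq A L R (τ₁ ζ) = 1 - (K.index : ℝ) / (Nat.card K : ℝ) +
      ((a : ℝ) ^ 2 * ((Nat.card K : ℝ) - 1) - 2 * a * (K.index : ℝ)) / (Nat.card ↥L : ℝ) := by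
  classical
  haveI := Fintype.ofFinite K
  have hζsupp : ∀ x, x ∉ K → ζ x = 0 := (indSet_facts K ((mem_indSet_iff K).2 (Or.inr hc.mem))).2.1
  set s := (Finset.univ.filter (· ∈ K)).erase (1 : ↥L) with hs
  have h1 : rhoSq A L R (τ₁ ζ) = (Nat.card ↥L : ℝ)⁻¹ * ∑ x ∈ s, ‖ζ x + (a : ℂ)‖ ^ 2 := by
    rw [rhoSq]
    congr 1
    rw [← Finset.sum_subset (Finset.subset_univ s) fun x _ hx => ?_]
    · refine Finset.sum_congr rfl fun x hx => ?_
      rw [hc.rho_image hD hA ha (Finset.mem_filter.1 (Finset.mem_of_mem_erase hx)).2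
        (Finset.ne_of_mem_erase hx)]
    · rw [dadeRho_of_not_mem (fun h => hx ?_), norm_zero, zero_pow two_ne_zero]
      exact Finset.mem_erase.2
        ⟨((hA x).1 h).2, Finset.mem_filter.2 ⟨Finset.mem_univ _, ((hA x).1 h).1⟩⟩
  have hcard : (Finset.univ.filter (· ∈ K)).card = Nat.card K := by
    rw [Nat.card_eq_fintype_card, Fintype.card_subtype]
  have hsq : ∑ x ∈ s, ζ x * conj (ζ x) = (Nat.card ↥L : ℂ) - (K.index : ℂ) ^ 2 := by
    have h := classInner_irr_self hc.irr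
    rw [classInner, inv_mul_eq_iff_eq_mul₀ (Nat.cast_ne_zero.2 Nat.card_pos.ne'), mul_one,
      ← Finset.sum_subset (Finset.subset_univ (Finset.univ.filter (· ∈ K))) fun x _ hx => by
        rw [hζsupp x (fun h => hx (Finset.mem_filter.2 ⟨Finset.mem_univ _, h⟩)), zero_mul],
      ← Finset.add_sum_erase _ _ (Finset.mem_filter.2 ⟨Finset.mem_univ _, one_mem K⟩)] at h
    rw [eq_sub_iff_add_eq, ← h, hc.degree, Complex.conj_natCast, hs]
    ring
  have hsum : ∑ x ∈ s, ζ x = -(K.index : ℂ) := by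
    have h := inner_ind_one hc.mem
    rw [classInner, mul_eq_zero] at h
    replace h := h.resolve_left (inv_ne_zero (Nat.cast_ne_zero.2 Nat.card_pos.ne'))
    simp only [map_one, mul_one] at h
    rw [← Finset.sum_subset (Finset.subset_univ (Finset.univ.filter (· ∈ K))) fun x _ hx =>
        hζsupp x (fun h => hx (Finset.mem_filter.2 ⟨Finset.mem_univ _, h⟩)),
      ← Finset.add_sum_erase _ _ (Finset.mem_filter.2 ⟨Finset.mem_univ _, one_mem K⟩), hc.degree]
      at h
    exact eq_neg_of_add_eq_zero_right h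
  have h2 : ((∑ x ∈ s, ‖ζ x + (a : ℂ)‖ ^ 2 : ℝ) : ℂ) =
      (((Nat.card ↥L : ℝ) - (K.index : ℝ) ^ 2 - 2 * a * (K.index : ℝ) +
        (a : ℝ) ^ 2 * ((Nat.card K : ℝ) - 1) : ℝ) : ℂ) := by
    push_cast
    have h3 : ∀ x : ↥L, ((‖ζ x + (a : ℂ)‖ : ℂ)) ^ 2 =
        ζ x * conj (ζ x) + (a : ℂ) * ζ x + (a : ℂ) * conj (ζ x) + (a : ℂ) ^ 2 := fun x => by
      rw [← Complex.ofReal_pow, ← Complex.normSq_eq_norm_sq, ← Complex.mul_conj, map_add,
        map_intCast]
      ring
    simp only [h3, Finset.sum_add_distrib, ← Finset.mul_sum, hsq, hsum, ← map_sum, map_neg,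
      Complex.conj_natCast, Finset.sum_const, nsmul_eq_mul]
    rw [hs, Finset.card_erase_of_mem (Finset.mem_filter.2 ⟨Finset.mem_univ _, one_mem K⟩), hcard,
      Nat.cast_sub Nat.card_pos]
    push_cast
    ring
  rw [h1, Complex.ofReal_inj.1 h2, ← K.index_mul_card, Nat.cast_mul]
  have hi : (K.index : ℝ) ≠ 0 := Nat.cast_ne_zero.2 Subgroup.index_ne_zero_of_finite
  have hk : (Nat.card K : ℝ) ≠ 0 := Nat.cast_ne_zero.2 Nat.card_pos.ne'
  field_simp
  ring

omit [Fintype G] hD hA hc in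
theorem int_quadratic {e k : ℕ} (hek : 2 * e + 1 ≤ k) (a : ℤ) :
    2 * (a : ℝ) * (e : ℝ) ≤ (a : ℝ) ^ 2 * ((k : ℝ) - 1) := by
  have h1 : 2 * (e : ℝ) + 1 ≤ (k : ℝ) := by exact_mod_cast hek
  have h2 : (a : ℝ) ≤ (a : ℝ) ^ 2 := by exact_mod_cast Int.le_self_sq a
  have h3 : (0 : ℝ) ≤ (a : ℝ) ^ 2 := sq_nonneg _
  nlinarith [(Nat.cast_nonneg e : (0 : ℝ) ≤ e), mul_nonneg (mul_nonneg (two_pos.le : (0:ℝ) ≤ 2)
    (Nat.cast_nonneg e : (0 : ℝ) ≤ e)) (sub_nonneg.2 h2), mul_nonneg h3 (sub_nonneg.2 h1)]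

/-- Peterfalvi (7.8)(b): the bound. -/
theorem rhoSq_image_ge (hsmall : 2 * K.index + 1 ≤ Nat.card K) :
    1 - (K.index : ℝ) / (Nat.card K : ℝ) ≤ rhoSq A L R (τ₁ ζ) := by
  obtain ⟨a, ha, -⟩ := hc.coeff hD hA
  rw [hc.rhoSq_image hD hA ha]
  exact le_add_of_nonneg_right (div_nonneg (sub_nonneg.2 (int_quadratic hsmall a))
    (Nat.cast_nonneg _))

/-- Peterfalvi (7.8)(a): the decomposition of `β` and the norm of the remainder. -/
theorem beta_decomposition {a : ℤ} (ha : classInner (beta A L R K ζ) (τ₁ ζ) = (a : ℂ) - 1) :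
    ∃ Γ : G → ℂ, classInner Γ (fun _ => 1) = 0 ∧
      (∀ φ ∈ inducedIrrAbove K ⊥, classInner Γ (τ₁ φ) = 0) ∧
      beta A L R K ζ = (fun _ => 1) - τ₁ ζ + (a : ℂ) •
        (∑ φ ∈ (indSet K).erase (indOne K), (φ 1 / ζ 1 / classInner φ φ) • τ₁ φ) + Γ ∧
      classInner Γ Γ = (K.index : ℂ) - 1 + 2 * a -
        (a : ℂ) ^ 2 * (((Nat.card K : ℂ) - 1) / (K.index : ℂ)) := by
  classical
  obtain ⟨b, hb, hb'⟩ := hc.coeff hD hA
  obtain rfl : a = b := by
    have h := ha.symm.trans hb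
    exact_mod_cast sub_left_inj.1 h
  obtain ⟨-, -, hiso, -⟩ := hc.isometry
  have hz := subset_zspan hc.mem
  set S := (indSet K).erase (indOne K) with hS
  set B := beta A L R K ζ with hB
  set X := ∑ φ ∈ S, (φ 1 / ζ 1 / classInner φ φ) • τ₁ φ with hX
  set Γ := B - ((fun _ => 1) - τ₁ ζ + (a : ℂ) • X) with hΓ
  have hconj : ∀ φ ∈ S, conj (φ 1 / ζ 1 / classInner φ φ) = φ 1 / ζ 1 / classInner φ φ := by
    intro φ hφ
    obtain ⟨d, -, hd, -⟩ := hc.degree_div (mem_erase.1 hφ)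
    rw [hd, map_div₀, Complex.conj_natCast, classInner_conj_symm]
  have hX1 : classInner X (fun _ => 1) = 0 := by
    rw [hX, classInner_sum_left]
    exact Finset.sum_eq_zero fun φ hφ => by
      rw [classInner_smul_left, hc.inner_one hD hA (mem_erase.1 hφ), mul_zero]
  have hXτ : ∀ φ ∈ S, classInner X (τ₁ φ) = φ 1 / ζ 1 := by
    intro φ hφ
    have hn : classInner φ φ ≠ 0 := fun h =>
      (indSet_facts K (Finset.mem_of_mem_erase hφ)).2.2 (classInner_self_eq_zero.1 h)
    rw [hX, classInner_sum_left, Finset.sum_eq_single φ, classInner_smul_left,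
      hiso _ (subset_zspan (mem_erase.1 hφ)) _ (subset_zspan (mem_erase.1 hφ)), div_mul_cancel₀ _ hn]
    · intro ψ hψ hne
      rw [classInner_smul_left, hiso _ (subset_zspan (mem_erase.1 hψ)) _
        (subset_zspan (mem_erase.1 hφ)), indSet_orth K (Finset.mem_of_mem_erase hψ)
        (Finset.mem_of_mem_erase hφ) hne, mul_zero]
    · exact fun h => absurd hφ h
  have hΓτ : ∀ φ ∈ inducedIrrAbove K ⊥, classInner Γ (τ₁ φ) = 0 := by
    intro φ hφ
    have h1 : classInner (fun _ => 1) (τ₁ φ) = 0 := by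
      rw [← classInner_conj_symm, hc.inner_one hD hA hφ, map_zero]
    rw [hΓ, classInner_sub_left, classInner_add_left, classInner_sub_left, classInner_smul_left,
      hXτ φ (mem_erase.2 hφ), h1, hiso _ hz _ (subset_zspan hφ)]
    by_cases hne : φ = ζ
    · subst hne
      rw [hb, classInner_irr_self hc.irr, div_self (IsIrrCharacter.apply_one_ne_zero hc.irr)]
      ring
    · rw [hb' φ hφ hne, indSet_orth K ((mem_indSet_iff K).2 (Or.inr hc.mem))
        ((mem_indSet_iff K).2 (Or.inr hφ)) (Ne.symm hne)]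
      ring
  have hΓ1 : classInner Γ (fun _ => 1) = 0 := by
    have h11 : classInner (fun _ : G => (1 : ℂ)) (fun _ => 1) = 1 :=
      classInner_irr_self isIrrCharacter_one
    rw [hΓ, classInner_sub_left, classInner_add_left, classInner_sub_left, classInner_smul_left,
      hc.beta_one hD hA, h11, hc.inner_one hD hA hc.mem, hX1]
    ring
  refine ⟨Γ, hΓ1, hΓτ, by rw [hΓ]; abel, ?_⟩
  have hΓX : classInner Γ X = 0 := by
    rw [hX, classInner_sum_right]
    exact Finset.sum_eq_zero fun φ hφ => by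
      rw [classInner_smul_right, hΓτ φ (mem_erase.1 hφ), mul_zero]
  have hΓΓ : classInner Γ Γ = classInner Γ B := by
    conv_lhs => arg 2; rw [hΓ]
    rw [classInner_sub_right, classInner_add_right, classInner_sub_right, classInner_smul_right,
      hΓ1, hΓτ ζ hc.mem, hΓX]
    ring
  have hBX : classInner B X = (a : ℂ) * (((Nat.card K : ℂ) - 1) / (K.index : ℂ)) - 1 := by
    have hsum : ∑ φ ∈ S, (φ 1 / ζ 1) ^ 2 / classInner φ φ =
        ((Nat.card K : ℂ) - 1) / (K.index : ℂ) := by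
      have h := sum_sq_div (⊥ : Subgroup ↥L) bot_le S (Set.ext fun φ => by
        rw [Finset.mem_coe, hS, mem_erase]) (K := K)
      rw [Subgroup.relIndex_bot_left] at h
      have hi : (K.index : ℂ) ≠ 0 := Nat.cast_ne_zero.2 Subgroup.index_ne_zero_of_finite
      rw [eq_div_iff hi, Finset.sum_mul, ← mul_right_inj' hi, Finset.mul_sum, ← h]
      refine Finset.sum_congr rfl fun φ _ => ?_
      rw [hc.degree]
      field_simp
    rw [hX, classInner_sum_right, ← hsum, Finset.mul_sum,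
      ← Finset.add_sum_erase _ _ (mem_erase.2 hc.mem : ζ ∈ S),
      ← Finset.add_sum_erase _ _ (mem_erase.2 hc.mem : ζ ∈ S),
      classInner_smul_right, hconj ζ (mem_erase.2 hc.mem), hb, classInner_irr_self hc.irr,
      div_self (IsIrrCharacter.apply_one_ne_zero hc.irr)]
    rw [Finset.sum_congr rfl fun φ hφ => by
      rw [classInner_smul_right, hconj φ (Finset.mem_of_mem_erase hφ),
        hb' φ (mem_erase.1 (Finset.mem_of_mem_erase hφ)) (Finset.ne_of_mem_erase hφ)]]
    rw [Finset.sum_congr rfl (g := fun φ => (a : ℂ) * ((φ 1 / ζ 1) ^ 2 / classInner φ φ))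
      fun φ _ => by ring]
    ring
  rw [hΓΓ, hΓ, classInner_sub_left, classInner_add_left, classInner_sub_left, classInner_smul_left,
    hc.beta_norm hD hA, ← classInner_conj_symm B (fun _ => 1), ← classInner_conj_symm B (τ₁ ζ),
    ← classInner_conj_symm B X, hc.beta_one hD hA, hb, hBX]
  simp only [map_one, map_sub, map_mul, map_intCast, map_div₀, Complex.conj_natCast]
  ring

omit hK hD hA hc [Fintype ↥L] in
/-- The remainder is small. -/
theorem gamma_le (hsmall : 2 * K.index + 1 ≤ Nat.card K) {a : ℤ} {Γ : G → ℂ}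
    (hΓ : classInner Γ Γ = (K.index : ℂ) - 1 + 2 * a -
        (a : ℂ) ^ 2 * (((Nat.card K : ℂ) - 1) / (K.index : ℂ))) :
    (classInner Γ Γ).re ≤ (K.index : ℝ) - 1 := by
  have hi : (0 : ℝ) < K.index := Nat.cast_pos.2 (Nat.pos_of_ne_zero Subgroup.index_ne_zero_of_finite)
  have h1 : ((K.index : ℂ) - 1 + 2 * a - (a : ℂ) ^ 2 * (((Nat.card K : ℂ) - 1) / (K.index : ℂ))) =
      (((K.index : ℝ) - 1 + 2 * a - (a : ℝ) ^ 2 * (((Nat.card K : ℝ) - 1) / (K.index : ℝ)) : ℝ) : ℂ) := by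
    push_cast; rfl
  rw [hΓ, h1, Complex.ofReal_re]
  have h2 : 2 * (a : ℝ) ≤ (a : ℝ) ^ 2 * (((Nat.card K : ℝ) - 1) / (K.index : ℝ)) := by
    rw [mul_div, le_div_iff₀ hi]
    exact int_quadratic hsmall a
  linarith

end Coh

end Cfsg.Agent.Peterfalvi
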