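import Cfsg.Agent.Lib.Peterfalvi.Sec6Pivot
import Cfsg.Agent.Lib.Peterfalvi.Sec7Coherent

/-!
# Coherence from one congruence (owner: helper40)

A replacement for the central part of Peterfalvi (6.8). Let `Z ≤ D` be normal in `L`, `Z` central in
`K`, let the members of `S(D)` be irreducible of degree `[L:K]`, and `h = |K| - [K:Z]`.

* `zPart Z` : the regular character of `L` minus the one of `L / Z`
* `coherent_of_congruence` : if the deviation of `zPart Z - h ζ` is a multiple of `h` and the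
  degrees in `S(Z) \ S(D)` are small then `S` is coherent
-/

set_option autoImplicit false
set_option linter.unusedSectionVars false

namespace Cfsg.Agent.Peterfalvi

open Cfsg Cfsg.Agent Cfsg.Agent.Char Cfsg.Agent.Coherence
open scoped ComplexConjugate

universe u

variable {L : Type u} [Group L] [Fintype L] (Z : Subgroup L)

open Classical in
/-- The regular character minus the one of `L / Z`. -/
noncomputable def zPart : L → ℂ :=
  fun x => (if x = 1 then (Nat.card L : ℂ) else 0) - (if x ∈ Z then (Z.index : ℂ) else 0)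

theorem zPart_inner (φ : L → ℂ) [Fintype Z] :
    classInner (zPart Z) φ = conj (φ 1) - (Nat.card Z : ℂ)⁻¹ * conj (∑ z : Z, φ z) := by
  classical
  have hL : (Nat.card L : ℂ) ≠ 0 := Nat.cast_ne_zero.2 Nat.card_pos.ne'
  have hZ : (Nat.card Z : ℂ) ≠ 0 := Nat.cast_ne_zero.2 Nat.card_pos.ne'
  have h2 : ∑ x : L, (if x ∈ Z then (Z.index : ℂ) else 0) * conj (φ x) =
      (Z.index : ℂ) * conj (∑ z : Z, φ z) := by
    simp only [ite_mul, zero_mul]
    rw [← Finset.sum_filter, map_sum, Finset.mul_sum]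
    exact Finset.sum_subtype _ (fun x => by simp) _
  rw [classInner]
  simp only [zPart, sub_mul, Finset.sum_sub_distrib, h2]
  simp only [ite_mul, zero_mul, Finset.sum_ite_eq', Finset.mem_univ, if_true]
  rw [← Z.index_mul_card]
  push_cast
  have hi : (Z.index : ℂ) ≠ 0 := Nat.cast_ne_zero.2 Subgroup.index_ne_zero_of_finite
  field_simp

variable {Z}

theorem zPart_isClassFunction [hZn : Z.Normal] : IsClassFunction L (zPart Z) := by
  intro x g
  classical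
  have h1 : g * x * g⁻¹ = 1 ↔ x = 1 := by
    constructor
    · intro h
      have := congrArg (fun y => g⁻¹ * y * g) h
      simpa [mul_assoc] using this
    · rintro rfl; simp
  have h2 : g * x * g⁻¹ ∈ Z ↔ x ∈ Z := by
    refine ⟨fun h => ?_, fun h => hZn.conj_mem x h g⟩
    have := hZn.conj_mem _ h g⁻¹
    simpa [mul_assoc] using this
  simp only [zPart, h1, h2]

variable {K : Subgroup L} [K.Normal]

/-- Degree data of a member of `S`. -/
theorem inducedSet_fibre {φ : L → ℂ} (hφ : φ ∈ inducedIrrAbove K ⊥) :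
    ∃ d w m : ℕ, 0 < d ∧ 0 < w ∧ φ 1 = (d : ℂ) * (K.index : ℂ) ∧ classInner φ φ = (m : ℂ) ∧
      φ 1 = (m : ℂ) * (w : ℂ) ∧ m ≤ K.index := by
  classical
  haveI := Fintype.ofFinite (IrrCharacter K)
  obtain ⟨θ, rfl, -, -, hd⟩ := inducedSet_degree ⊥ hφ
  obtain ⟨m, hm⟩ := IsCharacter.classInner_nat
    (IsCharacter.indFun K (IsIrrCharacter.isCharacter θ.2))
    (IsCharacter.indFun K (IsIrrCharacter.isCharacter θ.2))
  set F := Finset.univ.filter
    (fun ψ : IrrCharacter K => indFun K (ψ : K → ℂ) = indFun K (θ : K → ℂ)) with hF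
  have hθF : θ ∈ F := by simp [hF]
  have h := norm_mul_sum (K := K) θ.2
  rw [hm, ← hF] at h
  set w := ∑ ψ ∈ F, charDegree (ψ : K → ℂ) with hw
  have hws : (∑ ψ ∈ F, (ψ : K → ℂ) 1) = (w : ℂ) := by
    rw [hw, Nat.cast_sum]
    exact Finset.sum_congr rfl fun ψ _ => TwoClassChar.deg_eq ψ.2
  rw [hws] at h
  have hd0 : 0 < charDegree (θ : K → ℂ) := by
    refine Nat.pos_of_ne_zero fun e => IsIrrCharacter.apply_one_ne_zero θ.2 ?_
    rw [TwoClassChar.deg_eq θ.2, e, Nat.cast_zero]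
  have hdw : charDegree (θ : K → ℂ) ≤ w := by
    rw [hw]
    exact Finset.single_le_sum (f := fun ψ : IrrCharacter K => charDegree (ψ : K → ℂ))
      (fun _ _ => Nat.zero_le _) hθF
  have hnat : K.index * charDegree (θ : K → ℂ) = m * w := by exact_mod_cast hd.symm.trans h
  refine ⟨_, w, m, hd0, hd0.trans_le hdw, by rw [hd]; push_cast; ring, hm, h, ?_⟩
  by_contra hlt
  have : K.index * charDegree (θ : K → ℂ) < m * w :=
    lt_of_lt_of_le ((Nat.mul_lt_mul_right hd0).2 (not_le.1 hlt)) (Nat.mul_le_mul_left m hdw)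
  omega

theorem sum_eq_zero_of_not_ker (hZK : Z ≤ K) (hZc : ∀ z ∈ Z, ∀ k ∈ K, z * k = k * z) [Fintype Z]
    {θ : K → ℂ} (hθ : IsIrrCharacter K θ) {z₀ : K} (hz₀ : (z₀ : L) ∈ Z) (hne : θ z₀ ≠ θ 1) :
    ∑ z : Z, θ ⟨z, hZK z.2⟩ = 0 := by
  obtain ⟨n, ρ, hρ, rfl⟩ := hθ
  obtain ⟨c, hc⟩ := CharApp.exists_scalar_of_commute (ρ := ρ) (ρ z₀) fun g => by
    rw [← map_mul, ← map_mul, show z₀ * g = g * z₀ from Subtype.ext (hZc _ hz₀ g g.2)]
  have hmul : ∀ k : K, ρ.character (z₀ * k) = c * ρ.character k := fun k => by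
    simp [Representation.character, map_mul, hc]
  have hc1 : c ≠ 1 := fun e => hne (by have := hmul 1; rwa [mul_one, e, one_mul] at this)
  have heq : ∑ z : Z, ρ.character ⟨z, hZK z.2⟩ = c * ∑ z : Z, ρ.character ⟨z, hZK z.2⟩ := by
    rw [Finset.mul_sum]
    refine (Fintype.sum_equiv (Equiv.mulLeft (⟨z₀, hz₀⟩ : Z)) _ _ fun z => ?_).symm
    rw [← hmul]
    rfl
  have : (c - 1) * ∑ z : Z, ρ.character ⟨z, hZK z.2⟩ = 0 := by linear_combination -heq
  exact (mul_eq_zero.1 this).resolve_left (sub_ne_zero.2 hc1)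

theorem zPart_inner_induced [hZn : Z.Normal] (hZK : Z ≤ K)
    (hZc : ∀ z ∈ Z, ∀ k ∈ K, z * k = k * z) {φ : L → ℂ} (hφ : φ ∈ inducedIrrAbove K ⊥)
    (hφZ : φ ∉ inducedIrrAbove K Z) : classInner (zPart Z) φ = φ 1 := by
  classical
  haveI := Fintype.ofFinite Z
  obtain ⟨θ, hθ, hθ1, -, rfl⟩ := hφ
  obtain ⟨d, hd⟩ := IsCharacter.exists_degree
    (IsCharacter.indFun K (IsIrrCharacter.isCharacter hθ))
  obtain ⟨z₀, hz₀, hne⟩ : ∃ z₀ : K, (z₀ : L) ∈ Z ∧ θ z₀ ≠ θ 1 := by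
    by_contra hno
    push Not at hno
    exact hφZ ⟨θ, hθ, hθ1, hno, rfl⟩
  have h0 := sum_eq_zero_of_not_ker hZK hZc hθ hz₀ hne
  have hs : ∑ z : Z, indFun K θ (z : L) = 0 := by
    simp only [indFun]
    rw [← Finset.mul_sum, Finset.sum_comm, Finset.sum_eq_zero, mul_zero]
    intro g _
    rw [← h0]
    refine Fintype.sum_equiv ((MulAut.conjNormal (g⁻¹ : L) : MulAut Z).toEquiv) _ _ fun z => ?_
    have hmem : g⁻¹ * (z : L) * g ∈ K := hZK (by simpa using hZn.conj_mem _ z.2 g⁻¹)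
    rw [extendByZero_mem K θ hmem]
    congr 1
    exact Subtype.ext (by simp [MulAut.conjNormal_apply])
  rw [zPart_inner, hs, map_zero, mul_zero, sub_zero, hd, Complex.conj_natCast]

theorem zPart_inner_zero [Z.Normal] {φ : L → ℂ} (h : ∀ z ∈ Z, φ z = φ 1) :
    classInner (zPart Z) φ = 0 := by
  haveI := Fintype.ofFinite Z
  rw [zPart_inner, Finset.sum_congr rfl fun (z : Z) _ => h z z.2, Finset.sum_const,
    Finset.card_univ, nsmul_eq_mul, map_mul, Complex.conj_natCast, ← Nat.card_eq_fintype_card,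
    ← mul_assoc, inv_mul_cancel₀ (Nat.cast_ne_zero.2 Nat.card_pos.ne'), one_mul, sub_self]

theorem zPart_norm : classInner (zPart Z) (zPart Z) = (Nat.card L : ℂ) - (Z.index : ℂ) := by
  classical
  haveI := Fintype.ofFinite Z
  have hs : ∑ z : Z, zPart Z (z : L) = 0 := by
    have h1 : ∀ z : Z, zPart Z (z : L) =
        (if z = 1 then (Nat.card L : ℂ) else 0) - (Z.index : ℂ) := fun z => by simp [zPart]
    rw [Finset.sum_congr rfl fun z _ => h1 z, Finset.sum_sub_distrib, Finset.sum_ite_eq',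
      if_pos (Finset.mem_univ _), Finset.sum_const, Finset.card_univ, nsmul_eq_mul,
      ← Z.index_mul_card, Nat.card_eq_fintype_card (α := Z)]
    push_cast
    ring
  rw [zPart_inner, hs, map_zero, mul_zero, sub_zero]
  simp [zPart]

variable {G : Type u} [Group G] [Fintype G] {τ : (L → ℂ) → (G → ℂ)}
  {R : (L → ℂ) → Finset (G → ℂ)}

/-- The integer `h = |K| - [K:Z]`. -/
noncomputable def zDeg (K Z : Subgroup L) : ℤ := (Nat.card K : ℤ) - (Z.relIndex K : ℤ)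

theorem coherent_of_congruence (hS : IsCoherenceSystem (inducedIrrAbove K ⊥) τ R)
    (D Z : Subgroup L) [D.Normal] [hZn : Z.Normal] (hZD : Z ≤ D) (hDK : D ≤ K) (hZ1 : Z ≠ ⊥)
    (hZc : ∀ z ∈ Z, ∀ k ∈ K, z * k = k * z)
    (hYne : (inducedIrrAbove K D).Nonempty)
    (hY : ∀ φ ∈ inducedIrrAbove K D, IsIrrCharacter L φ ∧ φ 1 = (K.index : ℂ))
    (hcong : ∀ (τ₁ : (L → ℂ) → (G → ℂ)), ∀ ζ ∈ inducedIrrAbove K D,
      IsLinearIsometryOn (zspan (inducedIrrAbove K D)) τ₁ →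
      (∀ α ∈ zspanOn (inducedIrrAbove K D) {1}ᶜ, τ₁ α = τ α) →
      ∃ k : ℤ, pivotDev τ ζ (τ₁ ζ) (zPart Z - zDeg K Z • ζ) = ((k * zDeg K Z : ℤ) : ℂ))
    (hbig : ∀ φ ∈ inducedIrrAbove K Z, φ ∉ inducedIrrAbove K D → ∀ d : ℕ,
      φ 1 = (d : ℂ) * (K.index : ℂ) →
      2 * (d : ℤ) * K.index + (K.index : ℤ) ^ 2 ≤ zDeg K Z) :
    IsCoherent (inducedIrrAbove K ⊥) {1}ᶜ τ := by
  classical
  set S := inducedIrrAbove K ⊥ with hSdef
  have hZK : Z ≤ K := hZD.trans hDK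
  have hDS : inducedIrrAbove K D ⊆ S := inducedSet_le_bot D
  obtain ⟨ζ, hζ⟩ := hYne
  have hsysY := sys_subset hS hDS ⟨ζ, hζ⟩ fun φ hφ => inducedSet_conj_mem D hφ
  obtain ⟨-, τ₁, hiso, hag⟩ := Coherence.uniform hsysY fun φ hφ ψ hψ =>
    (hY φ hφ).2.trans (hY ψ hψ).2.symm
  have hYf := sys_finite hsysY
  set Y := hYf.toFinset with hYdef
  have hmY : ∀ φ, φ ∈ Y ↔ φ ∈ inducedIrrAbove K D := fun φ => Set.Finite.mem_toFinset hYf
  have hYcoe : (↑Y : Set (L → ℂ)) = inducedIrrAbove K D := Set.Finite.coe_toFinset hYf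
  have P : Pivot S τ R Y τ₁ ζ :=
    ⟨hS, hYcoe ▸ hDS, fun φ hφ => (hmY _).2 (inducedSet_conj_mem D ((hmY φ).1 hφ)),
      fun φ hφ => classInner_irr_self (hY φ ((hmY φ).1 hφ)).1,
      fun φ hφ => (hY φ ((hmY φ).1 hφ)).2.trans (hY ζ hζ).2.symm,
      (hmY ζ).2 hζ, hYcoe ▸ hiso, hYcoe ▸ hag⟩
  set e := K.index with he
  have he0 : 0 < e := Nat.pos_of_ne_zero Subgroup.index_ne_zero_of_finite
  have heC : (e : ℂ) ≠ 0 := Nat.cast_ne_zero.2 he0.ne'
  set h := zDeg K Z with hh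
  set n := Y.card with hn
  have hn2 : 2 ≤ n := P.two_le
  -- `n e = [K:D] - 1`
  have hne : (n : ℤ) * e = (D.relIndex K : ℤ) - 1 := by
    have hs := sum_sq_div D hDK Y hYcoe
    rw [Finset.sum_congr rfl (g := fun _ => (e : ℂ) ^ 2) fun φ hφ => by
      rw [(hY φ ((hmY φ).1 hφ)).2, classInner_irr_self (hY φ ((hmY φ).1 hφ)).1, div_one],
      Finset.sum_const, nsmul_eq_mul] at hs
    have : ((n : ℂ) * e) = (D.relIndex K : ℂ) - 1 := mul_left_cancel₀ heC (by linear_combination hs)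
    exact_mod_cast this
  have hcardK : Nat.card K = Z.relIndex K * Nat.card Z := by
    rw [← Subgroup.card_mul_index (Z.subgroupOf K), Subgroup.relIndex,
      Nat.card_congr (Subgroup.subgroupOfEquivOfLe hZK).toEquiv, mul_comm]
  have hZ2 : 2 ≤ Nat.card Z := by
    have h0 : 0 < Nat.card Z := Nat.card_pos
    have h1 : Nat.card Z ≠ 1 := fun e1 => hZ1 (Subgroup.eq_bot_of_card_eq Z e1)
    omega
  have hZD' : D.relIndex K ≤ Z.relIndex K :=
    Nat.le_of_dvd (Nat.pos_of_ne_zero Subgroup.index_ne_zero_of_finite)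
      (Subgroup.relIndex_dvd_of_le_left K hZD)
  have heh : (e : ℤ) < h := by
    have h1 : (Z.relIndex K : ℤ) * 2 ≤ (Nat.card K : ℤ) := by
      rw [hcardK]; push_cast
      exact mul_le_mul_of_nonneg_left (by exact_mod_cast hZ2) (Int.natCast_nonneg _)
    have h2 : (D.relIndex K : ℤ) ≤ Z.relIndex K := by exact_mod_cast hZD'
    have h3 : (2 : ℤ) * e ≤ n * e :=
      mul_le_mul_of_nonneg_right (by exact_mod_cast hn2) (Int.natCast_nonneg _)
    rw [hh, zDeg]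
    omega
  have hLh : (Nat.card L : ℂ) - (Z.index : ℂ) = (e : ℂ) * (h : ℂ) := by
    rw [hh, zDeg, he, ← Subgroup.relIndex_mul_index hZK, ← K.index_mul_card]
    push_cast
    ring
  -- members of `S`
  choose! d w m hd0 hw0 hd hm hmw hme using fun φ (hφ : φ ∈ S) => inducedSet_fibre hφ
  have hζ1 : ζ 1 = (e : ℂ) := (hY ζ hζ).2
  have hζ10 : ζ 1 ≠ 0 := by rw [hζ1]; exact heC
  have hkerZ : ∀ φ ∈ inducedIrrAbove K Z, classInner (zPart Z) φ = 0 := fun φ hφ => by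
    obtain ⟨θ, h1, -, h3, rfl⟩ := hφ
    exact zPart_inner_zero fun z hz => (S1487.result Z K hZK θ h1).1 h3 z hz
  have hDZ : inducedIrrAbove K D ⊆ inducedIrrAbove K Z := inducedSet_mono hZD
  -- the expansion of `zPart Z`
  set X := (indSet K).filter (fun φ => φ ∈ S ∧ φ ∉ inducedIrrAbove K Z) with hX
  have hXS : ∀ φ ∈ X, φ ∈ S := fun φ hφ => (Finset.mem_filter.1 hφ).2.1
  have hXm : ∀ φ, φ ∈ X ↔ φ ∈ S ∧ φ ∉ inducedIrrAbove K Z := fun φ => by
    rw [hX, Finset.mem_filter]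
    exact ⟨fun h => h.2, fun h => ⟨(mem_indSet_iff K).2 (Or.inr h.1), h⟩⟩
  have hexp : zPart Z = ∑ φ ∈ X, (w φ : ℤ) • φ := by
    rw [supported_expansion K zPart_isClassFunction (fun x hx => by
      have h1 : x ≠ 1 := fun e1 => hx (e1 ▸ one_mem K)
      have h2 : x ∉ Z := fun h2 => hx (hZK h2)
      simp [zPart, h1, h2])]
    symm
    rw [Finset.sum_subset_zero_on_sdiff (Finset.filter_subset _ _) ?_ ?_]
    · intro φ hφ
      obtain ⟨hφ1, hφ2⟩ := Finset.mem_sdiff.1 hφ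
      have h0 : classInner (zPart Z) φ = 0 := by
        rcases (mem_indSet_iff K).1 hφ1 with rfl | hS'
        · exact zPart_inner_zero fun z hz => by
            rw [indFun_one_of_mem K (hZK hz), indFun_one_of_mem K (one_mem K)]
        · exact hkerZ φ (by_contra fun hno => hφ2 ((hXm φ).2 ⟨hS', hno⟩))
      rw [h0, zero_div, zero_smul]
    · intro φ hφ
      obtain ⟨hS', hno⟩ := (hXm φ).1 hφ
      have hm0 : (m φ : ℂ) ≠ 0 := fun e0 => sys_ne_zero hS hS'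
        (classInner_self_eq_zero.1 (by rw [hm φ hS', e0]))
      rw [zPart_inner_induced hZK hZc hS' hno, hm φ hS', hmw φ hS', mul_div_cancel_left₀ _ hm0,
        ← Int.cast_smul_eq_zsmul ℂ]
      push_cast
      rfl
  have hzS : zPart Z ∈ zspan S := hexp ▸ zspan_sum _ fun φ hφ =>
    zspan_zsmul _ (subset_zspan (hXS φ hφ))
  set α₀ := zPart Z - h • ζ with hα₀
  have hm₀ : α₀ ∈ zspanOn S {1}ᶜ := mem_zspanOn_one.2
    ⟨zspan_sub hzS (zspan_zsmul h (subset_zspan (hDS hζ))), by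
      simp [hα₀, zPart, hζ1, one_mem]
      rw [Nat.card_eq_fintype_card] at hLh
      linear_combination hLh⟩
  have hwd : ∑ φ ∈ X, (w φ : ℤ) * d φ = h := by
    have h1 := congrFun hexp 1
    simp only [Finset.sum_apply, Pi.smul_apply] at h1
    rw [Finset.sum_congr rfl (g := fun φ => (e : ℂ) * (((w φ : ℤ) * d φ : ℤ) : ℂ)) fun φ hφ => by
      rw [hd φ (hXS φ hφ), zsmul_eq_mul]; push_cast; ring] at h1
    rw [← Finset.mul_sum, ← Int.cast_sum,
      show zPart Z 1 = (Nat.card L : ℂ) - (Z.index : ℂ) by simp [zPart, one_mem], hLh] at h1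
    exact_mod_cast (mul_left_cancel₀ heC h1).symm
  have hα₀Y : ∀ φ ∈ Y, classInner α₀ φ = if φ = ζ then -(h : ℂ) else 0 := by
    intro φ hφ
    rw [hα₀, classInner_sub_left, classInner_zsmul_left, hkerZ φ (hDZ ((hmY φ).1 hφ)), zero_sub]
    split_ifs with h'
    · rw [h', P.norm ζ P.mem, mul_one]
    · rw [hS.orthogonal ζ (hDS hζ) φ (hDS ((hmY φ).1 hφ)) (Ne.symm h'), mul_zero, neg_zero]
  have hα₀n : classInner α₀ α₀ = (e : ℂ) * h + (h : ℂ) ^ 2 := by
    simp only [hα₀, classInner_sub_left, classInner_sub_right, classInner_zsmul_left,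
      classInner_zsmul_right, zPart_norm, hkerZ ζ (hDZ hζ), classInner_symm_zero (hkerZ ζ (hDZ hζ)),
      classInner_irr_self (hY ζ hζ).1, hLh]
    ring
  have hre : (classInner α₀ α₀).re = (e : ℝ) * h + (h : ℝ) ^ 2 := by
    rw [hα₀n]; simp [pow_two]
  -- choose the extension
  obtain ⟨k, hk⟩ := hcong τ₁ ζ hζ hiso hag
  obtain ⟨τ₂, P₂, hA₂⟩ : ∃ τ₂, Pivot S τ R Y τ₂ ζ ∧ pivotDev τ ζ (τ₂ ζ) α₀ = 0 := by
    have hb := P.residue_bound hm₀ hk hα₀Y
    rw [hre] at hb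
    have hb' : (n : ℝ) * ((k : ℝ) * h) ^ 2 - 2 * h * ((k : ℝ) * h) + (h : ℝ) ^ 2 ≤
        (e : ℝ) * h + (h : ℝ) ^ 2 := by push_cast at hb; exact hb
    have hZb : h * ((n : ℤ) * k ^ 2 * h - 2 * k * h) ≤ h * e := by
      have hR : (h : ℝ) * ((n : ℝ) * (k : ℝ) ^ 2 * h - 2 * k * h) ≤ (h : ℝ) * e := by
        nlinarith [hb']
      exact_mod_cast hR
    have hpos : 0 < h := lt_of_le_of_lt (Int.natCast_nonneg _) heh
    have hle : k * ((n : ℤ) * k - 2) ≤ 0 := by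
      by_contra hlt
      have h1 : h * 1 ≤ h * (k * ((n : ℤ) * k - 2)) :=
        mul_le_mul_of_nonneg_left (by omega) hpos.le
      have h2 := le_of_mul_le_mul_left hZb hpos
      nlinarith
    have hk01 : k = 0 ∨ (k = 1 ∧ n = 2) := by
      rcases lt_trichotomy k 0 with hk' | hk' | hk'
      · exfalso; nlinarith
      · exact Or.inl hk'
      · refine Or.inr ?_
        have h2 : (n : ℤ) * k ≤ 2 := by nlinarith
        have h3 : (2 : ℤ) ≤ n := by exact_mod_cast hn2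
        have hk1 : k = 1 := by nlinarith
        rw [hk1, mul_one] at h2
        exact ⟨hk1, by omega⟩
    rcases hk01 with rfl | ⟨rfl, hn'⟩
    · exact ⟨τ₁, P, by rw [hk]; simp⟩
    · obtain ⟨τ₂, P₂, h2⟩ := P.swap (hY ζ hζ).1 hn'
      refine ⟨τ₂, P₂, ?_⟩
      rw [h2 α₀ hm₀, hk, hα₀Y ζ P.mem, if_pos rfl,
        hα₀Y _ (P.conj_closed ζ P.mem), if_neg (hS.conj_ne ζ (hDS hζ))]
      push_cast
      ring
  have hψn : classInner (τ₂ ζ) (τ₂ ζ) = 1 := P₂.image_norm P₂.mem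
  choose! a ha hab using fun φ (hφ : φ ∈ S ∧ φ ∉ Y) =>
    P₂.dev_char hφ.1 hφ.2 (d := (d φ : ℤ)) (by rw [hd φ hφ.1, hζ1]; push_cast; rfl)
  have hXY : ∀ φ ∈ X, φ ∈ S ∧ φ ∉ Y := fun φ hφ =>
    ⟨hXS φ hφ, fun h' => ((hXm φ).1 hφ).2 (hDZ ((hmY φ).1 h'))⟩
  have ha0 : ∀ φ, φ ∈ S ∧ φ ∉ Y → 0 ≤ a φ := by
    intro φ hφ
    have h1 := hab φ hφ
    have h2 : (0 : ℤ) < d φ := by exact_mod_cast hd0 φ hφ.1
    by_contra hlt
    nlinarith [mul_nonneg (Int.natCast_nonneg n) (sq_nonneg (a φ))]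
  -- the deviations on `S \ S(Z)` vanish
  have hX0 : ∀ φ ∈ X, a φ = 0 := by
    have hsum : α₀ = ∑ φ ∈ X, (w φ : ℤ) • (φ - (d φ : ℤ) • ζ) := by
      simp only [smul_sub, Finset.sum_sub_distrib, smul_smul]
      rw [← Finset.sum_smul, hwd, ← hexp, hα₀]
    have hmem : ∀ φ ∈ X, φ - (d φ : ℤ) • ζ ∈ zspanOn S {1}ᶜ := fun φ hφ =>
      P₂.char_sub_mem (hXS φ hφ) (by rw [hd φ (hXS φ hφ), hζ1]; push_cast; rfl)
    have h0 := hA₂
    rw [hsum, pivotDev_sum hS.isometry X fun φ hφ => zspanOn_zsmul _ (hmem φ hφ),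
      Finset.sum_congr rfl (g := fun φ => (((w φ : ℤ) * a φ : ℤ) : ℂ)) fun φ hφ => by
        rw [pivotDev_zsmul hS.isometry (hmem φ hφ), ha φ (hXY φ hφ)]; push_cast; rfl] at h0
    have hz : ∑ φ ∈ X, (w φ : ℤ) * a φ = 0 := by exact_mod_cast h0
    intro φ hφ
    have := (Finset.sum_eq_zero_iff_of_nonneg fun ψ hψ =>
      mul_nonneg (Int.natCast_nonneg _) (ha0 ψ (hXY ψ hψ))).1 hz φ hφ
    exact (mul_eq_zero.1 this).resolve_left (by have := hw0 φ (hXS φ hφ); omega)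
  -- the image of `zPart Z`
  set V := τ α₀ + h • τ₂ ζ with hV
  have hcα : ∀ φ ∈ Y, classInner (τ α₀) (τ₂ φ) = if φ = ζ then -(h : ℂ) else 0 := fun φ hφ => by
    rw [P₂.coeff hm₀ hφ, hA₂, zero_add, hα₀Y φ hφ]
  have hVY : ∀ φ ∈ Y, classInner V (τ₂ φ) = 0 := fun φ hφ => by
    rw [hV, classInner_add_left, classInner_zsmul_left, hcα φ hφ]
    split_ifs with h'
    · rw [h', hψn]; ring
    · rw [P₂.image_orth P₂.mem hφ (Ne.symm h')]; ring
  have hVV : classInner V V = (((e : ℝ) * h : ℝ) : ℂ) := by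
    have h1 : classInner (τ α₀) (τ₂ ζ) = ((-h : ℤ) : ℂ) := by
      rw [hcα ζ P₂.mem, if_pos rfl]; push_cast; rfl
    simp only [hV, classInner_add_left, classInner_add_right, classInner_zsmul_left,
      classInner_zsmul_right, h1, classInner_symm_of_int h1, hψn,
      hS.isometry.2.2.1 _ hm₀ _ hm₀, hα₀n]
    push_cast
    ring
  have hSZ : ∀ χ ∈ inducedIrrAbove K Z, χ ∉ inducedIrrAbove K D → a χ = 0 := by
    intro χ hχZ hχD
    have hχ : χ ∈ S := inducedSet_le_bot Z hχZ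
    have hχY : χ ∉ Y := fun h' => hχD ((hmY χ).1 h')
    have hmem := P₂.char_sub_mem hχ (d := (d χ : ℤ)) (by rw [hd χ hχ, hζ1]; push_cast; rfl)
    have hpos : (0 : ℝ) < (e : ℝ) * h := mul_pos (Nat.cast_pos.2 he0)
      (by exact_mod_cast lt_of_le_of_lt (Int.natCast_nonneg _) heh)
    have hb := P₂.residue_bound_orth hmem (ha χ ⟨hχ, hχY⟩)
      (fun φ hφ => Pivot.char_inner P₂ hχ hχY _ hφ) {V} (fun _ => (e : ℝ) * h)
      (fun _ _ => hpos) (fun v hv => by rw [Finset.mem_singleton.1 hv]; exact hVV)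
      (fun v hv w' hw' hne => absurd ((Finset.mem_singleton.1 hv).trans
        (Finset.mem_singleton.1 hw').symm) hne)
      (fun v hv φ hφ => by rw [Finset.mem_singleton.1 hv]; exact hVY φ hφ)
    rw [Finset.sum_singleton] at hb
    have hval : classInner (τ (χ - (d χ : ℤ) • ζ)) V = ((h * a χ : ℤ) : ℂ) := by
      rw [hV, classInner_add_right, classInner_zsmul_right, hS.isometry.2.2.1 _ hmem _ hm₀,
        P₂.coeff hmem P₂.mem, ha χ ⟨hχ, hχY⟩, Pivot.char_inner P₂ hχ hχY _ P₂.mem, if_pos rfl,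
        hα₀]
      simp only [classInner_sub_left, classInner_sub_right, classInner_zsmul_left,
        classInner_zsmul_right, classInner_symm_zero (hkerZ χ hχZ),
        classInner_symm_zero (hkerZ ζ (hDZ hζ)), classInner_irr_self (hY ζ hζ).1,
        hS.orthogonal χ hχ ζ (hDS hζ) fun e' => hχY (e' ▸ P₂.mem)]
      push_cast
      ring
    rw [hval, Complex.norm_intCast, sq_abs, P₂.char_norm hχ hχY, hm χ hχ] at hb
    simp [pow_two] at hb
    have hm' : (m χ : ℝ) ≤ e := by exact_mod_cast hme χ hχ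
    have hbig' : 2 * (d χ : ℝ) * e + (e : ℝ) * e ≤ h := by
      have := hbig χ hχZ hχD (d χ) (hd χ hχ)
      rw [pow_two] at this
      exact_mod_cast this
    by_contra hne0
    have ha1 : (1 : ℝ) ≤ a χ := by
      have := ha0 χ ⟨hχ, hχY⟩
      exact_mod_cast (show (1 : ℤ) ≤ a χ by omega)
    have he1 : (0 : ℝ) < e := Nat.cast_pos.2 he0
    have hh0 : (0 : ℝ) < h := pos_of_mul_pos_right hpos he1.le
    have hsimp : (h : ℝ) * a χ * ((h : ℝ) * a χ) / ((e : ℝ) * h) =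
        (h : ℝ) * (a χ) ^ 2 / e := by
      field_simp
    rw [hsimp] at hb
    have hn' : (0 : ℝ) < n := by exact_mod_cast (show 0 < n by omega)
    have hb2 : ((n : ℝ) * (a χ) ^ 2 - 2 * a χ * d χ) * e + (h : ℝ) * (a χ) ^ 2 ≤ (e : ℝ) * e := by
      have h1 := mul_le_mul_of_nonneg_right hb he1.le
      rw [add_mul, div_mul_cancel₀ _ he1.ne'] at h1
      nlinarith
    have hd' : (0 : ℝ) ≤ d χ := Nat.cast_nonneg _
    have t1 : 0 < (n : ℝ) * e * (a χ) ^ 2 := by positivity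
    have t2 : 0 ≤ (a χ : ℝ) ^ 2 * ((h : ℝ) - (2 * (d χ : ℝ) * e + e * e)) :=
      mul_nonneg (sq_nonneg _) (sub_nonneg.2 hbig')
    have t3 : 0 ≤ (d χ : ℝ) * e * (a χ * (a χ - 1)) :=
      mul_nonneg (mul_nonneg hd' he1.le) (mul_nonneg (by linarith) (sub_nonneg.2 ha1))
    have t4 : 0 ≤ (e : ℝ) * e * ((a χ : ℝ) ^ 2 - 1) :=
      mul_nonneg (mul_nonneg he1.le he1.le) (by nlinarith)
    nlinarith
  refine coherent_of_pivot hS.isometry ?_ (hDS hζ) (P₂.norm ζ P₂.mem) hζ10 (P₂.image_gc P₂.mem)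
    hψn fun φ hφ => ?_
  · exact ⟨_, sys_sub_conj_mem hS (hDS hζ) (hDS hζ) (hS.conj_mem ζ (hDS hζ)),
      sys_sub_conj_ne hS (hDS hζ)⟩
  by_cases hφY : φ ∈ Y
  · refine ⟨1, by rw [P₂.deg φ hφY]; simp, ?_⟩
    rw [one_zsmul]
    exact P₂.dev_self hφY
  · refine ⟨(d φ : ℤ), by rw [hd φ hφ, hζ1]; push_cast; rfl, ?_⟩
    rw [ha φ ⟨hφ, hφY⟩]
    by_cases hφZ : φ ∈ inducedIrrAbove K Z
    · rw [hSZ φ hφZ fun h' => hφY ((hmY φ).2 h'), Int.cast_zero]
    · rw [hX0 φ ((hXm φ).2 ⟨hφ, hφZ⟩), Int.cast_zero]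

end Cfsg.Agent.Peterfalvi
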