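import Cfsg.Agent.Lib.Peterfalvi.Sec10TypeVSetup
import Cfsg.Agent.Lib.Peterfalvi.Sec6Congruence
import Cfsg.Agent.Lib.Coherence.TICongruence
import Cfsg.Agent.Lib.Coherence.OddPartition
import Cfsg.Agent.Lib.GaloisPow.Twist
import Cfsg.Agent.S1522

/-!
# Type V with `M'` a TI subgroup of prime power order: coherence (owner: helper40)

Peterfalvi (6.8) in case (c2), through `coherent_of_congruence`.

* `TypeVData.reciprocity`, `TypeVData.tau_apply` : the Dade map in the TI case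
* `TypeVData.const_of_galois`, `TypeVData.const_of_irr` : `τ₁ ζ` is constant on `Z^#`
* `TypeVData.congruence` : the congruence
* `TypeVData.coherent_ti`
-/

set_option autoImplicit false
set_option linter.unusedSectionVars false

namespace Cfsg.Agent.Peterfalvi

open scoped Pointwise commutatorElement ComplexConjugate
open Cfsg OddMax Cfsg.Agent.Coherence Cfsg.Agent.Char

universe u

variable {G : Type u} [Group G]

namespace TypeVData

variable [Fintype G] {M W₁ W₂ : Subgroup G} (h : TypeVData M W₁ W₂)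
  (hTI : IsTISubset (fittingHallOf M : Set G))
include h

theorem normalizer_derived : Subgroup.normalizer ((⁅M, M⁆ : Subgroup G) : Set G) = M :=
  OddUniq.normalizer_eq_of_coatom h.minimal.2.1 h.coatom
    (fun e => h.W₂_ne (le_bot_iff.1 (e ▸ typeP_W₂_le h.data)))
    h.data.W₁_compl.1 (le_normalizer_commutator_self M)

include hTI

theorem centralizer_le {x : G} (hx : x ∈ ⁅M, M⁆) (hx1 : x ≠ 1) :
    Subgroup.centralizer ({x} : Set G) ≤ M := by
  intro g hg
  rw [h.fittingHall_eq] at hTI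
  rw [← h.normalizer_derived]
  by_contra hn
  refine hx1 (hTI g hn x hx ?_)
  rw [Subgroup.mem_centralizer_singleton_iff.1 hg, mul_inv_cancel_right]
  exact hx

variable [Fintype ↥M]

/-- In the TI case the Dade map is adjoint to restriction. -/
theorem reciprocity {α : ↥M → ℂ} (hα : IsClassFunction ↥M α)
    (hsupp : ∀ x : ↥M, ((x : G) ∉ ⁅M, M⁆ ∨ x = 1) → α x = 0) {ψ : G → ℂ}
    (hψ : IsClassFunction G ψ) :
    classInner (dadeIsometry (coreA0 M) M (supportR M) α) ψ =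
      classInner α (fun x : ↥M => ψ x) := by
  rw [dade_reciprocity h.dade hα (fun x hx => hsupp x ?_) hψ, classInner, classInner]
  · congr 1
    refine Finset.sum_congr rfl fun x _ => ?_
    by_cases hx : (x : G) ∈ ⁅M, M⁆ ∧ x ≠ 1
    · have hx1 : (x : G) ≠ 1 := fun e => hx.2 (Subtype.ext e)
      rw [dadeRho_of_bot (h.mem_coreA0 hx.1 hx1)
        (supportR_eq_bot (h.centralizer_le hTI hx.1 hx1))]
    · rw [hsupp x (by tauto)]
      simp
  · by_contra hno
    simp only [not_or, not_not] at hno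
    exact hx (h.mem_coreA0 hno.1 fun e => hno.2 (Subtype.ext e))

theorem tau_apply {α : ↥M → ℂ} (hα : IsClassFunction ↥M α) (z : ↥M) (hz : (z : G) ∈ ⁅M, M⁆)
    (hz1 : z ≠ 1) : dadeIsometry (coreA0 M) M (supportR M) α (z : G) = α z :=
  Dade.dadeIsometry_apply h.dade hα z (h.mem_coreA0 hz fun e => hz1 (Subtype.ext e))
    (u := 1) (x := 1) (one_mem _) (by simp)

omit hTI [Fintype ↥M] in
theorem exists_sylow {p : ℕ} [Fact p.Prime] (hpK : IsPGroup p (derivedIn M)) :
    ∃ P : Sylow p G, (P : Subgroup G) = ⁅M, M⁆ := by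
  have hle := h.data.W₁_compl.1
  have hH : IsPGroup p ↥⁅M, M⁆ := hpK.of_equiv (Subgroup.subgroupOfEquivOfLe hle)
  obtain ⟨S, hS⟩ := hH.exists_le_sylow
  refine ⟨S, ?_⟩
  by_contra hne
  haveI := S.2.isNilpotent
  have hlt : (⁅M, M⁆).subgroupOf S < ⊤ := by
    rw [lt_top_iff_ne_top, Ne, Subgroup.subgroupOf_eq_top]
    exact fun h' => hne (le_antisymm h' hS)
  obtain ⟨x, hx, hxH⟩ := SetLike.exists_of_lt (Group.normalizerCondition_of_isNilpotent _ hlt)
  have hxM : (x : G) ∈ M := by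
    rw [← h.normalizer_derived]
    refine Subgroup.mem_normalizer_iff.2 fun y => ⟨fun hy => ?_, fun hy => ?_⟩
    · exact (Subgroup.mem_normalizer_iff.1 hx ⟨y, hS hy⟩).1 hy
    · have hyS : y ∈ (S : Subgroup G) := by
        have h2 := mul_mem (mul_mem (inv_mem x.2) (hS hy)) x.2
        simpa [mul_assoc] using h2
      exact (Subgroup.mem_normalizer_iff.1 hx ⟨y, hyS⟩).2 hy
  haveI : (derivedIn M).Normal := derivedIn_normal M
  have hK : Nat.card (derivedIn M) ≠ 1 := fun e => by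
    have := Subgroup.eq_bot_of_card_eq _ e
    exact h.derived_ne (le_bot_iff.1 ((Subgroup.commutator_le_self _).trans this.le))
  have hpd : p ∣ Nat.card (derivedIn M) := by
    obtain ⟨m, hm⟩ := IsPGroup.iff_card.1 hpK
    rcases m with _ | m
    · exact absurd (by simpa using hm) hK
    · exact hm ▸ dvd_pow_self p m.succ_ne_zero
  have hnd : ¬ p ∣ (derivedIn M).index := fun hd => by
    rw [h.index_eq, ← Nat.card_congr (Subgroup.subgroupOfEquivOfLe h.data.W₁_compl.2.1).toEquiv] at hd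
    exact (Fact.out : p.Prime).ne_one (Nat.eq_one_of_dvd_coprimes h.primeAct.coprime hd hpd)
  refine hxH (Subgroup.mem_subgroupOf.2 ?_)
  have hq : QuotientGroup.mk' (derivedIn M) ⟨x, hxM⟩ = 1 := by
    obtain ⟨i, hi⟩ := IsPGroup.iff_orderOf.1 S.2 x
    have h2 : orderOf (QuotientGroup.mk' (derivedIn M) ⟨x, hxM⟩) ∣ p ^ i := by
      refine (orderOf_map_dvd _ _).trans (dvd_of_eq ?_)
      rw [← hi, ← Subgroup.orderOf_coe, ← Subgroup.orderOf_coe]
    obtain ⟨j, -, hj⟩ := (Nat.dvd_prime_pow (Fact.out : p.Prime)).1 h2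
    rcases j with _ | j
    · rwa [pow_zero, orderOf_eq_one_iff] at hj
    · refine absurd ?_ hnd
      rw [Subgroup.index_eq_card]
      exact ((dvd_pow_self p j.succ_ne_zero).trans (dvd_of_eq hj.symm)).trans (orderOf_dvd_natCard _)
  exact Subgroup.mem_subgroupOf.1
    ((QuotientGroup.eq_one_iff (N := derivedIn M) (⟨x, hxM⟩ : ↥M)).1 hq)

/-- The congruence behind `coherent_of_congruence`. -/
theorem congruence {p : ℕ} [Fact p.Prime] (hpK : IsPGroup p (derivedIn M)) (Z : Subgroup ↥M)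
    [Z.Normal] (hZD : Z ≤ ⁅derivedIn M, derivedIn M⁆) (hZ1 : Z ≠ ⊥)
    (hZc : ∀ z ∈ Z, ∀ k ∈ derivedIn M, z * k = k * z) {τ₁ : (↥M → ℂ) → G → ℂ} {ζ : ↥M → ℂ}
    (hζ : ζ ∈ inducedIrrAbove (derivedIn M) ⁅derivedIn M, derivedIn M⁆)
    (hiso : IsLinearIsometryOn
      (zspan (inducedIrrAbove (derivedIn M) ⁅derivedIn M, derivedIn M⁆)) τ₁)
    (hconst : ∀ z ∈ Z, ∀ z' ∈ Z, z ≠ 1 → z' ≠ 1 → τ₁ ζ (z : G) = τ₁ ζ (z' : G)) :
    ∃ k : ℤ, pivotDev (dadeIsometry (coreA0 M) M (supportR M)) ζ (τ₁ ζ)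
      (zPart Z - zDeg (derivedIn M) Z • ζ) = ((k * zDeg (derivedIn M) Z : ℤ) : ℂ) := by
  classical
  haveI := derivedIn_normal M
  haveI := Fintype.ofFinite Z
  set K := derivedIn M with hK
  set ψ := τ₁ ζ with hψdef
  obtain ⟨hirr, hζ1⟩ := h.linear_irr hζ
  have hψgc := hiso.2.2.2 _ (subset_zspan hζ)
  have hψn : classInner ψ ψ = 1 := by
    rw [hψdef, hiso.2.2.1 _ (subset_zspan hζ) _ (subset_zspan hζ), classInner_irr_self hirr]
  have hψc := isGC_isClassFunction hψgc
  have hZK : Z ≤ K := hZD.trans (Subgroup.commutator_le_self _)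
  obtain ⟨P, hP⟩ := h.exists_sylow hpK
  have hNP : Subgroup.normalizer ((P : Subgroup G) : Set G) = M := by
    rw [hP]; exact h.normalizer_derived
  have hTIP : IsTISubset ((P : Subgroup G) : Set G) := by rw [hP, ← h.fittingHall_eq]; exact hTI
  obtain ⟨⟨z, hz⟩, hz1⟩ := Subgroup.ne_bot_iff_exists_ne_one.1 hZ1
  have hz1' : z ≠ 1 := fun e => hz1 (Subtype.ext e)
  obtain ⟨s, hs, hirrψ⟩ : ∃ s : ℤ, (s = 1 ∨ s = -1) ∧ IsIrrCharacter G (s • ψ) := by
    rcases gc_norm_one hψgc hψn with h' | h'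
    · exact ⟨1, Or.inl rfl, by rwa [one_smul]⟩
    · exact ⟨-1, Or.inr rfl, by rwa [neg_smul, one_smul]⟩
  obtain ⟨n, d, hn, hd, j, hj⟩ := ti_congruence p P hTIP (OddSigma.odd_card h.minimal _)
    (Z.map M.subtype)
    (by
      rw [hP]
      rintro _ ⟨w, hw, rfl⟩
      exact hZK hw)
    (by
      rw [hNP]
      rintro g hg _ ⟨w, hw, rfl⟩
      exact ⟨⟨g, hg⟩ * w * ⟨g, hg⟩⁻¹, (inferInstance : Z.Normal).conj_mem w hw _, rfl⟩)
    (by
      rw [hP]
      rintro _ ⟨w, hw, rfl⟩ y hy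
      exact congrArg Subtype.val (hZc w hw ⟨y, h.data.W₁_compl.1 hy⟩ hy))
    hirrψ (by
      rintro _ ⟨w, hw, rfl⟩ _ ⟨w', hw', rfl⟩ h1 h1'
      rw [Pi.smul_apply, Pi.smul_apply]
      congr 1
      exact hconst w hw w' hw' (fun e => h1 (by rw [e, map_one]))
        (fun e => h1' (by rw [e, map_one])))
    (z := (z : G)) ⟨z, hz, rfl⟩ (fun e => hz1' (Subtype.ext e))
  have hss : (s : ℂ) * s = 1 := by rcases hs with rfl | rfl <;> simp
  have hn' : ψ (z : G) = ((s * n : ℤ) : ℂ) := by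
    rw [Pi.smul_apply, zsmul_eq_mul] at hn
    push_cast
    linear_combination (s : ℂ) * hn - (ψ (z : G)) * hss
  have hd' : ψ 1 = ((s * d : ℤ) : ℂ) := by
    rw [Pi.smul_apply, zsmul_eq_mul] at hd
    push_cast
    linear_combination (s : ℂ) * hd - (ψ 1) * hss
  set r : ↥M → ℂ := fun x => ψ x with hr
  obtain ⟨B, hB⟩ := classInner_gc_int (isGC_of_irr hirr)
    (Char.IsGeneralizedCharacter.restrict hψgc M)
  have hsum : ∑ w : Z, r w = ψ 1 + ((Nat.card Z : ℂ) - 1) * ψ (z : G) := by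
    rw [← Finset.add_sum_erase _ _ (Finset.mem_univ (1 : Z)),
      Finset.sum_congr rfl (g := fun _ => ψ (z : G)) (fun (w : Z) hw =>
        hconst w w.2 z hz (fun e => (Finset.mem_erase.1 hw).1 (Subtype.ext e)) hz1'),
      Finset.sum_const, Finset.card_erase_of_mem (Finset.mem_univ _), Finset.card_univ,
      nsmul_eq_mul, Nat.cast_sub Fintype.card_pos, ← Nat.card_eq_fintype_card]
    simp [hr]
  have hkerζ : ∀ w ∈ Z, ζ w = ζ 1 := by
    obtain ⟨θ, h1, -, h3, rfl⟩ := hζ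
    exact (S1487.result Z K hZK θ h1).1 fun a ha => h3 a (hZD ha)
  have hζsupp : ∀ x : ↥M, x ∉ K → ζ x = 0 := by
    obtain ⟨θ, -, -, -, rfl⟩ := hζ
    exact fun x hx => CliffordChar.indFun_not_mem _ θ hx
  set hh := zDeg K Z with hhh
  have hcardK : (Nat.card K : ℤ) = (Z.relIndex K : ℤ) * Nat.card Z := by
    rw [← Nat.cast_mul, ← Subgroup.card_mul_index (Z.subgroupOf K), Subgroup.relIndex,
      Nat.card_congr (Subgroup.subgroupOfEquivOfLe hZK).toEquiv, mul_comm]
  set α₀ := zPart Z - hh • ζ with hα₀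
  have hαc : IsClassFunction ↥M α₀ := isClassFunction_sub zPart_isClassFunction (fun a b => by
    simp [IsIrrCharacter.isClassFunction hirr a b])
  have hαs : ∀ x : ↥M, ((x : G) ∉ ⁅M, M⁆ ∨ x = 1) → α₀ x = 0 := by
    rintro x (hx | rfl)
    · have hxK : x ∉ K := hx
      have h1 : x ≠ 1 := fun e => hxK (e ▸ one_mem K)
      have h2 : x ∉ Z := fun h2 => hxK (hZK h2)
      simp [hα₀, zPart, h1, h2, hζsupp x hxK]
    · have hL : (Nat.card ↥M : ℂ) = (K.index : ℂ) * Nat.card K := by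
        rw [← K.index_mul_card]; push_cast; rfl
      have hZi : (Z.index : ℂ) = (Z.relIndex K : ℂ) * K.index := by
        rw [← Subgroup.relIndex_mul_index hZK]; push_cast; rfl
      have e1 : zPart Z (1 : ↥M) = (Nat.card ↥M : ℂ) - (Z.index : ℂ) := by simp [zPart, one_mem]
      rw [hα₀, Pi.sub_apply, Pi.smul_apply, e1, hζ1, zsmul_eq_mul, hL, hZi, hhh, zDeg]
      push_cast
      ring
  refine ⟨s * j - B + 1, ?_⟩
  have hval : classInner (dadeIsometry (coreA0 M) M (supportR M) α₀) ψ =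
      (((s * j - B) * hh : ℤ) : ℂ) := by
    rw [h.reciprocity hTI hαc hαs hψc, hα₀, classInner_sub_left, classInner_zsmul_left, hB,
      zPart_inner, hsum, OneMemClass.coe_one, ← hψdef, hd', hn']
    have hc0 : (Nat.card Z : ℂ) ≠ 0 := Nat.cast_ne_zero.2 Nat.card_pos.ne'
    have hj' : (d : ℂ) - n = (Nat.card K : ℂ) * j := by
      have : d - n = (Nat.card K : ℤ) * j := by
        rw [hj, hP, ← Nat.card_congr (Subgroup.subgroupOfEquivOfLe h.data.W₁_compl.1).toEquiv]
        rfl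
      exact_mod_cast this
    have hK' : (Nat.card K : ℂ) = (Z.relIndex K : ℂ) * Nat.card Z := by exact_mod_cast hcardK
    rw [hhh, zDeg]
    simp only [map_add, map_mul, map_sub, map_one, Complex.conj_natCast, map_intCast]
    push_cast
    rw [hK'] at hj' ⊢
    field_simp
    linear_combination (s : ℂ) * ((Nat.card Z : ℂ) - 1) * hj'
  rw [pivotDev, hval, hα₀, classInner_sub_left, classInner_zsmul_left, zPart_inner_zero hkerζ,
    classInner_irr_self hirr]
  push_cast
  ring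

omit hTI in
/-- Constancy on a central `W₂`, by Galois conjugation. -/
theorem const_of_galois (hTI : IsTISubset (fittingHallOf M : Set G))
    {τ₁ : (↥M → ℂ) → G → ℂ}
    (hiso : IsLinearIsometryOn
      (zspan (inducedIrrAbove (derivedIn M) ⁅derivedIn M, derivedIn M⁆)) τ₁)
    (hag : ∀ α ∈ zspanOn (inducedIrrAbove (derivedIn M) ⁅derivedIn M, derivedIn M⁆) {1}ᶜ,
      τ₁ α = dadeIsometry (coreA0 M) M (supportR M) α)
    {ζ : ↥M → ℂ} (hζ : ζ ∈ inducedIrrAbove (derivedIn M) ⁅derivedIn M, derivedIn M⁆) :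
    ∀ z ∈ W₂.subgroupOf M, ∀ z' ∈ W₂.subgroupOf M, z ≠ 1 → z' ≠ 1 →
      τ₁ ζ (z : G) = τ₁ ζ (z' : G) := by
  classical
  haveI := derivedIn_normal M
  intro z hz z' hz' hz1 hz1'
  set S' := inducedIrrAbove (derivedIn M) ⁅derivedIn M, derivedIn M⁆ with hS'
  set τ := dadeIsometry (coreA0 M) M (supportR M) with hτ
  obtain ⟨R, hR⟩ := h.exists_system
  have hS'S : S' ⊆ inducedIrrAbove (derivedIn M) ⊥ := inducedSet_le_bot _
  -- the exponent
  have hp := h.card_W₂_prime
  haveI := Fact.mk hp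
  obtain ⟨i, hi⟩ : ∃ i : ℕ, (z : G) ^ i = z' := by
    have hg : Subgroup.zpowers (z : G) = W₂ := by
      refine Subgroup.eq_of_le_of_card_ge (Subgroup.zpowers_le.2 hz) ?_
      rw [Nat.card_zpowers]
      rcases (Nat.dvd_prime hp).1 (Subgroup.orderOf_dvd_natCard W₂ hz) with e | e
      · exact absurd (Subtype.ext (orderOf_eq_one_iff.1 e)) hz1
      · exact e.ge
    have h' : (z' : G) ∈ Subgroup.zpowers (z : G) := hg.symm ▸ hz'
    obtain ⟨i, hi⟩ := (Submonoid.mem_powers_iff _ _).1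
      ((mem_powers_iff_mem_zpowers (x := (z : G))).2 h')
    exact ⟨i, hi⟩
  set p := Nat.card W₂ with hpdef
  have hzord : orderOf (z : G) = p := by
    rcases (Nat.dvd_prime hp).1 (Subgroup.orderOf_dvd_natCard W₂ hz) with e | e
    · exact absurd (Subtype.ext (orderOf_eq_one_iff.1 e)) hz1
    · exact e
  have hip : Nat.Coprime i p := by
    rw [Nat.coprime_comm, hp.coprime_iff_not_dvd]
    intro hd
    refine hz1' (Subtype.ext ?_)
    rw [← hi]
    exact orderOf_dvd_iff_pow_eq_one.1 (hzord ▸ hd)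
  have hG0 : Nat.card G ≠ 0 := Nat.card_pos.ne'
  obtain ⟨v, b, hb, hGb⟩ := Nat.exists_eq_pow_mul_and_not_dvd hG0 p hp.ne_one
  have hcop : Nat.Coprime (p ^ v) b := Nat.Coprime.pow_left _ (hp.coprime_iff_not_dvd.2 hb)
  obtain ⟨k, hka, hkb⟩ := Nat.chineseRemainder hcop i 1
  have hk : Nat.Coprime k (Nat.card G) := by
    rw [hGb]
    refine Nat.Coprime.mul_right ?_ ?_
    · rw [Nat.Coprime, hka.gcd_eq]; exact Nat.Coprime.pow_right _ hip
    · rw [Nat.Coprime, hkb.gcd_eq]; exact Nat.gcd_one_left b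
  have hpv : p ∣ p ^ v := by
    have hd : p ∣ Nat.card G := Subgroup.card_subgroup_dvd_card W₂
    rw [hGb] at hd
    exact ((hp.dvd_mul).1 hd).resolve_right hb
  have hzk : (z : G) ^ k = z' := by
    rw [← hi]
    exact pow_eq_pow_iff_modEq.2 (hka.of_dvd (hzord.symm ▸ hpv))
  obtain ⟨f, hf⟩ := GaloisPow.exists_galois G hk
  -- conjugate of `ζ`
  have hmem : ∀ φ ∈ S', (fun x => f (φ x)) ∈ S' := by
    rintro _ ⟨θ, h1, h2, h3, rfl⟩
    refine ⟨_, GaloisPow.isIrrCharacter_twist f.toRingHom h1, fun e => h2 (funext fun a => ?_),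
      fun a ha => congrArg f (h3 a ha), ?_⟩
    · have := congrFun e a
      exact f.injective (this.trans (map_one f).symm)
    · funext x
      simp only [indFun, map_mul, map_inv₀, map_natCast, map_sum]
      refine congrArg _ (Finset.sum_congr rfl fun y _ => ?_)
      rw [Char.extendByZero_eq, Char.extendByZero_eq]
      split_ifs <;> simp
  set η := conjFun ζ with hη
  have hηm : η ∈ S' := inducedSet_conj_mem _ hζ
  set u := fun x => f (ζ x) with hu
  set u' := fun x => f (η x) with hu'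
  have hum := hmem ζ hζ
  have hum' := hmem η hηm
  have hdeg : ∀ φ ∈ S', φ 1 = ((derivedIn M).index : ℂ) := fun φ hφ => (h.linear_irr hφ).2
  have hdiff : ∀ φ ∈ S', ∀ φ' ∈ S', φ - φ' ∈ zspanOn S' {1}ᶜ := fun φ hφ φ' hφ' =>
    mem_zspanOn_one.2 ⟨zspan_sub (subset_zspan hφ) (subset_zspan hφ'), by
      simp [hdeg φ hφ, hdeg φ' hφ']⟩
  have htau : ∀ φ ∈ S', ∀ φ' ∈ S', τ (φ - φ') = τ₁ φ - τ₁ φ' := fun φ hφ φ' hφ' => by
    rw [← hag _ (hdiff φ hφ φ' hφ'), sub_eq_add_neg, hiso.1 _ (subset_zspan hφ) _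
      (zspan_neg (subset_zspan hφ')), lin_neg hiso (subset_zspan hφ'), ← sub_eq_add_neg]
  have hsgn : ∀ φ ∈ S', IsSignedIrr G (τ₁ φ) := fun φ hφ =>
    gc_norm_one (hiso.2.2.2 _ (subset_zspan hφ)) (by
      rw [hiso.2.2.1 _ (subset_zspan hφ) _ (subset_zspan hφ),
        classInner_irr_self (h.linear_irr hφ).1])
  have hone : ∀ φ ∈ S', τ₁ φ 1 = τ₁ ζ 1 := fun φ hφ => by
    have h1 := congrFun (htau φ hφ ζ hζ) 1
    rw [hτ, hR.map_one _ (zspanOn_mono hS'S (hdiff φ hφ ζ hζ))] at h1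
    exact sub_eq_zero.1 h1.symm
  have hchar : ∀ φ ∈ S', ∀ g : G, f (τ₁ φ g) = τ₁ φ (g ^ k) := by
    intro φ hφ g
    rcases hsgn φ hφ with h1 | h1
    · exact hf _ (IsIrrCharacter.isCharacter h1) g
    · have := hf _ (IsIrrCharacter.isCharacter h1) g
      simpa using this
  set a := fun g => f (τ₁ ζ g) with ha
  set b' := fun g => f (τ₁ η g) with hb'
  have htwist : ∀ {w : G → ℂ}, IsSignedIrr G w → IsSignedIrr G (fun g => f (w g)) := by
    intro w hw
    rcases hw with h1 | h1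
    · exact Or.inl (GaloisPow.isIrrCharacter_twist f.toRingHom h1)
    · refine Or.inr ?_
      have h2 := GaloisPow.isIrrCharacter_twist f.toRingHom h1
      convert h2 using 1
      funext g; simp
  have has := htwist (hsgn ζ hζ)
  have hbs := htwist (hsgn η hηm)
  have ha1 : f (τ₁ ζ 1) = τ₁ ζ 1 := by simpa using hchar ζ hζ 1
  have hb1 : f (τ₁ η 1) = τ₁ ζ 1 := by
    simpa [hone η hηm] using hchar η hηm 1
  have h1ne : τ₁ ζ 1 ≠ 0 := signed_apply_one_ne_zero (hsgn ζ hζ)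
  have hrel : a - b' = τ₁ u - τ₁ u' := by
    rw [← htau u hum u' hum']
    funext g
    have h2 := congrFun (htau ζ hζ η hηm) g
    show f (τ₁ ζ g) - f (τ₁ η g) = τ (u - u') g
    rw [← map_sub, ← Pi.sub_apply, ← h2, hτ, dadeIsometry, dadeIsometry]
    split_ifs <;> simp [hu, hu']
  have hab : classInner a b' = 0 := by
    by_contra hne
    rcases OddPartition.signed_eq_of_inner_ne has hbs hne with e | e
    · have h2 : τ₁ η = τ₁ ζ := funext fun g => f.injective (congrFun e g)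
      have h3 := hiso.2.2.1 _ (subset_zspan hηm) _ (subset_zspan hζ)
      rw [h2, hiso.2.2.1 _ (subset_zspan hζ) _ (subset_zspan hζ),
        classInner_irr_self (h.linear_irr hζ).1,
        hR.orthogonal η (hS'S hηm) ζ (hS'S hζ) (hR.conj_ne ζ (hS'S hζ))] at h3
      exact one_ne_zero h3
    · have h2 := congrFun e 1
      simp only [ha, hb', Pi.neg_apply, ha1, hb1] at h2
      exact h1ne (by linear_combination h2 / 2)
  have haa : classInner a a = 1 := (classInner_signed has has).1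
  have hau : τ₁ u = a := by
    have hne : classInner a (τ₁ u) ≠ 0 := by
      intro h0
      have h2 := congrArg (fun w => classInner a w) hrel
      simp only [classInner_sub_right, hab, h0, haa] at h2
      have hne2 : classInner a (τ₁ u') ≠ 0 := fun e => by rw [e] at h2; norm_num at h2
      rcases OddPartition.signed_eq_of_inner_ne has (hsgn u' hum') hne2 with e | e
      · rw [e, haa] at h2; norm_num at h2
      · have h3 := congrFun e 1
        simp only [ha, Pi.neg_apply, hone u' hum', ha1] at h3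
        exact h1ne (by linear_combination h3 / 2)
    rcases OddPartition.signed_eq_of_inner_ne has (hsgn u hum) hne with e | e
    · exact e
    · have h3 := congrFun e 1
      simp only [ha, Pi.neg_apply, hone u hum, ha1] at h3
      exact absurd (show τ₁ ζ 1 = 0 by linear_combination h3 / 2) h1ne
  have hW₂K : W₂.subgroupOf M ≤ derivedIn M := fun x hx => typeP_W₂_le h.data hx
  have hzval : τ₁ u (z : G) = τ₁ ζ (z : G) := by
    have h2 := congrFun (htau u hum ζ hζ) (z : G)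
    have hm := (h.zspanOn_supp (zspanOn_mono hS'S (hdiff u hum ζ hζ))).1
    rw [hτ, h.tau_apply hTI hm z (hW₂K hz) hz1] at h2
    have h3 : ∀ φ ∈ S', φ z = φ 1 := by
      rintro _ ⟨θ, h1, -, h4, rfl⟩
      exact (S1487.result ⁅derivedIn M, derivedIn M⁆ (derivedIn M)
        (Subgroup.commutator_le_self _) θ h1).1 h4 z (h.W₂_le_derived hz)
    rw [Pi.sub_apply, Pi.sub_apply, (h3 u hum).trans (hdeg u hum), (h3 ζ hζ).trans (hdeg ζ hζ),
      sub_self] at h2
    exact sub_eq_zero.1 h2.symm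
  calc τ₁ ζ (z : G) = a (z : G) := by rw [← hau, hzval]
    _ = τ₁ ζ ((z : G) ^ k) := hchar ζ hζ _
    _ = τ₁ ζ (z' : G) := by rw [hzk]

/-- Constancy when the characters outside `S(Z)` are irreducible. -/
theorem const_of_irr (Z : Subgroup ↥M) [Z.Normal] (hZ1 : Z ≠ ⊥)
    (hZD : Z ≤ ⁅derivedIn M, derivedIn M⁆)
    (hZc : ∀ z ∈ Z, ∀ k ∈ derivedIn M, z * k = k * z)
    (hirr : ∀ χ ∈ inducedIrrAbove (derivedIn M) ⊥ \ inducedIrrAbove (derivedIn M) Z,
      IsIrrCharacter ↥M χ)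
    {τ₁ : (↥M → ℂ) → G → ℂ}
    (hiso : IsLinearIsometryOn
      (zspan (inducedIrrAbove (derivedIn M) ⁅derivedIn M, derivedIn M⁆)) τ₁)
    (hag : ∀ α ∈ zspanOn (inducedIrrAbove (derivedIn M) ⁅derivedIn M, derivedIn M⁆) {1}ᶜ,
      τ₁ α = dadeIsometry (coreA0 M) M (supportR M) α)
    {ζ : ↥M → ℂ} (hζ : ζ ∈ inducedIrrAbove (derivedIn M) ⁅derivedIn M, derivedIn M⁆) :
    ∀ z ∈ Z, ∀ z' ∈ Z, z ≠ 1 → z' ≠ 1 → τ₁ ζ (z : G) = τ₁ ζ (z' : G) := by
  classical
  haveI := derivedIn_normal M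
  haveI := h.nilpotent
  haveI := Fintype.ofFinite (IrrCharacter ↥M)
  set K := derivedIn M with hK
  obtain ⟨R, hR⟩ := h.exists_system
  have hZK : Z ≤ K := hZD.trans (Subgroup.commutator_le_self _)
  have hKt : K < ⊤ := lt_top_iff_ne_top.2 fun e => by
    have := h.index_eq
    rw [← hK, e, Subgroup.index_top] at this
    exact h.data.W₁_ne (Subgroup.eq_bot_of_card_eq W₁ this.symm)
  obtain ⟨hset, -, σ, hσ, hσag⟩ := S1522.result K inferInstance _ R hR
    (OddSigma.odd_card h.minimal M) h.nilpotent h.derived_lt hKt h.primeAct.frob_derived Z hZ1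
    hZK hZc hirr
  set X := inducedIrrAbove K ⊥ \ inducedIrrAbove K Z with hX
  have hne : X.Nonempty := by
    by_contra hno
    rw [Set.not_nonempty_iff_eq_empty] at hno
    rw [hno] at hset
    obtain ⟨⟨z, hz⟩, hz1⟩ := Subgroup.ne_bot_iff_exists_ne_one.1 hZ1
    have h0 : ∀ φ : IrrCharacter ↥M, (φ : ↥M → ℂ) z = (φ : ↥M → ℂ) 1 := fun φ => by
      by_contra hne
      exact (Set.notMem_empty (φ : ↥M → ℂ)) (hset ▸ ⟨φ.2, z, hz, hne⟩)
    have h1 := sum_degree_mul_apply (G := ↥M) z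
    rw [if_neg (fun e : z = 1 => hz1 (Subtype.ext e)),
      Finset.sum_congr rfl (g := fun φ : IrrCharacter ↥M => (φ : ↥M → ℂ) 1 ^ 2) fun φ _ => by
        rw [h0 φ, sq], sum_sq_degrees] at h1
    exact Nat.card_pos.ne' (Nat.cast_eq_zero.1 h1)
  obtain ⟨φ₀, hφ₀⟩ := hne
  set ψ := τ₁ ζ with hψdef
  have hψc := isGC_isClassFunction (hiso.2.2.2 _ (subset_zspan hζ))
  set r : ↥M → ℂ := fun x => ψ x with hr
  have hζS := inducedSet_le_bot _ hζ
  have hYZ : inducedIrrAbove K ⁅K, K⁆ ⊆ inducedIrrAbove K Z := inducedSet_mono hZD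
  have horth : ∀ φ ∈ X, classInner (σ φ) ψ = 0 := by
    intro φ hφ
    have hφc : conjFun φ ∈ X := ⟨inducedSet_conj_mem ⊥ hφ.1, fun e => hφ.2 (by
      simpa [Coherence.conjFun_conjFun] using inducedSet_conj_mem Z e)⟩
    obtain ⟨s, hs, hse⟩ := subset_sum hR hσ hσag hφ.1 hφ hφc
    obtain ⟨t, ht, hte⟩ := subset_sum hR hiso hag hζS hζ (inducedSet_conj_mem _ hζ)
    rw [hse, hψdef, hte, classInner_sum_left]
    refine Finset.sum_eq_zero fun α hα => ?_
    rw [classInner_sum_right]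
    refine Finset.sum_eq_zero fun β hβ => hR.disjoint ζ hζS φ hφ.1 ?_ ?_ α (hs hα) β (ht hβ)
    · exact hR.orthogonal φ hφ.1 ζ hζS fun e => hφ.2 (e ▸ hYZ hζ)
    · exact hR.orthogonal φ hφ.1 _ (inducedSet_conj_mem ⊥ hζS) fun e =>
        hφ.2 (e ▸ hYZ (inducedSet_conj_mem _ hζ))
  have hprop : ∀ φ ∈ X, φ 1 * classInner r φ₀ = φ₀ 1 * classInner r φ := by
    intro φ hφ
    obtain ⟨x, -, hx⟩ := irr_int_degree (hirr φ hφ)
    obtain ⟨x₀, -, hx₀⟩ := irr_int_degree (hirr φ₀ hφ₀)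
    set α := x • φ₀ - x₀ • φ with hα
    have hm : α ∈ zspanOn X {1}ᶜ := mem_zspanOn_one.2
      ⟨zspan_sub (zspan_zsmul x (subset_zspan hφ₀)) (zspan_zsmul x₀ (subset_zspan hφ)), by
        simp [hα, hx, hx₀]; ring⟩
    obtain ⟨hc, hs⟩ := h.zspanOn_supp (zspanOn_mono Set.diff_subset hm)
    have h0 := h.reciprocity hTI hc hs hψc
    rw [← hσag _ hm] at h0
    rw [hα, sub_eq_add_neg, hσ.1 _ (zspan_zsmul x (subset_zspan hφ₀)) _
      (zspan_neg (zspan_zsmul x₀ (subset_zspan hφ))), lin_neg hσ (zspan_zsmul x₀ (subset_zspan hφ)),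
      hσ.2.1 _ (subset_zspan hφ₀), hσ.2.1 _ (subset_zspan hφ), classInner_add_left,
      classInner_neg_left, classInner_zsmul_left, classInner_zsmul_left, horth φ₀ hφ₀,
      horth φ hφ, classInner_add_left, classInner_neg_left, classInner_zsmul_left,
      classInner_zsmul_left] at h0
    have h1 := congrArg (starRingEnd ℂ) h0
    simp only [map_add, map_neg, map_mul, map_intCast, map_zero, classInner_conj_symm, mul_zero,
      neg_zero, add_zero] at h1
    rw [hx, hx₀]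
    linear_combination -h1
  have hd0 : φ₀ 1 ≠ 0 := IsIrrCharacter.apply_one_ne_zero (hirr φ₀ hφ₀)
  have hrc : IsClassFunction ↥M r := fun a b => hψc (a : G) b
  have hkey : ∀ z ∈ Z, z ≠ 1 →
      φ₀ 1 * (r z - r 1) = -(classInner r φ₀ * (Nat.card ↥M : ℂ)) := by
    intro z hz hz1
    have hexp := classFunction_eq_sum hrc
    rw [congrFun hexp z, congrFun hexp 1]
    simp only [Finset.sum_apply, Pi.smul_apply, smul_eq_mul]
    rw [← Finset.sum_sub_distrib, Finset.mul_sum]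
    have hterm : ∀ φ : IrrCharacter ↥M, φ₀ 1 * (classInner r (φ : ↥M → ℂ) * (φ : ↥M → ℂ) z -
        classInner r (φ : ↥M → ℂ) * (φ : ↥M → ℂ) 1) =
        classInner r φ₀ * ((φ : ↥M → ℂ) 1 * (φ : ↥M → ℂ) z - (φ : ↥M → ℂ) 1 ^ 2) := by
      intro φ
      by_cases hzφ : (φ : ↥M → ℂ) z = (φ : ↥M → ℂ) 1
      · rw [hzφ]; ring
      · have hφX : (φ : ↥M → ℂ) ∈ X := hset.symm ▸ ⟨φ.2, z, hz, hzφ⟩
        linear_combination (-((φ : ↥M → ℂ) z - (φ : ↥M → ℂ) 1)) * hprop _ hφX
    rw [Finset.sum_congr rfl fun φ _ => hterm φ, ← Finset.mul_sum, Finset.sum_sub_distrib,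
      sum_sq_degrees, sum_degree_mul_apply, if_neg hz1]
    ring
  intro z hz z' hz' hz1 hz1'
  exact sub_left_injective (mul_left_cancel₀ hd0 ((hkey z hz hz1).trans (hkey z' hz' hz1').symm))

omit hTI in
/-- `[M' : M''] ≥ 2 |W₁| + 1`. -/
theorem two_mul_lt_relIndex :
    2 * (derivedIn M).index + 1 ≤ (⁅derivedIn M, derivedIn M⁆).relIndex (derivedIn M) := by
  classical
  haveI := derivedIn_normal M
  obtain ⟨R, hR⟩ := h.exists_system
  obtain ⟨ζ, hζ⟩ := h.linear_nonempty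
  set K := derivedIn M with hK
  set D := ⁅K, K⁆ with hD
  have hfin : (inducedIrrAbove K D).Finite := (sys_finite hR).subset (inducedSet_le_bot D)
  have hn : 2 ≤ hfin.toFinset.card := Finset.one_lt_card.2
    ⟨_, (Set.Finite.mem_toFinset hfin).2 (inducedSet_conj_mem D hζ), _,
      (Set.Finite.mem_toFinset hfin).2 hζ, hR.conj_ne ζ (inducedSet_le_bot D hζ)⟩
  have hs := sum_sq_div D (Subgroup.commutator_le_self K) hfin.toFinset hfin.coe_toFinset
  rw [Finset.sum_congr rfl (g := fun _ => (K.index : ℂ) ^ 2) fun φ hφ => by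
    obtain ⟨h1, h2⟩ := h.linear_irr ((Set.Finite.mem_toFinset hfin).1 hφ)
    rw [h2, classInner_irr_self h1, div_one], Finset.sum_const, nsmul_eq_mul] at hs
  have he : (K.index : ℂ) ≠ 0 := Nat.cast_ne_zero.2 Subgroup.index_ne_zero_of_finite
  have h1 : ((hfin.toFinset.card : ℂ) * K.index) + 1 = (D.relIndex K : ℂ) := by
    have := mul_left_cancel₀ he (show (K.index : ℂ) * ((hfin.toFinset.card : ℂ) * K.index) =
      (K.index : ℂ) * ((D.relIndex K : ℂ) - 1) by linear_combination hs)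
    linear_combination this
  have h2 : hfin.toFinset.card * K.index + 1 = D.relIndex K := by exact_mod_cast h1
  have := Nat.mul_le_mul_right K.index hn
  omega

/-- Peterfalvi (6.8)(c2) for Type V. -/
theorem coherent_ti {p : ℕ} [Fact p.Prime] (hpK : IsPGroup p (derivedIn M)) :
    IsCoherent (inducedIrrAbove (derivedIn M) ⊥) {1}ᶜ
      (dadeIsometry (coreA0 M) M (supportR M)) := by
  classical
  haveI := derivedIn_normal M
  haveI := h.nilpotent
  set K := derivedIn M with hK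
  set D := ⁅K, K⁆ with hD
  haveI : D.Normal := by rw [hD]; infer_instance
  have hDK : D ≤ K := Subgroup.commutator_le_self K
  obtain ⟨R, hR⟩ := h.exists_system
  have hW₁card : Nat.card (W₁.subgroupOf M) = K.index := by
    rw [h.index_eq, Nat.card_congr (Subgroup.subgroupOfEquivOfLe h.data.W₁_compl.2.1).toEquiv]
  have hn1 := h.two_mul_lt_relIndex
  have he0 : 0 < K.index := Nat.pos_of_ne_zero Subgroup.index_ne_zero_of_finite
  have hcardK : ∀ Z : Subgroup ↥M, Z ≤ K → Nat.card K = Z.relIndex K * Nat.card Z := fun Z hZK => by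
    rw [← Subgroup.card_mul_index (Z.subgroupOf K), Subgroup.relIndex,
      Nat.card_congr (Subgroup.subgroupOfEquivOfLe hZK).toEquiv, mul_comm]
  have hdeg : ∀ (Z : Subgroup ↥M) [Z.Normal], ∀ φ ∈ inducedIrrAbove K Z, ∀ d : ℕ,
      φ 1 = (d : ℂ) * (K.index : ℂ) → d ^ 2 ≤ Z.relIndex K := by
    intro Z _ φ hφ d hd
    obtain ⟨θ, rfl, -, hker, hd'⟩ := inducedSet_degree Z hφ
    refine sq_degree_le θ.2 hker ?_
    rw [hd', Nat.cast_mul] at hd
    rw [TwoClassChar.deg_eq θ.2]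
    exact mul_left_cancel₀ (Nat.cast_ne_zero.2 he0.ne') (hd.trans (mul_comm _ _))
  have hnle : ∀ Z : Subgroup ↥M, ∀ φ ∈ inducedIrrAbove K Z, φ ∉ inducedIrrAbove K D → ¬ D ≤ Z :=
    fun Z φ hφ hφD hle => hφD (inducedSet_mono hle hφ)
  by_cases hcent : ∀ z ∈ W₂.subgroupOf M, ∀ k ∈ K, z * k = k * z
  · -- `W₂` is central
    set Z := W₂.subgroupOf M with hZdef
    have hZD : Z ≤ D := h.W₂_le_derived
    have hZall : ∀ z ∈ Z, ∀ x : ↥M, x * z = z * x := by
      intro z hz x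
      obtain ⟨a, ha, w, hw, rfl⟩ := h.primeAct.decomp x
      have hwz : w * z = z * w := Subtype.ext (h.data.selfNormalizing.2.2.2.1 _ hw _ hz)
      rw [mul_assoc, hwz, ← mul_assoc, ← hcent z hz a ha, mul_assoc]
    haveI : Z.Normal := ⟨fun z hz x => by rw [hZall z hz x, mul_inv_cancel_right]; exact hz⟩
    have hZcard : Nat.card Z = Nat.card W₂ := Nat.card_congr (Subgroup.subgroupOfEquivOfLe
      ((typeP_W₂_le h.data).trans h.data.W₁_compl.1)).toEquiv
    have hp3 : 3 ≤ Nat.card Z := hZcard ▸ h.primeTI.three_le₂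
    refine coherent_of_congruence hR D Z hZD hDK
      (fun e => by rw [e, Subgroup.card_bot] at hp3; omega) hcent h.linear_nonempty
      (fun φ hφ => h.linear_irr hφ)
      (fun τ₁ ζ hζ hiso hag => h.congruence hTI hpK Z hZD
        (fun e => by rw [e, Subgroup.card_bot] at hp3; omega) hcent hζ hiso
        (h.const_of_galois hTI hiso hag hζ)) ?_
    intro φ hφ hφD d hd
    have hd2 := hdeg Z φ hφ d hd
    have horb := h.primeAct.orbit_card Z D hZD hDK inf_le_left (hnle Z φ hφ hφD)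
    rw [hW₁card] at horb
    have hN := Subgroup.relIndex_mul_relIndex Z D K hZD hDK
    have hK2 : 3 * Z.relIndex K ≤ Nat.card K := by
      rw [hcardK Z (hZD.trans hDK), mul_comm]
      exact Nat.mul_le_mul_left _ hp3
    have hNe : (K.index + 1) * (2 * K.index + 1) ≤ Z.relIndex K :=
      hN ▸ Nat.mul_le_mul horb hn1
    rw [zDeg]
    have e1 : (3 : ℤ) * Z.relIndex K ≤ Nat.card K := by exact_mod_cast hK2
    have e2 : (d : ℤ) ^ 2 ≤ Z.relIndex K := by exact_mod_cast hd2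
    have e3 : ((K.index : ℤ) + 1) * (2 * K.index + 1) ≤ Z.relIndex K := by exact_mod_cast hNe
    nlinarith [sq_nonneg ((d : ℤ) - K.index), Int.natCast_nonneg K.index]
  · -- `W₂` is not central
    set Z : Subgroup ↥M := D ⊓ Subgroup.centralizer (K : Set ↥M) with hZdef
    haveI : Z.Normal := by rw [hZdef]; infer_instance
    have hZD : Z ≤ D := inf_le_left
    have hZK : Z ≤ K := hZD.trans hDK
    have hZc : ∀ z ∈ Z, ∀ k ∈ K, z * k = k * z := fun z hz k hk =>
      (Subgroup.mem_centralizer_iff.1 hz.2 k hk).symm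
    have hZ1 : Z ≠ ⊥ := by
      have hD' : D.subgroupOf K ≠ ⊥ := by
        intro e
        apply h.derived_ne
        have h1 := congrArg (Subgroup.map K.subtype) e
        rwa [Subgroup.map_subgroupOf_eq_of_le hDK, Subgroup.map_bot] at h1
      obtain ⟨⟨z, hzD, hzc⟩, hz1⟩ :=
        Subgroup.ne_bot_iff_exists_ne_one.1 (Cores.inf_center_ne_bot _ hD')
      intro e
      have hmem : (z : ↥M) ∈ Z := ⟨hzD, Subgroup.mem_centralizer_iff.2 fun k hk =>
        congrArg Subtype.val (Subgroup.mem_center_iff.1 hzc ⟨k, hk⟩)⟩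
      rw [e, Subgroup.mem_bot] at hmem
      exact hz1 (Subtype.ext (Subtype.ext hmem))
    have hdisj : W₂.subgroupOf M ⊓ Z ≤ ⊥ := by
      intro c hc
      rw [Subgroup.mem_bot]
      by_contra hc1
      refine hcent fun z hz k hk => ?_
      have hg : Subgroup.zpowers (c : G) = W₂ := by
        refine Subgroup.eq_of_le_of_card_ge (Subgroup.zpowers_le.2 hc.1) ?_
        rw [Nat.card_zpowers]
        rcases (Nat.dvd_prime h.card_W₂_prime).1 (Subgroup.orderOf_dvd_natCard W₂ hc.1) with e | e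
        · exact absurd (Subtype.ext (orderOf_eq_one_iff.1 e)) hc1
        · exact e.ge
      have h' : (z : G) ∈ Subgroup.zpowers (c : G) := hg.symm ▸ hz
      obtain ⟨i, hi⟩ := Subgroup.mem_zpowers_iff.1 h'
      have hze : z = c ^ i := Subtype.ext (by rw [← hi]; simp)
      rw [hze]
      exact ((show Commute c k from hZc c hc.2 k hk).zpow_left i).eq
    have hirr : ∀ χ ∈ inducedIrrAbove K ⊥ \ inducedIrrAbove K Z, IsIrrCharacter ↥M χ := by
      rintro _ ⟨⟨θ, h1, h2, h3, rfl⟩, hno⟩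
      obtain ⟨e₀, he₀, hne⟩ : ∃ e : K, (e : ↥M) ∈ Z ∧ θ e ≠ θ 1 := by
        by_contra hall
        push Not at hall
        exact hno ⟨θ, h1, h2, hall, rfl⟩
      refine h.primeAct.irr_of_ker ⊥ Z bot_le hZK (fun e he g hg => ?_) hdisj h1 h3
        (fun e he g => ?_) he₀ hne
      · rw [Subgroup.mem_bot, hZc e he g (hZK hg), mul_inv_cancel_right, mul_inv_cancel]
      · rw [show e * g * e⁻¹ * g⁻¹ = 1 from Subtype.ext (by
          show (e : ↥M) * g * (e : ↥M)⁻¹ * (g : ↥M)⁻¹ = 1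
          rw [hZc _ he (g : ↥M) g.2]; group)]
    refine coherent_of_congruence hR D Z hZD hDK hZ1 hZc h.linear_nonempty
      (fun φ hφ => h.linear_irr hφ)
      (fun τ₁ ζ hζ hiso hag => h.congruence hTI hpK Z hZD hZ1 hZc hζ hiso
        (h.const_of_irr hTI Z hZ1 hZD hZc hirr hiso hag hζ)) ?_
    intro φ hφ hφD d hd
    have hd2 := hdeg Z φ hφ d hd
    have hZcard := h.primeAct.orbit_card ⊥ Z bot_le hZK hdisj (fun e => hZ1 (le_bot_iff.1 e))
    rw [hW₁card, Subgroup.relIndex_bot_left] at hZcard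
    have hN := Subgroup.relIndex_mul_relIndex Z D K hZD hDK
    have h2 : 2 ≤ Z.relIndex D := by
      have h0 : Z.relIndex D ≠ 0 := Subgroup.index_ne_zero_of_finite
      have h1 : Z.relIndex D ≠ 1 := fun e => hnle Z φ hφ hφD (Subgroup.relIndex_eq_one.1 e)
      omega
    have hNe : 2 * (2 * K.index + 1) ≤ Z.relIndex K := hN ▸ Nat.mul_le_mul h2 hn1
    have hK2 : (K.index + 1) * Z.relIndex K ≤ Nat.card K := by
      rw [hcardK Z hZK, mul_comm]
      exact Nat.mul_le_mul_left _ hZcard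
    rw [zDeg]
    have e1 : ((K.index : ℤ) + 1) * Z.relIndex K ≤ Nat.card K := by exact_mod_cast hK2
    have e2 : (d : ℤ) ^ 2 ≤ Z.relIndex K := by exact_mod_cast hd2
    have e3 : (2 : ℤ) * (2 * K.index + 1) ≤ Z.relIndex K := by exact_mod_cast hNe
    have e4 : (2 : ℤ) * d + K.index ≤ Z.relIndex K := by
      nlinarith [sq_nonneg ((d : ℤ) - 2)]
    nlinarith [mul_le_mul_of_nonneg_left e4 (Int.natCast_nonneg K.index)]

end TypeVData

end Cfsg.Agent.Peterfalvi
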