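import Cfsg.Agent.Lib.CentralChar.Congr
import Cfsg.Agent.Lib.Char.Linear
import Cfsg.Agent.Lib.Char.Virtual
import Cfsg.Agent.Lib.Coherence.Virtual
import Cfsg.Agent.Lib.RegPart.Basic

/-!
# Two elementary tools for the theorem that maximal subgroups of Type I are Frobenius groups

* `memI_sum_sub_fixed` : a sum invariant under a permutation of order `p` is congruent to the sum
  over the fixed points
* `spread` : a generalized character of `Z × C`, `|Z| = p`, is constant on the cosets `z C`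
  (`z ≠ 1`) or spreads by at least `p - 1`
-/

set_option autoImplicit false

namespace Cfsg.Agent.Peterfalvi.Sec12

open Cfsg Cfsg.Agent.Char Blocks
open scoped ComplexConjugate

section Fixed

theorem memI_sum_sub_fixed {p : ℕ} {I : Ideal AlgInt} (hI : IsPModular p I) {X : Type*}
    [DecidableEq X]
    (σ : Equiv.Perm X) (hσ : σ ^ p = 1) (s : Finset X) (hs : ∀ x ∈ s, σ x ∈ s) (f : X → ℂ)
    (hf : ∀ x ∈ s, MemLocalRing I (f x)) (hinv : ∀ x ∈ s, f (σ x) = f x) :
    MemLocalIdeal I (∑ x ∈ s, f x - ∑ x ∈ s.filter (fun x => σ x = x), f x) := by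
  induction s using Finset.strongInduction with
  | H s ih =>
  by_cases hall : ∀ x ∈ s, σ x = x
  · rw [Finset.filter_true_of_mem hall, sub_self]
    exact memI_zero hI
  push Not at hall
  obtain ⟨a, ha, hna⟩ := hall
  set O : Finset X := (Finset.range p).image fun i => (σ ^ i) a with hO
  have hmod : ∀ i : ℕ, (σ ^ i) a = (σ ^ (i % p)) a := fun i => by
    conv_lhs => rw [← Nat.div_add_mod i p, pow_add, pow_mul, hσ, one_pow, one_mul]
  have hmemO : ∀ i : ℕ, (σ ^ i) a ∈ O := fun i => by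
    rw [hmod]
    exact Finset.mem_image.2 ⟨_, Finset.mem_range.2 (Nat.mod_lt _ hI.1.pos), rfl⟩
  have hpow : ∀ i : ℕ, (σ ^ i) a ∈ s ∧ f ((σ ^ i) a) = f a := by
    intro i
    induction i with
    | zero => exact ⟨by simpa using ha, by simp⟩
    | succ i ih' =>
      rw [pow_succ', Equiv.Perm.mul_apply]
      exact ⟨hs _ ih'.1, (hinv _ ih'.1).trans ih'.2⟩
  have hOs : O ⊆ s := fun x hx => by
    obtain ⟨i, -, rfl⟩ := Finset.mem_image.1 hx
    exact (hpow i).1
  have hinj' : ∀ i j : ℕ, i ≤ j → j < p → (σ ^ i) a = (σ ^ j) a → i = j := by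
    intro i j hij hj h
    by_contra hne
    have hd : (σ ^ (j - i)) a = a := by
      have h' : (σ ^ i) ((σ ^ (j - i)) a) = (σ ^ i) a := by
        rw [← Equiv.Perm.mul_apply, ← pow_add, Nat.add_sub_cancel' hij]
        exact h.symm
      exact (σ ^ i).injective h'
    have hmul : ∀ t : ℕ, (σ ^ ((j - i) * t)) a = a := by
      intro t
      induction t with
      | zero => simp
      | succ t iht => rw [Nat.mul_succ, pow_add, Equiv.Perm.mul_apply, hd, iht]
    obtain ⟨t, ht⟩ := Nat.exists_mul_mod_eq_one_of_coprime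
      (n := j - i) ((hI.1.coprime_iff_not_dvd.2 fun hdvd => by
        have := Nat.le_of_dvd (by omega) hdvd
        omega).symm) hI.1.one_lt
    apply hna
    have := hmul t
    rw [hmod, ht.2, pow_one] at this
    exact this
  have hinj : Set.InjOn (fun i => (σ ^ i) a) (Finset.range p : Set ℕ) := by
    intro i hi j hj h
    simp only [Finset.coe_range, Set.mem_Iio] at hi hj
    rcases le_total i j with hij | hij
    · exact hinj' i j hij hj h
    · exact (hinj' j i hij hi h.symm).symm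
  have hsum : ∑ x ∈ O, f x = (p : ℂ) * f a := by
    rw [hO, Finset.sum_image hinj, Finset.sum_congr rfl (fun i _ => (hpow i).2), Finset.sum_const,
      Finset.card_range, nsmul_eq_mul]
  have hOne : O.Nonempty := ⟨_, hmemO 0⟩
  have hclosed : ∀ x ∈ s \ O, σ x ∈ s \ O := by
    intro x hx
    obtain ⟨h1, h2⟩ := Finset.mem_sdiff.1 hx
    refine Finset.mem_sdiff.2 ⟨hs x h1, fun hO' => h2 ?_⟩
    obtain ⟨i, -, hi⟩ := Finset.mem_image.1 hO'
    have : x = (σ ^ (i + (p - 1))) a := by
      rw [add_comm, pow_add, Equiv.Perm.mul_apply, hi, ← Equiv.Perm.mul_apply, ← pow_succ,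
        Nat.sub_add_cancel hI.1.one_le, hσ, Equiv.Perm.one_apply]
    rw [this]
    exact hmemO _
  have hih := ih (s \ O) (Finset.sdiff_ssubset hOs hOne) hclosed
    (fun x hx => hf x (Finset.mem_sdiff.1 hx).1) (fun x hx => hinv x (Finset.mem_sdiff.1 hx).1)
  have hfil : s.filter (fun x => σ x = x) = (s \ O).filter (fun x => σ x = x) := by
    ext x
    simp only [Finset.mem_filter, Finset.mem_sdiff]
    refine ⟨fun h => ⟨⟨h.1, fun hx => ?_⟩, h.2⟩, fun h => ⟨h.1.1, h.2⟩⟩
    obtain ⟨i, -, hi⟩ := Finset.mem_image.1 hx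
    apply hna
    have h2 := h.2
    rw [← hi, ← Equiv.Perm.mul_apply, (Commute.self_pow σ i).eq, Equiv.Perm.mul_apply] at h2
    exact (σ ^ i).injective h2
  rw [hfil, ← Finset.sum_sdiff hOs, hsum, add_sub_right_comm]
  exact memI_add hI hih (memI_mul_right hI (memI_p hI) (hf a ha))

end Fixed

section Spread

theorem sum_pairs_norm {ι : Type*} [Fintype ι] (a : ι → ℂ) :
    ∑ i, ∑ j, ‖a i - a j‖ ^ 2 =
      2 * ((Fintype.card ι : ℝ) * ∑ i, ‖a i‖ ^ 2 - ‖∑ i, a i‖ ^ 2) := by
  have key : ∀ i j, (((‖a i - a j‖ ^ 2 : ℝ)) : ℂ) =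
      a i * conj (a i) + a j * conj (a j) - a i * conj (a j) - a j * conj (a i) := by
    intro i j
    rw [Complex.ofReal_pow, ← Complex.mul_conj', map_sub]
    ring
  have hn : ∀ z : ℂ, (((‖z‖ ^ 2 : ℝ)) : ℂ) = z * conj z := fun z => by
    rw [Complex.ofReal_pow, ← Complex.mul_conj']
  apply Complex.ofReal_injective
  simp only [Complex.ofReal_sum, Complex.ofReal_mul, Complex.ofReal_sub, Complex.ofReal_ofNat,
    Complex.ofReal_natCast, key, hn, map_sum, Finset.sum_sub_distrib, Finset.sum_add_distrib,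
    Finset.sum_const, Finset.card_univ, nsmul_eq_mul, ← Finset.mul_sum, ← Finset.sum_mul]
  ring

/-- A generalized character of `Z × C` with `|Z| = p` is constant on each `{z} × C`, `z ≠ 1`, or
its deviation from the averages is at least `p - 1`. -/
theorem spread {Z C : Type*} [Group Z] [Fintype Z] [DecidableEq Z] [Group C] [Fintype C] {p : ℕ}
    (hp : p.Prime) (hZ : Nat.card Z = p)
    (Ψ : Z × C → ℂ) (hΨ : IsGeneralizedCharacter (Z × C) Ψ) :
    (∀ z : Z, z ≠ 1 → ∀ u : C, Ψ (z, u) = (Nat.card C : ℂ)⁻¹ * ∑ w : C, Ψ (z, w)) ∨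
    (Nat.card C : ℝ) * ((p : ℝ) - 1) ≤ ∑ z ∈ Finset.univ.erase (1 : Z), ∑ u : C,
      ‖Ψ (z, u) - (Nat.card C : ℂ)⁻¹ * ∑ w : C, Ψ (z, w)‖ ^ 2 := by
  classical
  have := Fintype.ofFinite (IrrCharacter Z)
  have hC0 : (Nat.card C : ℂ) ≠ 0 := Nat.cast_ne_zero.2 Nat.card_pos.ne'
  have := Fact.mk hp
  have hcyc : IsCyclic Z := isCyclic_of_prime_card hZ
  have hcomm : ∀ a b : Z, a * b = b * a := by
    let _ := hcyc.commGroup
    exact mul_comm
  have hcard : Fintype.card (IrrCharacter Z) = p := by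
    rw [← Nat.card_eq_fintype_card, card_irr_eq_card_conjClasses, card_conjClasses_of_comm hcomm, hZ]
  have hdeg := fun χ : IrrCharacter Z => apply_one_eq_one_of_comm hcomm χ
  set m : Z → ℂ := fun z => (Nat.card C : ℂ)⁻¹ * ∑ w : C, Ψ (z, w) with hm
  set δ : C → Z → ℂ := fun u z => Ψ (z, u) - m z with hδ
  have hδc : ∀ u, IsClassFunction Z (δ u) := fun u g x => by
    rw [show x * g * x⁻¹ = g by rw [hcomm x g, mul_inv_cancel_right]]
  set n : IrrCharacter Z → C → ℂ := fun χ u => classInner (δ u) (χ : Z → ℂ) with hn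
  have hexp : ∀ u z, δ u z = ∑ χ : IrrCharacter Z, n χ u * (χ : Z → ℂ) z := fun u z => by
    have := congrFun (classFunction_eq_sum (hδc u)) z
    rw [Finset.sum_apply] at this
    simpa [hn] using this
  -- the coefficient functions are generalized characters
  have hgc : ∀ χ, IsGeneralizedCharacter C (n χ) := by
    intro χ
    set n' : C → ℂ := fun u => classInner (fun z => Ψ (z, u)) (χ : Z → ℂ) with hn'
    have hint : ∀ μ : IrrCharacter C, ∃ k : ℤ, classInner n' (μ : C → ℂ) = k := by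
      intro μ
      obtain ⟨k, hk⟩ := IsGeneralizedCharacter.classInner_int hΨ
        (Coherence.isGC_of_irr (IsIrrCharacter.prodMul χ.2 μ.2))
      refine ⟨k, ?_⟩
      rw [← hk]
      simp only [classInner, hn', Nat.card_prod, Nat.cast_mul, mul_inv, Fintype.sum_prod_type,
        map_mul, Finset.mul_sum, Finset.sum_mul]
      rw [Finset.sum_comm]
      exact Finset.sum_congr rfl fun z _ => Finset.sum_congr rfl fun u _ => by ring
    have hn'c : IsClassFunction C n' := fun g x => by
      have hcf := IsGeneralizedCharacter.isClassFunction hΨ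
      simp only [hn', classInner]
      congr 1
      refine Finset.sum_congr rfl fun z _ => ?_
      congr 1
      simpa using hcf (z, g) (1, x)
    have hn'g : IsGeneralizedCharacter C n' :=
      isGeneralizedCharacter_iff_classInner.2 ⟨hn'c, hint⟩
    obtain ⟨k, hk⟩ := IsGeneralizedCharacter.classInner_int hn'g
      (isGeneralizedCharacter_of_isCharacter isCharacter_one)
    have hnm : n χ = n' - (k : ℂ) • (1 : C → ℂ) := by
      funext u
      have h0 : classInner m (χ : Z → ℂ) = (k : ℂ) := by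
        rw [← hk]
        simp only [classInner, hn', hm, Pi.one_apply, map_one, mul_one, Finset.mul_sum,
          Finset.sum_mul]
        rw [Finset.sum_comm]
        exact Finset.sum_congr rfl fun z _ => Finset.sum_congr rfl fun w _ => by ring
      simp only [hn, hn', hδ, Pi.sub_apply, Pi.smul_apply, Pi.one_apply, smul_eq_mul, mul_one]
      rw [show (fun z => Ψ (z, u) - m z) = (fun z => Ψ (z, u)) - m from rfl, classInner_sub_left, h0]
    rw [hnm]
    exact IsGeneralizedCharacter.sub hn'g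
      (IsGeneralizedCharacter.intCast_smul (isGeneralizedCharacter_of_isCharacter isCharacter_one) k)
  by_cases hall : ∀ χ χ', n χ = n χ'
  · refine Or.inl fun z hz u => ?_
    change Ψ (z, u) = m z
    rw [← sub_eq_zero]
    change δ u z = 0
    rw [hexp u z]
    have h1 : ∑ χ : IrrCharacter Z, (χ : Z → ℂ) z = 0 := by
      have h := sum_degree_mul_apply (G := Z) z
      rw [if_neg hz] at h
      simpa [hdeg] using h
    obtain ⟨χ₀⟩ : Nonempty (IrrCharacter Z) := ⟨⟨_, isIrrCharacter_one⟩⟩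
    rw [Finset.sum_congr rfl (fun χ _ => by rw [hall χ χ₀]), ← Finset.mul_sum, h1, mul_zero]
  right
  push Not at hall
  obtain ⟨χ₀, χ₁, hne⟩ := hall
  have hone : ∀ χ χ', n χ ≠ n χ' → (Nat.card C : ℝ) ≤ ∑ u : C, ‖n χ u - n χ' u‖ ^ 2 := by
    intro χ χ' hd
    have := Fintype.ofFinite (IrrCharacter C)
    have hD := IsGeneralizedCharacter.sub (hgc χ) (hgc χ')
    obtain ⟨c, hc1, -, hc3⟩ := IsGeneralizedCharacter.exists_coeffs hD
    have hpos : 1 ≤ ∑ μ : IrrCharacter C, c μ ^ 2 := by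
      by_contra h
      push Not at h
      have h0 : ∀ μ, c μ = 0 := fun μ => by
        have := Finset.single_le_sum (f := fun μ => c μ ^ 2) (fun i _ => sq_nonneg _)
          (Finset.mem_univ μ)
        nlinarith [sq_nonneg (c μ)]
      refine hd (sub_eq_zero.1 ?_)
      rw [hc1]
      simp [h0]
    have key : ((∑ u : C, ‖n χ u - n χ' u‖ ^ 2 : ℝ) : ℂ) =
        (Nat.card C : ℂ) * classInner (n χ - n χ') (n χ - n χ') := by
      rw [card_mul_classInner, Complex.ofReal_sum]
      exact Finset.sum_congr rfl fun u _ => by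
        rw [Complex.ofReal_pow, ← Complex.mul_conj']; rfl
    rw [hc3] at key
    have h' : (∑ u : C, ‖n χ u - n χ' u‖ ^ 2) =
        (Nat.card C : ℝ) * ((∑ μ : IrrCharacter C, c μ ^ 2 : ℤ) : ℝ) := by exact_mod_cast key
    rw [h']
    exact le_mul_of_one_le_right (Nat.cast_nonneg _) (by exact_mod_cast hpos)
  -- `∑_{z ≠ 1} |δ u z| ^ 2` through the coefficients
  have hu : ∀ u, ∑ z ∈ Finset.univ.erase (1 : Z), ‖δ u z‖ ^ 2 =
      (∑ χ : IrrCharacter Z, ∑ χ' : IrrCharacter Z, ‖n χ u - n χ' u‖ ^ 2) / 2 := by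
    intro u
    have h1 : (∑ z : Z, ‖δ u z‖ ^ 2 : ℝ) = (p : ℝ) * ∑ χ : IrrCharacter Z, ‖n χ u‖ ^ 2 := by
      apply Complex.ofReal_injective
      have h := card_mul_classInner (δ u) (δ u)
      rw [classInner_eq_sum (hδc u), hZ] at h
      simp only [Complex.ofReal_sum, Complex.ofReal_mul, Complex.ofReal_natCast,
        Complex.ofReal_pow, ← Complex.mul_conj']
      exact h.symm
    have h2 : δ u 1 = ∑ χ : IrrCharacter Z, n χ u := by simp [hexp u 1, hdeg]
    rw [Finset.sum_erase_eq_sub (Finset.mem_univ _), h1, h2, sum_pairs_norm, hcard]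
    ring
  rw [show (∑ z ∈ Finset.univ.erase (1 : Z), ∑ u : C, ‖Ψ (z, u) - m z‖ ^ 2) =
      ∑ u : C, ∑ z ∈ Finset.univ.erase (1 : Z), ‖δ u z‖ ^ 2 from Finset.sum_comm,
    Finset.sum_congr rfl (fun u _ => hu u), ← Finset.sum_div, Finset.sum_comm,
    le_div_iff₀ two_pos]
  set T := Finset.univ.filter fun χ : IrrCharacter Z => n χ = n χ₀
  set P : Finset (IrrCharacter Z × IrrCharacter Z) := (T ×ˢ Tᶜ) ∪ (Tᶜ ×ˢ T) with hP
  have hPne : ∀ q ∈ P, n q.1 ≠ n q.2 := by
    intro q hq e
    simp only [hP, T, Finset.mem_union, Finset.mem_product, Finset.mem_compl, Finset.mem_filter,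
      Finset.mem_univ, true_and] at hq
    rcases hq with ⟨h1, h2⟩ | ⟨h1, h2⟩
    · exact h2 (e.symm.trans h1)
    · exact h1 (e.trans h2)
  have hcardP : 2 * (p - 1) ≤ P.card := by
    rw [hP, Finset.card_union_of_disjoint, Finset.card_product, Finset.card_product]
    · have ha : 1 ≤ T.card := Finset.card_pos.2 ⟨χ₀, by simp [T]⟩
      have hb : 1 ≤ Tᶜ.card := Finset.card_pos.2 ⟨χ₁, by simp [T, Ne.symm hne]⟩
      have hsum : T.card + Tᶜ.card = p := by rw [Finset.card_add_card_compl, hcard]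
      have hab : T.card + Tᶜ.card ≤ T.card * Tᶜ.card + 1 := by nlinarith
      have : Tᶜ.card * T.card = T.card * Tᶜ.card := mul_comm _ _
      omega
    · rw [Finset.disjoint_left]
      intro q hq hq'
      simp only [Finset.mem_product, Finset.mem_compl] at hq hq'
      exact hq'.1 hq.1
  calc (Nat.card C : ℝ) * ((p : ℝ) - 1) * 2 = ((2 * (p - 1) : ℕ) : ℝ) * Nat.card C := by
        rw [Nat.cast_mul, Nat.cast_sub hp.one_le]; push_cast; ring
    _ ≤ (P.card : ℝ) * Nat.card C := by gcongr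
    _ ≤ ∑ q ∈ P, ∑ u : C, ‖n q.1 u - n q.2 u‖ ^ 2 := by
        rw [← nsmul_eq_mul, ← Finset.sum_const]
        exact Finset.sum_le_sum fun q hq => hone _ _ (hPne q hq)
    _ ≤ ∑ q : IrrCharacter Z × IrrCharacter Z, ∑ u : C, ‖n q.1 u - n q.2 u‖ ^ 2 :=
        Finset.sum_le_univ_sum_of_nonneg fun q => Finset.sum_nonneg fun u _ => by positivity
    _ = _ := by
        rw [Fintype.sum_prod_type]
        exact Finset.sum_congr rfl fun χ _ => Finset.sum_comm

end Spread

end Cfsg.Agent.Peterfalvi.Sec12
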