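import Cfsg.Agent.Lib.Peterfalvi.Sec12Count
import Cfsg.Agent.Lib.CentralChar.Fixed

/-!
# The character-theoretic core of the proof that maximal subgroups of Type I are Frobenius groups

`core_false` : a Dade set `H^#` of `M` and a Frobenius kernel `K` of `L`, linked through an element
`y` of order `p` with `C(y) ≤ M`, cannot coexist with coherence for `L`.
-/

set_option autoImplicit false

namespace Cfsg.Agent.Peterfalvi.Sec12

open Cfsg Cfsg.Agent.Char Blocks Cfsg.Agent.Coherence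
open scoped ComplexConjugate

universe u

variable {G : Type u} [Group G] [Fintype G]

/-- Finite arithmetic at the end of the proof. -/
theorem final_ineq {p e : ℕ} {b : ℤ} (hdvd : (p : ℤ) ∣ b + e) (he : 3 ≤ e) (h2 : 2 * e ≤ p + 1) :
    (e : ℝ) * ((p : ℝ) + 1) < (p : ℝ) * (b : ℝ) ^ 2 := by
  obtain ⟨k, hk⟩ := hdvd
  have hb : ((e : ℤ) - 1) ^ 2 ≤ b ^ 2 := by
    rcases le_or_gt k 0 with hk0 | hk0
    · have h0 : (p : ℤ) * k ≤ 0 := mul_nonpos_of_nonneg_of_nonpos (by positivity) hk0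
      have : b ≤ -(e : ℤ) := by omega
      nlinarith
    · have h0 : (p : ℤ) ≤ (p : ℤ) * k := le_mul_of_one_le_right (by positivity) (by omega)
      have : (e : ℤ) - 1 ≤ b := by omega
      nlinarith
  have hb' : ((e : ℝ) - 1) ^ 2 ≤ (b : ℝ) ^ 2 := by exact_mod_cast hb
  have he' : (3 : ℝ) ≤ e := by exact_mod_cast he
  have hp' : (5 : ℝ) ≤ p := by exact_mod_cast (by omega : 5 ≤ p)
  have h1 : (1 : ℝ) ≤ (e : ℝ) ^ 2 - 3 * e + 1 := by nlinarith
  have he2 : 2 * (e : ℝ) ≤ p + 1 := by exact_mod_cast h2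
  nlinarith [mul_le_mul_of_nonneg_left hb' (by linarith : (0 : ℝ) ≤ p),
    mul_le_mul_of_nonneg_left h1 (by linarith : (0 : ℝ) ≤ p)]

/-- A shift is impossible. -/
theorem shift_eq_zero {p e h : ℕ} {c : ℤ} (he : 3 ≤ e) (h2 : 2 * e ≤ p + 1) (hh : p ^ 2 ≤ h)
    (hc : (c : ℝ) ^ 2 * ((h : ℝ) - 1) ≤ (e : ℝ) ^ 2 + 2 * (e : ℝ) * c) : c = 0 := by
  have hc' : c ^ 2 * ((h : ℤ) - 1) ≤ (e : ℤ) ^ 2 + 2 * e * c := by exact_mod_cast hc
  by_contra hne
  have h1 : (1 : ℤ) ≤ c ^ 2 := by
    have : c ^ 2 ≠ 0 := pow_ne_zero _ hne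
    have := sq_nonneg c
    omega
  have h3 : c ≤ c ^ 2 := by nlinarith
  have h4 : ((e : ℤ) + 1) ^ 2 < (p : ℤ) ^ 2 := by
    have : ((e : ℤ) + 1) < p := by omega
    nlinarith
  have h5 : (p : ℤ) ^ 2 ≤ h := by exact_mod_cast hh
  nlinarith

theorem core_false
    {M L : Subgroup G} [Fintype M] [Fintype L] {AM AL : Set G} {RM RL : G → Subgroup G}
    (hDL : DadeHypothesis AL L RL) (hDM : DadeHypothesis AM M RM)
    (hdis : ∀ g, g ∈ Dade.support AL RL → g ∉ Dade.support AM RM)
    (K : Subgroup L) [K.Normal] (hC : FrobK K) (hK1 : K ≠ ⊥) (hKs : Group.IsSolvable K)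
    (hAL : ∀ x : L, (x : G) ∈ AL ↔ x ∈ K ∧ x ≠ 1)
    (H : Subgroup M) [H.Normal] (hAM : ∀ x : M, (x : G) ∈ AM ↔ x ∈ H ∧ x ≠ 1)
    (hcoh : IsCoherent (inducedIrrAbove K ⊥) {1}ᶜ (dadeIsometry AL L RL))
    {p : ℕ} (hp : p.Prime) {y : G} (hy : orderOf y = p) (hyM : y ∈ M) (hyL : y ∈ L)
    (hyK : (⟨y, hyL⟩ : L) ∈ K)
    (hyC : Subgroup.centralizer ({y} : Set G) ≤ M)
    (hR : ∀ z ∈ Subgroup.zpowers y, z ≠ 1 →
      RL z = H.map M.subtype ⊓ Subgroup.centralizer ({y} : Set G))
    (hNy : ∀ l ∈ L, l * y * l⁻¹ ∈ Subgroup.zpowers y → l * y = y * l)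
    (hCy : ∀ l : L, (l : G) * y = y * l → l ∈ K)
    (hE : H.index ≤ Nat.card K)
    (hpH : ¬ p ∣ Nat.card H)
    (θ : H →* ℂˣ)
    (hθy : ∀ h : H, θ (MulAut.conjNormal (⟨y, hyM⟩ : M) h) = θ h)
    (hθC : ∃ u : H, MulAut.conjNormal (⟨y, hyM⟩ : M) u = u ∧ θ u ≠ 1)
    {z : M} (hz : orderOf z = p) (hzfix : ∀ h : H, MulAut.conjNormal z h = h → h = 1)
    (he : 3 ≤ K.index) (h2e : 2 * K.index ≤ p + 1) (hh : p ^ 2 ≤ Nat.card K) : False := by
  classical
  have := Fact.mk hp
  obtain ⟨I, hI⟩ := CentralChar.exists_pModular p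
  have := Fintype.ofFinite H
  have := Fintype.ofFinite K
  obtain ⟨χ, hχ, hd⟩ := exists_linear_mem (K := K) ⊥ hKs (bot_lt_iff_ne_bot.2 hK1)
  obtain ⟨-, τ₁, h1, h2⟩ := hcoh
  set ψ := τ₁ χ with hψdef
  have hψ : IsGeneralizedCharacter G ψ := h1.2.2.2 χ (subset_zspan hχ)
  have hψc := IsGeneralizedCharacter.isClassFunction hψ
  have hnorm : classInner ψ ψ = 1 := by
    rw [hψdef, h1.2.2.1 χ (subset_zspan hχ) χ (subset_zspan hχ),
      classInner_irr_self (hC.irr_of_mem hχ)]
  obtain ⟨c, hc⟩ := rho_values hDL K hC hAL h1 h2 hχ hd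
  rw [← hψdef] at hc
  set e := K.index with hedef
  set hK := Nat.card K with hKdef
  set F : M → ℂ := rho AM M RM ψ with hF
  have hFc : IsClassFunction M F := rho_isClassFunction hDM hψc
  have hg : ∀ a ∈ kSharp K, avg RL ψ (a : G) = χ a + (c : ℂ) := fun a ha => by
    obtain ⟨haK, ha1⟩ := mem_kSharp.1 ha
    rw [← hc a haK ha1, rho, if_pos ((hAL a).2 ⟨haK, ha1⟩)]
  -- the sum over `L`
  set V := ∑ a ∈ kSharp K, var RL ψ (a : G) with hV
  have hV0 : 0 ≤ V := Finset.sum_nonneg fun a _ => var_nonneg RL ψ _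
  have hfilA : Finset.univ.filter (fun a : L => (a : G) ∈ AL) = kSharp K := by
    ext a; simp [mem_kSharp, hAL]
  have hSL : ∑ a ∈ kSharp K, avg RL (fun g => ‖ψ g‖ ^ 2) (a : G) =
      (hK : ℝ) * e - (e : ℝ) ^ 2 - 2 * (e : ℝ) * c + (c : ℝ) ^ 2 * ((hK : ℝ) - 1) + V := by
    rw [hV, ← sub_eq_iff_eq_add, ← Finset.sum_sub_distrib,
      Finset.sum_congr rfl (g := fun a => ‖χ a + (c : ℂ)‖ ^ 2) (fun a ha => by
        rw [var, sub_sub_cancel, hg a ha])]
    apply Complex.ofReal_injective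
    have s1 := sum_chi hχ hd
    have s1' : ∑ x ∈ kSharp K, conj (χ x) = -(e : ℂ) := by
      rw [← map_sum, s1, map_neg, map_natCast]
    simp only [Complex.ofReal_sum, Complex.ofReal_pow, ← Complex.mul_conj', map_add, map_intCast,
      add_mul, mul_add, Finset.sum_add_distrib, ← Finset.sum_mul, ← Finset.mul_sum,
      sum_chi_sq hC hχ hd, s1, s1', Finset.sum_const, card_kSharp, nsmul_eq_mul]
    push_cast
    ring
  -- the sum over `M`
  set T := (Nat.card H : ℝ)⁻¹ * ∑ h : H, ‖F (h : M)‖ ^ 2 with hT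
  have hT0 : 0 ≤ T := by positivity
  have hfilM : Finset.univ.filter (fun a : M => (a : G) ∈ AM) = kSharp H := by
    ext a; simp [mem_kSharp, hAM]
  have hSM : (Nat.card H : ℝ) * T ≤ ∑ a ∈ kSharp H, avg RM (fun g => ‖ψ g‖ ^ 2) (a : G) := by
    rw [hT, ← mul_assoc, mul_inv_cancel₀ (Nat.cast_ne_zero.2 Nat.card_pos.ne'), one_mul,
      ← Finset.sum_subtype (Finset.univ.filter fun a : M => a ∈ H) (by simp)
        (fun a : M => ‖F a‖ ^ 2)]
    rw [← Finset.sum_subset (show kSharp H ⊆ Finset.univ.filter (fun a : M => a ∈ H) from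
      fun a ha => by simp [(mem_kSharp.1 ha).1])
      (f := fun a : M => ‖F a‖ ^ 2) (fun a ha hna => by
        have ha' : a ∈ H := by simpa using ha
        have : a = 1 := by
          by_contra h
          exact hna (mem_kSharp.2 ⟨ha', h⟩)
        simp [hF, rho, this, hDM.one_not_mem])]
    refine Finset.sum_le_sum fun a ha => ?_
    have := var_nonneg RM ψ (a : G)
    rw [var] at this
    rw [hF, rho, if_pos ((hAM a).2 (mem_kSharp.1 ha))]
    linarith
  -- the room
  have hh0 : (0 : ℝ) < hK := Nat.cast_pos.2 Nat.card_pos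
  have he0 : (0 : ℝ) < e := Nat.cast_pos.2 (by omega)
  have hroom : V + (hK : ℝ) * e * T / (H.index : ℝ) ≤
      (e : ℝ) ^ 2 + 2 * (e : ℝ) * c - (c : ℝ) ^ 2 * ((hK : ℝ) - 1) := by
    have h := two_supports hDL hDM hψc hnorm hdis
    rw [hfilA, hfilM, hSL, ← K.card_mul_index, ← H.card_mul_index, Nat.cast_mul,
      Nat.cast_mul] at h
    have hH0 : (0 : ℝ) < Nat.card H := Nat.cast_pos.2 Nat.card_pos
    have hi0 : (0 : ℝ) < H.index := Nat.cast_pos.2 (Nat.pos_of_ne_zero H.index_ne_zero_of_finite)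
    have h' : ((hK : ℝ) * e)⁻¹ * ((hK : ℝ) * e - (e : ℝ) ^ 2 - 2 * (e : ℝ) * c +
        (c : ℝ) ^ 2 * ((hK : ℝ) - 1) + V) +
        ((Nat.card H : ℝ) * H.index)⁻¹ * ((Nat.card H : ℝ) * T) ≤ 1 :=
      le_trans (add_le_add le_rfl (mul_le_mul_of_nonneg_left hSM (by positivity))) h
    have h3 := mul_le_mul_of_nonneg_left h' (by positivity : (0 : ℝ) ≤ (hK : ℝ) * e)
    have e1 : (hK : ℝ) * e * (((Nat.card H : ℝ) * H.index)⁻¹ * ((Nat.card H : ℝ) * T)) =
        (hK : ℝ) * e * T / H.index := by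
      field_simp
    rw [mul_add, mul_inv_cancel_left₀ (by positivity), e1, mul_one] at h3
    linarith
  have hTpos : 0 ≤ (hK : ℝ) * e * T / (H.index : ℝ) := by positivity
  have hc0 : c = 0 := shift_eq_zero he h2e hh (by linarith)
  subst hc0
  simp only [Int.cast_zero, ne_eq, OfNat.ofNat_ne_zero, not_false_eq_true, zero_pow, mul_zero,
    add_zero, zero_mul, sub_zero] at hroom hg
  have hTe : T ≤ (e : ℝ) := by
    have hi0 : (0 : ℝ) < H.index := Nat.cast_pos.2 (Nat.pos_of_ne_zero H.index_ne_zero_of_finite)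
    have h3 : (hK : ℝ) * e * T ≤ (e : ℝ) ^ 2 * H.index := by
      have := (div_le_iff₀ hi0).1 (show (hK : ℝ) * e * T / (H.index : ℝ) ≤ (e : ℝ) ^ 2 by linarith)
      exact this
    have h4 : (e : ℝ) ^ 2 * H.index ≤ (e : ℝ) ^ 2 * hK := by
      gcongr
    refine le_of_mul_le_mul_left ?_ (mul_pos hh0 he0)
    nlinarith
  -- `ψ` is constant on the cosets `z C`
  set yM : M := ⟨y, hyM⟩ with hyMdef
  set yL : L := ⟨y, hyL⟩ with hyLdef
  set C := H.map M.subtype ⊓ Subgroup.centralizer ({y} : Set G) with hCdef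
  set Z := Subgroup.zpowers y
  have := Fintype.ofFinite C
  have := Fintype.ofFinite Z
  have hZC : ∀ (a : Z) (b : C), Commute (a : G) (b : G) := fun a b => by
    obtain ⟨i, hi⟩ := Subgroup.mem_zpowers_iff.1 a.2
    rw [← hi]
    exact Commute.zpow_left
      (show Commute y (b : G) from (Subgroup.mem_centralizer_singleton_iff.1 b.2.2).symm) i
  let ι : Z × C →* G := MonoidHom.noncommCoprod Z.subtype C.subtype hZC
  have hzK : ∀ a : Z, a ≠ 1 → ∃ aL : L, (aL : G) = a ∧ aL ∈ kSharp K := fun a ha => by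
    obtain ⟨i, hi⟩ := Subgroup.mem_zpowers_iff.1 a.2
    refine ⟨yL ^ i, by simp [yL, hi], mem_kSharp.2 ⟨K.zpow_mem hyK i, fun e0 => ha ?_⟩⟩
    exact Subtype.ext (by rw [← hi]; simpa [yL] using congrArg Subtype.val e0)
  have havg : ∀ a : Z, a ≠ 1 → avg RL ψ (a : G) =
      (Nat.card C : ℂ)⁻¹ * ∑ w : C, ψ ((a : G) * w) := fun a ha => by
    rw [avg, hR a a.2 (fun e0 => ha (Subtype.ext e0)),
      Dade.finsum_mem_subgroup C (fun u => ψ ((a : G) * u))]
  have hvar : ∀ a : Z, a ≠ 1 → var RL ψ (a : G) = (Nat.card C : ℝ)⁻¹ *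
      ∑ u : C, ‖ψ ((a : G) * u) - (Nat.card C : ℂ)⁻¹ * ∑ w : C, ψ ((a : G) * w)‖ ^ 2 := by
    intro a ha
    have hn : avg RL (fun g => ‖ψ g‖ ^ 2) (a : G) =
        (Nat.card C : ℝ)⁻¹ * ∑ w : C, ‖ψ ((a : G) * w)‖ ^ 2 := by
      rw [avg, hR a a.2 (fun e0 => ha (Subtype.ext e0)),
        Dade.finsum_mem_subgroup C (fun u => ‖ψ ((a : G) * u)‖ ^ 2)]
    have h0 : (Fintype.card C : ℝ) ≠ 0 := Nat.cast_ne_zero.2 Fintype.card_ne_zero
    rw [var, hn, havg a ha, Nat.card_eq_fintype_card, variance (fun u : C => ψ ((a : G) * u))]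
    field_simp
    ring
  have hconst : ∀ a : Z, a ≠ 1 → ∀ u : C, ψ ((a : G) * u) = avg RL ψ (a : G) := by
    rcases spread hp (by rw [Nat.card_zpowers, hy]) (fun x => ψ (ι x))
        (IsGeneralizedCharacter.comp_hom hψ ι) with h | h
    · intro a ha u
      rw [havg a ha]
      exact h a ha u
    · exfalso
      have hcount := class_count K hyL hyK hp hy hNy hCy (var RL ψ) (var_nonneg RL ψ)
        (fun a haK ha1 x => by
          rw [var, var, avg_conj hDL ψ hψc ((hAL a).2 ⟨haK, ha1⟩) x.2,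
            avg_conj hDL (fun g => ‖ψ g‖ ^ 2) (fun g w => by simp only [hψc g w])
              ((hAL a).2 ⟨haK, ha1⟩) x.2])
      rw [Finset.sum_congr rfl (fun a ha => hvar a (Finset.mem_erase.1 ha).1), ← Finset.mul_sum]
        at hcount
      have hC0 : (0 : ℝ) < Nat.card C := Nat.cast_pos.2 Nat.card_pos
      have h' : (p : ℝ) - 1 ≤ (Nat.card C : ℝ)⁻¹ * ∑ a ∈ Finset.univ.erase (1 : Z), ∑ u : C,
          ‖ψ ((a : G) * u) - (Nat.card C : ℂ)⁻¹ * ∑ w : C, ψ ((a : G) * w)‖ ^ 2 := by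
        rw [le_inv_mul_iff₀ hC0]
        exact h
      have h2' : 2 * (e : ℝ) ≤ p + 1 := by exact_mod_cast h2e
      have he' : (3 : ℝ) ≤ e := by exact_mod_cast he
      have := le_trans (mul_le_mul_of_nonneg_left h' he0.le) hcount
      have hVe : V ≤ (e : ℝ) ^ 2 := by linarith
      nlinarith
  -- congruences on `C`
  have hy1 : y ≠ 1 := fun e0 => hp.one_lt.ne (by rw [← hy, e0, orderOf_one])
  have hψC : ∀ u : C, MemLocalIdeal I (ψ (u : G) - (e : ℂ)) := by
    intro u
    have h1' : MemLocalIdeal I (ψ (u : G) - ψ (y * u)) := by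
      refine gc_memI_sub hI hψ (k := 1) ?_
      rw [pow_one, (hZC ⟨y, Subgroup.mem_zpowers y⟩ u).mul_pow, ← hy, pow_orderOf_eq_one, one_mul]
    have hyne : (⟨y, Subgroup.mem_zpowers y⟩ : Z) ≠ 1 := fun e0 => hy1 (congrArg Subtype.val e0)
    rw [hconst ⟨y, Subgroup.mem_zpowers y⟩ hyne u,
      hg yL (mem_kSharp.2 ⟨hyK, fun e0 => hy1 (congrArg Subtype.val e0)⟩)] at h1'
    have h2' : MemLocalIdeal I (χ yL - (e : ℂ)) := by
      rw [← hd]
      refine CentralChar.memI_sub_apply_one hI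
        (IsIrrCharacter.isCharacter (hC.irr_of_mem hχ)) (k := 1) (Subtype.ext ?_)
      simp [yL, ← hy, pow_orderOf_eq_one]
    exact memI_sub_trans hI h1' h2'
  obtain ⟨u₀, hu₀, hθu₀⟩ := hθC
  set σ : MulAut H := MulAut.conjNormal yM with hσ
  have hσfix : ∀ h : H, σ h = h ↔ ((h : M) : G) ∈ Subgroup.centralizer ({y} : Set G) := by
    intro h
    rw [Subgroup.mem_centralizer_singleton_iff, Subtype.ext_iff, Subtype.ext_iff, hσ,
      MulAut.conjNormal_apply]
    simp only [Subgroup.coe_mul, InvMemClass.coe_inv, yM, mul_inv_eq_iff_eq_mul]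
    exact eq_comm
  have hu₀1 : u₀ ≠ 1 := fun e0 => hθu₀ (by rw [e0, map_one])
  have hRp : ∀ h : H, h ≠ 1 → ¬ p ∣ Nat.card (RM ((h : M) : G)) := by
    intro h hh1 hd'
    have hA1 : ((h : M) : G) ∈ AM := (hAM _).2 ⟨h.2, fun e0 => hh1 (Subtype.ext e0)⟩
    have hA2 : ((u₀ : M) : G) ∈ AM := (hAM _).2 ⟨u₀.2, fun e0 => hu₀1 (Subtype.ext e0)⟩
    have hd2 : p ∣ Nat.card ↥(M ⊓ Subgroup.centralizer ({((u₀ : M) : G)} : Set G)) := by
      rw [← hy]
      exact Subgroup.orderOf_dvd_natCard _ ⟨hyM, Subgroup.mem_centralizer_singleton_iff.2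
        (Subgroup.mem_centralizer_singleton_iff.1 ((hσfix u₀).1 hu₀)).symm⟩
    exact Nat.not_coprime_of_dvd_of_dvd hp.one_lt hd' hd2 (hDM.coprime _ hA1 _ hA2)
  have hψint : ∀ g, MemLocalRing I (ψ g) := fun g =>
    memR_of_isIntegral hI (IsGeneralizedCharacter.isIntegral hψ g)
  have hFint : ∀ h : H, MemLocalRing I (F (h : M)) := by
    intro h
    by_cases hh1 : h = 1
    · simp only [hF, rho, hh1, OneMemClass.coe_one, if_neg hDM.one_not_mem]
      exact memR_zero hI
    · have hA1 : ((h : M) : G) ∈ AM := (hAM _).2 ⟨h.2, fun e0 => hh1 (Subtype.ext e0)⟩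
      have := Fintype.ofFinite (RM ((h : M) : G))
      rw [hF, rho, if_pos hA1, avg_eq_sum]
      exact memR_mul hI (memR_natCast_inv hI (hRp h hh1)) (memR_sum hI _ fun u _ => hψint _)
  have hFC : ∀ h : H, h ≠ 1 → σ h = h → MemLocalIdeal I (F (h : M) - (e : ℂ)) := by
    intro h hh1 hfix
    set a : G := ((h : M) : G) with ha
    have hA1 : a ∈ AM := (hAM _).2 ⟨h.2, fun e0 => hh1 (Subtype.ext e0)⟩
    have := Fintype.ofFinite (RM a)
    have hcy : y ∈ Subgroup.centralizer ({a} : Set G) := Subgroup.mem_centralizer_singleton_iff.2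
      (Subgroup.mem_centralizer_singleton_iff.1 ((hσfix h).1 hfix)).symm
    let g : RM a → RM a := fun r => ⟨y * r * y⁻¹, hDM.conj_mem_H a hA1 y hcy r r.2⟩
    let π : Equiv.Perm (RM a) := Equiv.ofBijective g (Finite.injective_iff_bijective.1
      fun r s e0 => Subtype.ext (conj_injective (congrArg Subtype.val e0)))
    have hπ : ∀ (n : ℕ) (r : RM a), (((π ^ n) r : RM a) : G) = y ^ n * r * (y ^ n)⁻¹ := by
      intro n
      induction n with
      | zero => intro r; simp
      | succ n ih =>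
        intro r
        rw [pow_succ', Equiv.Perm.mul_apply]
        change y * (((π ^ n) r : RM a) : G) * y⁻¹ = _
        rw [ih, pow_succ']
        group
    have hπp : π ^ p = 1 := Equiv.ext fun r => Subtype.ext (by
      rw [hπ, ← hy, pow_orderOf_eq_one]; simp)
    have hfilt : Finset.univ.filter (fun r : RM a => π r = r) = {1} := by
      ext r
      simp only [Finset.mem_filter, Finset.mem_univ, true_and, Finset.mem_singleton]
      refine ⟨fun e0 => ?_, fun e0 => Subtype.ext (by subst e0; simp [π, g])⟩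
      have hc1 : y * (r : G) * y⁻¹ = r := congrArg Subtype.val e0
      have hrM : (r : G) ∈ M := hyC (Subgroup.mem_centralizer_singleton_iff.2
        (mul_inv_eq_iff_eq_mul.1 hc1).symm)
      refine Subtype.ext (Subgroup.mem_bot.1 ?_)
      rw [← hDM.inf_eq_bot a hA1]
      exact ⟨r.2, hrM, hDM.le_centralizer a hA1 r.2⟩
    have hS : MemLocalIdeal I (∑ r : RM a, ψ (a * r) - ψ a) := by
      have h0 := memI_sum_sub_fixed hI π hπp Finset.univ (fun x _ => Finset.mem_univ _)
        (fun r => ψ (a * r)) (fun r _ => hψint _) (fun r _ => by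
          change ψ (a * (y * r * y⁻¹)) = _
          rw [← hψc (a * r) y]
          congr 1
          rw [← mul_assoc, ← mul_assoc, ← Subgroup.mem_centralizer_singleton_iff.1 hcy]
          group)
      rw [hfilt, Finset.sum_singleton, OneMemClass.coe_one, mul_one] at h0
      exact h0
    have hN : MemLocalIdeal I ((Nat.card (RM a) : ℂ) - 1) := by
      have h0 := memI_sum_sub_fixed hI π hπp Finset.univ (fun x _ => Finset.mem_univ _)
        (fun _ => (1 : ℂ)) (fun r _ => memR_one hI) (fun r _ => rfl)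
      rw [hfilt, Finset.sum_singleton, Finset.sum_const, Finset.card_univ, nsmul_eq_mul, mul_one,
        ← Nat.card_eq_fintype_card] at h0
      exact h0
    have haC : a ∈ C := ⟨⟨(h : M), h.2, rfl⟩, (hσfix h).1 hfix⟩
    have h3 : MemLocalIdeal I (∑ r : RM a, ψ (a * r) - (Nat.card (RM a) : ℂ) * (e : ℂ)) := by
      have h4 := memI_sub_trans hI hS (hψC ⟨a, haC⟩)
      have h5 := memI_mul_right hI hN (memR_natCast hI e)
      have := memI_sub hI h4 h5
      convert this using 1
      ring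
    rw [hF, rho, if_pos hA1, avg_eq_sum]
    have := memI_mul_left hI (memR_natCast_inv hI (hRp h hh1)) h3
    rwa [mul_sub, ← mul_assoc, inv_mul_cancel₀ (Nat.cast_ne_zero.2 Nat.card_pos.ne'), one_mul]
      at this
  -- the integer `b`
  set θc : H → ℂ := fun h => (θ h : ℂ) with hθc
  have hθchar : IsCharacter H θc := isCharacter_of_hom ((Units.coeHom ℂ).comp θ)
  set α : M → ℂ := indFun H (θc - 1) with hα
  have hαg : IsGeneralizedCharacter M α := IsGeneralizedCharacter.indFun
    (isGC_sub (isGC_of_isCharacter hθchar) (isGC_of_isCharacter isCharacter_one))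
  have hαA : ∀ x : M, (x : G) ∉ AM → α x = 0 := by
    intro x hx
    by_cases hxH : x ∈ H
    · have : x = 1 := by_contra fun h => hx ((hAM x).2 ⟨hxH, h⟩)
      simp [hα, this, indFun_one_apply, hθc]
    · exact CliffordChar.indFun_not_mem H _ hxH
  obtain ⟨b, hb⟩ := IsGeneralizedCharacter.classInner_int
    (S1501.result AM M RM hDM α hαg hαA) hψ
  rw [inner_rho hDM (isGC_isClassFunction hαg) hαA hψc, ← hF, hα,
    frobenius_reciprocity H _ hFc] at hb
  set FH : H → ℂ := fun h => F (h : M) with hFH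
  have hb' : classInner FH (θc - 1) = (b : ℂ) := by
    rw [← classInner_conj_symm, hb, map_intCast]
  have hσp : (σ.toEquiv : Equiv.Perm H) ^ p = 1 := by
    have hσ1 : σ ^ p = 1 := by
      rw [hσ, ← map_pow, show yM ^ p = 1 from Subtype.ext (by simp [yM, ← hy, pow_orderOf_eq_one]),
        map_one]
    have h0 : MulAut.toPerm H (σ ^ p) = 1 := by rw [hσ1, map_one]
    rwa [map_pow] at h0
  set fix : Subgroup H :=
    { carrier := {h | σ h = h}
      one_mem' := map_one σ
      mul_mem' := fun {a b} ha hb0 => by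
        change σ (a * b) = a * b
        rw [map_mul, ha, hb0]
      inv_mem' := fun {a} ha => by
        change σ a⁻¹ = a⁻¹
        rw [map_inv, ha] }
  have hsumfix : ∑ h ∈ Finset.univ.filter (fun h : H => σ h = h), conj (θc h) = 0 := by
    rw [← map_sum, map_eq_zero,
      Finset.sum_subtype (p := fun h : H => h ∈ fix) _ (fun h => by simp [fix]) θc]
    exact sum_hom_units_eq_zero (((Units.coeHom ℂ).comp θ).comp fix.subtype) fun e0 => hθu₀
      (Units.ext (by simpa [hθc] using DFunLike.congr_fun e0 ⟨u₀, hu₀⟩))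
  have hθint : ∀ h : H, MemLocalRing I (conj (θc h - 1)) := fun h => by
    rw [map_sub, map_one]
    exact memR_sub hI (memR_of_isIntegral hI
      (IsCharacter.isIntegral (IsCharacter.conj hθchar) h)) (memR_one hI)
  have hbcong : (p : ℤ) ∣ b + (e : ℤ) := by
    have hsum : (Nat.card H : ℂ) * (b : ℂ) = ∑ h : H, FH h * conj (θc h - 1) := by
      rw [← hb', card_mul_classInner]
      rfl
    have h0 := memI_sum_sub_fixed hI (σ.toEquiv : Equiv.Perm H) hσp Finset.univ
      (fun x _ => Finset.mem_univ _) (fun h => FH h * conj (θc h - 1))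
      (fun h _ => memR_mul hI (hFint h) (hθint h)) (fun h _ => by
        change FH (σ h) * conj (θc (σ h) - 1) = _
        rw [show θc (σ h) = θc h from congrArg Units.val (hθy h),
          show FH (σ h) = FH h from by
            change F ((σ h : H) : M) = F (h : M)
            rw [hσ, MulAut.conjNormal_apply, hFc]])
    have hcard := memI_sum_sub_fixed hI (σ.toEquiv : Equiv.Perm H) hσp Finset.univ
      (fun x _ => Finset.mem_univ _) (fun _ => (1 : ℂ)) (fun _ _ => memR_one hI) (fun _ _ => rfl)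
    have hfil : Finset.univ.filter (fun x : H => (σ.toEquiv : Equiv.Perm H) x = x) =
        Finset.univ.filter (fun h : H => σ h = h) := rfl
    rw [← hsum, hfil] at h0
    rw [hfil, Finset.sum_const, Finset.sum_const, nsmul_eq_mul, nsmul_eq_mul, mul_one, mul_one,
      Finset.card_univ, ← Nat.card_eq_fintype_card] at hcard
    set S := Finset.univ.filter (fun h : H => σ h = h) with hS
    have hdiff : MemLocalIdeal I (∑ h ∈ S, FH h * conj (θc h - 1) -
        ∑ h ∈ S, (e : ℂ) * conj (θc h - 1)) := by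
      rw [← Finset.sum_sub_distrib]
      refine memI_sum hI _ fun h hh' => ?_
      by_cases hh1 : h = 1
      · subst hh1
        simpa [hθc] using memI_zero hI
      · rw [← sub_mul]
        exact memI_mul_right hI (hFC h hh1 (by simpa [hS] using hh')) (hθint h)
    have hval : ∑ h ∈ S, (e : ℂ) * conj (θc h - 1) = -((e : ℂ) * (S.card : ℂ)) := by
      rw [← Finset.mul_sum]
      simp only [map_sub, map_one, Finset.sum_sub_distrib, hsumfix, Finset.sum_const,
        nsmul_eq_mul, mul_one]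
      ring
    rw [hval] at hdiff
    have h6 := memI_add hI (memI_sub_trans hI h0 hdiff) (memI_mul_left hI (memR_natCast hI e) hcard)
    have h7 : MemLocalIdeal I ((Nat.card H : ℂ) * ((b + (e : ℤ) : ℤ) : ℂ)) := by
      convert h6 using 1
      push_cast
      ring
    rcases memI_or_memI hI (memR_natCast hI _) (memR_intCast hI _) h7 with h | h
    · exact absurd ((memI_natCast hI).1 h) hpH
    · exact (RegPart.memI_intCast_iff hI).1 h
  -- the test function
  have hzpow : ∀ k : ℕ, k < p → k ≠ 0 → ∀ h : H, MulAut.conjNormal (z ^ k) h = h → h = 1 := by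
    intro k hk hk0 h hh'
    refine hzfix h ?_
    obtain ⟨t, ht⟩ := Nat.exists_mul_mod_eq_one_of_coprime (n := k)
      ((hp.coprime_iff_not_dvd.2 fun hdvd => by
        have := Nat.le_of_dvd (Nat.pos_of_ne_zero hk0) hdvd
        omega).symm) hp.one_lt
    have hzz : z = (z ^ k) ^ t := by
      rw [← pow_mul, ← pow_mod_orderOf, hz, ht.2, pow_one]
    rw [hzz, map_pow]
    have hrec : ∀ n : ℕ, ((MulAut.conjNormal (z ^ k) : MulAut H) ^ n) h = h := by
      intro n
      induction n with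
      | zero => rfl
      | succ n ih => rw [pow_succ, MulAut.mul_apply, hh', ih]
    exact hrec t
  set θi : Fin p → (H →* ℂˣ) :=
    fun i => θ.comp (MulAut.conjNormal (z ^ (i : ℕ)) : MulAut H).toMonoidHom with hθi
  have hθne : θ ≠ 1 := fun e0 => hθu₀ (by simp [e0])
  have hinj : Function.Injective θi := by
    intro i j hij
    by_contra hne
    wlog hlt : (i : ℕ) < j generalizing i j
    · exact this hij.symm (Ne.symm hne)
        (lt_of_le_of_ne (not_lt.1 hlt) fun e0 => hne (Fin.ext e0).symm)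
    set k := (j : ℕ) - i
    have hfixθ : ∀ h : H, θ (MulAut.conjNormal (z ^ k) h) = θ h := by
      intro h
      have h' := DFunLike.congr_fun hij ((MulAut.conjNormal (z ^ (i : ℕ)) : MulAut H).symm h)
      simp only [hθi, MonoidHom.comp_apply, MulEquiv.coe_toMonoidHom, MulEquiv.apply_symm_apply] at h'
      rw [h', show (j : ℕ) = k + i by omega, pow_add, map_mul, MulAut.mul_apply,
        MulEquiv.apply_symm_apply]
    apply hθne
    let f : H → H := fun h => MulAut.conjNormal (z ^ k) h * h⁻¹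
    have hf : Function.Surjective f := by
      refine Finite.surjective_of_injective fun a c0 e0 => ?_
      have h1' : MulAut.conjNormal (z ^ k) (c0⁻¹ * a) = c0⁻¹ * a := by
        rw [map_mul, map_inv]
        simp only [f] at e0
        calc _ = (MulAut.conjNormal (z ^ k) c0)⁻¹ * (MulAut.conjNormal (z ^ k) a * a⁻¹) * a := by
              group
          _ = _ := by rw [e0]; group
      exact (inv_mul_eq_one.1 (hzpow k (by omega) (by omega) _ h1')).symm
    refine MonoidHom.ext fun h => ?_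
    obtain ⟨w, rfl⟩ := hf h
    simp only [f, map_mul, map_inv, hfixθ, mul_inv_cancel, MonoidHom.one_apply]
  set θf : Fin p → H → ℂ := fun i h => (θi i h : ℂ) with hθf
  have hθfirr : ∀ i, IsIrrCharacter H (θf i) := fun i =>
    isIrrCharacter_of_hom ((Units.coeHom ℂ).comp (θi i))
  have hθfne : ∀ i, θf i ≠ (1 : H → ℂ) := by
    intro i e0
    apply hθne
    refine MonoidHom.ext fun h => Units.ext ?_
    have := congrFun e0 ((MulAut.conjNormal (z ^ (i : ℕ)) : MulAut H).symm h)
    simpa [hθf, hθi] using this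
  have hone : IsIrrCharacter H (1 : H → ℂ) := isIrrCharacter_one
  have hbi : ∀ i, classInner FH (θf i - 1) = (b : ℂ) := by
    intro i
    rw [← hb', ← classInner_comp_equiv (MulAut.conjNormal (z ^ (i : ℕ)) : MulAut H) FH (θc - 1)]
    congr 1
    funext h
    simp only [hFH]
    rw [MulAut.conjNormal_apply, hFc]
  set ω : H → ℂ := ∑ i : Fin p, (θf i - 1) with hω
  have hFω : classInner FH ω = (p : ℂ) * (b : ℂ) := by
    rw [hω, classInner_sum_right, Finset.sum_congr rfl (fun i _ => hbi i), Finset.sum_const,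
      Finset.card_univ, Fintype.card_fin, nsmul_eq_mul]
  have hωω : classInner ω ω = (p : ℂ) + (p : ℂ) ^ 2 := by
    have hij : ∀ i j, classInner (θf i - 1) (θf j - 1) = (if i = j then 1 else 0) + 1 := by
      intro i j
      have hji : classInner (1 : H → ℂ) (θf j) = 0 :=
        classInner_irr_of_ne hone (hθfirr j) (fun e0 => hθfne j e0.symm)
      rw [classInner_sub_left, classInner_sub_right, classInner_sub_right,
        classInner_irr_of_ne (hθfirr i) hone (hθfne i), hji, classInner_irr_self hone]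
      split_ifs with he0
      · subst he0; rw [classInner_irr_self (hθfirr i)]; ring
      · rw [classInner_irr_of_ne (hθfirr i) (hθfirr j) fun e0 => he0 (hinj ?_)]
        · ring
        · exact MonoidHom.ext fun h => Units.ext (congrFun e0 h)
    rw [hω, classInner_sum_left, Finset.sum_congr rfl (fun i _ => (classInner_sum_right _ _ _).trans
      (Finset.sum_congr rfl fun j _ => hij i j))]
    simp [Finset.sum_add_distrib, sq]
  have hFF : classInner FH FH = (T : ℂ) := by
    rw [hT, classInner]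
    simp only [Complex.ofReal_mul, Complex.ofReal_inv, Complex.ofReal_natCast, Complex.ofReal_sum,
      Complex.ofReal_pow, ← Complex.mul_conj', hFH]
  -- Cauchy-Schwarz
  have hCS : (p : ℝ) * (b : ℝ) ^ 2 ≤ T * ((p : ℝ) + 1) := by
    set t : ℝ := (b : ℝ) / ((p : ℝ) + 1) with ht
    have hnn := classInner_self_re_nonneg (FH - (t : ℂ) • ω)
    have hωF : classInner ω FH = (p : ℂ) * (b : ℂ) := by
      rw [← classInner_conj_symm, hFω, map_mul, map_natCast, map_intCast]
    rw [classInner_sub_left, classInner_sub_right, classInner_sub_right, classInner_smul_left,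
      classInner_smul_left, classInner_smul_right, classInner_smul_right, hFF, hFω, hωF, hωω,
      Complex.conj_ofReal] at hnn
    have hval : ((T : ℂ) - (t : ℂ) * ((p : ℂ) * (b : ℂ)) - ((t : ℂ) * ((p : ℂ) * (b : ℂ)) -
        (t : ℂ) * ((t : ℂ) * ((p : ℂ) + (p : ℂ) ^ 2)))) =
        ((T - 2 * t * p * b + t ^ 2 * (p + p ^ 2) : ℝ) : ℂ) := by
      push_cast
      ring
    rw [hval, Complex.ofReal_re, ht] at hnn
    have hp1 : (0 : ℝ) < (p : ℝ) + 1 := by positivity
    have key : T - 2 * ((b : ℝ) / ((p : ℝ) + 1)) * p * b +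
        ((b : ℝ) / ((p : ℝ) + 1)) ^ 2 * ((p : ℝ) + (p : ℝ) ^ 2) =
        (T * ((p : ℝ) + 1) - (p : ℝ) * (b : ℝ) ^ 2) / ((p : ℝ) + 1) := by
      field_simp
      ring
    rw [key] at hnn
    have := (div_nonneg_iff.1 hnn).resolve_right (fun h => by linarith [h.2])
    linarith [this.1]
  have := final_ineq hbcong he h2e
  have h7 : T * ((p : ℝ) + 1) ≤ (e : ℝ) * ((p : ℝ) + 1) :=
    mul_le_mul_of_nonneg_right hTe (by positivity)
  linarith

end Cfsg.Agent.Peterfalvi.Sec12
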