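import Cfsg.Agent.Lib.Dade.Basic
import Cfsg.Agent.Lib.Coherence.FrobValues
import Cfsg.Agent.S1501

/-!
# The averaged function of a character of `G` on the Dade set of a Frobenius group

* `avg`, `rho` : averages over the cosets `a R(a)`
* `rho_values` : for a coherent isometry the average of `τ₁ χ` is `χ + c` on the kernel, `c ∈ ℤ`
-/

set_option autoImplicit false

namespace Cfsg.Agent.Peterfalvi.Sec12

open Cfsg Cfsg.Agent.Char Cfsg.Agent.Coherence
open scoped ComplexConjugate

universe u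

variable {G : Type u} [Group G]

/-- The average of `f` over the coset `a R(a)`. -/
noncomputable def avg {K : Type*} [Field K] (R : G → Subgroup G) (f : G → K) (a : G) : K :=
  (Nat.card (R a) : K)⁻¹ * ∑ᶠ u ∈ (R a : Set G), f (a * u)

open scoped Classical in
/-- The averages as a function on `L`, zero off `A`. -/
noncomputable def rho (A : Set G) (L : Subgroup G) (R : G → Subgroup G) (χ : G → ℂ) : L → ℂ :=
  fun a => if (a : G) ∈ A then avg R χ a else 0

variable {A : Set G} {L : Subgroup G} {R : G → Subgroup G}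

theorem avg_eq_sum {K : Type*} [Field K] (f : G → K) (a : G) [Fintype (R a)] :
    avg R f a = (Nat.card (R a) : K)⁻¹ * ∑ u : R a, f (a * u) := by
  rw [avg, Dade.finsum_mem_subgroup (R a) (fun u => f (a * u))]

theorem avg_conj [Finite G] {K : Type*} [Field K] (hD : DadeHypothesis A L R) (f : G → K)
    (hf : ∀ g x : G, f (x * g * x⁻¹) = f g) {a x : G} (ha : a ∈ A) (hx : x ∈ L) :
    avg R f (x * a * x⁻¹) = avg R f a := by
  have := Fintype.ofFinite (R a)
  have := Fintype.ofFinite (R (x * a * x⁻¹))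
  rw [avg_eq_sum, avg_eq_sum, Dade.card_H_conj hD ha hx]
  congr 1
  symm
  refine Fintype.sum_bijective
    (fun u : R a => (⟨x * u * x⁻¹, Dade.conj_mem_H_conj hD ha hx u.2⟩ : R (x * a * x⁻¹)))
    ⟨fun u v h => Subtype.ext (conj_injective (congrArg Subtype.val h)), fun v => ?_⟩ _ _
    fun u => ?_
  · have h := Dade.conj_mem_H_conj hD (hD.conj_mem x hx a ha) (L.inv_mem hx) v.2
    rw [show x⁻¹ * (x * a * x⁻¹) * x⁻¹⁻¹ = a by group] at h
    exact ⟨⟨_, h⟩, Subtype.ext (by simp [mul_assoc])⟩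
  · rw [show x * a * x⁻¹ * (x * (u : G) * x⁻¹) = x * (a * u) * x⁻¹ by group, hf]

theorem rho_isClassFunction [Finite G] (hD : DadeHypothesis A L R) {χ : G → ℂ}
    (hχ : IsClassFunction G χ) : IsClassFunction L (rho A L R χ) := by
  intro g x
  by_cases hg : (g : G) ∈ A
  · have hg' : ((x * g * x⁻¹ : L) : G) ∈ A := by
      simpa using hD.conj_mem x x.2 g hg
    rw [rho, if_pos hg', rho, if_pos hg]
    simpa using avg_conj hD χ hχ hg x.2
  · have hg' : ((x * g * x⁻¹ : L) : G) ∉ A := fun h => hg (by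
      simpa [mul_assoc] using hD.conj_mem (x : G)⁻¹ (L.inv_mem x.2) _ h)
    rw [rho, if_neg hg', rho, if_neg hg]

variable [Fintype G] [Fintype L]

/-- Reciprocity for the Dade map. -/
theorem inner_rho (hD : DadeHypothesis A L R) {α : L → ℂ} (hα : IsClassFunction L α)
    (hαA : ∀ x : L, (x : G) ∉ A → α x = 0) {χ : G → ℂ} (hχ : IsClassFunction G χ) :
    classInner (dadeIsometry A L R α) χ = classInner α (rho A L R χ) := by
  classical
  refine Dade.classInner_dade hD hα hαA χ _ hχ fun a ha => ?_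
  rw [rho, if_pos ha, avg_eq_sum]

theorem rho_values (hD : DadeHypothesis A L R) (K : Subgroup L) [K.Normal] (hC : FrobK K)
    (hA : ∀ x : L, (x : G) ∈ A ↔ x ∈ K ∧ x ≠ 1)
    {τ₁ : (L → ℂ) → (G → ℂ)} (h1 : IsLinearIsometryOn (zspan (inducedIrrAbove K ⊥)) τ₁)
    (h2 : ∀ α ∈ zspanOn (inducedIrrAbove K ⊥) {1}ᶜ, τ₁ α = dadeIsometry A L R α)
    {χ : L → ℂ} (hχ : χ ∈ inducedIrrAbove K ⊥) (hd : χ 1 = (K.index : ℂ)) :
    ∃ c : ℤ, ∀ x : L, x ∈ K → x ≠ 1 → rho A L R (τ₁ χ) x = χ x + (c : ℂ) := by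
  classical
  have := Fintype.ofFinite K
  have hirr := fun φ (hφ : φ ∈ inducedIrrAbove K ⊥) => hC.irr_of_mem hφ
  have hψ : IsGeneralizedCharacter G (τ₁ χ) := h1.2.2.2 χ (subset_zspan hχ)
  have hψc := IsGeneralizedCharacter.isClassFunction hψ
  set g : L → ℂ := rho A L R (τ₁ χ) with hg
  have hgc : IsClassFunction L g := rho_isClassFunction hD hψc
  have hsupp : ∀ {α : L → ℂ}, α 1 = 0 → (∀ x, x ∉ K → α x = 0) →
      ∀ x : L, (x : G) ∉ A → α x = 0 := fun {α} h0 hK x hx => by
    by_cases hxK : x ∈ K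
    · have : x = 1 := by_contra fun h => hx ((hA x).2 ⟨hxK, h⟩)
      rw [this, h0]
    · exact hK x hxK
  -- orthogonality of `g - χ` to `d χ - φ`
  have key : ∀ θ : IrrCharacter K, (θ : K → ℂ) ≠ (fun _ => 1) →
      classInner (indFun K (θ : K → ℂ)) (g - χ) = (θ : K → ℂ) 1 * classInner χ (g - χ) := by
    intro θ hθ
    set φ := indFun K (θ : K → ℂ)
    have hφ : φ ∈ inducedIrrAbove K ⊥ := ⟨θ, θ.2, hθ, fun a ha => by
      rw [show a = 1 from Subtype.ext (Subgroup.mem_bot.1 ha)], rfl⟩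
    set d : ℕ := charDegree (θ : K → ℂ)
    have hdθ : (θ : K → ℂ) 1 = (d : ℂ) := TwoClassChar.deg_eq θ.2
    have hmem : (d : ℤ) • χ + (-1 : ℤ) • φ ∈ zspan (inducedIrrAbove K ⊥) :=
      zspan_add (zspan_zsmul _ (subset_zspan hχ)) (zspan_zsmul _ (subset_zspan hφ))
    set α := (d : ℤ) • χ + (-1 : ℤ) • φ with hα
    have hα1 : α 1 = 0 := by
      simp [hα, hd, φ, indFun_one_apply, hdθ]
      ring
    have hαK : ∀ x, x ∉ K → α x = 0 := fun x hx => by
      simp [hα, mem_inducedSet_supp hχ x hx, mem_inducedSet_supp hφ x hx]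
    have hαc : IsClassFunction L α := fun a b => by
      simp [hα, IsIrrCharacter.isClassFunction (hirr χ hχ) a b,
        IsIrrCharacter.isClassFunction (hirr φ hφ) a b]
    have e := inner_rho hD hαc (hsupp hα1 hαK) hψc
    rw [← h2 α ⟨hmem, fun x hx => by rw [show x = 1 by simpa using hx, hα1]⟩,
      h1.1 _ (zspan_zsmul _ (subset_zspan hχ)) _ (zspan_zsmul _ (subset_zspan hφ)),
      h1.2.1 _ (subset_zspan hχ), h1.2.1 _ (subset_zspan hφ), ← hg] at e
    simp only [← Int.cast_smul_eq_zsmul ℂ, classInner_add_left, classInner_smul_left, hα] at e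
    rw [h1.2.2.1 _ (subset_zspan hχ) _ (subset_zspan hχ),
      h1.2.2.1 _ (subset_zspan hφ) _ (subset_zspan hχ)] at e
    rw [classInner_sub_right, classInner_sub_right, hdθ]
    push_cast at e
    linear_combination e
  -- the integer
  have haug := isGC_augFun hC hχ
  have haugA := hsupp (augFun_apply_one hd) (augFun_supp hχ)
  obtain ⟨m, hm⟩ := IsGeneralizedCharacter.classInner_int
    (S1501.result A L R hD _ haug haugA) hψ
  rw [inner_rho hD (isGC_isClassFunction haug) haugA hψc, ← hg] at hm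
  refine ⟨1 + m, fun x hxK hx1 => ?_⟩
  set a := classInner χ (g - χ)
  have hh : (Nat.card K : ℂ) ≠ 0 := Nat.cast_ne_zero.2 Nat.card_pos.ne'
  let f : K → ℂ := fun k => (g - χ) (k : L) - (1 + (m : ℂ)) -
    (if k = 1 then conj a * (Nat.card K : ℂ) else 0)
  have hfc : IsClassFunction K f := fun b c => by
    simp only [f, Pi.sub_apply]
    have e1 : c * b * c⁻¹ = 1 ↔ b = 1 := conj_eq_one_iff
    simp only [e1, Subgroup.coe_mul, InvMemClass.coe_inv]
    rw [hgc, IsIrrCharacter.isClassFunction (hirr χ hχ)]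
  have hf0 : f = 0 := by
    refine eq_zero_of_forall_classInner_irr hfc fun θ => ?_
    rw [← classInner_conj_symm, map_eq_zero]
    have e1 : classInner (θ : K → ℂ) f = classInner (θ : K → ℂ) (fun k : K => (g - χ) (k : L)) -
        conj (1 + (m : ℂ)) * classInner (θ : K → ℂ) (fun _ => 1) - a * (θ : K → ℂ) 1 := by
      simp only [classInner, f, map_sub, mul_sub, Finset.sum_sub_distrib, map_one, mul_one,
        apply_ite conj, map_mul, Complex.conj_conj, map_natCast, map_zero, mul_ite, mul_zero,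
        Finset.sum_ite_eq', Finset.mem_univ, if_true]
      rw [← Finset.sum_mul]
      field_simp
    have hgχ : IsClassFunction L (g - χ) :=
      isClassFunction_sub hgc (IsIrrCharacter.isClassFunction (hirr χ hχ))
    rw [e1]
    by_cases hθ : (θ : K → ℂ) = fun _ => 1
    · have h4 : classInner (indFun K fun _ : K => (1 : ℂ)) (g - χ) = (1 + (m : ℂ)) + a := by
        rw [show indFun K (fun _ : K => (1 : ℂ)) = augFun K χ + χ by rw [augFun, sub_add_cancel],
          classInner_add_left, classInner_sub_right (augFun K χ), hm, inner_augFun_chi hC hχ]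
        ring
      rw [hθ, ← frobenius_reciprocity K (fun _ => 1) hgχ, h4,
        classInner_irr_self (χ := fun _ : K => (1 : ℂ)) isIrrCharacter_one, map_add, map_one,
        map_intCast]
      ring
    · rw [← frobenius_reciprocity K (θ : K → ℂ) hgχ, key θ hθ,
        classInner_irr_of_ne θ.2 (ψ := fun _ : K => (1 : ℂ)) isIrrCharacter_one hθ]
      ring
  have := congrFun hf0 ⟨x, hxK⟩
  simp only [f, Pi.zero_apply, Pi.sub_apply,
    if_neg (show (⟨x, hxK⟩ : K) ≠ 1 from fun e => hx1 (congrArg Subtype.val e))] at this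
  push_cast
  linear_combination this

end Cfsg.Agent.Peterfalvi.Sec12
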