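import Cfsg.Agent.Lib.Peterfalvi.Sec12Alg
import Cfsg.Agent.Lib.Peterfalvi.Sec12Rho

/-!
# Counting tools for the theorem that maximal subgroups of Type I are Frobenius groups

* `avg_norm_sq_eq` : variance formula on a coset `a R(a)`
* `two_supports` : the norm of a character seen on two disjoint Dade supports
* `class_count` : a lower bound for the sum of a class function from an element of order `p`
* `gc_memI_sub` : congruence of values of generalized characters
-/

set_option autoImplicit false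

namespace Cfsg.Agent.Peterfalvi.Sec12

open Cfsg Cfsg.Agent.Char Blocks
open scoped ComplexConjugate

universe u

variable {G : Type u} [Group G]

theorem variance {ι : Type*} [Fintype ι] [Nonempty ι] (f : ι → ℂ) :
    ∑ i, ‖f i‖ ^ 2 = (Fintype.card ι : ℝ) * ‖(Fintype.card ι : ℂ)⁻¹ * ∑ j, f j‖ ^ 2 +
      ∑ i, ‖f i - (Fintype.card ι : ℂ)⁻¹ * ∑ j, f j‖ ^ 2 := by
  have h0 : (Fintype.card ι : ℂ) ≠ 0 := Nat.cast_ne_zero.2 Fintype.card_ne_zero
  apply Complex.ofReal_injective
  simp only [Complex.ofReal_add, Complex.ofReal_mul, Complex.ofReal_sum, Complex.ofReal_natCast,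
    Complex.ofReal_pow, ← Complex.mul_conj', map_sub, map_mul, map_inv₀, map_natCast, map_sum,
    sub_mul, mul_sub, Finset.sum_sub_distrib, Finset.sum_const, Finset.card_univ, nsmul_eq_mul,
    ← Finset.sum_mul, ← Finset.mul_sum]
  field_simp
  ring

/-- The variance of `f` on the coset `a R(a)`. -/
noncomputable def var (R : G → Subgroup G) (f : G → ℂ) (a : G) : ℝ :=
  avg R (fun g => ‖f g‖ ^ 2) a - ‖avg R f a‖ ^ 2

theorem var_eq_sum (R : G → Subgroup G) (f : G → ℂ) (a : G) [Fintype (R a)] :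
    var R f a = (Nat.card (R a) : ℝ)⁻¹ *
      ∑ u : R a, ‖f (a * u) - (Nat.card (R a) : ℂ)⁻¹ * ∑ w : R a, f (a * w)‖ ^ 2 := by
  have h := variance (fun u : R a => f (a * u))
  rw [var, avg_eq_sum, avg_eq_sum, Nat.card_eq_fintype_card, h]
  have h0 : (Fintype.card (R a) : ℝ) ≠ 0 := Nat.cast_ne_zero.2 Fintype.card_ne_zero
  field_simp
  ring

theorem var_nonneg [Finite G] (R : G → Subgroup G) (f : G → ℂ) (a : G) : 0 ≤ var R f a := by
  have := Fintype.ofFinite (R a)
  rw [var_eq_sum]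
  positivity

theorem gc_memI_sub [Finite G] {p : ℕ} {I : Ideal AlgInt} (hI : IsPModular p I) {θ : G → ℂ}
    (hθ : IsGeneralizedCharacter G θ) {g s : G} {k : ℕ} (h : g ^ p ^ k = s ^ p ^ k) :
    MemLocalIdeal I (θ g - θ s) := by
  obtain ⟨a, b, ha, hb, rfl⟩ := hθ
  have h1 := memI_sub hI (CentralChar.memI_sub_of_pow_eq hI ha h)
    (CentralChar.memI_sub_of_pow_eq hI hb h)
  convert h1 using 1
  simp only [Pi.sub_apply]
  ring

variable [Fintype G]

section Support

variable {A : Set G} {L : Subgroup G} {R : G → Subgroup G} [Fintype L]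

open scoped Classical in
theorem sum_norm_support (hD : DadeHypothesis A L R) {ψ : G → ℂ} (hψ : IsClassFunction G ψ) :
    (Nat.card G : ℝ)⁻¹ * ∑ g ∈ Finset.univ.filter (fun g => g ∈ Dade.support A R), ‖ψ g‖ ^ 2 =
      (Nat.card L : ℝ)⁻¹ * ∑ a ∈ Finset.univ.filter (fun a : L => (a : G) ∈ A),
        avg R (fun g => ‖ψ g‖ ^ 2) (a : G) := by
  let f : G → ℝ := fun g => if g ∈ Dade.support A R then ‖ψ g‖ ^ 2 else 0
  have key := Dade.sum_support hD f
    (fun g x => by simp only [f, Dade.mem_support_conj_iff, hψ g x])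
    (fun g hg => by simp only [f, if_neg hg])
  rw [Finset.sum_filter, key]
  congr 1
  refine Finset.sum_congr rfl fun a ha => ?_
  rw [avg_eq_sum]
  congr 1
  exact Finset.sum_congr rfl fun u _ => if_pos ⟨a, (Finset.mem_filter.1 ha).2, u, u.2, 1, by simp⟩

end Support

open scoped Classical in
/-- The norm of `ψ` bounds what two disjoint supports see. -/
theorem two_supports {A B : Set G} {L M : Subgroup G} {R S : G → Subgroup G} [Fintype L]
    [Fintype M] (hA : DadeHypothesis A L R) (hB : DadeHypothesis B M S) {ψ : G → ℂ}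
    (hψ : IsClassFunction G ψ) (h1 : classInner ψ ψ = 1)
    (hdis : ∀ g, g ∈ Dade.support A R → g ∉ Dade.support B S) :
    (Nat.card L : ℝ)⁻¹ * (∑ a ∈ Finset.univ.filter (fun a : L => (a : G) ∈ A),
        avg R (fun g => ‖ψ g‖ ^ 2) (a : G)) +
      (Nat.card M : ℝ)⁻¹ * (∑ a ∈ Finset.univ.filter (fun a : M => (a : G) ∈ B),
        avg S (fun g => ‖ψ g‖ ^ 2) (a : G)) ≤ 1 := by
  rw [← sum_norm_support hA hψ, ← sum_norm_support hB hψ, ← mul_add,
    ← Finset.sum_union (Finset.disjoint_left.2 fun g hg hg' =>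
      hdis g (Finset.mem_filter.1 hg).2 (Finset.mem_filter.1 hg').2)]
  have htot : (∑ g : G, ‖ψ g‖ ^ 2) = (Nat.card G : ℝ) := by
    apply Complex.ofReal_injective
    have h := card_mul_classInner ψ ψ
    rw [h1, mul_one] at h
    simp only [Complex.ofReal_sum, Complex.ofReal_pow, Complex.ofReal_natCast, ← Complex.mul_conj']
    exact h.symm
  have hG0 : (0 : ℝ) < Nat.card G := Nat.cast_pos.2 Nat.card_pos
  rw [inv_mul_le_iff₀ hG0, mul_one, ← htot]
  exact Finset.sum_le_univ_sum_of_nonneg fun g => by positivity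

open scoped Classical in
/-- The classes of the nonidentity powers of `y` are distinct and of size at least `|L| / |K|`. -/
theorem class_count {L : Subgroup G} [Fintype L] (K : Subgroup L) [K.Normal]
    {y : G} (hyL : y ∈ L) (hyK : (⟨y, hyL⟩ : L) ∈ K) {p : ℕ} (hp : p.Prime) (hy : orderOf y = p)
    (hNy : ∀ l ∈ L, l * y * l⁻¹ ∈ Subgroup.zpowers y → l * y = y * l)
    (hCy : ∀ l : L, (l : G) * y = y * l → l ∈ K)
    (v : G → ℝ) (hv : ∀ a, 0 ≤ v a)
    (hvc : ∀ a : L, a ∈ K → a ≠ 1 → ∀ x : L, v ((x : G) * a * (x : G)⁻¹) = v (a : G))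
    [Fintype (Subgroup.zpowers y)] :
    (K.index : ℝ) * ∑ z ∈ Finset.univ.erase (1 : Subgroup.zpowers y), v (z : G) ≤
      ∑ a ∈ Coherence.kSharp K, v (a : G) := by
  have hzL : ∀ z : Subgroup.zpowers y, (z : G) ∈ L := fun z => Subgroup.zpowers_le.2 hyL z.2
  let zL : Subgroup.zpowers y → L := fun z => ⟨z, hzL z⟩
  have hzK : ∀ z, zL z ∈ K := fun z => by
    obtain ⟨i, hi⟩ := Subgroup.mem_zpowers_iff.1 z.2
    rw [show zL z = (⟨y, hyL⟩ : L) ^ i from Subtype.ext (by simp [zL, hi])]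
    exact K.zpow_mem hyK i
  let π : L × Subgroup.zpowers y → L := fun q => q.1 * zL q.2 * q.1⁻¹
  set D : Finset (L × Subgroup.zpowers y) := Finset.univ ×ˢ Finset.univ.erase 1 with hD
  have hz1 : ∀ q ∈ D, zL q.2 ≠ 1 := fun q hq e => by
    simp only [hD, Finset.mem_product, Finset.mem_erase] at hq
    exact hq.2.1 (Subtype.ext (congrArg (fun t : L => (t : G)) e))
  have hmem : ∀ q ∈ D, π q ∈ Coherence.kSharp K := fun q hq => Coherence.mem_kSharp.2
    ⟨Subgroup.Normal.conj_mem inferInstance _ (hzK q.2) q.1,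
      fun e => hz1 q hq (conj_eq_one_iff.1 e)⟩
  -- generators
  have hgen : ∀ z : Subgroup.zpowers y, z ≠ 1 → y ∈ Subgroup.zpowers (z : G) := fun z hz => by
    have := Fact.mk hp
    have h := mem_zpowers_of_prime_card (G := Subgroup.zpowers y) (p := p)
      (by rw [Nat.card_zpowers, hy]) (g' := (⟨y, Subgroup.mem_zpowers y⟩ : Subgroup.zpowers y)) hz
    obtain ⟨i, hi⟩ := Subgroup.mem_zpowers_iff.1 h
    exact Subgroup.mem_zpowers_iff.2 ⟨i, by simpa using congrArg Subtype.val hi⟩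
  have hfib : ∀ q₀ ∈ D, (D.filter fun q => π q = π q₀).card ≤ Nat.card K := by
    intro q₀ hq₀
    have hkey : ∀ q ∈ D.filter (fun q => π q = π q₀),
        q₀.1⁻¹ * q.1 ∈ K ∧ q.2 = q₀.2 := by
      intro q hq
      obtain ⟨hqD, he⟩ := Finset.mem_filter.1 hq
      set m : L := q₀.1⁻¹ * q.1 with hm
      have hmz : (m : G) * (q.2 : G) * (m : G)⁻¹ = (q₀.2 : G) := by
        have e : ((π q : L) : G) = ((π q₀ : L) : G) := congrArg Subtype.val he
        simp only [π, zL, Subgroup.coe_mul, InvMemClass.coe_inv] at e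
        simp only [hm, Subgroup.coe_mul, InvMemClass.coe_inv]
        calc _ = (q₀.1 : G)⁻¹ * ((q.1 : G) * (q.2 : G) * (q.1 : G)⁻¹) * (q₀.1 : G) := by group
          _ = _ := by rw [e]; group
      have hq2 : q.2 ≠ 1 := fun e => hz1 q hqD (by simp [zL, e])
      obtain ⟨i, hi⟩ := Subgroup.mem_zpowers_iff.1 (hgen q.2 hq2)
      have hmy : (m : G) * y * (m : G)⁻¹ ∈ Subgroup.zpowers y := by
        rw [← hi, ← conj_zpow, hmz]
        exact Subgroup.zpow_mem _ (hi.symm ▸ q₀.2.2) i
      have hc := hNy m m.2 hmy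
      refine ⟨hCy m hc, Subtype.ext ?_⟩
      obtain ⟨j, hj⟩ := Subgroup.mem_zpowers_iff.1 q.2.2
      rw [← hmz, ← hj, ← conj_zpow, hc, mul_inv_cancel_right]
    refine (Finset.card_le_card_of_injOn (fun q => q₀.1⁻¹ * q.1)
      (t := Finset.univ.filter fun a : L => a ∈ K)
      (fun q hq => Finset.mem_filter.2 ⟨Finset.mem_univ _, (hkey q hq).1⟩) ?_).trans ?_
    · intro q hq q' hq' e
      exact Prod.ext (mul_left_cancel e) ((hkey q hq).2.trans (hkey q' hq').2.symm)
    · rw [← Fintype.card_subtype, ← Nat.card_eq_fintype_card]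
  have hsum : ∑ q ∈ D, v (π q : G) =
      (Nat.card L : ℝ) * ∑ z ∈ Finset.univ.erase (1 : Subgroup.zpowers y), v (z : G) := by
    rw [hD, Finset.sum_product, Finset.sum_congr rfl (g := fun _ : L =>
      ∑ z ∈ Finset.univ.erase (1 : Subgroup.zpowers y), v (z : G)) fun l _ =>
        Finset.sum_congr rfl fun z hz => ?_]
    · rw [Finset.sum_const, Finset.card_univ, nsmul_eq_mul, Nat.card_eq_fintype_card]
    · have := hvc (zL z) (hzK z) (fun e => (Finset.mem_erase.1 hz).1
        (Subtype.ext (congrArg (fun t : L => (t : G)) e))) l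
      simpa [π, zL] using this
  have hle : ∑ q ∈ D, v (π q : G) ≤ (Nat.card K : ℝ) * ∑ a ∈ Coherence.kSharp K, v (a : G) := by
    rw [← Finset.sum_fiberwise_of_maps_to hmem, Finset.mul_sum]
    refine Finset.sum_le_sum fun a _ => ?_
    rw [Finset.sum_congr rfl (g := fun _ => v (a : G)) (fun q hq => by
      rw [(Finset.mem_filter.1 hq).2]), Finset.sum_const, nsmul_eq_mul]
    refine mul_le_mul_of_nonneg_right ?_ (hv _)
    rcases (D.filter fun q => π q = a).eq_empty_or_nonempty with h | ⟨q₀, hq₀⟩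
    · simp [h]
    · obtain ⟨h1, h2⟩ := Finset.mem_filter.1 hq₀
      rw [← h2]
      exact_mod_cast hfib q₀ h1
  rw [hsum, ← K.card_mul_index, Nat.cast_mul, mul_assoc] at hle
  exact le_of_mul_le_mul_left hle (Nat.cast_pos.2 Nat.card_pos)

end Cfsg.Agent.Peterfalvi.Sec12
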