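import Cfsg.Agent.Lib.OddOrder.Sec16
import Cfsg.Agent.S1497

/-!
# Peterfalvi section 8: the sets `A₁(M)`, `A(M)`, `A₀(M)` and the Dade hypothesis (owner: helper34)

The frozen `typeA`, `typeA0` branch on the frozen `IsOfTypeI`, which is not locally provable
(erratum of BG 15.7).  The character theoretic chain uses instead the sets below, defined from the
sigma decompositions, modulo `OddMax.Sec16Facts`.

* `coreA1`, `coreA`, `coreA0`; `coreA_eq`, `coreA0_eq`
* `normalizer_core_eq`, `supportR_facts`, `dade_hypothesis`, `centralizer_le_of_typeP2`, `typeP2_ti`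
-/

set_option autoImplicit false

namespace Cfsg.Agent.Peterfalvi

open scoped Pointwise commutatorElement
open Cfsg OddMax

universe u

section Defs

variable {G : Type u} [Group G]

/-- `A₁(M) = M_σ ∖ 1`. -/
def coreA1 (M : Subgroup G) : Set G := (sigmaCore M : Set G) \ {1}

/-- `A(M)`. -/
def coreA (M : Subgroup G) : Set G :=
  {a | ∃ K U : Subgroup G, IsSigmaDecomposition M K U ∧ a ∈ sigmaA M U \ {1}}

/-- The conjugates in `M` of the elements of `K K* ∖ (K ∪ K*)`. -/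
def coreHat (M : Subgroup G) : Set G :=
  {v | ∃ K U : Subgroup G, IsSigmaDecomposition M K U ∧ K ≠ ⊥ ∧
    ∃ m ∈ M, ∃ w ∈ hatZ M K, v = m * w * m⁻¹}

/-- `A₀(M)`. -/
def coreA0 (M : Subgroup G) : Set G := coreA M ∪ coreHat M

theorem conj_mem_of_le_normalizer {M N : Subgroup G} (h : M ≤ Subgroup.normalizer (N : Set G))
    {m x : G} (hm : m ∈ M) (hx : x ∈ N) : m * x * m⁻¹ ∈ N :=
  (Subgroup.mem_normalizer_iff.1 (h hm) x).1 hx

theorem comm_conj {x y m : G} (h : x * y = y * x) :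
    (m * x * m⁻¹) * (m * y * m⁻¹) = (m * y * m⁻¹) * (m * x * m⁻¹) := by
  calc (m * x * m⁻¹) * (m * y * m⁻¹) = m * (x * y) * m⁻¹ := by group
    _ = m * (y * x) * m⁻¹ := by rw [h]
    _ = _ := by group

end Defs

variable {G : Type u} [Group G] [Finite G] (hG : IsMinSimpleOddOrder G) (F : Sec16Facts G)
  {M : Subgroup G} (hM : IsCoatom M)
include hG F hM

omit F in
/-- A nonempty invariant subset of a maximal subgroup not consisting of `1` has normaliser `M`. -/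
theorem normalizer_set_eq {A : Set G} (hAM : A ⊆ M) (hinv : ∀ m ∈ M, ∀ a ∈ A, m * a * m⁻¹ ∈ A)
    {a : G} (ha : a ∈ A) (ha1 : a ≠ 1) : Subgroup.normalizer A = M := by
  refine ((le_set_normalizer hinv).eq_or_lt).elim Eq.symm fun h => absurd (hM.2 _ h) fun htop => ?_
  have hcl : Subgroup.closure A ≤ M := (Subgroup.closure_le M).2 hAM
  refine OddSigma.normalizer_ne_top hG (H := Subgroup.closure A) (fun e => ha1 ?_)
    (fun e => hM.1 (top_le_iff.1 (e ▸ hcl)))
    (top_le_iff.1 (htop ▸ normalizer_set_le_normalizer_closure A))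
  have := Subgroup.subset_closure (k := A) ha
  rwa [e, SetLike.mem_coe, Subgroup.mem_bot] at this

section Decomp

variable {K U : Subgroup G} (hKU : IsSigmaDecomposition M K U)
include hKU

/-- `U M_σ` does not depend on the decomposition. -/
theorem sup_eq_sup {K' U' : Subgroup G} (hKU' : IsSigmaDecomposition M K' U') :
    U' ⊔ sigmaCore M = U ⊔ sigmaCore M := by
  by_cases hK : K = ⊥
  · have hK' : K' = ⊥ := (kappa_empty_iff hKU').1 ((kappa_empty_iff hKU).2 hK)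
    subst hK
    subst hK'
    exact (compl_eq_sup (compl_of_kappa_empty hKU')).trans
      (compl_eq_sup (compl_of_kappa_empty hKU)).symm
  · have hK' : K' ≠ ⊥ := fun h => hK ((kappa_empty_iff hKU).1 ((kappa_empty_iff hKU').2 h))
    rw [← (kappa_basic hG F hM hKU' hK').1, (kappa_basic hG F hM hKU hK).1]

theorem coreA_eq : coreA M = sigmaA M U \ {1} := by
  ext a
  refine ⟨?_, fun h => ⟨K, U, hKU, h⟩⟩
  rintro ⟨K', U', hKU', h⟩
  rw [sigmaA, sup_eq_sup hG F hM hKU hKU'] at h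
  exact h

omit hG F in
/-- The Hall subgroups `K` are conjugate in `M`. -/
theorem exists_conj_K (hG : IsMinSimpleOddOrder G) {K' U' : Subgroup G}
    (hKU' : IsSigmaDecomposition M K' U') : ∃ m ∈ M, K' = MulAut.conj m • K := by
  have : Group.IsSolvable M := OddSigma.proper_solvable hG hM.1
  obtain ⟨⟨m, hm⟩, hle⟩ := Solvable.exists_conj_ge_of_solvable
    (Solvable.isPiHall_subgroupOf hKU.hall) (U := K'.subgroupOf M) (fun p hp hd => by
      rw [Cores.card_subgroupOf hKU'.hall.1] at hd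
      exact hKU'.hall.2.1 p hp hd)
  obtain ⟨⟨m', hm'⟩, hle'⟩ := Solvable.exists_conj_ge_of_solvable
    (Solvable.isPiHall_subgroupOf hKU'.hall) (U := K.subgroupOf M) (fun p hp hd => by
      rw [Cores.card_subgroupOf hKU.hall.1] at hd
      exact hKU.hall.2.1 p hp hd)
  refine ⟨m, hm, Subgroup.eq_of_le_of_card_ge (fun w hw => ?_) ?_⟩
  · have h0 := Coprime.mem_conj.1 (hle (show (⟨w, hKU'.hall.1 hw⟩ : M) ∈ K'.subgroupOf M from hw))
    exact Coprime.mem_conj.2 h0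
  rw [Coprime.card_conj, ← Coprime.card_conj m' K']
  refine Subgroup.card_le_of_le fun w hw => ?_
  have h0 := Coprime.mem_conj.1 (hle' (show (⟨w, hKU.hall.1 hw⟩ : M) ∈ K.subgroupOf M from hw))
  exact Coprime.mem_conj.2 h0

theorem coreHat_eq (hK : K ≠ ⊥) :
    coreHat M = {v | ∃ m ∈ M, ∃ w ∈ hatZ M K, v = m * w * m⁻¹} := by
  ext v
  refine ⟨?_, fun ⟨m, hm, w, hw, hv⟩ => ⟨K, U, hKU, hK, m, hm, w, hw, hv⟩⟩
  rintro ⟨K', U', hKU', -, m, hm, w, hw, rfl⟩
  obtain ⟨n, hn, rfl⟩ := exists_conj_K hM hKU hG hKU'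
  have hs : MulAut.conj n • (sigmaCore M ⊓ Subgroup.centralizer (K : Set G)) =
      sigmaCore M ⊓ Subgroup.centralizer ((MulAut.conj n • K : Subgroup G) : Set G) := by
    rw [Subgroup.smul_inf, Coprime.conj_eq_of_mem_normalizer (le_normalizer_sigmaCore M hn)]
    congr 1
    ext y
    rw [Coprime.mem_conj, Subgroup.mem_centralizer_iff, Subgroup.mem_centralizer_iff]
    constructor
    · intro h k hk
      have e := h _ (Coprime.mem_conj.1 hk)
      calc k * y = n * (n⁻¹ * k * n * (n⁻¹ * y * n)) * n⁻¹ := by group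
        _ = n * (n⁻¹ * y * n * (n⁻¹ * k * n)) * n⁻¹ := by rw [e]
        _ = y * k := by group
    · intro h k hk
      have e := h (n * k * n⁻¹) (Coprime.conj_mem_conj.2 hk)
      calc k * (n⁻¹ * y * n) = n⁻¹ * (n * k * n⁻¹ * y) * n := by group
        _ = n⁻¹ * (y * (n * k * n⁻¹)) * n := by rw [e]
        _ = n⁻¹ * y * n * k := by group
  obtain ⟨hw1, hw2⟩ := hw
  rw [← hs, ← Subgroup.smul_sup] at hw1
  rw [← hs] at hw2
  refine ⟨m * n, M.mul_mem hm hn, n⁻¹ * w * n, ⟨Coprime.mem_conj.1 hw1, ?_⟩, by group⟩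
  rintro (h | h)
  · exact hw2 (Or.inl (Coprime.mem_conj.2 h))
  · exact hw2 (Or.inr (Coprime.mem_conj.2 h))

/-- The three kinds of elements of `A₀(M)`. -/
theorem coreA0_classes {v : G} (hv : v ∈ coreA0 M) :
    v ∈ M ∧ v ≠ 1 ∧ (v ∈ sigmaCore M ∨ (v ∈ sigmaA M U ∧ v ∉ sigmaCore M) ∨
      (K ≠ ⊥ ∧ ∃ m ∈ M, ∃ w ∈ hatZ M K, v = m * w * m⁻¹)) := by
  rcases hv with hv | hv
  · rw [coreA_eq hG F hM hKU] at hv
    refine ⟨hv.1.1.1, hv.2, ?_⟩
    by_cases h : v ∈ sigmaCore M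
    · exact Or.inl h
    · exact Or.inr (Or.inl ⟨hv.1, h⟩)
  · have hK : K ≠ ⊥ := by
      obtain ⟨K', U', hKU', hK', -⟩ := hv
      exact fun h => hK' ((kappa_empty_iff hKU').1 ((kappa_empty_iff hKU).2 h))
    rw [coreHat_eq hG F hM hKU hK] at hv
    obtain ⟨m, hm, w, hw, rfl⟩ := hv
    obtain ⟨hwM, -, hwN, -⟩ := hat_facts hG F hM hKU hK hw
    refine ⟨M.mul_mem (M.mul_mem hm hwM) (M.inv_mem hm), fun e => hwN ?_,
      Or.inr (Or.inr ⟨hK, m, hm, w, hw, rfl⟩)⟩
    rw [conj_eq_one_iff.1 e]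
    exact one_mem _

theorem core_centralizer_le_or_mem {v : G} (hv : v ∈ coreA0 M) :
    Subgroup.centralizer ({v} : Set G) ≤ M ∨ v ∈ sigmaCore M := by
  obtain ⟨-, -, h⟩ := coreA0_classes hG F hM hKU hv
  rcases h with h | ⟨h1, h2⟩ | ⟨hK, m, hm, w, hw, rfl⟩
  · exact Or.inr h
  · exact Or.inl (centralizer_le_of_sigmaA hG F hM hKU h1 h2).1
  · refine Or.inl ?_
    rw [centralizer_conj, ← Solvable.conj_eq_self hm]
    exact (conj_le_conj m).2 (hat_facts hG F hM hKU hK hw).2.1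

/-- Fusion in `A₀(M)`. -/
theorem fusion_coreA0 {x g : G} (hx : x ∈ coreA0 M) (hy : g * x * g⁻¹ ∈ coreA0 M) :
    ∃ m ∈ M, m * x * m⁻¹ = g * x * g⁻¹ := by
  obtain ⟨hxM, hx1, hxc⟩ := coreA0_classes hG F hM hKU hx
  obtain ⟨hyM, hy1, hyc⟩ := coreA0_classes hG F hM hKU hy
  by_cases hxs : x ∈ sigmaCore M
  · exact exists_fusion hG F.toSigFacts hM hxs hx1 hyM
  by_cases hys : g * x * g⁻¹ ∈ sigmaCore M
  · obtain ⟨m, hm, he⟩ := exists_fusion hG F.toSigFacts hM hys hy1 (g := g⁻¹)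
      (by rw [show g⁻¹ * (g * x * g⁻¹) * g⁻¹⁻¹ = x by group]; exact hxM)
    refine ⟨m⁻¹, M.inv_mem hm, ?_⟩
    have h2 : m * (g * x * g⁻¹) * m⁻¹ = x := he.trans (by group)
    calc m⁻¹ * x * m⁻¹⁻¹ = m⁻¹ * (m * (g * x * g⁻¹) * m⁻¹) * m := by rw [h2, inv_inv]
      _ = g * x * g⁻¹ := by group
  -- only the classes outside `M_σ` are left
  have hnorm := sup_sigmaCore_normal F hM hKU
  have horder : ∀ a b : G, b ∈ M → orderOf b = orderOf a → a ∈ U ⊔ sigmaCore M →
      b ∈ U ⊔ sigmaCore M := fun a b hb he ha =>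
    mem_of_coprime_relIndex hnorm hb (by
      rw [U_relIndex hKU, he]
      exact (sup_sigmaCore_coprime F hM hKU).coprime_dvd_left
        (Subgroup.orderOf_dvd_natCard _ ha))
  have hord : orderOf (g * x * g⁻¹) = orderOf x := by
    simpa using orderOf_injective (MulAut.conj g).toMonoidHom (MulAut.conj g).injective x
  rcases hxc.resolve_left hxs with ⟨hxA, -⟩ | ⟨hK, m, hm, w, hw, rfl⟩
  · rcases hyc.resolve_left hys with ⟨hyA, -⟩ | ⟨hK, n, hn, v, hv, hyv⟩
    · refine ⟨g, ?_, rfl⟩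
      set S := sigmaA M U \ (sigmaCore M : Set G) with hS
      have hMS : ∀ k ∈ M, ∀ a ∈ S, k * a * k⁻¹ ∈ S := by
        intro k hk a ha
        obtain ⟨-, z, hz, hz1, hc⟩ := ha.1.1
        exact ⟨⟨⟨M.mul_mem (M.mul_mem hk ha.1.1.1) (M.inv_mem hk), k * z * k⁻¹,
          conj_mem_of_le_normalizer (le_normalizer_sigmaCore M) hk hz,
          fun e => hz1 (conj_eq_one_iff.1 e), comm_conj hc⟩,
          conj_mem_of_le_normalizer hnorm hk ha.1.2⟩,
          fun h => ha.2 ((Subgroup.mem_normalizer_iff.1 (le_normalizer_sigmaCore M hk) a).2 h)⟩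
      have hgN : g ∈ Subgroup.normalizer S := by
        by_contra hg'
        exact hx1 (F.s1362 M hM K U hKU g hg' x ⟨hxA, hxs⟩ ⟨hyA, hys⟩)
      rwa [normalizer_set_eq hG hM (fun a ha => ha.1.1.1) hMS ⟨hxA, hxs⟩ hx1] at hgN
    · exfalso
      obtain ⟨hvM, -, hvN, -⟩ := hat_facts hG F hM hKU hK hv
      refine hvN ?_
      have h1 := conj_mem_of_le_normalizer hnorm (M.inv_mem hn) (horder x _ hyM hord hxA.2)
      rw [hyv, show n⁻¹ * (n * v * n⁻¹) * n⁻¹⁻¹ = v by group] at h1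
      exact h1
  · obtain ⟨hwM, -, hwN, hwg⟩ := hat_facts hG F hM hKU hK hw
    rcases hyc.resolve_left hys with ⟨hyA, -⟩ | ⟨-, n, hn, v, hv, hyv⟩
    · exfalso
      refine hwN ?_
      have h1 := conj_mem_of_le_normalizer hnorm (M.inv_mem hm) (horder _ _ hxM hord.symm hyA.2)
      rw [show m⁻¹ * (m * w * m⁻¹) * m⁻¹⁻¹ = w by group] at h1
      exact h1
    · refine ⟨g, ?_, rfl⟩
      have h1 : n⁻¹ * g * m ∈ M := by
        refine hwg _ ?_
        rw [show n⁻¹ * g * m * w * (n⁻¹ * g * m)⁻¹ = n⁻¹ * (g * (m * w * m⁻¹) * g⁻¹) * n by group,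
          hyv, show n⁻¹ * (n * v * n⁻¹) * n = v by group]
        exact hv
      have h2 := M.mul_mem (M.mul_mem hn h1) (M.inv_mem hm)
      rwa [show n * (n⁻¹ * g * m) * m⁻¹ = g by group] at h2

end Decomp

theorem conj_mem_coreA {m a : G} (hm : m ∈ M) (ha : a ∈ coreA M) : m * a * m⁻¹ ∈ coreA M := by
  obtain ⟨K, U, hKU, ⟨⟨haM, y, hy, hy1, hc⟩, haN⟩, ha1⟩ := ha
  exact ⟨K, U, hKU, ⟨⟨M.mul_mem (M.mul_mem hm haM) (M.inv_mem hm), m * y * m⁻¹,
    conj_mem_of_le_normalizer (le_normalizer_sigmaCore M) hm hy,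
    fun e => hy1 (conj_eq_one_iff.1 e), comm_conj hc⟩,
    conj_mem_of_le_normalizer (sup_sigmaCore_normal F hM hKU) hm haN⟩,
    fun e => ha1 (conj_eq_one_iff.1 e)⟩

theorem coreA1_subset_coreA : coreA1 M ⊆ coreA M := by
  obtain ⟨K, U, hKU⟩ := exists_decomp F.toSec15Facts hM
  rintro x ⟨hx, hx1⟩
  exact ⟨K, U, hKU, ⟨⟨sigmaCore_le M hx, x, hx, hx1, rfl⟩, Subgroup.mem_sup_right hx⟩, hx1⟩

theorem coreA0_facts {a : G} (ha : a ∈ coreA0 M) : a ∈ M ∧ a ≠ 1 := by
  obtain ⟨K, U, hKU⟩ := exists_decomp F.toSec15Facts hM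
  obtain ⟨h1, h2, -⟩ := coreA0_classes hG F hM hKU ha
  exact ⟨h1, h2⟩

theorem coreSet_facts {A : Set G} (hA : A = coreA1 M ∨ A = coreA M ∨ A = coreA0 M) :
    A ⊆ coreA0 M ∧ coreA1 M ⊆ A ∧ ∀ m ∈ M, ∀ a ∈ A, m * a * m⁻¹ ∈ A := by
  have h1 := coreA1_subset_coreA hG F hM
  rcases hA with rfl | rfl | rfl
  · refine ⟨fun a ha => Or.inl (h1 ha), subset_rfl, fun m hm a ha => ?_⟩
    exact ⟨conj_mem_of_le_normalizer (le_normalizer_sigmaCore M) hm ha.1,
      fun e => ha.2 (conj_eq_one_iff.1 e)⟩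
  · exact ⟨fun a ha => Or.inl ha, h1, fun m hm a ha => conj_mem_coreA hG F hM hm ha⟩
  · refine ⟨subset_rfl, fun a ha => Or.inl (h1 ha), fun m hm a ha => ?_⟩
    rcases ha with ha | ⟨K, U, hKU, hK, n, hn, w, hw, rfl⟩
    · exact Or.inl (conj_mem_coreA hG F hM hm ha)
    · exact Or.inr ⟨K, U, hKU, hK, m * n, M.mul_mem hm hn, w, hw, by group⟩

theorem exists_mem_coreA1 : ∃ a, a ∈ coreA1 M := by
  obtain ⟨K, U, hKU⟩ := exists_decomp F.toSec15Facts hM
  obtain ⟨a, ha, ha1⟩ := (sigmaCore M).bot_or_exists_ne_one.resolve_left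
    (sigmaCore_ne_bot F.toSec15Facts hM hKU)
  exact ⟨a, ha, ha1⟩

theorem normalizer_core_eq {A : Set G} (hA : A = coreA1 M ∨ A = coreA M ∨ A = coreA0 M) :
    Subgroup.normalizer A = M := by
  obtain ⟨hA0, hA1, hinv⟩ := coreSet_facts hG F hM hA
  obtain ⟨a, ha⟩ := exists_mem_coreA1 hG F hM
  exact normalizer_set_eq hG hM (fun x hx => (coreA0_facts hG F hM (hA0 hx)).1) hinv (hA1 ha)
    (coreA0_facts hG F hM (hA0 (hA1 ha))).2

/-- For `a ∈ A₀(M)`, the subgroup `R(a)` is a normal complement of `C_M(a)` in `C(a)`. -/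
theorem supportR_facts {a : G} (ha : a ∈ coreA0 M) :
    IsComplIn (M ⊓ Subgroup.centralizer ({a} : Set G)) (supportR M a)
        (Subgroup.centralizer ({a} : Set G)) ∧
      Subgroup.centralizer ({a} : Set G) ≤ Subgroup.normalizer (supportR M a : Set G) ∧
      (supportR M a = ⊥ ∨ ∃ L, ¬ Subgroup.centralizer ({a} : Set G) ≤ M ∧ a ∈ sigmaCore M ∧
        IsSignalizer M a L ∧
        supportR M a = sigmaCore L ⊓ Subgroup.centralizer ({a} : Set G)) := by
  obtain ⟨K, U, hKU⟩ := exists_decomp F.toSec15Facts hM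
  by_cases hC : Subgroup.centralizer ({a} : Set G) ≤ M
  · rw [supportR_eq_bot hC]
    refine ⟨⟨inf_le_right, bot_le, inf_bot_eq _,
      fun c hc => ⟨c, ⟨hC hc, hc⟩, 1, one_mem _, (mul_one c).symm⟩⟩, ?_, Or.inl rfl⟩
    rw [Subgroup.normalizer_eq_top_iff.2 (inferInstance : (⊥ : Subgroup G).Normal)]
    exact le_top
  · have hs : a ∈ sigmaCore M :=
      (core_centralizer_le_or_mem hG F hM hKU ha).resolve_left hC
    have ha1 := (coreA0_facts hG F hM ha).2
    obtain ⟨N, hN⟩ := exists_signalizer hG F.toSigFacts hM hs ha1 hC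
    have hR := supportR_eq hG F.toSigFacts hM hs ha1 hN hC
    refine ⟨isComplIn_supportR hG F.toSigFacts hM hs ha1, ?_, Or.inr ⟨N, hC, hs, hN, hR⟩⟩
    rw [hR]
    exact hN.normal

/-- The order of the core of a supporting subgroup is prime to `|C_M(b)|`, `b ∈ A₀(M)`. -/
theorem coprime_support {a : G} (ha : a ∈ sigmaCore M) (ha1 : a ≠ 1)
    (hC : ¬ Subgroup.centralizer ({a} : Set G) ≤ M) {L : Subgroup G} (hN : IsSignalizer M a L)
    {b : G} (hb : b ∈ coreA0 M) :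
    (Nat.card (sigmaCore L)).Coprime (Nat.card ↥(M ⊓ Subgroup.centralizer ({b} : Set G))) := by
  obtain ⟨K, U, hKU⟩ := exists_decomp F.toSec15Facts hM
  refine Nat.coprime_of_dvd fun t ht h1 h2 => ?_
  have htN := sigmaCore_pi L t ht h1
  have htM : t ∣ Nat.card M := h2.trans (Subgroup.card_dvd_of_le inf_le_left)
  obtain ⟨hκ, hτ⟩ := F.s1436 M hM a ha ha1 hC L hN.coatom hN.le ⟨t, htN, htM⟩
  obtain ⟨-, hb1, hbc⟩ := coreA0_classes hG F hM hKU hb
  have hbs : b ∈ sigmaCore M := by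
    rcases hbc with h | ⟨h1, h2⟩ | ⟨hK, -⟩
    · exact h
    · obtain ⟨-, p, hp⟩ := centralizer_le_of_sigmaA hG F hM hKU h1 h2
      rw [hτ] at hp
      exact absurd hp (Set.notMem_empty p)
    · exact absurd ((kappa_empty_iff hKU).1 hκ) hK
  have htσ : t ∈ sigma M := by
    have := Fact.mk ht
    by_contra htσ
    obtain ⟨⟨c, hc⟩, hco⟩ := exists_prime_orderOf_dvd_card' t h2
    rw [Subgroup.orderOf_mk] at hco
    have hcσ : ∀ q : ℕ, q.Prime → q ∣ orderOf c → q ∉ sigma M := fun q hq hd => by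
      rw [hco] at hd
      rwa [(Nat.prime_dvd_prime_iff_eq hq ht).1 hd]
    have hc1 : c ≠ 1 := fun e => ht.one_lt.ne (by rw [← hco, e, orderOf_one])
    rcases F.s1432 M hM b hbs hb1 c hc hc1 hcσ with ⟨h, -⟩ | ⟨h, -⟩
    · have h3 := h t ht (dvd_of_eq hco.symm)
      rw [hκ] at h3
      exact h3
    · have h3 := h t ht (dvd_of_eq hco.symm)
      rw [hτ] at h3
      exact h3
  obtain ⟨g, hg⟩ := F.sigma_disj M L hM hN.coatom ⟨t, htσ, htN⟩
  exact hN.not_conj g hg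

/-- Peterfalvi (8.15): the Dade hypothesis. -/
theorem dade_hypothesis {A : Set G} (hA : A = coreA1 M ∨ A = coreA M ∨ A = coreA0 M) :
    DadeHypothesis A M (supportR M) := by
  obtain ⟨K, U, hKU⟩ := exists_decomp F.toSec15Facts hM
  obtain ⟨hA0, -, hinv⟩ := coreSet_facts hG F hM hA
  constructor
  · exact fun h => (coreA0_facts hG F hM (hA0 h)).2 rfl
  · exact fun a ha => (coreA0_facts hG F hM (hA0 ha)).1
  · exact fun x hx a ha => hinv x hx a ha
  · exact fun a ha g hg => fusion_coreA0 hG F hM hKU (hA0 ha) (hA0 hg)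
  · exact fun a _ => supportR_le_centralizer M a
  · intro a ha c hc u hu
    exact (Subgroup.mem_normalizer_iff.1 ((supportR_facts hG F hM (hA0 ha)).2.1 hc) u).1 hu
  · intro a ha
    rw [inf_comm]
    exact (supportR_facts hG F hM (hA0 ha)).1.2.2.1
  · intro a ha
    refine le_antisymm (sup_le (supportR_le_centralizer M a) inf_le_right) fun c hc => ?_
    obtain ⟨x, hx, r, hr, rfl⟩ := (supportR_facts hG F hM (hA0 ha)).1.2.2.2 c hc
    exact Subgroup.mul_mem _ (Subgroup.mem_sup_right hx) (Subgroup.mem_sup_left hr)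
  · intro a ha b hb
    obtain h | ⟨L, hC, hs, hN, hR⟩ := (supportR_facts hG F hM (hA0 ha)).2.2
    · rw [h, Subgroup.card_bot]
      exact Nat.coprime_one_left _
    · rw [hR]
      exact Nat.Coprime.coprime_dvd_left (Subgroup.card_dvd_of_le inf_le_left)
        (coprime_support hG F hM hs (coreA0_facts hG F hM (hA0 ha)).2 hC hN (hA0 hb))

/-- For `κ(M) ≠ ∅` and `U ≠ 1` (Type II) the centralisers of the elements of `A₀(M)` lie in `M`. -/
theorem centralizer_le_of_typeP2 {K U : Subgroup G} (hKU : IsSigmaDecomposition M K U) (hK : K ≠ ⊥)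
    (hU : U ≠ ⊥) {a : G} (ha : a ∈ coreA0 M) : Subgroup.centralizer ({a} : Set G) ≤ M := by
  obtain ⟨-, hTI, hsF⟩ := type_p2_facts hG F.toSec15Facts hM F.fittingTI hKU hK hU
  rcases core_centralizer_le_or_mem hG F hM hKU ha with h | hs
  · exact h
  intro c hc
  have ha1 := (coreA0_facts hG F hM ha).2
  have hN : Subgroup.normalizer (fittingOf M : Set G) = M :=
    normalizer_set_eq hG hM (fittingOf_le M)
      (fun m hm x hx => conj_mem_of_le_normalizer (le_normalizer_fittingOf M) hm hx) (hsF hs) ha1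
  rw [← hN]
  by_contra hcN
  refine ha1 (hTI c hcN a (hsF hs) ?_)
  rw [show c * a * c⁻¹ = a by rw [Subgroup.mem_centralizer_singleton_iff.1 hc]; group]
  exact hsF hs

/-- Peterfalvi (8.5): for Type II the three sets are trivial-intersection sets. -/
theorem typeP2_ti {K U : Subgroup G} (hKU : IsSigmaDecomposition M K U) (hK : K ≠ ⊥) (hU : U ≠ ⊥)
    {A : Set G} (hA : A = coreA1 M ∨ A = coreA M ∨ A = coreA0 M) :
    IsTISubset A ∧ Subgroup.normalizer A = M := by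
  obtain ⟨hA0, hA1, -⟩ := coreSet_facts hG F hM hA
  obtain ⟨a, ha⟩ := exists_mem_coreA1 hG F hM
  have hD := dade_hypothesis hG F hM hA
  have hR : ∀ b ∈ A, supportR M b = ⊥ := fun b hb =>
    supportR_eq_bot (centralizer_le_of_typeP2 hG F hM hKU hK hU (hA0 hb))
  refine (S1497.result A ⟨a, hA1 ha⟩ hD.one_not_mem M).2
    ⟨hD.one_not_mem, hD.subset, hD.conj_mem, hD.fusion, fun b hb => bot_le,
      fun b hb c hc u hu => ?_, fun b hb => bot_inf_eq _, fun b hb => ?_, fun b hb b' hb' => ?_⟩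
  · rw [Subgroup.mem_bot] at hu ⊢
    simp [hu]
  · have h := hD.sup_eq b hb
    rwa [hR b hb] at h
  · simp

end Cfsg.Agent.Peterfalvi
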