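import Cfsg.Agent.Lib.OddOrder.Covering
import Cfsg.Agent.Lib.Coprime.Generation
import Cfsg.Agent.Lib.Frobenius.Structure
import Cfsg.Agent.Lib.Peterfalvi.Sec8
import Mathlib.GroupTheory.FiniteAbelian.Duality

/-!
# Group-theoretic preparation for the theorem that maximal subgroups of Type I are Frobenius groups

* `exists_elem_tau2`, `elem_of_commute`, `commute_tau2`
* `Witness`, `exists_witness`, `Partner`, `exists_partner`
* `two_mul_card_le` : a group of odd order acting freely on a plane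
* `exists_invariant_linear` : an invariant linear character
-/

set_option autoImplicit false
set_option linter.unusedSectionVars false

namespace Cfsg.Agent.Peterfalvi.Sec12

open scoped Pointwise commutatorElement
open Cfsg OddMax

universe u

variable {G : Type u} [Group G]

/-- A prime `p` of `τ₂(M)`, `κ(M) = ∅`, with an element of order `p` centralising a nonidentity
element of `M_σ`. -/
def Witness (G : Type u) [Group G] (p : ℕ) : Prop :=
  ∃ M : Subgroup G, IsCoatom M ∧ kappa M = ∅ ∧ p ∈ tau2 M ∧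
    ∃ x ∈ sigmaCore M, x ≠ 1 ∧ ∃ t ∈ M, orderOf t = p ∧ t * x = x * t

/-- The configuration attached to a witness. -/
structure Partner (M L A : Subgroup G) (p : ℕ) (y : G) : Prop where
  coatom : IsCoatom M
  kappa_empty : kappa M = ∅
  tau2 : p ∈ Cfsg.tau2 M
  le : A ≤ M
  elem : IsElementaryAbelian p A
  card : Nat.card A = p ^ 2
  coatom' : IsCoatom L
  sigma : p ∈ Cfsg.sigma L
  le' : A ≤ sigmaCore L
  mem : y ∈ A
  ne_one : y ≠ 1
  centralizer_le : Subgroup.centralizer ({y} : Set G) ≤ M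
  unique : ∀ N : Subgroup G, IsCoatom N → Subgroup.centralizer ({y} : Set G) ≤ N → N = M
  not_le : ¬ Subgroup.centralizer ({y} : Set G) ≤ L
  not_derived : ¬ sigmaCore M ⊓ Subgroup.centralizer ({y} : Set G) ≤ ⁅sigmaCore M, sigmaCore M⁆

theorem orderOf_eq_of_pow {p : ℕ} (hp : p.Prime) {x : G} (h : x ^ p = 1) (h1 : x ≠ 1) :
    orderOf x = p :=
  ((Nat.dvd_prime hp).1 (orderOf_dvd_of_pow_eq_one h)).resolve_left
    fun e => h1 (orderOf_eq_one_iff.1 e)

variable [Finite G]

section Tau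

variable (hG : IsMinSimpleOddOrder G) (F : Sec16Facts G) {M : Subgroup G} (hM : IsCoatom M)
  {p : ℕ} [hp : Fact p.Prime] (hτ : p ∈ tau2 M)
include hG F hM hτ

omit hG in
/-- An element of order `p ∈ τ₂(M)` lies in an elementary abelian subgroup of order `p²`. -/
theorem exists_elem_tau2 {t : G} (ht : t ∈ M) (hto : orderOf t = p) :
    ∃ A : Subgroup G, A ≤ M ∧ IsElementaryAbelian p A ∧ Nat.card A = p ^ 2 ∧ t ∈ A := by
  obtain ⟨E, hEM, hE, hEc⟩ := OddSigma.exists_elementary hτ.2.2.2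
  have hEp : IsPGroup p E := Signalizer.isPGroup_of_elemAb hE
  have hEc' : Nat.card E = p ^ 2 := by
    refine le_antisymm ?_ (by simpa using hEc)
    by_contra h
    exact OddSigma.not_prankLE_of_le hEM hE (not_le.1 h) hτ.2.2.1
  obtain ⟨P, hP⟩ := IsPGroup.exists_le_sylow (p := p) (G := M)
    (P := Subgroup.zpowers (⟨t, ht⟩ : M))
    (IsPGroup.of_card (n := 1) (by rw [Nat.card_zpowers, Subgroup.orderOf_mk, hto, pow_one]))
  obtain ⟨Q, hQ⟩ := IsPGroup.exists_le_sylow (p := p) (G := M) (P := E.subgroupOf M)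
    (hEp.comap_of_injective M.subtype M.subtype_injective)
  obtain ⟨m, hm⟩ := MulAction.exists_smul_eq M Q P
  set A := E.map (MulAut.conj (m : G)).toMonoidHom with hA
  have hAM : A ≤ M := by
    rintro _ ⟨e, he, rfl⟩
    exact M.mul_mem (M.mul_mem m.2 (hEM he)) (M.inv_mem m.2)
  have hAe : IsElementaryAbelian p A := by
    refine ⟨⟨⟨?_⟩⟩, ?_⟩
    · rintro ⟨_, a, ha, rfl⟩ ⟨_, b, hb, rfl⟩
      exact Subtype.ext (by
        simp only [MulEquiv.coe_toMonoidHom, Subgroup.coe_mul, ← map_mul,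
          OddSigma.elem_comm hE ha hb])
    · rintro _ ⟨a, ha, rfl⟩
      rw [← map_pow, hE.2 a ha, map_one]
  have hAc : Nat.card A = p ^ 2 := by
    rw [hA, Subgroup.card_map_of_injective (MulEquiv.injective _), hEc']
  refine ⟨A, hAM, hAe, hAc, ?_⟩
  have hAP : A ≤ (P : Subgroup M).map M.subtype := by
    rintro _ ⟨e, he, rfl⟩
    refine ⟨m * ⟨e, hEM he⟩ * m⁻¹, ?_, by simp⟩
    rw [← hm, Sylow.coe_subgroup_smul]
    exact ⟨⟨e, hEM he⟩, hQ he, rfl⟩
  refine (((F.s1417 M hM p hτ A ⟨hAM, hAe, hAc⟩).2.1 P).2 hAP).1 t ?_ |>.1 ?_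
  · exact ⟨⟨t, ht⟩, hP (Subgroup.mem_zpowers _), rfl⟩
  · rw [← hto, pow_orderOf_eq_one]

variable {A : Subgroup G} (hAM : A ≤ M) (hA : IsElementaryAbelian p A) (hAc : Nat.card A = p ^ 2)
include hAM hA hAc

omit hG F hM in
/-- An element of order dividing `p` of `M` commuting with `A` lies in `A`. -/
theorem elem_of_commute {x : G} (hx : x ∈ M) (hxp : x ^ p = 1)
    (hc : ∀ a ∈ A, a * x = x * a) : x ∈ A := by
  have hX : IsMulCommutative A := hA.1
  set B := Subgroup.closure ((A : Set G) ∪ {x}) with hB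
  have hgen : ∀ a ∈ (A : Set G) ∪ {x}, ∀ b ∈ (A : Set G) ∪ {x}, a * b = b * a := by
    rintro a (ha | rfl) b (hb | rfl)
    · exact OddSigma.elem_comm hA ha hb
    · exact hc a ha
    · exact (hc b hb).symm
    · rfl
  have hBc : IsMulCommutative B := Subgroup.isMulCommutative_closure hgen
  have hBe : IsElementaryAbelian p B := by
    refine ⟨hBc, fun b hb => ?_⟩
    induction hb using Subgroup.closure_induction with
    | mem b hb =>
      rcases hb with hb | rfl
      · exact hA.2 b hb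
      · exact hxp
    | one => exact one_pow p
    | mul a b ha hb iha ihb =>
      rw [(show Commute a b from congrArg Subtype.val
        (mul_comm' (⟨a, ha⟩ : B) ⟨b, hb⟩)).mul_pow, iha, ihb, one_mul]
    | inv a _ iha => rw [inv_pow, iha, inv_one]
  have hBM : B ≤ M := (Subgroup.closure_le M).2 (Set.union_subset hAM (by simpa using hx))
  have hle : Nat.card B ≤ p ^ 2 := by
    by_contra h
    exact OddSigma.not_prankLE_of_le hBM hBe (not_le.1 h) hτ.2.2.1
  have heq : A = B := Subgroup.eq_of_le_of_card_ge (fun a ha => Subgroup.subset_closure (Or.inl ha))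
    (hAc.symm ▸ hle)
  rw [heq]
  exact Subgroup.subset_closure (Or.inr rfl)

omit hG in
/-- An element of order dividing `p` of `M` lying with `A` in a nilpotent subgroup lies in `A`. -/
theorem elem_of_nilpotent {N : Subgroup G} (hN : Group.IsNilpotent N) (hAN : A ≤ N) {x : G}
    (hx : x ∈ M) (hxN : x ∈ N) (hxp : x ^ p = 1) : x ∈ A := by
  set P := (pCore p N).map N.subtype ⊓ M with hP
  have hPp : IsPGroup p P := ((Cores.isPGroup_pCore p N).map _).to_le inf_le_left
  obtain ⟨S, hS⟩ := IsPGroup.exists_le_sylow (p := p) (G := M) (P := P.subgroupOf M)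
    (hPp.comap_of_injective M.subtype M.subtype_injective)
  have hSc := ((F.s1417 M hM p hτ A ⟨hAM, hA, hAc⟩).2.1 S).1
  have hmem : ∀ z : G, ∀ (_ : z ∈ M), z ∈ N → z ^ p = 1 → z ∈ P := by
    intro z hzM hzN hzp
    refine ⟨mem_pCore_of_nilpotent hN hzN ?_, hzM⟩
    have hd := orderOf_dvd_of_pow_eq_one hzp
    rcases (Nat.dvd_prime hp.out).1 hd with h | h
    · exact IsPGroup.of_card (n := 0) (by rw [Nat.card_zpowers, h, pow_zero])
    · exact IsPGroup.of_card (n := 1) (by rw [Nat.card_zpowers, h, pow_one])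
  refine elem_of_commute hτ hAM hA hAc hx hxp fun a ha => ?_
  have ha' : (⟨a, hAM ha⟩ : M) ∈ (S : Subgroup M) := hS (hmem a (hAM ha) (hAN ha) (hA.2 a ha))
  have hx' : (⟨x, hx⟩ : M) ∈ (S : Subgroup M) := hS (hmem x hx hxN hxp)
  exact congrArg (fun w : (S : Subgroup M) => ((w : M) : G))
    (mul_comm' (⟨⟨a, hAM ha⟩, ha'⟩ : (S : Subgroup M)) ⟨⟨x, hx⟩, hx'⟩)

omit hG in
/-- An element of order `r ∈ τ₂(M)`, `r ≠ p`, normalising `A` centralises it. -/
theorem commute_tau2 {r : ℕ} [hr : Fact r.Prime] (hrτ : r ∈ tau2 M) (hrp : r ≠ p) {t : G}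
    (ht : t ∈ M) (hto : orderOf t = r) {a : G} (ha : a ∈ A) (hn : t * a⁻¹ * t⁻¹ ∈ A) :
    a * t = t * a := by
  obtain ⟨R, hRM, hR, hRc, htR⟩ := exists_elem_tau2 F hM hrτ ht hto
  have hN := (F.s1417 M hM r hrτ R ⟨hRM, hR, hRc⟩).2.2.1
  set c := a * t * a⁻¹ * t⁻¹ with hc
  have hcA : c ∈ A := by
    rw [hc, show a * t * a⁻¹ * t⁻¹ = a * (t * a⁻¹ * t⁻¹) by group]
    exact A.mul_mem ha hn
  have hcR : c ∈ sigmaCore M ⊔ R := by
    have htS : t ∈ sigmaCore M ⊔ R := Subgroup.mem_sup_right htR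
    exact Subgroup.mul_mem _ (conj_mem_of_le_normalizer hN (hAM ha) htS) (Subgroup.inv_mem _ htS)
  have hnd : ¬ p ∣ Nat.card (sigmaCore M) := fun h => hτ.2.1 (sigmaCore_pi M p hp.out h)
  have hcop : (Nat.card (sigmaCore M)).Coprime (Nat.card R) := by
    rw [hRc]
    exact ((hr.out.coprime_iff_not_dvd.2 fun h => hrτ.2.1 (sigmaCore_pi M r hr.out h)).pow_left 2).symm
  have hcard := Coprime.card_sup_of_coprime (hRM.trans (le_normalizer_sigmaCore M)) hcop
  have hc1 : c = 1 := by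
    by_contra hne
    have ho := orderOf_eq_of_pow hp.out (hA.2 c hcA) hne
    have hd := Subgroup.orderOf_dvd_natCard _ hcR
    rw [ho, hcard] at hd
    rcases hp.out.dvd_mul.1 hd with h | h
    · exact hnd h
    · rw [hRc] at h
      exact hrp ((Nat.prime_dvd_prime_iff_eq hp.out hr.out).1 (hp.out.dvd_of_dvd_pow h)).symm
  rw [hc, mul_inv_eq_one, mul_inv_eq_iff_eq_mul] at hc1
  exact hc1

end Tau

section Existence

variable (hG : IsMinSimpleOddOrder G) (F : Sec16Facts G)
include hG F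

omit hG in
theorem exists_witness {M : Subgroup G} (hM : IsCoatom M) (hκ : kappa M = ∅) {x : G}
    (hx : x ∈ sigmaCore M) (hx1 : x ≠ 1)
    (hne : ¬ M ⊓ Subgroup.centralizer ({x} : Set G) ≤ sigmaCore M) :
    ∃ p, p ∈ tau2 M ∧ ∃ t ∈ M, orderOf t = p ∧ t * x = x * t := by
  obtain ⟨c, hc, hcσ⟩ := Set.not_subset.1 hne
  obtain ⟨a, b, ha, hb, hab, haσ, hbσ⟩ := exists_pi_parts (sigma M) c
  have hb1 : b ≠ 1 := by
    rintro rfl
    rw [mul_one] at hab
    exact hcσ (mem_sigmaCore_of_sigma F.toSigFacts hM hc.1 (hab ▸ haσ))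
  obtain ⟨q, hq, hd, t, ht, hto⟩ := exists_prime_part hb1
  have htc : t ∈ Subgroup.zpowers c := Subgroup.zpowers_le.2 hb ht
  have htM : t ∈ M ⊓ Subgroup.centralizer ({x} : Set G) := Subgroup.zpowers_le.2 hc htc
  have ht1 : t ≠ 1 := fun e => hq.one_lt.ne (by rw [← hto, e, orderOf_one])
  rcases F.s1432 M hM x hx hx1 t htM ht1 (fun r hr hrd => by
      rw [hto, Nat.prime_dvd_prime_iff_eq hr hq] at hrd
      subst hrd
      exact hbσ r hr hd) with ⟨h, -⟩ | ⟨h, -⟩
  · have := h q hq (dvd_of_eq hto.symm)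
    rw [hκ] at this
    exact absurd this (Set.notMem_empty q)
  · exact ⟨q, h q hq (dvd_of_eq hto.symm), t, htM.1, hto,
      Subgroup.mem_centralizer_singleton_iff.1 htM.2⟩

theorem exists_partner (C : CoverFacts G) {p : ℕ} (hw : Witness G p) :
    ∃ M L A : Subgroup G, ∃ y : G, Partner M L A p y := by
  obtain ⟨M, hM, hκ, hτ, x, hx, hx1, t, ht, hto, -⟩ := hw
  have := Fact.mk hτ.1
  obtain ⟨A, hAM, hA, hAc, -⟩ := exists_elem_tau2 F hM hτ ht hto
  obtain ⟨hnil, -, -, hCA, -, -⟩ := F.s1417 M hM p hτ A ⟨hAM, hA, hAc⟩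
  set H := sigmaCore M with hH
  have hH1 : H ≠ ⊥ := fun e => hx1 (by rwa [e, Subgroup.mem_bot] at hx)
  have hcop : (Nat.card A).Coprime (Nat.card H) := by
    rw [hAc]
    exact (hτ.1.coprime_iff_not_dvd.2 fun h => hτ.2.1 (sigmaCore_pi M p hτ.1 h)).pow_left 2
  have hder : ¬ H ≤ ⁅H, H⁆ := fun h => by
    have : Nontrivial H := (Subgroup.nontrivial_iff_ne_bot _).2 hH1
    have := hnil
    apply (Group.IsSolvable.commutator_lt_top_of_nontrivial H).ne
    apply Subgroup.map_injective H.subtype_injective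
    rw [Subgroup.map_subtype_commutator, ← MonoidHom.range_eq_map, Subgroup.range_subtype]
    exact le_antisymm (Subgroup.commutator_le_self H) h
  have hAc' : IsMulCommutative A := hA.1
  obtain ⟨y, hy, hy1, hnd⟩ : ∃ y ∈ A, y ≠ 1 ∧
      ¬ H ⊓ Subgroup.centralizer ({y} : Set G) ≤ ⁅H, H⁆ := by
    by_contra hno
    push Not at hno
    exact hder (Coprime.le_of_noncyclic (not_isCyclic_of_elementary hA hAc.ge)
      (hAM.trans (le_normalizer_sigmaCore M)) hcop hno)
  obtain ⟨c, hc, hc1⟩ : ∃ c ∈ H ⊓ Subgroup.centralizer ({y} : Set G), c ≠ 1 := by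
    by_contra hno
    push Not at hno
    exact hnd fun c hc => (hno c hc) ▸ one_mem _
  have hyo := orderOf_eq_of_pow hτ.1 (hA.2 y hy) hy1
  obtain ⟨-, ⟨L₀, hL₀, hσ₀⟩, hCM, huniq⟩ :=
    (F.s1432 M hM c hc.1 hc1 y ⟨hAM hy, Subgroup.mem_centralizer_singleton_iff.2
      (Subgroup.mem_centralizer_singleton_iff.1 hc.2).symm⟩ hy1 (fun r hr hrd => by
        rw [hyo, Nat.prime_dvd_prime_iff_eq hr hτ.1] at hrd
        exact hrd ▸ hτ.2.1)).resolve_left fun h => by
      have := h.1 p hτ.1 (dvd_of_eq hyo.symm)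
      rw [hκ] at this
      exact this
  have hpL : p ∈ sigma L₀ := hσ₀ p hτ.1 (dvd_of_eq hyo.symm)
  obtain ⟨g, hg⟩ := C.s1425 L₀ hL₀ A
    (fun e => hy1 (by rwa [e, Subgroup.mem_bot] at hy))
    (fun r hr hrd => by
      rw [hAc] at hrd
      exact (Nat.prime_dvd_prime_iff_eq hr hτ.1).1 (hr.dvd_of_dvd_pow hrd) ▸ hpL)
  set L := MulAut.conj g⁻¹ • L₀ with hLdef
  have hL : IsCoatom L := OddSigma.isCoatom_conj hL₀ g⁻¹
  have hσL : p ∈ sigma L := by rw [hLdef, sigma_conj]; exact hpL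
  refine ⟨M, L, A, y, ⟨hM, hκ, hτ, hAM, hA, hAc, hL, hσL, ?_, hy, hy1, hCM, huniq, ?_, hnd⟩⟩
  · intro a ha
    rw [hLdef, sigmaCore_conj, Coprime.mem_conj, inv_inv]
    exact hg ⟨a, ha, rfl⟩
  · intro h
    exact hτ.2.1 (huniq L hL h ▸ hσL)

end Existence

section Plane

omit [Finite G] in
theorem conj_pow_eq (u a : G) (k : ℕ) : u * a ^ k * u⁻¹ = (u * a * u⁻¹) ^ k := conj_pow.symm

/-- A group of odd order acting freely on a plane, with a central element, and no nonidentity
element acting as a scalar, has order at most `(p + 1) / 2`. -/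
theorem two_mul_card_le {p : ℕ} [hp : Fact p.Prime] {A U : Subgroup G}
    (hA : IsElementaryAbelian p A) (hAc : Nat.card A = p ^ 2)
    (hUA : U ≤ Subgroup.normalizer (A : Set G)) (hodd : Odd (Nat.card U)) (hp2 : p ≠ 2)
    (hfree : ∀ u ∈ U, ∀ a ∈ A, a ≠ 1 → u * a * u⁻¹ = a → u = 1)
    {v : G} (hvU : v ∈ U) (hv1 : v ≠ 1) (hvc : ∀ u ∈ U, u * v = v * u)
    {y : G} (hy : y ∈ A) (hscal : ∀ u ∈ U, u * y * u⁻¹ ∈ Subgroup.zpowers y → u = 1) :
    2 * Nat.card U ≤ p + 1 := by
  classical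
  have := Fintype.ofFinite G
  -- `u` fixes the line of `a`
  let Fx : G → G → Prop := fun u a => u * a * u⁻¹ ∈ Subgroup.zpowers a
  have hord : ∀ a ∈ A, a ≠ 1 → orderOf a = p := fun a ha ha1 =>
    orderOf_eq_of_pow hp.out (hA.2 a ha) ha1
  have hline : ∀ a b : G, a ∈ A → b ∈ A → b ≠ 1 → b ∈ Subgroup.zpowers a →
      Subgroup.zpowers b = Subgroup.zpowers a := by
    intro a b ha hb hb1 hmem
    have ha1 : a ≠ 1 := by
      rintro rfl
      exact hb1 (by simpa using hmem)
    refine Subgroup.eq_of_le_of_card_ge (Subgroup.zpowers_le.2 hmem) ?_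
    rw [Nat.card_zpowers, Nat.card_zpowers, hord a ha ha1, hord b hb hb1]
  -- a nonscalar element fixes at most two lines
  have hthree : ∀ u ∈ U, ∀ a b c : G, a ∈ A → b ∈ A → c ∈ A → a ≠ 1 → b ≠ 1 → c ≠ 1 →
      b ∉ Subgroup.zpowers a → c ∉ Subgroup.zpowers a → c ∉ Subgroup.zpowers b →
      Fx u a → Fx u b → Fx u c → u = 1 := by
    intro u hu a b c ha hb hc ha1 hb1 hc1 hab hca hcb fa fb fc
    have hbase : ∀ x ∈ A, ∃ i j : ℕ, x = a ^ i * b ^ j := by
      intro x hx
      let f : Fin p × Fin p → A := fun q =>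
        ⟨a ^ (q.1 : ℕ) * b ^ (q.2 : ℕ), A.mul_mem (A.pow_mem ha _) (A.pow_mem hb _)⟩
      have hf : Function.Bijective f := by
        refine (Fintype.bijective_iff_injective_and_card f).2 ⟨?_, ?_⟩
        · rintro ⟨i, j⟩ ⟨k, l⟩ e
          have e' : a ^ (i : ℕ) * b ^ (j : ℕ) = a ^ (k : ℕ) * b ^ (l : ℕ) := congrArg Subtype.val e
          have hjl : (j : ℕ) = l := by
            by_contra hne
            have hmem : b ^ ((j : ℤ) - (l : ℤ)) ∈ Subgroup.zpowers a := by
              refine Subgroup.mem_zpowers_iff.2 ⟨(k : ℤ) - (i : ℤ), ?_⟩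
              calc a ^ ((k : ℤ) - (i : ℤ)) = (a ^ (i : ℕ))⁻¹ * (a ^ (k : ℕ) * b ^ (l : ℕ)) *
                    (b ^ (l : ℕ))⁻¹ := by
                    rw [zpow_sub, zpow_natCast, zpow_natCast,
                      (Commute.pow_pow_self a _ _).inv_right.eq]
                    group
                _ = b ^ ((j : ℤ) - (l : ℤ)) := by
                    rw [← e', zpow_sub, zpow_natCast, zpow_natCast]; group
            have hne1 : b ^ ((j : ℤ) - (l : ℤ)) ≠ 1 := by
              rw [Ne, ← orderOf_dvd_iff_zpow_eq_one, hord b hb hb1]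
              intro hdvd
              have := Int.eq_zero_of_abs_lt_dvd hdvd (by
                rw [abs_lt]; constructor <;> omega)
              omega
            exact hab (hline a _ ha (A.zpow_mem hb _) hne1 hmem ▸
              (hline b _ hb (A.zpow_mem hb _) hne1
                (Subgroup.zpow_mem _ (Subgroup.mem_zpowers b) _)).symm ▸ Subgroup.mem_zpowers b)
          have hik : (i : ℕ) = k := by
            rw [hjl, mul_left_inj] at e'
            have := (pow_inj_mod (x := a)).1 e'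
            rwa [hord a ha ha1, Nat.mod_eq_of_lt i.2, Nat.mod_eq_of_lt k.2] at this
          exact Prod.ext (Fin.ext hik) (Fin.ext hjl)
        · rw [Fintype.card_prod, Fintype.card_fin, ← Nat.card_eq_fintype_card, hAc, sq]
      obtain ⟨q, hq⟩ := hf.2 ⟨x, hx⟩
      exact ⟨q.1, q.2, (congrArg Subtype.val hq).symm⟩
    obtain ⟨i, j, hij⟩ := hbase c hc
    have hi : ¬ p ∣ i := by
      intro hd
      apply hcb
      rw [hij, show a ^ i = 1 from orderOf_dvd_iff_pow_eq_one.1 ((hord a ha ha1).symm ▸ hd), one_mul]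
      exact Subgroup.pow_mem _ (Subgroup.mem_zpowers b) j
    have hj : ¬ p ∣ j := by
      intro hd
      apply hca
      rw [hij, show b ^ j = 1 from orderOf_dvd_iff_pow_eq_one.1 ((hord b hb hb1).symm ▸ hd), mul_one]
      exact Subgroup.pow_mem _ (Subgroup.mem_zpowers a) i
    obtain ⟨lam, hlam⟩ := Subgroup.mem_zpowers_iff.1 fa
    obtain ⟨mu, hmu⟩ := Subgroup.mem_zpowers_iff.1 fb
    obtain ⟨nu, hnu⟩ := Subgroup.mem_zpowers_iff.1 fc
    have hcomm : ∀ s t : ℤ, Commute (a ^ s) (b ^ t) :=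
      fun s t => (show Commute a b from OddSigma.elem_comm hA ha hb).zpow_zpow s t
    have e2 : a ^ ((i : ℤ) * lam) * b ^ ((j : ℤ) * mu) =
        a ^ ((i : ℤ) * nu) * b ^ ((j : ℤ) * nu) := by
      have h1 : u * c * u⁻¹ = a ^ ((i : ℤ) * lam) * b ^ ((j : ℤ) * mu) := by
        rw [hij, show u * (a ^ i * b ^ j) * u⁻¹ = (u * a ^ i * u⁻¹) * (u * b ^ j * u⁻¹) by group,
          conj_pow_eq, conj_pow_eq, ← hlam, ← hmu, ← zpow_natCast, ← zpow_natCast, ← zpow_mul,
          ← zpow_mul, mul_comm lam, mul_comm mu]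
      have hcij : Commute (a ^ i) (b ^ j) := by
        have := hcomm i j
        rwa [zpow_natCast, zpow_natCast] at this
      rw [← h1, ← hnu, hij, hcij.mul_zpow, zpow_mul, zpow_mul, zpow_natCast, zpow_natCast]
    have hzero : ∀ s t : ℤ, a ^ s * b ^ t = 1 → (p : ℤ) ∣ s ∧ (p : ℤ) ∣ t := by
      intro s t e
      have hbt : b ^ t = 1 := by
        by_contra hne
        have hmem : b ^ t ∈ Subgroup.zpowers a := Subgroup.mem_zpowers_iff.2 ⟨-s, by
          rw [zpow_neg]; exact inv_eq_of_mul_eq_one_right e⟩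
        exact hab (hline a _ ha (A.zpow_mem hb _) hne hmem ▸
          (hline b _ hb (A.zpow_mem hb _) hne
            (Subgroup.zpow_mem _ (Subgroup.mem_zpowers b) _)).symm ▸ Subgroup.mem_zpowers b)
      rw [hbt, mul_one] at e
      exact ⟨hord a ha ha1 ▸ orderOf_dvd_iff_zpow_eq_one.2 e,
        hord b hb hb1 ▸ orderOf_dvd_iff_zpow_eq_one.2 hbt⟩
    obtain ⟨d1, d2⟩ := hzero ((i : ℤ) * (lam - nu)) ((j : ℤ) * (mu - nu)) (by
      rw [mul_sub, mul_sub, zpow_sub, zpow_sub,
        show a ^ ((i : ℤ) * lam) * (a ^ ((i : ℤ) * nu))⁻¹ *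
            (b ^ ((j : ℤ) * mu) * (b ^ ((j : ℤ) * nu))⁻¹) =
          a ^ ((i : ℤ) * lam) * ((a ^ ((i : ℤ) * nu))⁻¹ * b ^ ((j : ℤ) * mu)) *
            (b ^ ((j : ℤ) * nu))⁻¹ by group,
        (hcomm _ _).inv_left.eq, ← mul_assoc, e2]
      rw [mul_assoc (a ^ ((i : ℤ) * nu)), ← (hcomm _ _).inv_left.eq]
      group)
    have hpi : Prime (p : ℤ) := Nat.prime_iff_prime_int.1 hp.out
    have dl : (p : ℤ) ∣ lam - nu := (hpi.dvd_or_dvd d1).resolve_left
      fun h => hi (Int.natCast_dvd_natCast.1 h)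
    have dm : (p : ℤ) ∣ mu - nu := (hpi.dvd_or_dvd d2).resolve_left
      fun h => hj (Int.natCast_dvd_natCast.1 h)
    have hla : a ^ lam = a ^ nu := orderOf_dvd_sub_iff_zpow_eq_zpow.1 ((hord a ha ha1).symm ▸ dl)
    have hmb : b ^ mu = b ^ nu := orderOf_dvd_sub_iff_zpow_eq_zpow.1 ((hord b hb hb1).symm ▸ dm)
    refine hscal u hu ?_
    obtain ⟨k, l, rfl⟩ := hbase y hy
    rw [show u * (a ^ k * b ^ l) * u⁻¹ = (u * a ^ k * u⁻¹) * (u * b ^ l * u⁻¹) by group,
      conj_pow_eq, conj_pow_eq, ← hlam, ← hmu, hla, hmb]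
    refine Subgroup.mem_zpowers_iff.2 ⟨nu, ?_⟩
    have hkl : Commute (a ^ k) (b ^ l) := by
      have := hcomm k l
      rwa [zpow_natCast, zpow_natCast] at this
    rw [hkl.mul_zpow, ← zpow_natCast, ← zpow_natCast, ← zpow_mul, ← zpow_mul, ← zpow_natCast,
      ← zpow_natCast, ← zpow_mul, ← zpow_mul, mul_comm (k : ℤ), mul_comm (l : ℤ)]
  have hconjA : ∀ u ∈ U, ∀ a ∈ A, u * a * u⁻¹ ∈ A := fun u hu a ha =>
    (Subgroup.mem_normalizer_iff.1 (hUA hu) a).1 ha
  have hconj1 : ∀ (u : G) (a : G), a ≠ 1 → u * a * u⁻¹ ≠ 1 :=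
    fun u a ha e => ha (conj_eq_one_iff.1 e)
  have htrans : ∀ u w : G, ∀ a, Fx u a → u * w = w * u → Fx u (w * a * w⁻¹) := by
    intro u w a hf e
    obtain ⟨i, hi⟩ := Subgroup.mem_zpowers_iff.1 hf
    refine Subgroup.mem_zpowers_iff.2 ⟨i, ?_⟩
    rw [conj_zpow, hi]
    calc w * (u * a * u⁻¹) * w⁻¹ = (w * u) * a * (w * u)⁻¹ := by group
      _ = (u * w) * a * (u * w)⁻¹ := by rw [e]
      _ = u * (w * a * w⁻¹) * u⁻¹ := by group
  -- commuting elements fix the fixed lines of each other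
  have hpass : ∀ u ∈ U, u ≠ 1 → ∀ w ∈ U, u * w = w * u → ∀ a ∈ A, a ≠ 1 → Fx u a → Fx w a := by
    intro u hu hu1 w hw e a ha ha1 hf
    by_contra hwa
    have hb := hconjA w hw a ha
    have hb1 := hconj1 w a ha1
    have hc := hconjA w hw _ hb
    have hc1 := hconj1 w _ hb1
    have hfb := htrans u w a hf e
    have hfc := htrans u w _ hfb e
    have hcb : w * (w * a * w⁻¹) * w⁻¹ ∉ Subgroup.zpowers (w * a * w⁻¹) := by
      intro h
      obtain ⟨i, hi⟩ := Subgroup.mem_zpowers_iff.1 h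
      rw [conj_zpow] at hi
      exact hwa (Subgroup.mem_zpowers_iff.2 ⟨i, conj_injective hi⟩)
    by_cases hca : w * (w * a * w⁻¹) * w⁻¹ ∈ Subgroup.zpowers a
    · -- `w²` fixes the line, and `w` is a power of `w²`
      apply hwa
      have hodd' : Odd (orderOf w) := hodd.of_dvd_nat (Subgroup.orderOf_dvd_natCard _ hw)
      obtain ⟨k, hk⟩ := hodd'
      have hstep : ∀ n : ℕ, (w ^ 2) ^ n * a * ((w ^ 2) ^ n)⁻¹ ∈ Subgroup.zpowers a := by
        intro n
        induction n with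
        | zero => simp
        | succ n ih =>
          obtain ⟨i, hi⟩ := Subgroup.mem_zpowers_iff.1 ih
          rw [pow_succ', show w ^ 2 * (w ^ 2) ^ n * a * (w ^ 2 * (w ^ 2) ^ n)⁻¹ =
            w ^ 2 * ((w ^ 2) ^ n * a * ((w ^ 2) ^ n)⁻¹) * (w ^ 2)⁻¹ by group, ← hi, ← conj_zpow]
          refine Subgroup.zpow_mem _ ?_ i
          rw [show w ^ 2 * a * (w ^ 2)⁻¹ = w * (w * a * w⁻¹) * w⁻¹ by rw [sq]; group]
          exact hca
      have := hstep (k + 1)
      rwa [← pow_mul, show 2 * (k + 1) = orderOf w + 1 by omega, pow_succ, pow_orderOf_eq_one,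
        one_mul] at this
    · exact hu1 (hthree u hu a _ _ ha hb hc ha1 hb1 hc1 hwa hca hcb hf hfb hfc)
  by_cases hex : ∃ u ∈ U, u ≠ 1 ∧ ∃ a ∈ A, a ≠ 1 ∧ Fx u a
  · -- some line is fixed by `U`
    obtain ⟨u, hu, hu1, a, ha, ha1, hf⟩ := hex
    have hva : Fx v a := hpass u hu hu1 v hvU (hvc u hu) a ha ha1 hf
    have hUa : ∀ w ∈ U, Fx w a := fun w hw => hpass v hvU hv1 w hw (hvc w hw).symm a ha ha1 hva
    have hmem : ∀ w : U, (w : G) * a * (w : G)⁻¹ ∈
        (Finset.univ.filter fun z : G => z ∈ Subgroup.zpowers a ∧ z ≠ 1) := fun w =>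
      Finset.mem_filter.2 ⟨Finset.mem_univ _, hUa w w.2, hconj1 w a ha1⟩
    have hmem' : ∀ w : U, ((w : G) * a * (w : G)⁻¹)⁻¹ ∈
        (Finset.univ.filter fun z : G => z ∈ Subgroup.zpowers a ∧ z ≠ 1) := fun w =>
      Finset.mem_filter.2 ⟨Finset.mem_univ _, inv_mem (hUa w w.2),
        fun e => hconj1 w a ha1 (inv_eq_one.1 e)⟩
    have hinjU : ∀ w w' : U, (w : G) * a * (w : G)⁻¹ = (w' : G) * a * (w' : G)⁻¹ → w = w' := by
      intro w w' e
      have := hfree ((w' : G)⁻¹ * w) (U.mul_mem (U.inv_mem w'.2) w.2) a ha ha1 (by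
        calc _ = (w' : G)⁻¹ * ((w : G) * a * (w : G)⁻¹) * w' := by group
          _ = a := by rw [e]; group)
      exact Subtype.ext (inv_mul_eq_one.1 this).symm
    let f : U × Bool → G := fun q =>
      if q.2 then (q.1 : G) * a * (q.1 : G)⁻¹ else ((q.1 : G) * a * (q.1 : G)⁻¹)⁻¹
    have hneq : ∀ w w' : U, (w : G) * a * (w : G)⁻¹ ≠ ((w' : G) * a * (w' : G)⁻¹)⁻¹ := by
      intro w w' e
      set q : G := (w' : G)⁻¹ * w with hq
      have hqU : q ∈ U := U.mul_mem (U.inv_mem w'.2) w.2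
      have h1 : q * a * q⁻¹ = a⁻¹ := by
        rw [hq]
        calc _ = (w' : G)⁻¹ * ((w : G) * a * (w : G)⁻¹) * w' := by group
          _ = a⁻¹ := by rw [e]; group
      have h2 : q ^ 2 = 1 := hfree _ (U.pow_mem hqU 2) a ha ha1 (by
        rw [sq, show q * q * a * (q * q)⁻¹ = q * (q * a * q⁻¹) * q⁻¹ by group, h1,
          ← conj_inv, h1, inv_inv])
      have h3 : q = 1 := by
        have hd := orderOf_dvd_of_pow_eq_one h2
        have ho := hodd.of_dvd_nat (Subgroup.orderOf_dvd_natCard _ hqU)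
        rcases (Nat.dvd_prime Nat.prime_two).1 hd with h | h
        · exact orderOf_eq_one_iff.1 h
        · rw [h] at ho; exact absurd ho (by decide)
      rw [h3] at h1
      simp only [one_mul, inv_one, mul_one] at h1
      have h4 : a ^ 2 = 1 := by rw [sq]; nth_rewrite 2 [h1]; exact mul_inv_cancel a
      have := orderOf_dvd_of_pow_eq_one h4
      rw [hord a ha ha1, Nat.prime_dvd_prime_iff_eq hp.out Nat.prime_two] at this
      exact hp2 this
    have hinj : Function.Injective f := by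
      rintro ⟨w, bw⟩ ⟨w', bw'⟩ e
      cases bw <;> cases bw' <;> simp only [f, Bool.false_eq_true, if_false, if_true, inv_inj] at e
      · rw [hinjU w w' e]
      · exact absurd e.symm (hneq w' w)
      · exact absurd e (hneq w w')
      · rw [hinjU w w' e]
    have h1 := Finset.card_le_card_of_injOn f (s := Finset.univ)
      (t := Finset.univ.filter fun z : G => z ∈ Subgroup.zpowers a ∧ z ≠ 1)
      (fun q _ => by obtain ⟨w, b⟩ := q; cases b <;> simp only [f, Bool.false_eq_true, if_false, if_true]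
                     exacts [hmem' w, hmem w]) hinj.injOn
    have hfilt : (Finset.univ.filter fun z : G => z ∈ Subgroup.zpowers a ∧ z ≠ 1).card = p - 1 := by
      have : (Finset.univ.filter fun z : G => z ∈ Subgroup.zpowers a ∧ z ≠ 1) =
          (Finset.univ.filter fun z : G => z ∈ Subgroup.zpowers a).erase 1 := by
        ext z; simp [and_comm]
      rw [this, Finset.card_erase_of_mem (by simp), ← Fintype.card_subtype,
        ← Nat.card_eq_fintype_card]
      rw [show Nat.card {x // x ∈ Subgroup.zpowers a} = p from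
        (Nat.card_zpowers a).trans (hord a ha ha1)]
    rw [Finset.card_univ, Fintype.card_prod, Fintype.card_bool, hfilt,
      ← Nat.card_eq_fintype_card] at h1
    omega
  · -- no line is fixed: `U × (scalars)` acts freely
    push Not at hex
    set T : Finset G := Finset.univ.filter fun z : G => z ∈ A ∧ z ≠ 1 with hT
    have hTcard : T.card = p ^ 2 - 1 := by
      have : T = (Finset.univ.filter fun z : G => z ∈ A).erase 1 := by
        ext z; simp [hT, and_comm]
      rw [this, Finset.card_erase_of_mem (by simp [one_mem]), ← Fintype.card_subtype,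
        ← Nat.card_eq_fintype_card, show Nat.card {x // x ∈ A} = p ^ 2 from hAc]
    let f : G → U × Fin (p - 1) → G :=
      fun a q => ((q.1 : G) * a * (q.1 : G)⁻¹) ^ ((q.2 : ℕ) + 1)
    have hzp : ∀ a ∈ A, a ≠ 1 → ∀ q, Subgroup.zpowers (f a q) =
        Subgroup.zpowers ((q.1 : G) * a * (q.1 : G)⁻¹) ∧ f a q ∈ T := by
      intro a ha ha1 q
      have hb := hconjA q.1 q.1.2 a ha
      have hb1 := hconj1 q.1 a ha1
      have hne : f a q ≠ 1 := by
        change ((q.1 : G) * a * (q.1 : G)⁻¹) ^ ((q.2 : ℕ) + 1) ≠ 1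
        rw [Ne, ← orderOf_dvd_iff_pow_eq_one, hord _ hb hb1]
        intro hd
        have := Nat.le_of_dvd (Nat.succ_pos _) hd
        have := q.2.2
        omega
      exact ⟨hline _ _ hb (A.pow_mem hb _) hne (Subgroup.pow_mem _ (Subgroup.mem_zpowers _) _),
        Finset.mem_filter.2 ⟨Finset.mem_univ _, A.pow_mem hb _, hne⟩⟩
    have hsame : ∀ a ∈ A, a ≠ 1 → ∀ w w' : U,
        Subgroup.zpowers ((w : G) * a * (w : G)⁻¹) = Subgroup.zpowers ((w' : G) * a * (w' : G)⁻¹) →
          w = w' := by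
      intro a ha ha1 w w' e
      by_contra hne
      refine hex ((w' : G)⁻¹ * w) (U.mul_mem (U.inv_mem w'.2) w.2)
        (fun e1 => hne (Subtype.ext (inv_mul_eq_one.1 e1).symm)) a ha ha1 ?_
      obtain ⟨i, hi⟩ := Subgroup.mem_zpowers_iff.1
        (e ▸ Subgroup.mem_zpowers ((w : G) * a * (w : G)⁻¹))
      rw [conj_zpow] at hi
      refine Subgroup.mem_zpowers_iff.2 ⟨i, ?_⟩
      calc a ^ i = (w' : G)⁻¹ * ((w' : G) * a ^ i * (w' : G)⁻¹) * w' := by group
        _ = _ := by rw [hi]; group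
    have hinj : ∀ a ∈ A, a ≠ 1 → Function.Injective (f a) := by
      rintro a ha ha1 ⟨w, k⟩ ⟨w', k'⟩ e
      have hw : w = w' := hsame a ha ha1 w w'
        ((hzp a ha ha1 (w, k)).1.symm.trans (by rw [e]; exact (hzp a ha ha1 (w', k')).1))
      subst hw
      have hb := hconjA w w.2 a ha
      have hb1 := hconj1 w a ha1
      simp only [f] at e
      have := (pow_inj_mod).1 e
      rw [hord _ hb hb1, Nat.mod_eq_of_lt (by omega), Nat.mod_eq_of_lt (by omega)] at this
      exact Prod.ext rfl (Fin.ext (Nat.succ_injective this))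
    set N := Nat.card U * (p - 1) with hN
    have hcardf : ∀ a ∈ A, a ≠ 1 → (Finset.univ.image (f a)).card = N := fun a ha ha1 => by
      rw [Finset.card_image_of_injective _ (hinj a ha ha1), Finset.card_univ, Fintype.card_prod,
        Fintype.card_fin, ← Nat.card_eq_fintype_card]
    have hsub : ∀ a ∈ A, a ≠ 1 → Finset.univ.image (f a) ⊆ T := fun a ha ha1 z hz => by
      obtain ⟨q, -, rfl⟩ := Finset.mem_image.1 hz
      exact (hzp a ha ha1 q).2
    obtain ⟨a, ha, ha1⟩ : ∃ a ∈ A, a ≠ 1 := by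
      by_contra h
      push Not at h
      have : Nat.card A = 1 := by
        rw [Subgroup.eq_bot_iff_forall A |>.2 h, Subgroup.card_bot]
      rw [hAc] at this
      have := hp.out.one_lt
      nlinarith
    have hle : N ≤ T.card := (hcardf a ha ha1) ▸ Finset.card_le_card (hsub a ha ha1)
    have h1 : (p + 1) * (p - 1) = p ^ 2 - 1 := by
      rw [show p ^ 2 - 1 = p ^ 2 - 1 ^ 2 by norm_num, Nat.sq_sub_sq]
    have hne : Finset.univ.image (f a) ≠ T := by
      intro e
      have h2 : N = p ^ 2 - 1 := by rw [← hcardf a ha ha1, e, hTcard]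
      have h3 : Nat.card U = p + 1 :=
        Nat.eq_of_mul_eq_mul_right (by have := hp.out.two_le; omega : 0 < p - 1) (h2.trans h1.symm)
      rw [h3] at hodd
      have hpo : Odd p := hp.out.odd_of_ne_two hp2
      exact (Nat.not_odd_iff_even.2 (hpo.add_one)) hodd
    obtain ⟨b, hbT, hbn⟩ : ∃ b ∈ T, b ∉ Finset.univ.image (f a) := by
      by_contra h
      push Not at h
      exact hne (le_antisymm (hsub a ha ha1) h)
    obtain ⟨hbA, hb1⟩ := (Finset.mem_filter.1 hbT).2
    have hdisj : Disjoint (Finset.univ.image (f a)) (Finset.univ.image (f b)) := by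
      rw [Finset.disjoint_left]
      intro z hz hz'
      obtain ⟨⟨w, k⟩, -, rfl⟩ := Finset.mem_image.1 hz
      obtain ⟨⟨w', k'⟩, -, e⟩ := Finset.mem_image.1 hz'
      have hl : Subgroup.zpowers ((w' : G) * b * (w' : G)⁻¹) =
          Subgroup.zpowers ((w : G) * a * (w : G)⁻¹) :=
        (hzp b hbA hb1 (w', k')).1.symm.trans (e ▸ (hzp a ha ha1 (w, k)).1)
      obtain ⟨i, hi⟩ := Subgroup.mem_zpowers_iff.1
        (hl ▸ Subgroup.mem_zpowers ((w' : G) * b * (w' : G)⁻¹))
      rw [conj_zpow] at hi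
      have hbe : b = ((w' : G)⁻¹ * w) * a ^ i * ((w' : G)⁻¹ * w)⁻¹ := by
        calc b = (w' : G)⁻¹ * ((w' : G) * b * (w' : G)⁻¹) * w' := by group
          _ = _ := by rw [← hi]; group
      obtain ⟨n, hn, hni⟩ : ∃ n : ℕ, n < p ∧ a ^ n = a ^ i := by
        refine ⟨(i % p).toNat, ?_, ?_⟩
        · have := Int.emod_lt_of_pos i (by exact_mod_cast hp.out.pos : (0 : ℤ) < p)
          have := hp.out.pos
          omega
        · rw [← zpow_natCast, Int.toNat_of_nonneg (Int.emod_nonneg _ (by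
            exact_mod_cast hp.out.ne_zero)), ← hord a ha ha1, zpow_mod_orderOf]
      have hn0 : n ≠ 0 := by
        rintro rfl
        rw [pow_zero] at hni
        rw [← hni, mul_one, mul_inv_cancel] at hbe
        exact hb1 hbe
      refine hbn (Finset.mem_image.2 ⟨(⟨_, U.mul_mem (U.inv_mem w'.2) w.2⟩,
        ⟨n - 1, by omega⟩), Finset.mem_univ _, ?_⟩)
      show ((((w' : G)⁻¹ * w)) * a * ((w' : G)⁻¹ * w)⁻¹) ^ (n - 1 + 1) = b
      rw [Nat.sub_add_cancel (Nat.one_le_iff_ne_zero.2 hn0), conj_pow, hni, ← hbe]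
    have h4 : N + N ≤ p ^ 2 - 1 := by
      rw [← hTcard]
      calc N + N = (Finset.univ.image (f a) ∪ Finset.univ.image (f b)).card := by
            rw [Finset.card_union_of_disjoint hdisj, hcardf a ha ha1, hcardf b hbA hb1]
        _ ≤ T.card := Finset.card_le_card (Finset.union_subset (hsub a ha ha1) (hsub b hbA hb1))
    rw [← h1, hN, ← two_mul, ← mul_assoc] at h4
    exact Nat.le_of_mul_le_mul_right h4 (by have := hp.out.two_le; omega)

end Plane

section Linear

/-- An invariant linear character which is nontrivial at a fixed element outside the derived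
group. -/
theorem exists_invariant_linear {H : Type u} [Group H] [Finite H] (σ : MulAut H) {p : ℕ}
    (hp : p.Prime) (hσ : σ ^ p = 1) (hpH : ¬ p ∣ Nat.card H) {u : H} (hu : σ u = u)
    (hder : u ∉ commutator H) :
    ∃ θ : H →* ℂˣ, (∀ h, θ (σ h) = θ h) ∧ θ u ≠ 1 := by
  set Φ : H →* Abelianization H :=
    ∏ i ∈ Finset.range p, (Abelianization.of).comp (σ ^ i : MulAut H).toMonoidHom with hΦ
  have hap : ∀ h, Φ h = ∏ i ∈ Finset.range p, Abelianization.of ((σ ^ i : MulAut H) h) := fun h => by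
    simp [hΦ]
  have hinv : ∀ h, Φ (σ h) = Φ h := by
    intro h
    rw [hap, hap]
    have e : ∀ i, (σ ^ i : MulAut H) (σ h) = (σ ^ (i + 1) : MulAut H) h := fun i => by
      rw [pow_succ, MulAut.mul_apply]
    simp only [e]
    have h1 := Finset.prod_range_succ' (fun i => Abelianization.of ((σ ^ i : MulAut H) h)) p
    rw [Finset.prod_range_succ] at h1
    simp only [hσ, pow_zero] at h1
    exact (mul_right_cancel h1).symm
  have hne : Φ u ≠ 1 := by
    have hpow : ∀ i : ℕ, (σ ^ i : MulAut H) u = u := by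
      intro i
      induction i with
      | zero => rfl
      | succ i ih => rw [pow_succ, MulAut.mul_apply, hu, ih]
    rw [hap, Finset.prod_congr rfl (fun i _ => by rw [hpow i]), Finset.prod_const, Finset.card_range]
    intro e
    refine hder ((QuotientGroup.eq_one_iff (N := commutator H) u).1 ?_)
    have h1 : orderOf (Abelianization.of u) ∣ p := orderOf_dvd_of_pow_eq_one e
    have h2 : orderOf (Abelianization.of u) ∣ Nat.card H :=
      (orderOf_map_dvd _ u).trans (orderOf_dvd_natCard u)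
    exact orderOf_eq_one_iff.1
      (((Nat.dvd_prime hp).1 h1).resolve_right fun h => hpH (h ▸ h2))
  have : NeZero ((Monoid.exponent (Abelianization H) : ℕ) : ℂ) :=
    ⟨Nat.cast_ne_zero.2 Monoid.exponent_ne_zero_of_finite⟩
  obtain ⟨φ, hφ⟩ := CommGroup.exists_apply_ne_one_of_hasEnoughRootsOfUnity (Abelianization H) ℂ hne
  exact ⟨φ.comp Φ, fun h => by simp [hinv], hφ⟩

end Linear

end Cfsg.Agent.Peterfalvi.Sec12
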