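import Cfsg.Agent.Lib.Peterfalvi.TypeIFrobenius

/-!
# Coherence for a maximal subgroup which is a Frobenius group with kernel `M_σ` not TI

The hypothesis `IsOfTypeI` of `typeI_frobenius_coherent` is avoided: the alternatives come from
the local form of BG 15.7.

* `sigmaSub` : `L_σ` inside `L`
* `frobK_sigma`, `kernel_alternatives`, `exponent_eq_index`, `kernel_coherent`
-/

set_option autoImplicit false
set_option linter.unusedSectionVars false

namespace Cfsg.Agent.Peterfalvi.Sec12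

open scoped Pointwise commutatorElement
open Cfsg OddMax Cfsg.Agent.Coherence Cfsg.Agent.Char

universe u

variable {G : Type u} [Group G]

/-- `L_σ` as a subgroup of `L`. -/
abbrev sigmaSub (L : Subgroup G) : Subgroup L := (sigmaCore L).subgroupOf L

theorem sigmaSub_normal [Finite G] (L : Subgroup G) : (sigmaSub L).Normal :=
  Subgroup.normal_subgroupOf_of_le_normalizer (le_normalizer_sigmaCore L)

/-- Every nonidentity element of `L_σ` has its centralizer in `L` inside `L_σ`. -/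
def FrobSigma (L : Subgroup G) : Prop :=
  ∀ x ∈ sigmaCore L, x ≠ 1 → L ⊓ Subgroup.centralizer ({x} : Set G) ≤ sigmaCore L

theorem frobK_sigma {L : Subgroup G} (hfrob : FrobSigma L) : FrobK (sigmaSub L) := by
  intro h hh h1 x hx
  rw [Subgroup.mem_centralizer_singleton_iff] at hx
  exact hfrob h hh (fun e => h1 (Subtype.ext e))
    ⟨x.2, Subgroup.mem_centralizer_singleton_iff.2 (congrArg Subtype.val hx)⟩

variable [Fintype G] (hG : IsMinSimpleOddOrder G) (F : Sec16Facts G) {L : Subgroup G}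
  (hL : IsCoatom L) {U : Subgroup G} (hKU : IsSigmaDecomposition L ⊥ U) (hfrob : FrobSigma L)

include hG F hL hKU

theorem sigmaSub_ne_top : sigmaSub L ≠ ⊤ := fun e =>
  (commutator_lt hG hL).not_ge
    ((Subgroup.subgroupOf_eq_top.1 e).trans (sigmaCore_le_commutator F.toSec15Facts hL))

theorem sigmaSub_ne_bot : sigmaSub L ≠ ⊥ := by
  intro e
  rw [Subgroup.subgroupOf_eq_bot, disjoint_iff, inf_eq_left.2 (sigmaCore_le L)] at e
  exact sigmaCore_ne_bot F.toSec15Facts hL hKU e

theorem sigmaSub_card : Nat.card (sigmaSub L) = Nat.card (sigmaCore L) :=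
  Cores.card_subgroupOf (sigmaCore_le L)

theorem compl_index : (sigmaSub L).index = Nat.card U := by
  rw [← compl_relIndex_left (compl_of_kappa_empty hKU)]
  rfl

/-- The alternatives for `L_σ` when some element of `L_σ` has its centralizer outside `L`. -/
theorem kernel_alternatives [(sigmaSub L).Normal] {y : G} (hy : y ∈ sigmaCore L) (hy1 : y ≠ 1)
    (hC : ¬ Subgroup.centralizer ({y} : Set G) ≤ L) :
    IsMulCommutative (sigmaCore L) ∨ ∀ q : ℕ, q.Prime → q ∣ Nat.card (sigmaCore L) →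
      Monoid.exponent (L ⧸ sigmaSub L) ∣ q - 1 := by
  obtain ⟨-, -, hH⟩ := typeOne_basic hG F hL hKU
  obtain ⟨c, hc, hcL⟩ := Set.not_subset.1 hC
  have hyF : y ∈ fittingOf L := fittingHallOf_le_fittingOf L (hH.symm ▸ hy)
  have hne : fittingOf L ⊓ (fittingOf L).map (MulAut.conj c).toMonoidHom ≠ ⊥ := by
    intro e
    refine hy1 (Subgroup.mem_bot.1 (e ▸ ⟨hyF, y, hyF, ?_⟩))
    simp [Subgroup.mem_centralizer_singleton_iff.1 hc, mul_assoc]
  obtain ⟨-, -, h⟩ := F.s1440 L hL ⊥ U hKU c hcL hne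
  have hsub : fittingHall L = sigmaSub L := by
    rw [sigmaSub, ← hH, fittingHallOf]
    exact (Subgroup.comap_map_eq_self_of_injective L.subtype_injective _).symm
  rcases h with ⟨-, hab, -⟩ | ⟨p, -, -, -, -, -, -, hexp⟩ | ⟨p, -, -, -, -, -, -, -, hK, -⟩
  · exact Or.inl (hH ▸ hab)
  · refine Or.inr fun q hq hd => ?_
    rw [hH] at hexp
    rw [← Monoid.exponent_eq_of_mulEquiv (QuotientGroup.quotientMulEquivOfEq hsub)]
    exact hexp q hq hd
  · exact absurd rfl hK

include hfrob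

theorem fpf_complement : Frobenius.FPF U (sigmaCore L) := by
  intro u hu hu1 k hk e
  by_contra hk1
  have hc := compl_of_kappa_empty hKU
  exact hu1 (Subgroup.mem_bot.1 (hc.2.2.1.le ⟨hu,
    hfrob k hk hk1 ⟨hc.1 hu, Subgroup.mem_centralizer_singleton_iff.2 e⟩⟩))

theorem smallCyclic_complement : Frobenius.SmallCyclic U :=
  Frobenius.smallCyclic_of_fpf (sigmaCore_ne_bot F.toSec15Facts hL hKU)
    ((compl_of_kappa_empty hKU).1.trans (le_normalizer_sigmaCore L))
    (fpf_complement hG F hL hKU hfrob)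

theorem exponent_eq_index [(sigmaSub L).Normal] :
    Monoid.exponent (L ⧸ sigmaSub L) = (sigmaSub L).index := by
  have hc := compl_of_kappa_empty hKU
  have hodd : ¬ 2 ∣ Nat.card U :=
    ((hG.1.of_dvd_nat (Subgroup.card_subgroup_dvd_card U))).not_two_dvd_nat
  have := (smallCyclic_complement hG F hL hKU hfrob).isZGroup_of_odd hodd
  let f : U →* L ⧸ sigmaSub L :=
    (QuotientGroup.mk' (sigmaSub L)).comp (Subgroup.inclusion hc.1)
  have hf : Function.Bijective f := by
    refine ⟨(injective_iff_map_eq_one f).2 fun u hu => ?_, fun q => ?_⟩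
    · have hmem : Subgroup.inclusion hc.1 u ∈ sigmaSub L :=
        (QuotientGroup.eq_one_iff (N := sigmaSub L) _).1 hu
      replace hmem : (u : G) ∈ sigmaCore L := hmem
      exact Subtype.ext (Subgroup.mem_bot.1 (hc.2.2.1.le ⟨u.2, hmem⟩))
    · obtain ⟨⟨l, hl⟩, rfl⟩ := QuotientGroup.mk_surjective q
      obtain ⟨a, ha, b, hb, rfl⟩ := hc.2.2.2 l hl
      refine ⟨⟨a, ha⟩, QuotientGroup.eq.2 ?_⟩
      show a⁻¹ * (a * b) ∈ sigmaCore L
      simpa using hb
  rw [← Monoid.exponent_eq_of_mulEquiv (MulEquiv.ofBijective f hf), IsZGroup.exponent_eq_card,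
    compl_index hG F hL hKU]

variable [Fintype L]

theorem zspanOn_core {α : L → ℂ}
    (hα : α ∈ zspanOn (inducedIrrAbove (sigmaSub L) ⊥) {1}ᶜ) :
    IsClassFunction L α ∧ IsGeneralizedCharacter L α ∧
      ∀ x : L, (x : G) ∉ coreA1 L → α x = 0 := by
  have := sigmaSub_normal L
  have key : IsClassFunction L α ∧ ∀ x : L, x ∉ sigmaSub L → α x = 0 := by
    refine zspan_induction (P := fun β : L → ℂ =>
        IsClassFunction L β ∧ ∀ x : L, x ∉ sigmaSub L → β x = 0) ?_
      ⟨fun _ _ => rfl, fun _ _ => rfl⟩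
      (fun a _ b _ ha hb => ⟨Char.isClassFunction_add ha.1 hb.1,
        fun x hx => by simp [ha.2 x hx, hb.2 x hx]⟩)
      (fun n a _ ha => ⟨fun g x => by simp [ha.1 g x], fun x hx => by simp [ha.2 x hx]⟩) hα.1
    rintro φ ⟨θ, -, -, -, rfl⟩
    exact ⟨indFun_isClassFunction _ θ, fun x hx => CliffordChar.indFun_not_mem _ θ hx⟩
  refine ⟨key.1, isGC_of_mem_zspan ?_ hα.1, fun x hx => ?_⟩
  · exact fun φ hφ => isGC_of_isCharacter
      (IsIrrCharacter.isCharacter ((frobK_sigma hfrob).irr_of_mem hφ))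
  · rw [coreA1, Set.mem_diff, not_and, not_not] at hx
    by_cases hxH : x ∈ sigmaSub L
    · exact hα.2 x (by simpa using hx hxH)
    · exact key.2 x hxH

theorem kernel_coherent {y : G} (hy : y ∈ sigmaCore L) (hy1 : y ≠ 1)
    (hC : ¬ Subgroup.centralizer ({y} : Set G) ≤ L) :
    IsCoherent (inducedIrrAbove (sigmaSub L) ⊥) {1}ᶜ
      (dadeIsometry (coreA1 L) L (supportR L)) := by
  classical
  have := sigmaSub_normal L
  have hD := dade_hypothesis hG F hL (A := coreA1 L) (Or.inl rfl)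
  have hK := frobK_sigma hfrob
  have hodd : Odd (Nat.card L) := hG.1.of_dvd_nat (Subgroup.card_subgroup_dvd_card L)
  have hH1 := sigmaSub_ne_bot hG F hL hKU
  have hH2 := sigmaSub_ne_top hG F hL hKU
  have hnil : Group.IsNilpotent (sigmaSub L) := hK.nilpotent hH2
  have hsolv : Group.IsSolvable (sigmaSub L) := inferInstance
  obtain ⟨φ, hφ, -⟩ := exists_linear_mem ⊥ hsolv (bot_lt_iff_ne_bot.2 hH1)
  have hconj : ∀ χ ∈ inducedIrrAbove (sigmaSub L) ⊥,
      Cfsg.conjFun χ ∈ inducedIrrAbove (sigmaSub L) ⊥ ∧ Cfsg.conjFun χ ≠ χ := by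
    intro χ hχ
    refine ⟨inducedSet_conj_mem ⊥ hχ, fun e => ?_⟩
    rw [← hK.set_eq] at hχ
    obtain ⟨hirr, h, -, hne⟩ := hχ
    have hone := CharApp.real_irr_of_odd hodd hirr fun g => Complex.conj_eq_iff_im.1 (congrFun e g)
    exact hne (by rw [hone])
  have hiso : IsLinearIsometryOn (zspanOn (inducedIrrAbove (sigmaSub L) ⊥) {1}ᶜ)
      (dadeIsometry (coreA1 L) L (supportR L)) := by
    refine ⟨fun α _ β _ => dadeIsometry_add α β, fun α _ n => dadeIsometry_zsmul n α,
      fun α hα β hβ => ?_, fun α hα => ?_⟩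
    · obtain ⟨h1, -, h2⟩ := zspanOn_core hG F hL hKU hfrob hα
      obtain ⟨h3, -, h4⟩ := zspanOn_core hG F hL hKU hfrob hβ
      exact (S1500.result _ L _ hD α h1 h2).1 β h3 h4
    · obtain ⟨-, h1, h2⟩ := zspanOn_core hG F hL hKU hfrob hα
      exact S1501.result _ L _ hD α h1 h2
  obtain ⟨R', hR'⟩ := S1514.result (inducedIrrAbove (sigmaSub L) ⊥) ⟨φ, hφ⟩
    (fun χ => hK.irr_of_mem) hconj (dadeIsometry (coreA1 L) L (supportR L))
    hiso (fun α _ => dadeIsometry_one hD α)
  have hlt : ⁅sigmaSub L, sigmaSub L⁆ ⊔ ⊥ < sigmaSub L := by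
    rw [sup_bot_eq]
    refine lt_of_le_of_ne (Subgroup.commutator_le_self _) fun h => ?_
    have : Nontrivial (sigmaSub L) := (Subgroup.nontrivial_iff_ne_bot _).2 hH1
    apply (Group.IsSolvable.commutator_lt_top_of_nontrivial (sigmaSub L)).ne
    apply Subgroup.map_injective (sigmaSub L).subtype_injective
    rw [Subgroup.map_subtype_commutator, h, ← MonoidHom.range_eq_map, Subgroup.range_subtype]
  refine S1521.result (sigmaSub L) hsolv _ R' hR' hodd ⊥ bot_le inferInstance _ rfl hlt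
    (lt_top_iff_ne_top.2 hH2) (hK.frob_mod _ hlt.le) ?_
  rw [Subgroup.relIndex_bot_left]
  refine Or.inr (Or.inr ?_)
  rcases kernel_alternatives hG F hL hKU hy hy1 hC with hab | hexp
  · refine Or.inr (Or.inl ?_)
    rw [le_bot_iff, Subgroup.commutator_eq_bot_iff_le_centralizer]
    intro a ha
    rw [Subgroup.mem_centralizer_iff]
    intro b hb
    exact Subtype.ext (congrArg (fun z : sigmaCore L => (z : G))
      (hab.1.1 (⟨(b : G), hb⟩ : sigmaCore L) ⟨(a : G), ha⟩))
  · by_cases hp : ∃ p m : ℕ, p.Prime ∧ Nat.card (sigmaSub L) = p ^ m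
    · obtain ⟨p, m, hp1, hpm⟩ := hp
      refine Or.inr (Or.inr ⟨p, m, hp1, hpm, ?_⟩)
      rw [← exponent_eq_index hG F hL hKU hfrob]
      refine hexp p hp1 ?_
      rw [← sigmaSub_card hG F hL hKU, hpm]
      refine dvd_pow_self p fun hm => hH1 (Subgroup.card_eq_one.1 ?_)
      rw [hpm, hm, pow_zero]
    · exact Or.inl hp

end Cfsg.Agent.Peterfalvi.Sec12
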