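import Cfsg.Agent.Lib.Peterfalvi.Sec12Core
import Cfsg.Agent.Lib.Peterfalvi.Sec12Group
import Cfsg.Agent.Lib.Peterfalvi.Sec12Kernel
import Cfsg.Agent.Lib.OddOrder.FrobeniusAction

/-!
# Maximal subgroups with empty `κ` are Frobenius groups: the case of a partner with empty `κ`

A self-contained replacement of Peterfalvi (12.2)-(12.16) in this case.

* `witness_lt` : a witness of the partner is a smaller prime
* `partner_false` : the partner cannot be a Frobenius group
* `frobSigma_of_gap` : the theorem, modulo the case of a partner with nonempty `κ`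
-/

set_option autoImplicit false
set_option linter.unusedSectionVars false

namespace Cfsg.Agent.Peterfalvi.Sec12

open scoped Pointwise commutatorElement
open Cfsg OddMax Cfsg.Agent.Char

universe u

variable {G : Type u} [Group G] [Fintype G] (hG : IsMinSimpleOddOrder G) (F : Sec16Facts G)
include hG F

theorem decomp_of_empty {L : Subgroup G} (hL : IsCoatom L) (hκ : kappa L = ∅) :
    ∃ U, IsSigmaDecomposition L ⊥ U := by
  obtain ⟨K, U, hKU⟩ := exists_decomp F.toSec15Facts hL
  have hK : K = ⊥ := (kappa_empty_iff hKU).1 hκ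
  exact ⟨U, hK ▸ hKU⟩

variable {M L A : Subgroup G} {p : ℕ} {y : G} (P : Partner M L A p y)
include P

theorem Partner.prime : p.Prime := P.tau2.1

theorem Partner.order : orderOf y = p :=
  orderOf_eq_of_pow P.tau2.1 (P.elem.2 y P.mem) P.ne_one

theorem Partner.mem' : y ∈ sigmaCore L := P.le' P.mem

theorem Partner.p_ne_two : p ≠ 2 := by
  intro h
  have hd : p ∣ Nat.card G := (dvd_pow_self p two_ne_zero).trans
    (P.card ▸ Subgroup.card_subgroup_dvd_card A)
  rw [h] at hd
  exact hG.1.not_two_dvd_nat hd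

theorem Partner.not_conj : ∀ g : G, L ≠ M.map (MulAut.conj g).toMonoidHom := by
  intro g e
  have h : p ∈ Cfsg.sigma L := P.sigma
  rw [e] at h
  change p ∈ Cfsg.sigma (MulAut.conj g • M) at h
  rw [sigma_conj] at h
  exact P.tau2.2.1 h

/-- In the abelian case `A` is normal in `L`. -/
theorem Partner.normal_of_comm (hab : IsMulCommutative (sigmaCore L)) :
    L ≤ Subgroup.normalizer (A : Set G) := by
  have := Fact.mk P.tau2.1
  have := hab
  intro l hl
  refine Coprime.mem_normalizer_of_forall fun a ha => ?_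
  have hx : l * a * l⁻¹ ∈ sigmaCore L :=
    conj_mem_of_le_normalizer (le_normalizer_sigmaCore L) hl (P.le' ha)
  have hxM : l * a * l⁻¹ ∈ M := P.centralizer_le (Subgroup.mem_centralizer_singleton_iff.2
    (congrArg Subtype.val (mul_comm' (⟨_, hx⟩ : sigmaCore L) ⟨y, P.le' P.mem⟩)))
  exact elem_of_nilpotent F P.coatom P.tau2 P.le P.elem P.card
    (Cores.isNilpotent_of_isMulCommutative _) P.le' hxM hx
    (by rw [conj_pow, P.elem.2 a ha, mul_one, mul_inv_cancel])

theorem witness_lt (hκ : kappa L = ∅) {r : ℕ} (hrτ : r ∈ tau2 L) {x : G} (hx : x ∈ sigmaCore L)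
    (hx1 : x ≠ 1) {t : G} (ht : t ∈ L) (hto : orderOf t = r) (htx : t * x = x * t) : r < p := by
  classical
  have := Fact.mk P.tau2.1
  have := Fact.mk hrτ.1
  obtain ⟨U, hKU⟩ := decomp_of_empty hG F P.coatom' hκ
  have hrp : r ≠ p := fun e => hrτ.2.1 (e ▸ P.sigma)
  have hr2 : r ≠ 2 := by
    intro h
    have hd : r ∣ Nat.card G := hto ▸ orderOf_dvd_natCard t
    rw [h] at hd
    exact hG.1.not_two_dvd_nat hd
  have := sigmaSub_normal L
  rcases kernel_alternatives hG F P.coatom' hKU (P.le' P.mem) P.ne_one P.not_le with hab | hexp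
  · -- abelian kernel: a Sylow `r`-element acts nontrivially on `A`
    obtain ⟨R, hRL, hR, hRc, -⟩ := exists_elem_tau2 F P.coatom' hrτ ht hto
    obtain ⟨-, -, -, hCR, -, -⟩ := F.s1417 L P.coatom' r hrτ R ⟨hRL, hR, hRc⟩
    have hAL := Partner.normal_of_comm hG F P hab
    obtain ⟨s, hs, a₀, ha₀, hsa⟩ : ∃ s ∈ R, ∃ a ∈ A, s * a ≠ a * s := by
      by_contra h
      push Not at h
      refine P.ne_one (Subgroup.mem_bot.1 (hCR.le ⟨P.le' P.mem, ?_⟩))
      exact Subgroup.mem_centralizer_iff.2 fun w hw => h w hw y P.mem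
    have hs1 : s ≠ 1 := fun e => hsa (by rw [e, one_mul, mul_one])
    have hso := orderOf_eq_of_pow hrτ.1 (hR.2 s hs) hs1
    let φ : MulAut A := A.normalizerMonoidHom ⟨s, hAL (hRL hs)⟩
    let f : Function.End A := fun k => φ k
    have hf : ∀ n : ℕ, f ^ n = fun k => (φ ^ n) k := by
      intro n
      induction n with
      | zero => rfl
      | succ n ih =>
        rw [pow_succ, ih, pow_succ]
        rfl
    have hpow : f ^ r ^ 1 = 1 := by
      rw [pow_one, hf, ← map_pow, show ((⟨s, hAL (hRL hs)⟩ :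
        Subgroup.normalizer (A : Set G)) ^ r) = 1 from Subtype.ext (by simp [← hso, pow_orderOf_eq_one]),
        map_one]
      rfl
    have := Fintype.ofFinite A
    have key := Equiv.Perm.card_fixedPoints_modEq hpow
    rw [← Nat.card_eq_fintype_card, ← Nat.card_eq_fintype_card, P.card] at key
    set D := A ⊓ Subgroup.centralizer ({s} : Set G) with hD
    have hfix : Nat.card f.fixedPoints = Nat.card D := by
      refine Nat.card_congr ⟨fun z => ⟨((z : A) : G), (z : A).2, ?_⟩,
        fun z => ⟨⟨(z : G), z.2.1⟩, ?_⟩, fun z => rfl, fun z => rfl⟩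
      · have e : s * ((z : A) : G) * s⁻¹ = (z : A) := congrArg Subtype.val z.2
        exact Subgroup.mem_centralizer_singleton_iff.2 (mul_inv_eq_iff_eq_mul.1 e).symm
      · refine Subtype.ext ?_
        show s * (z : G) * s⁻¹ = z
        rw [← Subgroup.mem_centralizer_singleton_iff.1 z.2.2, mul_inv_cancel_right]
    rw [hfix] at key
    have hdvd : Nat.card D ∣ p ^ 2 := P.card ▸ Subgroup.card_dvd_of_le inf_le_left
    obtain ⟨i, hi, hic⟩ := (Nat.dvd_prime_pow P.tau2.1).1 hdvd
    have hi2 : i ≠ 2 := by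
      rintro rfl
      have hDA : D = A := Subgroup.eq_of_le_of_card_ge inf_le_left (by rw [hic, P.card])
      have : a₀ ∈ D := hDA.symm ▸ ha₀
      exact hsa (Subgroup.mem_centralizer_singleton_iff.1 this.2).symm
    rw [hic] at key
    have hle : p ^ i ≤ p ^ 2 := Nat.pow_le_pow_right P.tau2.1.pos hi
    have hd := (Nat.modEq_iff_dvd' hle).1 key.symm
    have hp2 := P.tau2.1.two_le
    have hcases : r ∣ p - 1 ∨ r ∣ p + 1 := by
      interval_cases i
      · rw [pow_zero, show p ^ 2 - 1 = p ^ 2 - 1 ^ 2 by norm_num, Nat.sq_sub_sq] at hd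
        rcases hrτ.1.dvd_mul.1 hd with h | h
        · exact Or.inr h
        · exact Or.inl h
      · rw [pow_one, show p ^ 2 - p = p * (p - 1) by rw [Nat.mul_sub, mul_one, sq]] at hd
        rcases hrτ.1.dvd_mul.1 hd with h | h
        · exact absurd ((Nat.prime_dvd_prime_iff_eq hrτ.1 P.tau2.1).1 h) hrp
        · exact Or.inl h
      · exact absurd rfl hi2
    rcases hcases with h | h
    · have := Nat.le_of_dvd (by omega) h
      omega
    · have h1 := Nat.le_of_dvd (by omega) h
      rcases eq_or_lt_of_le h1 with h2 | h2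
      · exfalso
        have hpo : Odd p := P.tau2.1.odd_of_ne_two (Partner.p_ne_two hG F P)
        have hro : Odd r := hrτ.1.odd_of_ne_two hr2
        rw [h2] at hro
        exact Nat.not_odd_iff_even.2 hpo.add_one hro
      · omega
  · have htL : (⟨t, ht⟩ : L) ∉ sigmaSub L := by
      intro h
      refine hrτ.2.1 (sigmaCore_pi L r hrτ.1 ?_)
      rw [← hto]
      exact Subgroup.orderOf_dvd_natCard _ h
    have ho : orderOf ((⟨t, ht⟩ : L) : L ⧸ sigmaSub L) = r := by
      refine orderOf_eq_of_pow hrτ.1 ?_ fun e => htL ((QuotientGroup.eq_one_iff _).1 e)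
      rw [← QuotientGroup.mk_pow, show (⟨t, ht⟩ : L) ^ r = 1 from Subtype.ext (by
        simp [← hto, pow_orderOf_eq_one]), QuotientGroup.mk_one]
    have hd : r ∣ p - 1 := by
      rw [← ho]
      refine (Monoid.order_dvd_exponent _).trans (hexp p P.tau2.1 ?_)
      exact (dvd_pow_self p two_ne_zero).trans (P.card ▸ Subgroup.card_dvd_of_le P.le')
    have := Nat.le_of_dvd (by have := P.tau2.1.two_le; omega) hd
    have := P.tau2.1.pos
    omega

theorem partner_false (C : CountFacts G) (hκ : kappa L = ∅) (hfrob : FrobSigma L) : False := by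
  classical
  have hpP := P.tau2.1
  have := Fact.mk hpP
  have hyo := Partner.order hG F P
  have hp2 := Partner.p_ne_two hG F P
  have hnc := Partner.not_conj hG F P
  obtain ⟨U, hKU⟩ := decomp_of_empty hG F P.coatom' hκ
  obtain ⟨-, hnilL, -⟩ := typeOne_basic hG F P.coatom' hKU
  have := sigmaSub_normal L
  have := sigmaSub_normal M
  have hyL : y ∈ L := sigmaCore_le L (P.le' P.mem)
  have hyM : y ∈ M := P.le P.mem
  -- the signalizers of the powers of `y`
  have hpow : ∀ z ∈ Subgroup.zpowers y, z ≠ 1 →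
      z ∈ sigmaCore L ∧ Subgroup.centralizer ({z} : Set G) = Subgroup.centralizer ({y} : Set G) := by
    intro z hz hz1
    refine ⟨Subgroup.zpowers_le.2 (P.le' P.mem) hz, ?_⟩
    have hzA : z ∈ A := Subgroup.zpowers_le.2 P.mem hz
    have : Subgroup.zpowers z = Subgroup.zpowers y := by
      refine Subgroup.eq_of_le_of_card_ge (Subgroup.zpowers_le.2 hz) ?_
      rw [Nat.card_zpowers, Nat.card_zpowers, hyo, orderOf_eq_of_pow hpP (P.elem.2 z hzA) hz1]
    rw [← centralizer_zpowers, ← centralizer_zpowers, this]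
  have hsig : ∀ z ∈ Subgroup.zpowers y, z ≠ 1 → IsSignalizer L z M ∧
      supportR L z = sigmaCore M ⊓ Subgroup.centralizer ({y} : Set G) := by
    intro z hz hz1
    obtain ⟨hzL, hzC⟩ := hpow z hz hz1
    have hne : ¬ Subgroup.centralizer ({z} : Set G) ≤ L := hzC ▸ P.not_le
    obtain ⟨N, hN⟩ := exists_signalizer hG F.toSigFacts P.coatom' hzL hz1 hne
    have hNM : N = M := P.unique N hN.coatom (hzC ▸ hN.le)
    subst hNM
    exact ⟨hN, by rw [supportR_eq hG F.toSigFacts P.coatom' hzL hz1 hN hne, hzC]⟩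
  obtain ⟨hSig, -⟩ := hsig y (Subgroup.mem_zpowers y) P.ne_one
  have hE := hSig.compl
  -- `E = L ⊓ M` lies in the kernel
  have hcopE : ∀ r : ℕ, r.Prime → r ∣ Nat.card ↥(L ⊓ M) → r ∉ sigma M := by
    intro r hr hd hσ
    refine (F.s1350 M P.coatom).1.2.2 r hr hσ ?_
    rwa [compl_relIndex_left hE]
  have hAE : A ≤ L ⊓ M := le_inf (P.le'.trans (sigmaCore_le L)) P.le
  obtain ⟨hnilM, -, -, hCA, -, A₁, hA₁A, hA₁c, hA₁f⟩ :=
    F.s1417 M P.coatom p P.tau2 A ⟨P.le, P.elem, P.card⟩
  have hH1 : sigmaCore M ≠ ⊥ := fun e => P.not_derived (by rw [e, bot_inf_eq]; exact bot_le)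
  have hEσ : L ⊓ M ≤ sigmaCore L := by
    intro e he
    by_contra hne
    obtain ⟨a, b, ha, hb, hab, haσ, hbσ⟩ := exists_pi_parts (sigma L) e
    have hb1 : b ≠ 1 := by
      rintro rfl
      rw [mul_one] at hab
      exact hne (mem_sigmaCore_of_sigma F.toSigFacts P.coatom' he.1 (hab ▸ haσ))
    obtain ⟨r, hr, hd, t, ht, hto⟩ := exists_prime_part hb1
    have := Fact.mk hr
    have htE : t ∈ L ⊓ M := Subgroup.zpowers_le.2 he (Subgroup.zpowers_le.2 hb ht)
    have hrL : r ∉ sigma L := hbσ r hr hd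
    have ht1 : t ≠ 1 := fun e0 => hr.one_lt.ne (by rw [← hto, e0, orderOf_one])
    have htσ : t ∉ sigmaCore L := fun h => hrL (sigmaCore_pi L r hr
      (hto ▸ Subgroup.orderOf_dvd_natCard _ h))
    have hrM : r ∉ sigma M := hcopE r hr (hto ▸ Subgroup.orderOf_dvd_natCard _ htE)
    have hrp : r ≠ p := fun e0 => hrL (e0 ▸ P.sigma)
    have hnorm : ∀ w ∈ L ⊓ M, ∀ a ∈ A, w * a * w⁻¹ ∈ A := fun w hw a ha =>
      elem_of_nilpotent F P.coatom P.tau2 P.le P.elem P.card hnilL P.le'
        (M.mul_mem (M.mul_mem hw.2 (P.le ha)) (M.inv_mem hw.2))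
        (conj_mem_of_le_normalizer (le_normalizer_sigmaCore L) hw.1 (P.le' ha))
        (by rw [conj_pow, P.elem.2 a ha, mul_one, mul_inv_cancel])
    set R := Subgroup.zpowers t with hR
    have hRE : R ≤ L ⊓ M := Subgroup.zpowers_le.2 htE
    have hRA : R ≤ Subgroup.normalizer (A : Set G) := fun w hw =>
      Coprime.mem_normalizer_of_forall fun a ha => hnorm w (hRE hw) a ha
    have hfree : ∀ w ∈ R, w ≠ 1 → A ⊓ Subgroup.centralizer ({w} : Set G) = ⊥ := by
      intro w hw hw1
      rw [Subgroup.eq_bot_iff_forall]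
      intro a ha
      by_contra ha1
      have hwo : Subgroup.zpowers w = R := by
        refine Subgroup.eq_of_le_of_card_ge (Subgroup.zpowers_le.2 hw) ?_
        have hd' : orderOf w ∣ r := by
          rw [← hto, ← Nat.card_zpowers t]
          exact Subgroup.orderOf_dvd_natCard R hw
        rw [Nat.card_zpowers, Nat.card_zpowers, hto]
        exact (((Nat.dvd_prime hr).1 hd').resolve_left
          (fun h => hw1 (orderOf_eq_one_iff.1 h))).ge
      have hwL : w ∈ sigmaCore L := hfrob a (P.le' ha.1) ha1 ⟨(hRE hw).1,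
        Subgroup.mem_centralizer_singleton_iff.2
          (Subgroup.mem_centralizer_singleton_iff.1 ha.2).symm⟩
      exact htσ (Subgroup.zpowers_le.2 hwL (hwo ▸ Subgroup.mem_zpowers t))
    have hA1 : A ≠ ⊥ := fun e0 => P.ne_one (by
      have := P.mem
      rwa [e0, Subgroup.mem_bot] at this)
    have hR1 : R ≠ ⊥ := fun e0 => ht1 (Subgroup.zpowers_eq_bot.1 e0)
    have hcop : (Nat.card ↥(A ⊔ R)).Coprime (Nat.card (sigmaCore M)) :=
      Nat.coprime_of_dvd fun q hq h1 h2 =>
        hcopE q hq (h1.trans (Subgroup.card_dvd_of_le (sup_le hAE hRE))) (sigmaCore_pi M q hq h2)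
    have hform := FrobAction.card_formula hA1 hR1 hRA hfree
      (P.le.trans (le_normalizer_sigmaCore M))
      ((hRE.trans inf_le_right).trans (le_normalizer_sigmaCore M))
      (have := hnilM; inferInstance) hcop hCA
    obtain ⟨c, hc, hc1⟩ : ∃ c ∈ sigmaCore M ⊓ Subgroup.centralizer (R : Set G), c ≠ 1 := by
      by_contra h
      push Not at h
      rw [(Subgroup.eq_bot_iff_forall _).2 h, Subgroup.card_bot, one_pow] at hform
      exact hH1 (Subgroup.card_eq_one.1 hform)
    have htc : t * c = c * t := hc.2 t (Subgroup.mem_zpowers t)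
    rcases F.s1432 M P.coatom c hc.1 hc1 t
      ⟨htE.2, Subgroup.mem_centralizer_singleton_iff.2 htc⟩ ht1 (fun q hq hqd => by
        rw [hto, Nat.prime_dvd_prime_iff_eq hq hr] at hqd
        exact hqd ▸ hrM) with ⟨h, -⟩ | ⟨h, -⟩
    · have := h r hr (dvd_of_eq hto.symm)
      rw [P.kappa_empty] at this
      exact this
    · have hcm := commute_tau2 F P.coatom P.tau2 P.le P.elem P.card
        (h r hr (dvd_of_eq hto.symm)) hrp htE.2 hto P.mem (hnorm t htE _ (A.inv_mem P.mem))
      exact htσ (hfrob y (P.le' P.mem) P.ne_one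
        ⟨htE.1, Subgroup.mem_centralizer_singleton_iff.2 hcm.symm⟩)
  have hEab : IsMulCommutative ↥(L ⊓ M) :=
    (F.s1420 M P.coatom _ (hE)).1 _ inf_le_right (Cores.isNilpotent_of_le hEσ hnilL) hcopE
  -- elements of `L` normalising `⟨y⟩`
  have hnormy : ∀ l ∈ L, l * y * l⁻¹ ∈ Subgroup.zpowers y → l ∈ L ⊓ M := by
    intro l hl hly
    refine ⟨hl, ?_⟩
    have h1 : Subgroup.centralizer ({l * y * l⁻¹} : Set G) = Subgroup.centralizer ({y} : Set G) :=
      (hpow _ hly (fun e => P.ne_one (conj_eq_one_iff.1 e))).2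
    rw [centralizer_conj] at h1
    have h2 : MulAut.conj l • M = M := P.unique _ (OddSigma.isCoatom_conj P.coatom l)
      (h1 ▸ (conj_le_conj l).2 P.centralizer_le)
    rw [← OddUniq.normalizer_eq_of_coatom hG.2.1 P.coatom (fun e => P.ne_one (by
      have := hyM
      rwa [e, Subgroup.mem_bot] at this)) le_rfl Subgroup.le_normalizer]
    refine Coprime.mem_normalizer_of_forall fun w hw => ?_
    rw [← h2]
    exact Coprime.conj_mem_conj.2 hw
  have hNy : ∀ l ∈ L, l * y * l⁻¹ ∈ Subgroup.zpowers y → l * y = y * l := fun l hl hly =>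
    congrArg Subtype.val (hEab.1.1 (⟨l, hnormy l hl hly⟩ : ↥(L ⊓ M)) ⟨y, hyL, hyM⟩)
  -- the invariant linear character
  obtain ⟨c, hc, hcd⟩ := Set.not_subset.1 P.not_derived
  set σ : MulAut (sigmaSub M) := MulAut.conjNormal (⟨y, hyM⟩ : M) with hσ
  let u₀ : sigmaSub M := ⟨⟨c, sigmaCore_le M hc.1⟩, hc.1⟩
  have hu : σ u₀ = u₀ := by
    refine Subtype.ext (Subtype.ext ?_)
    rw [hσ, MulAut.conjNormal_apply]
    show y * c * y⁻¹ = c
    rw [← Subgroup.mem_centralizer_singleton_iff.1 hc.2, mul_inv_cancel_right]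
  have hder : u₀ ∉ commutator (sigmaSub M) := by
    intro h
    apply hcd
    have h1 : (u₀ : M) ∈ ⁅sigmaSub M, sigmaSub M⁆ :=
      Subgroup.map_subtype_commutator (sigmaSub M) ▸ Subgroup.mem_map_of_mem _ h
    have h2 := Subgroup.mem_map_of_mem M.subtype h1
    rwa [Subgroup.map_commutator, Subgroup.map_subgroupOf_eq_of_le (sigmaCore_le M)] at h2
  have hpH : ¬ p ∣ Nat.card (sigmaSub M) := by
    rw [Cores.card_subgroupOf (sigmaCore_le M)]
    exact fun h => P.tau2.2.1 (sigmaCore_pi M p hpP h)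
  obtain ⟨θ, hθy, hθu⟩ := exists_invariant_linear σ hpP (by
    rw [hσ, ← map_pow, show (⟨y, hyM⟩ : M) ^ p = 1 from
      Subtype.ext (by simp [← hyo, pow_orderOf_eq_one]), map_one]) hpH hu hder
  -- the element without fixed points
  obtain ⟨z, hzA, hz1⟩ : ∃ z ∈ A₁, z ≠ 1 := by
    by_contra h
    push Not at h
    rw [(Subgroup.eq_bot_iff_forall _).2 h, Subgroup.card_bot] at hA₁c
    exact hpP.one_lt.ne hA₁c
  have hzo := orderOf_eq_of_pow hpP (P.elem.2 z (hA₁A hzA)) hz1
  have hzgen : Subgroup.zpowers z = A₁ := Subgroup.eq_of_le_of_card_ge (Subgroup.zpowers_le.2 hzA)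
    (by rw [Nat.card_zpowers, hzo, hA₁c])
  -- the index
  have hfK := frobK_sigma hfrob
  have hidx := compl_index hG F P.coatom' hKU
  have hoddU : Odd (Nat.card U) := hG.1.of_dvd_nat (Subgroup.card_subgroup_dvd_card U)
  have hU1 : U ≠ ⊥ := (typeOne_basic hG F P.coatom' hKU).1
  have he3 : 3 ≤ (sigmaSub L).index := by
    rw [hidx]
    have h1 : Nat.card U ≠ 1 := fun e => hU1 (Subgroup.card_eq_one.1 e)
    have h2 : 0 < Nat.card U := Nat.card_pos
    obtain ⟨k, hk⟩ := hoddU
    omega
  have h2e : 2 * (sigmaSub L).index ≤ p + 1 := by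
    rcases kernel_alternatives hG F P.coatom' hKU (P.le' P.mem) P.ne_one P.not_le with hab | hexp
    · rw [hidx]
      have hc := compl_of_kappa_empty hKU
      have hfree := fpf_complement hG F P.coatom' hKU hfrob
      have : Nontrivial U := (Subgroup.nontrivial_iff_ne_bot U).2 hU1
      obtain ⟨⟨v, hv⟩, hv1⟩ := Subgroup.ne_bot_iff_exists_ne_one.1
        (smallCyclic_complement hG F P.coatom' hKU hfrob).center_ne_bot
      refine two_mul_card_le (v := (v : G)) (y := y) P.elem P.card
        (hc.1.trans (Partner.normal_of_comm hG F P hab)) hoddU hp2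
        (fun w hw a ha ha1 e => ?_) v.2 (fun e => hv1 (Subtype.ext (Subtype.ext e)))
        (fun w hw => congrArg Subtype.val (Subgroup.mem_center_iff.1 hv ⟨w, hw⟩)) P.mem
        fun w hw hly => ?_
      · by_contra hw1
        exact ha1 (hfree w hw hw1 a (P.le' ha) (mul_inv_eq_iff_eq_mul.1 e))
      · exact Subgroup.mem_bot.1 (hc.2.2.1.le ⟨hw, hEσ (hnormy w (hc.1 hw) hly)⟩)
    · have hd : (sigmaSub L).index ∣ p - 1 := by
        rw [← exponent_eq_index hG F P.coatom' hKU hfrob]
        exact hexp p hpP ((dvd_pow_self p two_ne_zero).trans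
          (P.card ▸ Subgroup.card_dvd_of_le P.le'))
      obtain ⟨k, hk⟩ := hd
      have hpo : Odd p := hpP.odd_of_ne_two hp2
      have hk2 : 2 ≤ k := by
        rcases Nat.lt_or_ge k 2 with h | h
        · exfalso
          have hpe : Even (p - 1) := by
            obtain ⟨m, hm⟩ := hpo
            exact ⟨m, by omega⟩
          have := hpP.two_le
          interval_cases k
          · omega
          · rw [mul_one, hidx] at hk
            rw [hk] at hpe
            exact Nat.not_odd_iff_even.2 hpe hoddU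
        · exact h
      have := Nat.mul_le_mul_left (sigmaSub L).index hk2
      have := hpP.pos
      omega
  have hhK : p ^ 2 ≤ Nat.card (sigmaSub L) := by
    rw [Cores.card_subgroupOf (sigmaCore_le L), ← P.card]
    exact Subgroup.card_le_of_le P.le'
  have hcoh := kernel_coherent hG F P.coatom' hKU hfrob (P.le' P.mem) P.ne_one P.not_le
  have hsolv : Group.IsSolvable (sigmaSub L) := by
    have := hfK.nilpotent (sigmaSub_ne_top hG F P.coatom' hKU)
    infer_instance
  refine core_false (dade_hypothesis hG F P.coatom' (A := coreA1 L) (Or.inl rfl))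
    (dade_hypothesis hG F P.coatom (A := coreA1 M) (Or.inl rfl)) ?_ (sigmaSub L) hfK
    (sigmaSub_ne_bot hG F P.coatom' hKU) hsolv
    (fun x => ⟨fun h => ⟨h.1, fun e => h.2 (by rw [e]; rfl)⟩,
      fun h => ⟨h.1, fun e => h.2 (Subtype.ext e)⟩⟩)
    (sigmaSub M) (fun x => ⟨fun h => ⟨h.1, fun e => h.2 (by rw [e]; rfl)⟩,
      fun h => ⟨h.1, fun e => h.2 (Subtype.ext e)⟩⟩)
    hcoh hpP hyo hyM hyL (P.le' P.mem) P.centralizer_le ?_ hNy ?_ ?_ hpH θ hθy ⟨u₀, hu, hθu⟩
    (z := ⟨z, P.le (hA₁A hzA)⟩) (by rw [Subgroup.orderOf_mk, hzo]) ?_ he3 h2e hhK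
  · intro g hg hg'
    have key : ∀ N : Subgroup G, g ∈ Dade.support (coreA1 N) (supportR N) → g ∈ tildeSigma N := by
      rintro N ⟨a, ha, u, hu', x, hx⟩
      exact ⟨a, ha, u, hu', x⁻¹, by rw [← hx]; group⟩
    have := tilde_disjoint hG C P.coatom P.coatom' hnc
    exact (Set.eq_empty_iff_forall_notMem.1 this g) ⟨key M hg', key L hg⟩
  · intro w hw hw1
    rw [(hsig w hw hw1).2, Subgroup.map_subgroupOf_eq_of_le (sigmaCore_le M)]
  · intro l hl
    exact hfrob y (P.le' P.mem) P.ne_one ⟨l.2, Subgroup.mem_centralizer_singleton_iff.2 hl⟩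
  · calc (sigmaSub M).index = Nat.card ↥(L ⊓ M) := compl_relIndex_left hE
      _ ≤ Nat.card (sigmaCore L) := Subgroup.card_le_of_le hEσ
      _ = Nat.card (sigmaSub L) := (Cores.card_subgroupOf (sigmaCore_le L)).symm
  · intro h hh
    have hzc : z * ((h : M) : G) = (h : M) * z := by
      have e := congrArg (fun w : sigmaSub M => ((w : M) : G)) hh
      simp only [MulAut.conjNormal_apply] at e
      exact mul_inv_eq_iff_eq_mul.1 e
    have : ((h : M) : G) ∈ sigmaCore M ⊓ Subgroup.centralizer (A₁ : Set G) := by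
      refine ⟨h.2, ?_⟩
      rw [← hzgen, centralizer_zpowers]
      exact Subgroup.mem_centralizer_singleton_iff.2 hzc.symm
    rw [hA₁f, Subgroup.mem_bot] at this
    exact Subtype.ext (Subtype.ext this)

omit P

/-- Maximal subgroups with empty `κ` are Frobenius groups, provided no partner has nonempty `κ`. -/
theorem frobSigma_of_gap (C : CoverFacts G)
    (hgap : ∀ (M L A : Subgroup G) (p : ℕ) (y : G), Partner M L A p y →
      (kappa L).Nonempty → False)
    {M : Subgroup G} (hM : IsCoatom M) (hκ : kappa M = ∅) : FrobSigma M := by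
  classical
  intro x hx hx1
  by_contra hne
  have hex : ∃ p, Witness G p := by
    obtain ⟨q, hqτ, t, ht, hto, htx⟩ := exists_witness F hM hκ hx hx1 hne
    exact ⟨q, M, hM, hκ, hqτ, x, hx, hx1, t, ht, hto, htx⟩
  obtain ⟨M', L, A, y, P⟩ := exists_partner hG F C (Nat.find_spec hex)
  rcases (kappa L).eq_empty_or_nonempty with hL | hL
  · refine partner_false hG F P C.toCountFacts hL fun w hw hw1 => ?_
    by_contra hne'
    obtain ⟨r, hrτ, t, ht, hto, htx⟩ := exists_witness F P.coatom' hL hw hw1 hne'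
    exact Nat.find_min hex (witness_lt hG F P hL hrτ hw hw1 ht hto htx)
      ⟨L, P.coatom', hL, hrτ, w, hw, hw1, t, ht, hto, htx⟩
  · exact hgap _ _ _ _ _ P hL

end Cfsg.Agent.Peterfalvi.Sec12
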