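import Cfsg.Agent.Lib.Peterfalvi.Sec9Coherence

/-!
# Peterfalvi section 9: `sec9Facts` (owner: helper44)
-/

set_option autoImplicit false

namespace Cfsg.Agent.Peterfalvi

open Cfsg OddMax

universe u

variable {G : Type u} [Group G] [Fintype G]

/-- The results of section 9. -/
theorem sec9Facts (hG : IsMinSimpleOddOrder G) : Sec9Facts G where
  exists_kernel _ _ _ _ h := h.exists_chiefKernel
  factor _ _ _ _ _ h hK := h.factor hG hK
  core _ _ _ _ _ h hK := h.core hG (OddOrder14.sec16 hG) hK
  galois_field _ _ _ _ _ h hK hgal := h.galois_field hG hK hgal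
  nonGalois_line _ _ _ _ _ h hK hgal := h.nonGalois_line hG hK hgal
  reducible_core_ind _ _ _ _ _ h hK := h.reducible_core_ind hG hK
  nonGalois_characters _ _ _ _ _ _ h hK hL _ := h.nonGalois_characters hG hK hL
  galois_characters _ _ _ _ _ h hK hgal := h.galois_characters hG hK hgal
  reducible_core_cases _ _ _ _ _ h hK := h.reducible_core_cases hG hK
  coherence _ _ _ _ _ h hK := h.coherence hG hK

end Cfsg.Agent.Peterfalvi
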