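import Cfsg.Agent.Lib.Peterfalvi.Sec12TypeP
import Cfsg.Agent.Lib.Peterfalvi.Sec11.Main
import Cfsg.Agent.Lib.Peterfalvi.Sec10TypeVCoherent
import Cfsg.Agent.Lib.Peterfalvi.Sec9Facts

/-!
# Peterfalvi section 12, assembled

* `frobSigma_of_inputs`, `typeI_frobenius_of_inputs` : the results of section 12 from the results
  of section 9 and the coherence half of (10.10)
* `frobSigma` : the unconditional form
-/

set_option autoImplicit false

namespace Cfsg.Agent.Peterfalvi.Sec12

open Cfsg OddMax

universe u

variable {G : Type u} [Group G] [Fintype G] (hG : IsMinSimpleOddOrder G) (F9 : Sec9Facts G)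
  (hC : TypeVCoherent G)
include hG F9 hC

/-- Maximal subgroups with empty `κ` are Frobenius groups with kernel `M_σ`. -/
theorem frobSigma_of_inputs {M : Subgroup G} (hM : IsCoatom M) (hκ : kappa M = ∅) : FrobSigma M :=
  frobSigma_of_kappa_empty hG (OddOrder14.sec16 hG) (OddOrder14.cover hG) F9
    (sec11Facts hG F9 (nonCoherence hG)) (noTypeV_of hG hC) hM hκ

/-- Subgroups of Type I are Frobenius groups with kernel `M_F`. -/
theorem typeI_frobenius_of_inputs {M : Subgroup G} (hM : IsCoatom M) (hI : IsOfTypeI M) :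
    ∀ x ∈ fittingHallOf M, x ≠ 1 →
      M ⊓ Subgroup.centralizer ({x} : Set G) ≤ fittingHallOf M :=
  typeI_frobenius hG (OddOrder14.sec16 hG) (OddOrder14.cover hG) F9
    (sec11Facts hG F9 (nonCoherence hG)) (noTypeV_of hG hC) hM hI

omit F9 hC

/-- Maximal subgroups with empty `κ` are Frobenius groups with kernel `M_σ`, unconditionally. -/
theorem frobSigma {M : Subgroup G} (hM : IsCoatom M) (hκ : kappa M = ∅) : FrobSigma M :=
  frobSigma_of_inputs hG (sec9Facts hG) (typeVCoherent hG) hM hκ

end Cfsg.Agent.Peterfalvi.Sec12
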