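import Cfsg.Agent.Lib.Peterfalvi.Sec12Frobenius
import Cfsg.Agent.S1526
import Cfsg.Agent.S1527

/-!
# Not every maximal subgroup has empty `κ`

* `exists_kappa_nonempty` : some maximal subgroup has nonempty `κ` (the key to statement 1541)
-/

set_option autoImplicit false
set_option linter.unusedSectionVars false

namespace Cfsg.Agent.Peterfalvi.Sec12

open scoped Pointwise
open Cfsg OddMax

universe u

variable {G : Type u} [Group G] [Fintype G] (hG : IsMinSimpleOddOrder G) (F : Sec16Facts G)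
  (C : CoverFacts G)
include hG F C

theorem exists_kappa_nonempty : ∃ M : Subgroup G, IsCoatom M ∧ (kappa M).Nonempty := by
  classical
  by_contra hno
  push Not at hno
  have hκ : ∀ M : Subgroup G, IsCoatom M → kappa M = ∅ := fun M hM => hno M hM
  have hfrob : ∀ M : Subgroup G, IsCoatom M → FrobSigma M := fun M hM =>
    frobSigma_of_gap hG F C (fun M' L A p y P hL => by
      rw [hκ L P.coatom'] at hL
      exact Set.not_nonempty_empty hL) hM (hκ M hM)
  have hcent : ∀ M : Subgroup G, IsCoatom M → ∀ x ∈ sigmaCore M, x ≠ 1 →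
      Subgroup.centralizer ({x} : Set G) ≤ M := by
    intro M hM x hx hx1
    by_contra hne
    obtain ⟨N, hN⟩ := exists_signalizer hG F.toSigFacts hM hx hx1 hne
    obtain ⟨⟨w, hw⟩, hw1⟩ := Subgroup.ne_bot_iff_exists_ne_one.1 hN.ne_bot
    exact hN.not_mem hx1 (hfrob N hN.coatom w hw.1 (fun e => hw1 (Subtype.ext e))
      ⟨hN.le (mem_centralizer_self x), Subgroup.mem_centralizer_singleton_iff.2
        (Subgroup.mem_centralizer_singleton_iff.1 hw.2).symm⟩)
  have hnorm : ∀ M : Subgroup G, IsCoatom M → sigmaCore M ≠ ⊥ ∧ sigmaCore M < M ∧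
      Subgroup.normalizer (sigmaCore M : Set G) = M := by
    intro M hM
    obtain ⟨U, hKU⟩ := decomp_of_empty hG F hM (hκ M hM)
    have h1 := sigmaCore_ne_bot F.toSec15Facts hM hKU
    refine ⟨h1, lt_of_le_of_ne (sigmaCore_le M) fun e => (commutator_lt hG hM).not_ge ?_,
      OddUniq.normalizer_eq_of_coatom hG.2.1 hM h1 (sigmaCore_le M) (le_normalizer_sigmaCore M)⟩
    exact e.symm.le.trans (sigmaCore_le_commutator F.toSec15Facts hM)
  have hTI : ∀ M : Subgroup G, IsCoatom M → IsTISubset (sigmaCore M : Set G) := by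
    intro M hM g hg x hx hgx
    by_contra hx1
    rw [(hnorm M hM).2.2] at hg
    obtain ⟨m, hm, he⟩ := exists_fusion hG F.toSigFacts hM hx hx1 (sigmaCore_le M hgx)
    refine hg ?_
    have hmem : m⁻¹ * g ∈ Subgroup.centralizer ({x} : Set G) := by
      rw [Subgroup.mem_centralizer_singleton_iff]
      calc m⁻¹ * g * x = m⁻¹ * (g * x * g⁻¹) * g := by group
        _ = m⁻¹ * (m * x * m⁻¹) * g := by rw [he]
        _ = x * (m⁻¹ * g) := by group
    have := M.mul_mem hm (hcent M hM x hx hx1 hmem)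
    rwa [mul_inv_cancel_left] at this
  have hcover : ∀ g : G, g ≠ 1 → ∃ M : Subgroup G, IsCoatom M ∧ ∃ x : G,
      x * g * x⁻¹ ∈ sigmaCore M := by
    intro g hg
    rcases OddMax.cover hG C hg with ⟨N, hN, h⟩ | ⟨H, -, -, b, hH, -, -, -, -, hb1, hb, -⟩
    · obtain ⟨a, ⟨ha, ha1⟩, r, hr, w, rfl⟩ := h
      rw [supportR_eq_bot (hcent N hN a ha ha1), Subgroup.mem_bot] at hr
      exact ⟨N, hN, w⁻¹, by rw [hr]; simpa [mul_assoc] using ha⟩
    · obtain ⟨q, hq, hd, -⟩ := exists_prime_part hb1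
      have := hb q hq hd
      rw [hκ H hH] at this
      exact this.elim
  -- representatives of the classes of maximal subgroups
  let S : Setoid {M : Subgroup G // IsCoatom M} :=
    { r := fun M N => ∃ g : G, (N : Subgroup G) = MulAut.conj g • (M : Subgroup G)
      iseqv :=
        { refl := fun M => ⟨1, by rw [map_one, one_smul]⟩
          symm := fun {M N} ⟨g, hg⟩ => ⟨g⁻¹, by rw [hg, map_inv, inv_smul_smul]⟩
          trans := fun {M N K} ⟨g, hg⟩ ⟨h, hh⟩ =>
            ⟨h * g, by rw [hh, hg, map_mul, mul_smul]⟩ } }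
  let ι := Quotient S
  have : Fintype ι := Fintype.ofFinite _
  let L : ι → Subgroup G := fun i => (i.out : Subgroup G)
  have hL : ∀ i, IsCoatom (L i) := fun i => i.out.2
  let H : ι → Subgroup G := fun i => sigmaCore (L i)
  have hcover' : ∀ g : G, g ≠ 1 → ∃ i, ∃ x : G, x * g * x⁻¹ ∈ H i := by
    intro g hg
    obtain ⟨M, hM, x, hx⟩ := hcover g hg
    obtain ⟨h, hh⟩ := Quotient.mk_out (s := S) ⟨M, hM⟩
    change M = MulAut.conj h • L _ at hh
    rw [hh, sigmaCore_conj, Coprime.mem_conj] at hx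
    exact ⟨⟦⟨M, hM⟩⟧, h⁻¹ * x, by simpa [mul_assoc] using hx⟩
  have hcop : ∀ i j, i ≠ j → Nat.Coprime (Nat.card (H i)) (Nat.card (H j)) := by
    intro i j hij
    refine Nat.coprime_of_dvd fun p hp h1 h2 => hij ?_
    obtain ⟨g, hg⟩ := F.sigma_disj (L i) (L j) (hL i) (hL j)
      ⟨p, sigmaCore_pi _ p hp h1, sigmaCore_pi _ p hp h2⟩
    rw [← Quotient.out_eq i, ← Quotient.out_eq j]
    exact Quotient.sound ⟨g, hg⟩
  have hTI' : ∀ i, IsTISubset (H i : Set G) := fun i => hTI _ (hL i)
  rcases Nat.lt_or_ge (Fintype.card ι) 2 with hlt | hge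
  · have hsub : Subsingleton ι := Fintype.card_le_one_iff_subsingleton.1 (by omega)
    have hG1 : Nontrivial G := hG.2.1.toNontrivial
    obtain ⟨g₀, hg₀⟩ := exists_ne (1 : G)
    obtain ⟨i₀, -⟩ := hcover' g₀ hg₀
    have h27 := S1527.result H hcop hTI' hcover'
    rw [Fintype.sum_subsingleton _ i₀] at h27
    change Nat.card G - 1 =
      (Subgroup.normalizer (sigmaCore (L i₀) : Set G)).index * _ at h27
    obtain ⟨-, hltM, hN⟩ := hnorm _ (hL i₀)
    rw [hN, ← (L i₀).card_mul_index] at h27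
    have hidx : 2 ≤ (L i₀).index := by
      have h1 : (L i₀).index ≠ 1 := fun e => (hL i₀).1 (Subgroup.index_eq_one.1 e)
      have h2 : (L i₀).index ≠ 0 := Subgroup.index_ne_zero_of_finite
      omega
    have hc : Nat.card (H i₀) < Nat.card (L i₀) := by
      refine lt_of_le_of_ne (Subgroup.card_le_of_le hltM.le) fun e => hltM.ne ?_
      exact Subgroup.eq_of_le_of_card_ge hltM.le e.ge
    have h3 : (L i₀).index * (Nat.card (H i₀) - 1) + (L i₀).index ≤
        Nat.card (L i₀) * (L i₀).index := by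
      rw [← Nat.mul_succ, mul_comm (Nat.card (L i₀))]
      exact Nat.mul_le_mul_left _ (by omega)
    have h4 : 0 < Nat.card (L i₀) * (L i₀).index := Nat.mul_pos Nat.card_pos (by omega)
    omega
  · exact S1526.result hG.1 hge L H (fun i => (hnorm _ (hL i)).2.1) (fun i => (hnorm _ (hL i)).1)
      (fun i x hx h hh => conj_mem_of_le_normalizer (le_normalizer_sigmaCore _) hx hh)
      (fun i => hfrob _ (hL i)) hcop (fun i => ⟨hTI' i, (hnorm _ (hL i)).2.2⟩) hcover'

end Cfsg.Agent.Peterfalvi.Sec12
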