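import Cfsg.Agent.Lib.Peterfalvi.Sec12Frobenius
import Cfsg.Agent.Lib.Peterfalvi.Sec11Interface
import Cfsg.Agent.Lib.Cores.Frattini
import Cfsg.Agent.Lib.Cores.Fitting

/-!
# A partner is not of type P

The step of Peterfalvi (12.9): the maximal subgroup `L` attached to a witness has empty `κ`.

* `partner_kappa_empty` : the statement, given that there is no subgroup of Type V and the results
  of sections 9 and 11
* `frobSigma_of_kappa_empty` : maximal subgroups with empty `κ` are Frobenius groups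
* `typeI_frobenius` : the shape of statement 1540
-/

set_option autoImplicit false
set_option linter.unusedSectionVars false

namespace Cfsg.Agent.Peterfalvi.Sec12

open scoped Pointwise commutatorElement
open Cfsg OddMax Cfsg.Agent.Char

universe u

/-- A normal Sylow subgroup of a nilpotent group is not inside the derived subgroup. -/
theorem dvd_index_commutator {U : Type*} [Group U] [Finite U] [Group.IsNilpotent U] {p : ℕ}
    [hp : Fact p.Prime] (hd : p ∣ Nat.card U) : p ∣ (_root_.commutator U).index := by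
  by_contra hn
  obtain ⟨P⟩ : Nonempty (Sylow p U) := inferInstance
  have hPn : (P : Subgroup U).Normal := P.normal_of_normalizerCondition Group.normalizerCondition_of_isNilpotent
  have hPC : (P : Subgroup U) ≤ _root_.commutator U := by
    intro x hx
    rw [← QuotientGroup.eq_one_iff, ← orderOf_eq_one_iff]
    have h1 : orderOf (x : U ⧸ _root_.commutator U) ∣ (_root_.commutator U).index := by
      rw [Subgroup.index_eq_card]
      exact orderOf_dvd_natCard _
    obtain ⟨k, hk⟩ := (IsPGroup.iff_orderOf.1 P.isPGroup') ⟨x, hx⟩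
    rw [Subgroup.orderOf_mk] at hk
    have h2 : orderOf (x : U ⧸ _root_.commutator U) ∣ p ^ k :=
      hk ▸ orderOf_map_dvd (QuotientGroup.mk' _) x
    exact Nat.eq_one_of_dvd_coprimes
      ((hp.out.coprime_iff_not_dvd.2 hn).pow_left k) h2 h1
  obtain ⟨K, hK⟩ := Subgroup.exists_right_complement'_of_coprime P.card_coprime_index
  have hKtop : K = ⊤ := frattini_nongenerating (by
    rw [eq_top_iff, ← hK.sup_eq_top, sup_comm]
    exact sup_le_sup_left (hPC.trans Cores.commutator_le_frattini) _)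
  have := hK.disjoint
  rw [hKtop, disjoint_top] at this
  exact P.ne_bot_of_dvd_card hd this

variable {G : Type u} [Group G] [Fintype G] (hG : IsMinSimpleOddOrder G) (F : Sec16Facts G)
include hG F

variable {M L A : Subgroup G} {p : ℕ} {y : G} (P : Partner M L A p y)
include P

/-- The case of Types III and IV. -/
theorem partner_not_typeIII_IV (F9 : Sec9Facts G) (F11 : Sec11Facts G)
    (h34 : IsOfTypeIII L ∨ IsOfTypeIV L) (hnII : ¬ IsOfTypeII L)
    (hder : ⁅L, L⁆ = sigmaCore L) : False := by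
  classical
  have hpP := P.tau2.1
  have := Fact.mk hpP
  obtain ⟨W₁, U, W₂, hP, hTI⟩ : ∃ W₁ U W₂ : Subgroup G, IsTypePWith L W₁ U W₂ ∧
      IsTISubset (fittingOf L : Set G) := by
    rcases h34 with ⟨a, b, c, h1, -, -, h4, -⟩ | ⟨a, b, c, h1, -, -, h4, -⟩ <;>
      exact ⟨a, b, c, h1, h4⟩
  have h9 : Hyp9 L W₁ U W₂ := hyp9_of_type P.coatom' hP (Or.inr h34)
  obtain ⟨H₀, hH₀⟩ := h9.exists_chiefKernel
  obtain ⟨hrP, -, -, -, -, -, -, -⟩ := F9.factor L W₁ U W₂ H₀ h9 hH₀
  obtain ⟨-, hrW, -, -⟩ := (F9.core L W₁ U W₂ H₀ h9 hH₀).2 hnII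
  obtain ⟨-, hC⟩ := F11.derived_two L W₁ U W₂ H₀ h9 hH₀ hnII
  have hrq := F11.card_lt L W₁ U W₂ h9 hnII
  have hAD : A ≤ ⁅L, L⁆ := hder ▸ P.le'
  have hy : y ∈ ⁅L, L⁆ := hAD P.mem
  have hyp := orderOf_eq_of_pow hpP (P.elem.2 y P.mem) P.ne_one
  have hpc : Nat.card (fittingHallOf L) * Nat.card U = Nat.card ↥⁅L, L⁆ := compl_card hP.U_compl
  -- `p` does not divide the order of the Fitting core
  have hyF : y ∉ fittingOf L := by
    intro hyF
    refine P.not_le fun c hc => ?_
    have hN : Subgroup.normalizer (fittingOf L : Set G) = L :=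
      normalizer_set_eq hG P.coatom' (fittingOf_le L)
        (fun m hm x hx => conj_mem_of_le_normalizer (le_normalizer_fittingOf L) hm hx) hyF P.ne_one
    rw [← hN]
    by_contra hcN
    refine P.ne_one (hTI c hcN y hyF ?_)
    rwa [Subgroup.mem_centralizer_singleton_iff.1 hc, mul_inv_cancel_right]
  have hpH : ¬ p ∣ Nat.card (fittingHallOf L) := by
    intro hd
    apply hyF
    have := le_normalizer_fittingHallOf L
    refine fittingHallOf_le_fittingOf L ?_
    have hle : ⁅L, L⁆ ≤ Subgroup.normalizer (fittingHallOf L : Set G) := h9.le_M.2.2.1.trans this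
    have : ((fittingHallOf L).subgroupOf ⁅L, L⁆).Normal :=
      (Subgroup.normal_subgroupOf_iff_le_normalizer h9.le_M.1).2 hle
    have hidx : ((fittingHallOf L).subgroupOf ⁅L, L⁆).index = Nat.card U :=
      compl_relIndex_right hP.U_compl
    have h1 : ((⟨y, hy⟩ : ↥⁅L, L⁆) : ↥⁅L, L⁆ ⧸ (fittingHallOf L).subgroupOf ⁅L, L⁆) = 1 := by
      rw [← orderOf_eq_one_iff]
      refine Nat.eq_one_of_dvd_coprimes
        (hpP.coprime_iff_not_dvd.2 fun h => ?_) ?_
        (orderOf_dvd_natCard _ : _ ∣ Nat.card (↥⁅L, L⁆ ⧸ (fittingHallOf L).subgroupOf ⁅L, L⁆))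
      · rw [← Subgroup.index_eq_card, hidx] at h
        exact hpP.one_lt.ne' (Nat.eq_one_of_dvd_coprimes h9.coprime_U h hd)
      · refine (orderOf_map_dvd (QuotientGroup.mk' _) _).trans ?_
        rw [Subgroup.orderOf_mk, hyp]
    exact (QuotientGroup.eq_one_iff (N := (fittingHallOf L).subgroupOf ⁅L, L⁆) ⟨y, hy⟩).1 h1
  have hpU : p ∣ Nat.card U := by
    have h1 : p ∣ Nat.card ↥⁅L, L⁆ := hyp ▸ Subgroup.orderOf_dvd_natCard _ hy
    rw [← hpc] at h1
    exact (hpP.dvd_mul.1 h1).resolve_left hpH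
  -- conjugate `A` into `U`
  obtain ⟨m, hm⟩ : ∃ m : G, ∀ a ∈ A, m⁻¹ * a * m ∈ U := by
    obtain ⟨Q⟩ : Nonempty (Sylow p U) := inferInstance
    set QD : Subgroup ↥⁅L, L⁆ := ((Q : Subgroup U).map U.subtype).subgroupOf ⁅L, L⁆ with hQD
    have hle : (Q : Subgroup U).map U.subtype ≤ ⁅L, L⁆ :=
      (Subgroup.map_subtype_le _).trans h9.le_M.2.1
    have hcard : Nat.card QD = p ^ (Nat.card ↥⁅L, L⁆).factorization p := by
      rw [hQD, Cores.card_subgroupOf hle,
        Subgroup.card_map_of_injective U.subtype_injective, Q.card_eq_multiplicity, ← hpc,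
        Nat.factorization_mul Nat.card_pos.ne' Nat.card_pos.ne', Finsupp.add_apply,
        Nat.factorization_eq_zero_of_not_dvd hpH, zero_add]
    obtain ⟨S, hS⟩ := IsPGroup.exists_le_sylow (p := p) (G := ↥⁅L, L⁆)
      (P := A.subgroupOf ⁅L, L⁆) ((Signalizer.isPGroup_of_elemAb P.elem).comap_of_injective
        (Subgroup.subtype _) (Subgroup.subtype_injective _))
    obtain ⟨d, hd⟩ := MulAction.exists_smul_eq ↥⁅L, L⁆ (Sylow.ofCard QD hcard) S
    refine ⟨d, fun a ha => ?_⟩
    have hmem : (⟨a, hAD ha⟩ : ↥⁅L, L⁆) ∈ (S : Subgroup ↥⁅L, L⁆) := hS ha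
    rw [← hd, Sylow.coe_subgroup_smul, Sylow.coe_ofCard] at hmem
    obtain ⟨b, hb, hba⟩ := hmem
    have hba' : (d : G) * b * (d : G)⁻¹ = a := congrArg Subtype.val hba
    rw [← hba', show (d : G)⁻¹ * ((d : G) * b * (d : G)⁻¹) * d = (b : G) by group]
    exact Subgroup.map_subtype_le (H := U) (Q : Subgroup U) hb
  -- central elements of order `p` of `U`
  have hnil : Group.IsNilpotent U := hP.U_nilpotent
  set Z : Subgroup G := U ⊓ Subgroup.centralizer (U : Set G) with hZ
  set V : Subgroup G :=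
    { carrier := {x | x ∈ Z ∧ x ^ p = 1}
      one_mem' := ⟨one_mem _, one_pow p⟩
      mul_mem' := fun {a b} ha hb => ⟨Z.mul_mem ha.1 hb.1, by
        rw [(show Commute a b from (Subgroup.mem_centralizer_iff.1 hb.1.2 a ha.1.1)).mul_pow,
          ha.2, hb.2, one_mul]⟩
      inv_mem' := fun {a} ha => ⟨Z.inv_mem ha.1, by rw [inv_pow, ha.2, inv_one]⟩ } with hV
  have hVA : ∀ x ∈ V, m * x * m⁻¹ ∈ A := by
    rintro x ⟨⟨-, hxc⟩, hxp⟩
    have hcomm : ∀ a ∈ A, a * (m * x * m⁻¹) = (m * x * m⁻¹) * a := by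
      intro a ha
      have h1 := Subgroup.mem_centralizer_iff.1 hxc _ (hm a ha)
      calc a * (m * x * m⁻¹) = m * ((m⁻¹ * a * m) * x) * m⁻¹ := by group
        _ = m * (x * (m⁻¹ * a * m)) * m⁻¹ := by rw [h1]
        _ = (m * x * m⁻¹) * a := by group
    exact elem_of_commute P.tau2 P.le P.elem P.card
      (P.centralizer_le (Subgroup.mem_centralizer_singleton_iff.2 (hcomm y P.mem).symm))
      (by rw [conj_pow, hxp, mul_one, mul_inv_cancel]) hcomm
  obtain ⟨z, hzV, hz1⟩ : ∃ z ∈ V, z ≠ 1 := by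
    obtain ⟨Q⟩ : Nonempty (Sylow p U) := inferInstance
    have hQn : (Q : Subgroup U).Normal :=
      Q.normal_of_normalizerCondition Group.normalizerCondition_of_isNilpotent
    obtain ⟨⟨w, hwQ, hwc⟩, hw1⟩ := Subgroup.ne_bot_iff_exists_ne_one.1
      (Cores.inf_center_ne_bot (G := U) (Q : Subgroup U) (Q.ne_bot_of_dvd_card hpU))
    obtain ⟨k, hk⟩ := (IsPGroup.iff_orderOf.1 Q.isPGroup') ⟨w, hwQ⟩
    rw [Subgroup.orderOf_mk] at hk
    have hk0 : k ≠ 0 := by
      rintro rfl
      exact hw1 (Subtype.ext (orderOf_eq_one_iff.1 (by rw [hk, pow_zero])))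
    refine ⟨((w ^ p ^ (k - 1) : U) : G), ⟨⟨SetLike.coe_mem _,
      Subgroup.mem_centralizer_iff.2 fun v hv => congrArg Subtype.val
        (Subgroup.mem_center_iff.1 (Subgroup.pow_mem _ hwc _) ⟨v, hv⟩)⟩, ?_⟩, fun e => ?_⟩
    · rw [← SubgroupClass.coe_pow, ← pow_mul, ← pow_succ, Nat.sub_add_cancel (Nat.pos_of_ne_zero hk0),
        ← hk, pow_orderOf_eq_one, OneMemClass.coe_one]
    · have e' : w ^ p ^ (k - 1) = 1 := Subtype.ext e
      have hd := orderOf_dvd_of_pow_eq_one e'
      rw [hk, Nat.pow_dvd_pow_iff_le_right hpP.one_lt] at hd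
      omega
  obtain ⟨j, hj, hVc⟩ : ∃ j, j ≤ 2 ∧ Nat.card V = p ^ j := by
    refine (Nat.dvd_prime_pow hpP).1 ?_
    rw [← P.card, ← show Nat.card ↥(V.map (MulAut.conj m).toMonoidHom) = Nat.card V from
      Subgroup.card_map_of_injective (MulEquiv.injective _)]
    exact Subgroup.card_dvd_of_le (by rintro _ ⟨x, hx, rfl⟩; exact hVA x hx)
  have hj0 : j ≠ 0 := by
    rintro rfl
    rw [pow_zero, Subgroup.card_eq_one] at hVc
    exact hz1 (Subgroup.mem_bot.1 (hVc ▸ hzV))
  -- the action of `W₁` on them gives `q ≤ p`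
  have hqp : Nat.card W₁ ≤ p := by
    obtain ⟨⟨e, he⟩, he1⟩ := Subgroup.ne_bot_iff_exists_ne_one.1 hP.W₁_ne
    have he1' : e ≠ 1 := fun h => he1 (Subtype.ext h)
    have := Fact.mk h9.prime
    have hen : e ∈ Subgroup.normalizer (V : Set G) := by
      refine Coprime.mem_normalizer_of_forall fun x hx => ⟨⟨?_, ?_⟩, ?_⟩
      · exact conj_mem_of_le_normalizer hP.U_normal he hx.1.1
      · refine Subgroup.mem_centralizer_iff.2 fun v hv => ?_
        have h1 := Subgroup.mem_centralizer_iff.1 hx.1.2 _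
          (conj_mem_of_le_normalizer hP.U_normal (W₁.inv_mem he) hv)
        rw [inv_inv] at h1
        calc v * (e * x * e⁻¹) = e * ((e⁻¹ * v * e) * x) * e⁻¹ := by group
          _ = e * (x * (e⁻¹ * v * e)) * e⁻¹ := by rw [h1]
          _ = e * x * e⁻¹ * v := by group
      · rw [conj_pow, hx.2, mul_one, mul_inv_cancel]
    let φ : MulAut V := V.normalizerMonoidHom ⟨e, hen⟩
    let f : Function.End V := fun k => φ k
    have hf : ∀ n : ℕ, f ^ n = fun k => (φ ^ n) k := by
      intro n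
      induction n with
      | zero => rfl
      | succ n ih =>
        rw [pow_succ, ih, pow_succ]
        rfl
    have heq : e ^ Nat.card W₁ = 1 := by
      have := pow_card_eq_one' (G := W₁) (x := ⟨e, he⟩)
      exact congrArg Subtype.val this
    have hpow : f ^ Nat.card W₁ ^ 1 = 1 := by
      rw [pow_one, hf, ← map_pow, show ((⟨e, hen⟩ : Subgroup.normalizer (V : Set G)) ^
        Nat.card W₁) = 1 from Subtype.ext (by simpa using heq), map_one]
      rfl
    have := Fintype.ofFinite V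
    have key := Equiv.Perm.card_fixedPoints_modEq hpow
    have hfix : Nat.card f.fixedPoints = 1 := by
      rw [Nat.card_eq_one_iff_unique]
      refine ⟨⟨fun a b => ?_⟩, ⟨⟨1, map_one φ⟩⟩⟩
      have hfx : ∀ a : f.fixedPoints, (a : V) = 1 := by
        rintro ⟨a, ha⟩
        have h1 : e * (a : G) * e⁻¹ = a := congrArg Subtype.val ha
        exact Subtype.ext (h9.fpf he he1' a.2.1.1 (mul_inv_eq_iff_eq_mul.1 h1))
      exact Subtype.ext ((hfx a).trans (hfx b).symm)
    rw [← Nat.card_eq_fintype_card, ← Nat.card_eq_fintype_card, hfix, hVc] at key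
    have hd := (Nat.modEq_iff_dvd' (Nat.one_le_pow _ _ hpP.pos)).1 key.symm
    have hpo : Odd p := hpP.odd_of_ne_two (Partner.p_ne_two hG F P)
    have hqo : Odd (Nat.card W₁) := hG.1.of_dvd_nat (Subgroup.card_subgroup_dvd_card W₁)
    have hp2 := hpP.two_le
    have hcases : Nat.card W₁ ∣ p - 1 ∨ Nat.card W₁ ∣ p + 1 := by
      interval_cases j
      · exact absurd rfl hj0
      · rw [pow_one] at hd
        exact Or.inl hd
      · rw [show p ^ 2 - 1 = p ^ 2 - 1 ^ 2 by norm_num, Nat.sq_sub_sq] at hd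
        exact (h9.prime.dvd_mul.1 hd).symm
    rcases hcases with h | h
    · have := Nat.le_of_dvd (by omega) h
      omega
    · have h1 := Nat.le_of_dvd (by omega) h
      rcases eq_or_lt_of_le h1 with h2 | h2
      · rw [h2] at hqo
        exact absurd hqo (Nat.not_odd_iff_even.2 hpo.add_one)
      · omega
  -- `U` is not cyclic, so the pair is not of Galois kind, and `p < |W₂|`
  have hpi : p ∣ (stabC L U H₀).relIndex U := by
    rw [hC, ← Subgroup.map_subtype_commutator, Subgroup.relIndex, Subgroup.subgroupOf,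
      Subgroup.comap_map_eq_self_of_injective U.subtype_injective]
    exact dvd_index_commutator hpU
  by_cases hGal : IsGaloisPair L U H₀
  · obtain ⟨K, _, _, f, ψ, σ, -, -, -, -, hψ, hψm, hψC, -⟩ :=
      F9.galois_field L W₁ U W₂ H₀ h9 hH₀ hGal
    let φ : U →* Kˣ :=
      MonoidHom.mk' (fun v => Units.mk0 (ψ v) (hψ v v.2).1) fun a b => Units.ext (hψm a a.2 b b.2)
    obtain ⟨⟨g', g, rfl⟩, hgen⟩ := IsCyclic.exists_generator (α := φ.range)
    have hgtop : Subgroup.zpowers g = ⊤ := by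
      refine frattini_nongenerating (eq_top_iff.2 fun v _ => ?_)
      obtain ⟨i, hi⟩ := Subgroup.mem_zpowers_iff.1 (hgen ⟨φ v, v, rfl⟩)
      have hi' : φ g ^ i = φ v := congrArg Subtype.val hi
      rw [show v = g ^ i * ((g ^ i)⁻¹ * v) by group]
      refine Subgroup.mul_mem_sup (Subgroup.zpow_mem _ (Subgroup.mem_zpowers g) i)
        (Cores.commutator_le_frattini ?_)
      have h1 : φ ((g ^ i)⁻¹ * v) = 1 := by rw [map_mul, map_inv, map_zpow, hi', inv_mul_cancel]
      have h2 := (hψC _ (((g ^ i)⁻¹ * v : U)).2).1 (congrArg Units.val h1)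
      rw [hC, ← Subgroup.map_subtype_commutator] at h2
      obtain ⟨w, hw, hwe⟩ := h2
      exact Subtype.ext (a1 := w) hwe ▸ hw
    have hUc : IsCyclic U :=
      ⟨g, fun v => Subgroup.mem_zpowers_iff.1 (hgtop.symm ▸ Subgroup.mem_top v : v ∈ Subgroup.zpowers g)⟩
    refine not_isCyclic_of_elementary P.elem P.card.ge ?_
    have hle : A.map (MulAut.conj m⁻¹).toMonoidHom ≤ U := by
      rintro _ ⟨a, ha, rfl⟩
      simpa using hm a ha
    have : IsCyclic ↥(A.map (MulAut.conj m⁻¹).toMonoidHom) := Subgroup.isCyclic_of_le hle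
    exact (A.equivMapOfInjective _ (MulEquiv.injective _)).isCyclic.2 this
  · obtain ⟨H₁, -, -, h1, hdvd, -, hdvd2⟩ := F9.nonGalois_line L W₁ U W₂ H₀ h9 hH₀ hGal
    have hpa := (hpP.dvd_of_dvd_pow (hpi.trans hdvd2)).trans hdvd
    rw [hrW] at hpa hrP
    have := Nat.le_of_dvd (by have := hrP.two_le; omega) hpa
    omega

/-- A partner has empty `κ`. -/
theorem partner_kappa_empty (F9 : Sec9Facts G) (F11 : Sec11Facts G)
    (hV : ∀ N : Subgroup G, IsCoatom N → ¬ IsOfTypeV N) : kappa L = ∅ := by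
  by_contra hκ
  obtain ⟨K, U, hKU⟩ := exists_decomp F.toSec15Facts P.coatom'
  have hK : K ≠ ⊥ := (kappa_nonempty_iff hKU).1 (Set.nonempty_iff_ne_empty.2 hκ)
  have hU : U = ⊥ := by
    by_contra hU
    refine P.not_le (centralizer_le_of_typeP2 hG F P.coatom' hKU hK hU ?_)
    exact Or.inl (coreA1_subset_coreA hG F P.coatom' ⟨P.le' P.mem, P.ne_one⟩)
  by_cases heq : fittingHallOf L = sigmaCore L
  · exact hV L P.coatom' (isOfTypeV_of hG F P.coatom' hKU hK hU heq)
  · refine partner_not_typeIII_IV hG F P F9 F11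
      (isOfTypeIII_or_IV_of hG F P.coatom' hKU heq)
      (fun h => ((typeII_iff hG F P.coatom' hKU).1 h).2 hU) ?_
    rw [(kappa_basic hG F P.coatom' hKU hK).1, hU, bot_sup_eq]

omit P

/-- Maximal subgroups with empty `κ` are Frobenius groups with kernel `M_σ`. -/
theorem frobSigma_of_kappa_empty (C : CoverFacts G) (F9 : Sec9Facts G) (F11 : Sec11Facts G)
    (hV : ∀ N : Subgroup G, IsCoatom N → ¬ IsOfTypeV N) {M : Subgroup G} (hM : IsCoatom M)
    (hκ : kappa M = ∅) : FrobSigma M :=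
  frobSigma_of_gap hG F C
    (fun _ _ _ _ _ P h => h.ne_empty (partner_kappa_empty hG F P F9 F11 hV)) hM hκ

/-- Subgroups of Type I are Frobenius groups with kernel `M_F`. -/
theorem typeI_frobenius (C : CoverFacts G) (F9 : Sec9Facts G) (F11 : Sec11Facts G)
    (hV : ∀ N : Subgroup G, IsCoatom N → ¬ IsOfTypeV N) {M : Subgroup G} (hM : IsCoatom M)
    (hI : IsOfTypeI M) : ∀ x ∈ fittingHallOf M, x ≠ 1 →
      M ⊓ Subgroup.centralizer ({x} : Set G) ≤ fittingHallOf M := by
  obtain ⟨K, U, hKU⟩ := exists_decomp F.toSec15Facts hM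
  have hK := K_eq_bot_of_typeI hG F hM hKU hI
  subst hK
  rw [(typeOne_basic hG F hM hKU).2.2]
  exact frobSigma_of_kappa_empty hG F C F9 F11 hV hM ((kappa_empty_iff hKU).2 rfl)

end Cfsg.Agent.Peterfalvi.Sec12
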