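import Cfsg.Agent.Lib.CyclicTI.Rigid
import Cfsg.Agent.Lib.CyclicTI.TypeP
import Cfsg.Agent.Lib.CliffordChar.Basic
import Cfsg.Agent.Lib.Coherence.Extend
import Cfsg.Agent.Lib.CharApp.PermLemma
import Cfsg.Agent.S1511
import Cfsg.Agent.S1513

/-!
# Peterfalvi (4.2)-(4.5): the exceptional characters of `L = K ⋊ W₁` (owner: helper34)

Everything is indexed by the linear characters `ω` of `W₁ ⊔ W₂`, taken in the ambient group.

* `PrimeTI L K W₁ W₂`: the hypothesis (4.2)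
* `SameCol ω ν` (equal on `W₂`), `SameRow ω ν` (equal on `W₁`), `colClass`, `colSum`
* `MuFamily h μ δ`, `exists_muFamily` : (4.3)
* `MuFamily.identify`, `mu_one`, `mu_inv`, `colSum_inv`, `sign_eq_of_degree`
* `MuFamily.resK_irr`, `indFun_resK`, `resK_inj`, `dichotomy` : (4.4), (4.5)
* `PrimeTI.exists_conj_W` : every element outside `K` is conjugate into `W ∖ W₂`
-/

set_option autoImplicit false

namespace Cfsg.Agent.Peterfalvi

open Cfsg Cfsg.Agent Cfsg.Agent.Char Cfsg.Agent.Coherence Cfsg.Agent.CyclicTI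
open scoped ComplexConjugate

universe u

variable {G : Type u} [Group G]

/-- Peterfalvi (4.2): `L = K ⋊ W₁` with `C_K(x) = W₂` for every `x ∈ W₁ ∖ 1`. -/
structure PrimeTI (L K W₁ W₂ : Subgroup G) : Prop where
  K_le : K ≤ L
  W₁_le : W₁ ≤ L
  W₂_le : W₂ ≤ K
  ne₂ : W₂ ≠ ⊥
  setup : CyclicTI.TypeP.Setup (K.subgroupOf L) (W₁.subgroupOf L) (W₂.subgroupOf L)
  odd : Odd (Nat.card L)

/-- Equal on `W₂`: the same column. -/
def SameCol {W₁ W₂ : Subgroup G} (ω ν : ↥(W₁ ⊔ W₂) →* ℂˣ) : Prop :=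
  ∀ w : ↥(W₁ ⊔ W₂), (w : G) ∈ W₂ → ω w = ν w

/-- Equal on `W₁`: the same row. -/
def SameRow {W₁ W₂ : Subgroup G} (ω ν : ↥(W₁ ⊔ W₂) →* ℂˣ) : Prop :=
  ∀ w : ↥(W₁ ⊔ W₂), (w : G) ∈ W₁ → ω w = ν w

section SameCol

variable {W₁ W₂ : Subgroup G} {ω ν π : ↥(W₁ ⊔ W₂) →* ℂˣ}

theorem sameCol_refl (ω : ↥(W₁ ⊔ W₂) →* ℂˣ) : SameCol ω ω := fun _ _ => rfl

theorem SameCol.symm (h : SameCol ω ν) : SameCol ν ω := fun w hw => (h w hw).symm

theorem SameCol.trans (h : SameCol ω ν) (h' : SameCol ν π) : SameCol ω π :=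
  fun w hw => (h w hw).trans (h' w hw)

theorem SameCol.inv (h : SameCol ω ν) : SameCol ω⁻¹ ν⁻¹ := fun w hw => by
  rw [MonoidHom.inv_apply, MonoidHom.inv_apply, h w hw]

theorem sameCol_lsnd (hP : IsPair W₁ W₂) : SameCol ω ν ↔ hP.lsnd ω = hP.lsnd ν :=
  ⟨fun h => MonoidHom.ext fun w => h _ (hP.p₂_mem w),
    fun h w hw => by rw [← hP.lsnd_apply_of_mem₂ ω hw, h, hP.lsnd_apply_of_mem₂ ν hw]⟩

theorem sameRow_lfst (hP : IsPair W₁ W₂) : SameRow ω ν ↔ hP.lfst ω = hP.lfst ν :=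
  ⟨fun h => MonoidHom.ext fun w => h _ (hP.p₁_mem w),
    fun h w hw => by rw [← hP.lfst_apply_of_mem₁ ω hw, h, hP.lfst_apply_of_mem₁ ν hw]⟩

variable [Finite G]

open Classical in
/-- The column of `ω`. -/
noncomputable def colClass (ω : ↥(W₁ ⊔ W₂) →* ℂˣ) : Finset (↥(W₁ ⊔ W₂) →* ℂˣ) :=
  haveI := finite_lin ↥(W₁ ⊔ W₂)
  (@Finset.univ _ (Fintype.ofFinite _)).filter fun ν => SameCol ν ω

theorem mem_colClass : ν ∈ colClass ω ↔ SameCol ν ω := by
  simp [colClass]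

theorem colClass_eq (h : SameCol ω ν) : colClass ω = colClass ν := by
  ext π
  simp only [mem_colClass]
  exact ⟨fun h' => h'.trans h, fun h' => h'.trans h.symm⟩

end SameCol

/-- The restriction to `K` of a function on `L`, as a function on `K.subgroupOf L`. -/
def resK (L K : Subgroup G) (f : ↥L → ℂ) : ↥(K.subgroupOf L) → ℂ := fun k => f k

variable [Finite G] {L K W₁ W₂ : Subgroup G}

/-- The column sum of a family. -/
noncomputable def colSum (μ : (↥(W₁ ⊔ W₂) →* ℂˣ) → ↥L → ℂ) (ω : ↥(W₁ ⊔ W₂) →* ℂˣ) : ↥L → ℂ :=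
  ∑ ν ∈ colClass ω, μ ν

namespace PrimeTI

variable (h : PrimeTI L K W₁ W₂)
include h

theorem sup_le : W₁ ⊔ W₂ ≤ L := _root_.sup_le h.W₁_le (h.W₂_le.trans h.K_le)

/-- The inclusion `W₁ ⊔ W₂ → L`. -/
def emb : ↥(W₁ ⊔ W₂) →* ↥L := Subgroup.inclusion h.sup_le

@[simp] theorem coe_emb (w : ↥(W₁ ⊔ W₂)) : ((h.emb w : ↥L) : G) = w := rfl

theorem normal : (K.subgroupOf L).Normal := h.setup.normal

theorem inf_eq_bot : K ⊓ W₁ = ⊥ := by
  rw [eq_bot_iff]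
  intro x hx
  have : (⟨x, h.W₁_le hx.2⟩ : ↥L) ∈ K.subgroupOf L ⊓ W₁.subgroupOf L := ⟨hx.1, hx.2⟩
  rw [h.setup.disj, Subgroup.mem_bot] at this
  exact Subgroup.mem_bot.2 (congrArg Subtype.val this)

theorem isPair : IsPair W₁ W₂ :=
  haveI := Fintype.ofFinite ↥L
  ⟨eq_bot_iff.2 fun _ hx => h.inf_eq_bot.le ⟨h.W₂_le hx.2, hx.1⟩, fun a ha b hb =>
    congrArg Subtype.val (h.setup.comm_mem (x := ⟨a, h.W₁_le ha⟩) ha
      (y := ⟨b, h.K_le (h.W₂_le hb)⟩) hb)⟩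

theorem mem₂_of_mem_K {w : G} (hw : w ∈ W₁ ⊔ W₂) (hK : w ∈ K) : w ∈ W₂ := by
  obtain ⟨a, ha, b, hb, rfl⟩ := h.isPair.exists_mul hw
  have : a ∈ K ⊓ W₁ := ⟨by simpa using K.mul_mem hK (K.inv_mem (h.W₂_le hb)), ha⟩
  rw [h.inf_eq_bot, Subgroup.mem_bot] at this
  rwa [this, one_mul]

theorem sup_subgroupOf :
    W₁.subgroupOf L ⊔ W₂.subgroupOf L = (W₁ ⊔ W₂).subgroupOf L :=
  (Subgroup.subgroupOf_sup h.W₁_le (h.W₂_le.trans h.K_le)).symm

theorem mem_sup_subgroupOf {y : ↥L} :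
    y ∈ W₁.subgroupOf L ⊔ W₂.subgroupOf L ↔ (y : G) ∈ W₁ ⊔ W₂ := by
  rw [h.sup_subgroupOf, Subgroup.mem_subgroupOf]

theorem comm (u v : ↥(W₁ ⊔ W₂)) : u * v = v * u := by
  haveI := Fintype.ofFinite ↥L
  have key := h.setup.comm ⟨h.emb u, h.mem_sup_subgroupOf.2 u.2⟩
    ⟨h.emb v, h.mem_sup_subgroupOf.2 v.2⟩
  exact Subtype.ext (congrArg (fun t : ↥(W₁.subgroupOf L ⊔ W₂.subgroupOf L) => ((t : ↥L) : G)) key)

theorem ne₁ : W₁ ≠ ⊥ := fun e => h.setup.ne (by rw [e]; simp)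

theorem odd_W₁ : Odd (Nat.card W₁) := h.odd.of_dvd_nat (Subgroup.card_dvd_of_le h.W₁_le)

theorem odd_W₂ : Odd (Nat.card W₂) :=
  h.odd.of_dvd_nat (Subgroup.card_dvd_of_le (h.W₂_le.trans h.K_le))

theorem three_le₁ : 3 ≤ Nat.card W₁ := three_le_card h.ne₁ h.odd_W₁

theorem three_le₂ : 3 ≤ Nat.card W₂ := three_le_card h.ne₂ h.odd_W₂

theorem exists_off : ∃ a : ↥(W₁ ⊔ W₂), (a : G) ∈ W₁ ∧ a ≠ 1 ∧ (a : G) ∉ W₂ := by
  obtain ⟨a, ha, ha1⟩ := W₁.bot_or_exists_ne_one.resolve_left h.ne₁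
  refine ⟨⟨a, Subgroup.mem_sup_left ha⟩, ha, fun e => ha1 (congrArg Subtype.val e), fun e => ?_⟩
  exact ha1 (Subgroup.mem_bot.1 (h.isPair.disj.le ⟨ha, e⟩))

theorem index_K : (K.subgroupOf L).index = Nat.card W₁ := by
  haveI := h.normal
  have hcomp : Subgroup.IsComplement' (K.subgroupOf L) (W₁.subgroupOf L) :=
    Subgroup.isComplement'_of_disjoint_and_mul_eq_univ (disjoint_iff.mpr h.setup.disj)
      (by rw [← Subgroup.normal_mul, h.setup.sup]; rfl)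
  rw [hcomp.symm.index_eq_card]
  exact Nat.card_congr (Subgroup.subgroupOfEquivOfLe h.W₁_le).toEquiv

set_option maxHeartbeats 800000 in
/-- Every element of `L` outside `K` is conjugate to an element of `W ∖ W₂`. -/
theorem exists_conj_W {x : ↥L} (hx : (x : G) ∉ K) :
    ∃ (g : ↥L) (w : ↥(W₁ ⊔ W₂)), (w : G) ∉ W₂ ∧ x = g * h.emb w * g⁻¹ := by
  classical
  haveI := Fintype.ofFinite ↥L
  haveI := h.normal
  set S₁ := W₁.subgroupOf L
  set S₂ := W₂.subgroupOf L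
  haveI := Fintype.ofFinite ↥(S₁ ⊔ S₂)
  set W' := S₁ ⊔ S₂ with hW'
  let f : ↥W' → ℂ := fun w => if (w : ↥L) ∈ S₂ then 0 else 1
  have hf : ∀ w : ↥W', (w : ↥L) ∈ S₂ → f w = 0 := fun w hw => if_pos hw
  let T : ↥L → Prop := fun y => ∃ (g : ↥L) (w : ↥W'), (w : ↥L) ∉ S₂ ∧ y = g * w * g⁻¹
  have hWK : ∀ w : ↥W', ((w : ↥L) : G) ∈ K → (w : ↥L) ∈ S₂ := fun w hwK => by
    exact h.mem₂_of_mem_K (h.mem_sup_subgroupOf.1 w.2) hwK
  have hval : ∀ y, indFun W' f y = if T y then 1 else 0 := by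
    intro y
    split_ifs with hy
    · obtain ⟨g, w, hw, rfl⟩ := hy
      rw [indFun_isClassFunction W' f (w : ↥L) g, h.setup.indFun_eq hf w hw]
      exact if_neg hw
    · rw [indFun, Finset.sum_eq_zero (fun z _ => ?_), mul_zero]
      rw [extendByZero_eq]
      split_ifs with hm
      · refine hf _ (Classical.byContradiction fun hn => hy ⟨z, ⟨_, hm⟩, hn, ?_⟩)
        show y = z * (z⁻¹ * y * z) * z⁻¹
        group
      · rfl
  have hTK : ∀ y : ↥L, T y → (y : G) ∉ K := by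
    rintro y ⟨g, w, hw, rfl⟩ hK
    refine hw (hWK w ?_)
    have := (h.normal).conj_mem _ (show g * (w : ↥L) * g⁻¹ ∈ K.subgroupOf L from hK) g⁻¹
    rw [Subgroup.mem_subgroupOf] at this
    simpa [mul_assoc] using this
  have h1 : classInner (indFun W' f) (fun _ => 1) = classInner f (fun _ => 1) :=
    frobenius_reciprocity W' f (fun _ _ => rfl)
  have hcard : Nat.card {y : ↥L // T y} * Nat.card W' =
      Nat.card {w : ↥W' // (w : ↥L) ∉ S₂} * Nat.card ↥L := by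
    simp only [classInner, hval, map_one, mul_one, f] at h1
    rw [Finset.sum_boole, show (∑ w : ↥W', if (w : ↥L) ∈ S₂ then (0 : ℂ) else 1) =
      ∑ w : ↥W', if (w : ↥L) ∉ S₂ then (1 : ℂ) else 0 from
      Finset.sum_congr rfl fun w _ => by by_cases hw : (w : ↥L) ∈ S₂ <;> simp [hw],
      Finset.sum_boole, inv_mul_eq_iff_eq_mul₀ (Nat.cast_ne_zero.2 Nat.card_pos.ne'),
      ← mul_assoc, eq_comm, mul_comm _ (Nat.card W' : ℂ)⁻¹, mul_assoc,
      inv_mul_eq_iff_eq_mul₀ (Nat.cast_ne_zero.2 Nat.card_pos.ne')] at h1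
    rw [Nat.card_eq_fintype_card (α := {y : ↥L // T y}), Fintype.card_subtype,
      Nat.card_eq_fintype_card (α := {w : ↥W' // (w : ↥L) ∉ S₂}), Fintype.card_subtype]
    have h2 := h1
    norm_cast at h2
    rw [mul_comm _ (Nat.card ↥L), mul_comm _ (Nat.card W')]
    exact h2.symm
  have hS₂ : Nat.card {w : ↥W' // (w : ↥L) ∈ S₂} = Nat.card S₂ :=
    Nat.card_congr ⟨fun w => ⟨w.1.1, w.2⟩, fun s => ⟨⟨s.1, Subgroup.mem_sup_right s.2⟩, s.2⟩,
      fun _ => rfl, fun _ => rfl⟩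
  have hW : Nat.card W' = Nat.card S₁ * Nat.card S₂ := by
    rw [← Nat.card_prod]
    exact Nat.card_congr (h.setup.isPair.prodEquiv.symm.toEquiv)
  have hL : Nat.card ↥L = Nat.card (K.subgroupOf L) * Nat.card S₁ := by
    rw [← Subgroup.card_mul_index (K.subgroupOf L), h.index_K]
    congr 1
    exact (Nat.card_congr (Subgroup.subgroupOfEquivOfLe h.W₁_le).toEquiv).symm
  have hsplit := Nat.card_congr (Equiv.sumCompl (fun w : ↥W' => (w : ↥L) ∈ S₂))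
  rw [Nat.card_sum, hS₂] at hsplit
  have hKeq : Nat.card {y : ↥L // (y : G) ∈ K} = Nat.card (K.subgroupOf L) :=
    Nat.card_congr (Equiv.subtypeEquivRight fun y => Iff.rfl)
  have hsplitL := Nat.card_congr (Equiv.sumCompl (fun y : ↥L => (y : G) ∈ K))
  rw [Nat.card_sum, hKeq] at hsplitL
  have hle : Nat.card {y : ↥L // (y : G) ∉ K} ≤ Nat.card {y : ↥L // T y} := by
    set t := Nat.card {y : ↥L // T y}
    set m := Nat.card {w : ↥W' // (w : ↥L) ∉ S₂}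
    set k := Nat.card {y : ↥L // (y : G) ∉ K}
    have hs1 : 0 < Nat.card S₁ := Nat.card_pos
    have hs2 : 0 < Nat.card S₂ := Nat.card_pos
    have hk : k + Nat.card (K.subgroupOf L) = Nat.card (K.subgroupOf L) * Nat.card S₁ := by
      rw [← hL]; omega
    have hm : m + Nat.card S₂ = Nat.card S₁ * Nat.card S₂ := by
      rw [← hW]; omega
    rw [hW, hL] at hcard
    refine le_of_eq (Nat.eq_of_mul_eq_mul_right (Nat.mul_pos hs1 hs2) ?_)
    rw [hcard]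
    nlinarith
  have hbij : ∀ y : ↥L, (y : G) ∉ K → T y := by
    have hinj : Function.Injective (fun y : {y : ↥L // T y} =>
        (⟨y.1, hTK _ y.2⟩ : {y : ↥L // (y : G) ∉ K})) := fun a b e =>
      Subtype.ext (congrArg (fun z : {y : ↥L // (y : G) ∉ K} => z.1) e)
    have hs := (hinj.bijective_of_nat_card_le hle).2
    intro y hy
    obtain ⟨z, hz⟩ := hs ⟨y, hy⟩
    have e : z.1 = y := congrArg Subtype.val hz
    exact e ▸ z.2
  obtain ⟨g, w, hw, e⟩ := hbij x hx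
  have hwW : ((w : ↥L) : G) ∈ W₁ ⊔ W₂ := h.mem_sup_subgroupOf.1 w.2
  exact ⟨g, ⟨_, hwW⟩, hw, e⟩

end PrimeTI

/-- Peterfalvi (4.3): the family `μ` with its signs. -/
structure MuFamily (h : PrimeTI L K W₁ W₂) (μ : (↥(W₁ ⊔ W₂) →* ℂˣ) → ↥L → ℂ)
    (δ : (↥(W₁ ⊔ W₂) →* ℂˣ) → ℂ) : Prop where
  irr : ∀ ω, IsIrrCharacter ↥L (μ ω)
  injective : Function.Injective μ
  sign : ∀ ω, δ ω = 1 ∨ δ ω = -1
  sign_col : ∀ ω ν, SameCol ω ν → δ ω = δ ν
  res_col : ∀ ω ν, SameCol ω ν → resK L K (μ ω) = resK L K (μ ν)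
  apply_W : ∀ ω, ∀ w : ↥(W₁ ⊔ W₂), (w : G) ∉ W₂ → μ ω (h.emb w) = δ ω * (ω w : ℂ)
  vanish : ∀ θ, IsIrrCharacter ↥L θ → (∀ ω, θ ≠ μ ω) →
    ∀ w : ↥(W₁ ⊔ W₂), (w : G) ∉ W₂ → θ (h.emb w) = 0
  congr : ∀ ω, ∃ n : ℤ, μ ω 1 - δ ω = n * (Nat.card W₁ : ℂ)

theorem exists_muFamily (h : PrimeTI L K W₁ W₂) : ∃ μ δ, MuFamily h μ δ := by
  classical
  haveI := Fintype.ofFinite ↥L
  haveI := h.normal
  have s := h.setup
  set S₁ := W₁.subgroupOf L with hS₁
  set S₂ := W₂.subgroupOf L with hS₂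
  have hne₂ : S₂ ≠ ⊥ := by
    intro e
    obtain ⟨b, hb, hb1⟩ := W₂.bot_or_exists_ne_one.resolve_left h.ne₂
    have : (⟨b, h.K_le (h.W₂_le hb)⟩ : ↥L) ∈ S₂ := hb
    rw [e, Subgroup.mem_bot] at this
    exact hb1 (congrArg Subtype.val this)
  have hodd : Odd (Nat.card ↥(S₁ ⊔ S₂)) := h.odd.of_dvd_nat (Subgroup.card_subgroup_dvd_card _)
  obtain ⟨μ', δ', hinj, hirr, hsg, hdiff, hval, hvan, hcong⟩ :=
    S1511.result (K.subgroupOf L) S₁ S₂ s.disj s.sup s.ne s.cyc₁ s.coprime hne₂ s.cyc₂ s.le s.cent hodd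
  have hmem : ∀ w : ↥(S₁ ⊔ S₂), ((w : ↥L) : G) ∈ W₁ ⊔ W₂ := fun w => h.mem_sup_subgroupOf.1 w.2
  let f : ↥(S₁ ⊔ S₂) →* ↥(W₁ ⊔ W₂) := MonoidHom.mk' (fun w => ⟨_, hmem w⟩) fun _ _ => rfl
  have hmem' : ∀ w : ↥(W₁ ⊔ W₂), h.emb w ∈ S₁ ⊔ S₂ := fun w => h.mem_sup_subgroupOf.2 w.2
  let g : ↥(W₁ ⊔ W₂) →* ↥(S₁ ⊔ S₂) := MonoidHom.mk' (fun w => ⟨_, hmem' w⟩) fun _ _ => rfl
  have hgf : ∀ ω' : ↥(S₁ ⊔ S₂) →* ℂˣ, (ω'.comp g).comp f = ω' := fun ω' => rfl
  have hsame : ∀ ω ν : ↥(W₁ ⊔ W₂) →* ℂˣ, SameCol ω ν →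
      ∀ w : ↥(S₁ ⊔ S₂), (w : ↥L) ∈ S₂ → ω.comp f w = ν.comp f w := fun ω ν e w hw => e (f w) hw
  refine ⟨fun ω => μ' (ω.comp f), fun ω => δ' (ω.comp f), ⟨fun ω => hirr _, fun ω ν e => ?_,
    fun ω => hsg _, fun ω ν e => (hdiff _ _ (hsame ω ν e)).1, fun ω ν e => ?_,
    fun ω w hw => hval (ω.comp f) (g w) hw, fun θ hθ hne w hw => ?_, fun ω => ?_⟩⟩
  · exact MonoidHom.ext fun w => DFunLike.congr_fun (hinj e) (g w)
  · funext k
    obtain ⟨-, hd⟩ := hdiff _ _ (hsame ω ν e)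
    have hz : indFun (S₁ ⊔ S₂) (fun w => (ω.comp f w : ℂ) - (ν.comp f w : ℂ)) (k : ↥L) = 0 := by
      rw [indFun, Finset.sum_eq_zero (fun z _ => ?_), mul_zero]
      rw [extendByZero_eq]
      split_ifs with hm
      · have hK : z⁻¹ * (k : ↥L) * z ∈ K.subgroupOf L := by
          simpa using h.normal.conj_mem _ k.2 z⁻¹
        have h2 : ((z⁻¹ * (k : ↥L) * z : ↥L) : G) ∈ W₂ :=
          h.mem₂_of_mem_K (hmem ⟨_, hm⟩) hK
        rw [sub_eq_zero, hsame ω ν e ⟨_, hm⟩ h2]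
      · rfl
    rw [hd, Pi.smul_apply, Pi.sub_apply, smul_eq_mul] at hz
    refine sub_eq_zero.1 ((mul_eq_zero.1 hz).resolve_left ?_)
    rcases hsg (ω.comp f) with e' | e' <;> simp [e']
  · refine hvan θ hθ (fun ω' => ?_) (g w) hw
    have := hne (ω'.comp g)
    rwa [hgf] at this
  · obtain ⟨n, hn⟩ := hcong (ω.comp f)
    refine ⟨n, hn.trans ?_⟩
    rw [hS₁, Nat.card_congr (Subgroup.subgroupOfEquivOfLe h.W₁_le).toEquiv]

namespace MuFamily

variable {h : PrimeTI L K W₁ W₂} {μ : (↥(W₁ ⊔ W₂) →* ℂˣ) → ↥L → ℂ}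
  {δ : (↥(W₁ ⊔ W₂) →* ℂˣ) → ℂ}

variable (hμ : MuFamily h μ δ)
include hμ

theorem sign_ne (ω : ↥(W₁ ⊔ W₂) →* ℂˣ) : δ ω ≠ 0 := by
  rcases hμ.sign ω with e | e <;> simp [e]

theorem sign_sq (ω : ↥(W₁ ⊔ W₂) →* ℂˣ) : δ ω * δ ω = 1 := by
  rcases hμ.sign ω with e | e <;> simp [e]

theorem sign_conj (ω : ↥(W₁ ⊔ W₂) →* ℂˣ) : conj (δ ω) = δ ω := by
  rcases hμ.sign ω with e | e <;> simp [e]

omit hμ in
include h in
/-- Two signed linear characters agreeing off `W₂` are equal. -/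
theorem lin_eq_of_eq_off {s t : ℂ} (hs : s = 1 ∨ s = -1) {ω ν : ↥(W₁ ⊔ W₂) →* ℂˣ}
    (he : ∀ w : ↥(W₁ ⊔ W₂), (w : G) ∉ W₂ → s * (ω w : ℂ) = t * (ν w : ℂ)) : s = t ∧ ω = ν := by
  have hP := h.isPair
  obtain ⟨a, ha, ha1, ha2⟩ := h.exists_off
  have hs0 : s ≠ 0 := by rcases hs with rfl | rfl <;> simp
  set q : ↥(W₁ ⊔ W₂) →* ℂˣ := ν * ω⁻¹ with hqdef
  have hq : ∀ w : ↥(W₁ ⊔ W₂), (w : G) ∉ W₂ → t * (q w : ℂ) = s := by
    intro w hw
    rw [hqdef, MonoidHom.mul_apply, MonoidHom.inv_apply, Units.val_mul, Units.val_inv_eq_inv_val,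
      ← mul_assoc, ← he w hw, mul_inv_cancel_right₀ (Units.ne_zero _)]
  have ht0 : t ≠ 0 := fun e => hs0 (by simpa [e] using (hq a ha2).symm)
  have hW : ∀ x : ↥(W₁ ⊔ W₂), (x : G) ∈ W₁ → x ≠ 1 → (x : G) ∉ W₂ := fun x hx hx1 hx2 =>
    hx1 (Subtype.ext (Subgroup.mem_bot.1 (hP.disj.le ⟨hx, hx2⟩)))
  have haa : a * a ≠ 1 := fun e => ha1 (by
    have hodd : Odd (orderOf a) := by
      refine h.odd.of_dvd_nat ?_
      rw [← Subgroup.orderOf_coe a]
      exact Subgroup.orderOf_dvd_natCard L (h.sup_le a.2)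
    rw [← pow_two] at e
    exact orderOf_eq_one_iff.1 (Nat.eq_one_of_dvd_coprimes hodd.coprime_two_right dvd_rfl
      (orderOf_dvd_of_pow_eq_one e)))
  have hqa : (q a : ℂ) = 1 := by
    have h1 := hq (a * a) (hW _ (W₁.mul_mem ha ha) haa)
    rw [← hq a ha2, map_mul, Units.val_mul] at h1
    exact mul_right_eq_self₀.1 (mul_left_cancel₀ ht0 h1) |>.resolve_right (Units.ne_zero _)
  have hst : t = s := by simpa [hqa] using hq a ha2
  have hq1 : ∀ w : ↥(W₁ ⊔ W₂), (w : G) ∉ W₂ → q w = 1 := fun w hw => Units.ext (by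
    have := hq w hw
    rw [hst] at this
    exact mul_right_eq_self₀.1 this |>.resolve_right hs0)
  have hq_one : q = 1 := hP.lin_ext (fun w hw => by
      by_cases e : w = 1
      · rw [e, map_one, map_one]
      · exact hq1 w (hW w hw e))
    (fun w hw => by
      have hn : ((a * w : ↥(W₁ ⊔ W₂)) : G) ∉ W₂ := fun e => ha2 (by
        simpa using W₂.mul_mem e (W₂.inv_mem hw))
      have := hq1 _ hn
      rwa [map_mul, show q a = 1 from Units.ext hqa, one_mul] at this)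
  exact ⟨hst.symm, (eq_of_mul_inv_eq_one hq_one).symm⟩

/-- An irreducible character with these values off `W₂` is `μ ω`. -/
theorem identify {θ : ↥L → ℂ} (hθ : IsIrrCharacter ↥L θ) {s : ℂ} (hs : s = 1 ∨ s = -1)
    (ω : ↥(W₁ ⊔ W₂) →* ℂˣ)
    (he : ∀ w : ↥(W₁ ⊔ W₂), (w : G) ∉ W₂ → θ (h.emb w) = s * (ω w : ℂ)) :
    θ = μ ω ∧ s = δ ω := by
  by_cases hex : ∃ ν, θ = μ ν
  · obtain ⟨ν, rfl⟩ := hex
    obtain ⟨h1, h2⟩ := lin_eq_of_eq_off (h := h) hs (t := δ ν) (ω := ω) (ν := ν)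
      (fun w hw => (he w hw).symm.trans (hμ.apply_W ν w hw))
    exact ⟨by rw [h2], by rw [h1, h2]⟩
  · push Not at hex
    obtain ⟨a, -, -, ha2⟩ := h.exists_off
    have h1 := (he a ha2).symm.trans (hμ.vanish θ hθ hex a ha2)
    rcases hs with rfl | rfl <;> simp at h1

theorem mu_one : μ 1 = (fun _ => 1) ∧ δ 1 = 1 := by
  obtain ⟨h1, h2⟩ := hμ.identify (θ := fun _ => 1) isIrrCharacter_one (Or.inl rfl) 1
    (fun w _ => by simp)
  exact ⟨h1.symm, h2.symm⟩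

/-- Complex conjugation. -/
theorem mu_inv (ω : ↥(W₁ ⊔ W₂) →* ℂˣ) : μ ω⁻¹ = conjFun (μ ω) ∧ δ ω⁻¹ = δ ω := by
  haveI := Fintype.ofFinite ↥L
  haveI := Fintype.ofFinite ↥(W₁ ⊔ W₂)
  obtain ⟨h1, h2⟩ := hμ.identify (θ := conjFun (μ ω)) (IsIrrCharacter.conj (hμ.irr ω)) (hμ.sign ω) ω⁻¹
    (fun w hw => by
      simp only [conjFun, hμ.apply_W ω w hw, map_mul, hμ.sign_conj]
      congr 1
      have := IsCharacter.apply_inv (IsIrrCharacter.isCharacter (lin_irr ω)) w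
      simp only [lin_apply, map_inv] at this
      rw [← this, MonoidHom.inv_apply])
  exact ⟨h1.symm, h2.symm⟩

/-- Equal degrees give equal signs. -/
theorem sign_eq_of_degree {ω ν : ↥(W₁ ⊔ W₂) →* ℂˣ} (hd : μ ω 1 = μ ν 1) : δ ω = δ ν := by
  obtain ⟨n, hn⟩ := hμ.congr ω
  obtain ⟨m, hm⟩ := hμ.congr ν
  have h3 := h.three_le₁
  have e : δ ν - δ ω = ((n - m) * (Nat.card W₁ : ℤ) : ℤ) := by
    push_cast
    linear_combination hn - hm - hd
  rcases hμ.sign ω with a | a <;> rcases hμ.sign ν with b | b <;> rw [a, b] <;> rw [a, b] at e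
  · exfalso
    have e' : (-2 : ℤ) = (n - m) * (Nat.card W₁ : ℤ) := by
      have : ((-2 : ℤ) : ℂ) = (((n - m) * (Nat.card W₁ : ℤ) : ℤ) : ℂ) := by
        rw [← e]; push_cast; ring
      exact_mod_cast this
    have := Int.le_of_dvd (by norm_num : (0 : ℤ) < 2)
      (dvd_neg.1 ⟨n - m, e'.trans (mul_comm _ _)⟩ : (Nat.card W₁ : ℤ) ∣ 2)
    omega
  · exfalso
    have e' : (2 : ℤ) = (n - m) * (Nat.card W₁ : ℤ) := by
      have : ((2 : ℤ) : ℂ) = (((n - m) * (Nat.card W₁ : ℤ) : ℤ) : ℂ) := by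
        rw [← e]; push_cast; ring
      exact_mod_cast this
    have := Int.le_of_dvd (by norm_num : (0 : ℤ) < 2)
      (⟨n - m, e'.trans (mul_comm _ _)⟩ : (Nat.card W₁ : ℤ) ∣ 2)
    omega

variable [Fintype ↥L]

open Classical in
theorem inner_mu (ω ν : ↥(W₁ ⊔ W₂) →* ℂˣ) :
    classInner (μ ω) (μ ν) = if ω = ν then 1 else 0 := by
  rw [classInner_irr (hμ.irr ω) (hμ.irr ν)]
  exact if_congr hμ.injective.eq_iff rfl rfl

open Classical in
theorem inner_mu_colSum (ω ν : ↥(W₁ ⊔ W₂) →* ℂˣ) :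
    classInner (μ ω) (colSum μ ν) = if SameCol ω ν then 1 else 0 := by
  rw [colSum, classInner_sum_right, Finset.sum_congr rfl fun π _ => hμ.inner_mu ω π,
    Finset.sum_ite_eq, if_congr mem_colClass rfl rfl]

omit hμ [Fintype ↥L] in
include h in
theorem card_colClass (ω : ↥(W₁ ⊔ W₂) →* ℂˣ) : (colClass ω).card = Nat.card W₁ := by
  classical
  rw [← card_lin_factor₁ h.isPair h.comm]
  haveI := finite_lin ↥(W₁ ⊔ W₂)
  rw [← Nat.card_eq_finsetCard]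
  refine Nat.card_congr
    ⟨fun ν => ⟨ν.1 * ω⁻¹, fun w hw => by
        rw [MonoidHom.mul_apply, MonoidHom.inv_apply, (mem_colClass.1 ν.2) w hw, mul_inv_cancel]⟩,
      fun φ => ⟨φ.1 * ω, mem_colClass.2 fun w hw => by
        rw [MonoidHom.mul_apply, φ.2 w hw, one_mul]⟩,
      fun ν => Subtype.ext (inv_mul_cancel_right ν.1 ω),
      fun φ => Subtype.ext (mul_inv_cancel_right φ.1 ω)⟩

open Classical in
theorem inner_colSum (ω ν : ↥(W₁ ⊔ W₂) →* ℂˣ) :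
    classInner (colSum μ ω) (colSum μ ν) = if SameCol ω ν then (Nat.card W₁ : ℂ) else 0 := by
  conv_lhs => arg 1; rw [colSum]
  rw [classInner_sum_left, Finset.sum_congr rfl fun π _ => hμ.inner_mu_colSum π ν]
  split_ifs with e
  · rw [Finset.sum_congr rfl (g := fun _ => (1 : ℂ))
      (fun π hπ => if_pos ((mem_colClass.1 hπ).trans e)), Finset.sum_const,
      card_colClass (h := h), nsmul_eq_mul, mul_one]
  · exact Finset.sum_eq_zero fun π hπ => if_neg fun e' => e ((mem_colClass.1 hπ).symm.trans e')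

omit [Fintype ↥L] in
theorem colSum_apply_K (ω : ↥(W₁ ⊔ W₂) →* ℂˣ) {x : ↥L} (hx : (x : G) ∈ K) :
    colSum μ ω x = (Nat.card W₁ : ℂ) * μ ω x := by
  rw [colSum, Finset.sum_apply, Finset.sum_eq_card_nsmul (b := μ ω x)
    (fun π hπ => show μ π x = μ ω x from congrFun (hμ.res_col π ω (mem_colClass.1 hπ)) ⟨x, hx⟩),
    card_colClass (h := h), nsmul_eq_mul]

omit [Fintype ↥L] in
theorem colSum_inv (ω : ↥(W₁ ⊔ W₂) →* ℂˣ) : colSum μ ω⁻¹ = conjFun (colSum μ ω) := by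
  classical
  have hsum : conjFun (colSum μ ω) = ∑ ν ∈ colClass ω, conjFun (μ ν) := by
    funext x; simp [colSum, conjFun, map_sum]
  rw [hsum, Finset.sum_congr rfl (g := fun ν => μ ν⁻¹) (fun ν _ => (hμ.mu_inv ν).1.symm), colSum]
  refine Finset.sum_nbij' (fun ν => ν⁻¹) (fun ν => ν⁻¹) ?_ ?_ ?_ ?_ ?_
  · intro ν hν
    rw [mem_colClass] at hν ⊢
    exact fun w hw => by rw [MonoidHom.inv_apply, hν w hw, MonoidHom.inv_apply, inv_inv]
  · intro ν hν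
    rw [mem_colClass] at hν ⊢
    exact hν.inv
  · exact fun ν _ => inv_inv ν
  · exact fun ν _ => inv_inv ν
  · exact fun ν _ => congrArg μ (inv_inv ν).symm

/-- Peterfalvi (4.4): the restriction to `K` is irreducible and induces to the column sum. -/
theorem resK_facts (ω : ↥(W₁ ⊔ W₂) →* ℂˣ) :
    IsIrrCharacter ↥(K.subgroupOf L) (resK L K (μ ω)) ∧
      indFun (K.subgroupOf L) (resK L K (μ ω)) = colSum μ ω := by
  classical
  haveI := h.normal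
  haveI := Fintype.ofFinite ↥(K.subgroupOf L)
  set K' := K.subgroupOf L with hK'
  set r := resK L K (μ ω) with hr
  have hchar : IsCharacter K' r := IsCharacter.restrict (IsIrrCharacter.isCharacter (hμ.irr ω)) K'
  obtain ⟨m, hm⟩ := IsCharacter.classInner_nat hchar hchar
  have hcl := IsIrrCharacter.isClassFunction (hμ.irr ω)
  have hconj : ∀ x : ↥L, CliffordChar.conjFun K' x r = r :=
    fun x => CliffordChar.conjFun_restrict K' hcl x
  have hres : ∀ k : K', indFun K' r k = (Nat.card W₁ : ℂ) * r k := by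
    intro k
    rw [CliffordChar.indFun_coe, CliffordChar.orbitSum,
      Finset.sum_congr rfl fun x _ => hconj x, Finset.sum_const,
      Finset.card_univ, ← Nat.card_eq_fintype_card, ← Subgroup.card_mul_index K', h.index_K,
      Pi.smul_apply, nsmul_eq_mul, Nat.cast_mul, ← mul_assoc, ← mul_assoc,
      inv_mul_cancel₀ (Nat.cast_ne_zero.2 Nat.card_pos.ne'), one_mul]
  have hA : classInner (indFun K' r) (indFun K' r) = (Nat.card W₁ : ℂ) * m := by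
    rw [frobenius_reciprocity K' r (indFun_isClassFunction K' r),
      show (fun k : K' => indFun K' r k) = (Nat.card W₁ : ℂ) • r from funext hres,
      classInner_smul_right, hm, Complex.conj_natCast]
  have hB : ∀ ν ∈ colClass ω, classInner (indFun K' r) (μ ν) = m := fun ν hν => by
    rw [frobenius_reciprocity K' r (IsIrrCharacter.isClassFunction (hμ.irr ν)), ← hm]
    exact congrArg (classInner r) (hμ.res_col ν ω (mem_colClass.1 hν))
  have hB' : classInner (indFun K' r) (colSum μ ω) = (Nat.card W₁ : ℂ) * m := by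
    rw [colSum, classInner_sum_right, Finset.sum_congr rfl hB, Finset.sum_const,
      card_colClass (h := h), nsmul_eq_mul]
  have hC : classInner (colSum μ ω) (indFun K' r) = (Nat.card W₁ : ℂ) * m := by
    rw [← classInner_conj_symm, hB', map_mul, Complex.conj_natCast, Complex.conj_natCast]
  set D := indFun K' r - (m : ℂ) • colSum μ ω with hDdef
  have hD : classInner D D = (Nat.card W₁ : ℂ) * m * (1 - m) := by
    rw [hDdef]
    simp only [classInner_sub_left, classInner_sub_right, classInner_smul_left,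
      classInner_smul_right, hA, hB', hC, hμ.inner_colSum, if_pos (sameCol_refl ω),
      Complex.conj_natCast]
    ring
  have hm1 : m = 1 := by
    have h0 : 0 ≤ (classInner D D).re := classInner_self_re_nonneg D
    rw [hD, show ((Nat.card W₁ : ℂ) * m * (1 - m)).re = (Nat.card W₁ : ℝ) * m * (1 - m) by simp] at h0
    have hm0 : m ≠ 0 := by
      intro e
      rw [e, Nat.cast_zero] at hm
      have := congrFun (classInner_self_eq_zero.1 hm) 1
      exact IsIrrCharacter.apply_one_ne_zero (hμ.irr ω) this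
    by_contra hne
    have h2 : (2 : ℝ) ≤ m := by exact_mod_cast (show 2 ≤ m by omega)
    have hw : (3 : ℝ) ≤ Nat.card W₁ := by exact_mod_cast h.three_le₁
    nlinarith [mul_pos (lt_of_lt_of_le (by norm_num : (0 : ℝ) < 3) hw) (lt_of_lt_of_le (by norm_num : (0 : ℝ) < 2) h2)]
  refine ⟨(isIrrCharacter_iff_norm_one hchar).2 (by rw [hm, hm1, Nat.cast_one]), ?_⟩
  have hzero : classInner D D = 0 := by rw [hD, hm1]; simp
  have := classInner_self_eq_zero.1 hzero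
  rw [hDdef, hm1, Nat.cast_one, one_smul, sub_eq_zero] at this
  exact this

theorem resK_inj {ω ν : ↥(W₁ ⊔ W₂) →* ℂˣ} (e : resK L K (μ ω) = resK L K (μ ν)) :
    SameCol ω ν := by
  classical
  by_contra hne
  have h1 := hμ.inner_colSum ω ν
  rw [if_neg hne, ← (hμ.resK_facts ω).2, e, (hμ.resK_facts ν).2, hμ.inner_colSum,
    if_pos (sameCol_refl ν)] at h1
  exact Nat.cast_ne_zero.2 Nat.card_pos.ne' h1

/-- Peterfalvi (4.5): the irreducible characters of `K`. -/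
theorem dichotomy {θ : ↥(K.subgroupOf L) → ℂ} (hθ : IsIrrCharacter ↥(K.subgroupOf L) θ) :
    (∃ ω, θ = resK L K (μ ω)) ∨
      (IsIrrCharacter ↥L (indFun (K.subgroupOf L) θ) ∧
        ∀ ω, classInner (indFun (K.subgroupOf L) θ) (μ ω) = 0) := by
  classical
  haveI := h.normal
  haveI := Fintype.ofFinite ↥(K.subgroupOf L)
  have s := h.setup
  set S₁ := W₁.subgroupOf L with hS₁
  set S₂ := W₂.subgroupOf L with hS₂
  have hne₂ : S₂ ≠ ⊥ := by
    intro e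
    obtain ⟨b, hb, hb1⟩ := W₂.bot_or_exists_ne_one.resolve_left h.ne₂
    have : (⟨b, h.K_le (h.W₂_le hb)⟩ : ↥L) ∈ S₂ := hb
    rw [e, Subgroup.mem_bot] at this
    exact hb1 (congrArg Subtype.val this)
  have hodd : Odd (Nat.card ↥(S₁ ⊔ S₂)) := h.odd.of_dvd_nat (Subgroup.card_subgroup_dvd_card _)
  obtain ⟨hirr, hcard, -⟩ :=
    S1513.result (K.subgroupOf L) S₁ S₂ s.disj s.sup s.ne s.cyc₁ s.coprime hne₂ s.cyc₂ s.le s.cent hodd
  by_cases hfix : ∃ x ∈ S₁, (fun k : ↥(K.subgroupOf L) =>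
      θ ⟨x * k * x⁻¹, h.normal.conj_mem (k : ↥L) k.2 x⟩) ≠ θ
  · refine Or.inr ⟨hirr θ hθ hfix, fun ω => ?_⟩
    rw [frobenius_reciprocity _ θ (IsIrrCharacter.isClassFunction (hμ.irr ω))]
    refine classInner_irr_of_ne hθ (hμ.resK_facts ω).1 fun e => ?_
    obtain ⟨x, -, hx⟩ := hfix
    refine hx (funext fun k => ?_)
    rw [e]
    exact IsIrrCharacter.isClassFunction (hμ.irr ω) (k : ↥L) x
  · push Not at hfix
    left
    let J := {ψ : ↥(W₁ ⊔ W₂) →* ℂˣ // ∀ w : ↥(W₁ ⊔ W₂), (w : G) ∈ W₁ → ψ w = 1}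
    let F := {η : IrrCharacter ↥(K.subgroupOf L) // ∀ x ∈ S₁, (fun k : ↥(K.subgroupOf L) =>
      (η : ↥(K.subgroupOf L) → ℂ) ⟨x * k * x⁻¹, h.normal.conj_mem (k : ↥L) k.2 x⟩) = η}
    let f : J → F := fun ψ => ⟨⟨resK L K (μ ψ.1), (hμ.resK_facts ψ.1).1⟩, fun x _ =>
      funext fun k => IsIrrCharacter.isClassFunction (hμ.irr ψ.1) (k : ↥L) x⟩
    have hf : Function.Injective f := by
      intro a b e
      have e' := hμ.resK_inj (congrArg (fun η : F => (η.1 : ↥(K.subgroupOf L) → ℂ)) e)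
      refine Subtype.ext (h.isPair.lin_ext (fun w hw => by rw [a.2 w hw, b.2 w hw]) e')
    have hJ : Nat.card J = Nat.card F := by
      rw [show Nat.card J = Nat.card W₂ from card_lin_factor₂ h.isPair h.comm]
      refine Eq.trans ?_ hcard.symm
      rw [hS₂]
      exact (Nat.card_congr (Subgroup.subgroupOfEquivOfLe (h.W₂_le.trans h.K_le)).toEquiv).symm
    haveI := finite_lin ↥(W₁ ⊔ W₂)
    obtain ⟨ψ, hψ⟩ := ((Nat.bijective_iff_injective_and_card f).2 ⟨hf, hJ⟩).2 ⟨⟨θ, hθ⟩, hfix⟩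
    exact ⟨ψ.1, (congrArg (fun η : F => (η.1 : ↥(K.subgroupOf L) → ℂ)) hψ).symm⟩

end MuFamily

end Cfsg.Agent.Peterfalvi
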