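import Cfsg.Agent.Lib.Peterfalvi.Sec9Struct

/-!
# Peterfalvi section 9: interface (owner: helper44)

Definitions used by the sections after 9, and the results of section 9 as a structure `Sec9Facts`.
Those files may assume `(F9 : Sec9Facts G)`; `Lib/Peterfalvi/Sec9Facts.lean` will prove it from
`IsMinSimpleOddOrder G`.

* `derivedIn M`: `M'` inside `M`; `irrD M N Y`, `seqIndD M N Y`: the irreducible characters of `M'`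
  trivial on `Y` and not on `N`, and the functions they induce to `M`; `calS M Y`: the case `N = M_F`
* `quotStab H H₀`, `stabC M U H₀` (`C`), `factorPrime M W₂ H₀` (`p`), `IsGaloisPair`, `IsLinePair`,
  `IsIndHC`
-/

set_option autoImplicit false

namespace Cfsg.Agent.Peterfalvi

open scoped Pointwise commutatorElement
open Cfsg OddMax

universe u

variable {G : Type u} [Group G]

/-- `M'` as a subgroup of `M`. -/
def derivedIn (M : Subgroup G) : Subgroup ↥M := ⁅M, M⁆.subgroupOf M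

instance derivedIn_normal (M : Subgroup G) : (derivedIn M).Normal :=
  ⟨fun n hn g => by
    have h : ⁅MulAut.conj (g : G) • M, MulAut.conj (g : G) • M⁆ = MulAut.conj (g : G) • ⁅M, M⁆ :=
      (Subgroup.map_commutator _ _ _).symm
    rw [Solvable.conj_eq_self g.2] at h
    show (g : G) * (n : G) * (g : G)⁻¹ ∈ ⁅M, M⁆
    rw [h]
    exact Coprime.conj_mem_conj.2 hn⟩

/-- The irreducible characters of `M'` that are trivial on `Y` and not on `N`. -/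
def irrD (M N Y : Subgroup G) : Set (↥(derivedIn M) → ℂ) :=
  {θ | IsIrrCharacter ↥(derivedIn M) θ ∧
    (∀ a : derivedIn M, ((a : ↥M) : G) ∈ Y → θ a = θ 1) ∧
    ∃ a : derivedIn M, ((a : ↥M) : G) ∈ N ∧ θ a ≠ θ 1}

/-- The functions induced to `M` from `irrD M N Y`. -/
def seqIndD (M N Y : Subgroup G) [Fintype ↥M] : Set (↥M → ℂ) :=
  indFun (derivedIn M) '' irrD M N Y

/-- `S(Y)` of section 9. -/
def calS (M Y : Subgroup G) [Fintype ↥M] : Set (↥M → ℂ) := seqIndD M (fittingHallOf M) Y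

/-- The elements normalising `H₀ ≤ H` that centralise `H / H₀`. -/
def quotStab (H H₀ : Subgroup G) : Subgroup G where
  carrier := {g | g ∈ Subgroup.normalizer (H : Set G) ∧ g ∈ Subgroup.normalizer (H₀ : Set G) ∧
    ∀ h ∈ H, h⁻¹ * (g * h * g⁻¹) ∈ H₀}
  one_mem' := ⟨one_mem _, one_mem _, fun h _ => by simp⟩
  mul_mem' := by
    rintro a b ⟨ha1, ha2, ha3⟩ ⟨hb1, hb2, hb3⟩
    refine ⟨mul_mem ha1 hb1, mul_mem ha2 hb2, fun h hh => ?_⟩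
    rw [show h⁻¹ * (a * b * h * (a * b)⁻¹) =
      (h⁻¹ * (a * h * a⁻¹)) * (a * (h⁻¹ * (b * h * b⁻¹)) * a⁻¹) by group]
    exact mul_mem (ha3 h hh) ((Subgroup.mem_normalizer_iff.1 ha2 _).1 (hb3 h hh))
  inv_mem' := by
    rintro a ⟨ha1, ha2, ha3⟩
    refine ⟨inv_mem ha1, inv_mem ha2, fun h hh => ?_⟩
    rw [show h⁻¹ * (a⁻¹ * h * a⁻¹⁻¹) = a⁻¹ * (h⁻¹ * (a * h * a⁻¹))⁻¹ * a⁻¹⁻¹ by group]
    exact (Subgroup.mem_normalizer_iff.1 (inv_mem ha2) _).1 (inv_mem (ha3 h hh))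

/-- `C = C_U(H / H₀)`. -/
def stabC (M U H₀ : Subgroup G) : Subgroup G := U ⊓ quotStab (fittingHallOf M) H₀

/-- `p`, the order of the image of `W₂` in `H / H₀`. -/
noncomputable def factorPrime (W₂ H₀ : Subgroup G) : ℕ := (W₂ ⊓ H₀).relIndex W₂

/-- `U` acts irreducibly on `H / H₀`. -/
def IsGaloisPair (M U H₀ : Subgroup G) : Prop :=
  ∀ N : Subgroup G, H₀ ≤ N → N ≤ fittingHallOf M → U ≤ Subgroup.normalizer (N : Set G) →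
    N = H₀ ∨ N = fittingHallOf M

/-- `H₁ / H₀` is a line of `H / H₀` invariant under `U`. -/
structure IsLinePair (M U W₂ H₀ H₁ : Subgroup G) : Prop where
  le : H₀ ≤ H₁
  le_H : H₁ ≤ fittingHallOf M
  card : H₀.relIndex H₁ = factorPrime W₂ H₀
  normal : U ≤ Subgroup.normalizer (H₁ : Set G)

/-- `χ` is induced from a linear character of `H C`. -/
def IsIndHC (M U H₀ : Subgroup G) [Fintype ↥M] (χ : ↥M → ℂ) : Prop :=
  ∃ ξ : ↥((fittingHallOf M ⊔ stabC M U H₀).subgroupOf M) → ℂ,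
    IsIrrCharacter _ ξ ∧ ξ 1 = 1 ∧ χ = indFun _ ξ

/-- The results of section 9. -/
structure Sec9Facts (G : Type u) [Group G] [Fintype G] : Prop where
  /-- existence of the chief factor -/
  exists_kernel : ∀ M W₁ U W₂ : Subgroup G, Hyp9 M W₁ U W₂ → ∃ H₀, IsChiefKernel M U H₀
  /-- (9.4)-(9.6) -/
  factor : ∀ M W₁ U W₂ H₀ : Subgroup G, Hyp9 M W₁ U W₂ → IsChiefKernel M U H₀ →
    (factorPrime W₂ H₀).Prime ∧
      H₀.relIndex (fittingHallOf M) = factorPrime W₂ H₀ ^ Nat.card W₁ ∧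
      (∀ x ∈ fittingHallOf M, x ^ factorPrime W₂ H₀ ∈ H₀) ∧
      stabC M U H₀ ≠ U ∧ ⁅U, U⁆ ≤ stabC M U H₀ ∧
      M ≤ Subgroup.normalizer ((fittingHallOf M ⊔ stabC M U H₀ : Subgroup G) : Set G) ∧
      U ⊔ W₁ ≤ Subgroup.normalizer (stabC M U H₀ : Set G) ∧
      ∀ w ∈ W₁, w ≠ 1 → ∀ v ∈ U, v⁻¹ * (w * v * w⁻¹) ∈ stabC M U H₀ → v ∈ stabC M U H₀
  /-- (9.3) -/
  core : ∀ M W₁ U W₂ H₀ : Subgroup G, Hyp9 M W₁ U W₂ → IsChiefKernel M U H₀ →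
    (IsOfTypeII M →
      fittingHallOf M ⊓ Subgroup.centralizer (U : Set G) = ⊥ ∧
        Nat.card (fittingHallOf M) = Nat.card W₂ ^ Nat.card W₁) ∧
    (¬ IsOfTypeII M →
      (Nat.card W₂).Prime ∧ factorPrime W₂ H₀ = Nat.card W₂ ∧
        fittingHallOf M ⊓ Subgroup.centralizer ((U ⊔ W₁ : Subgroup G) : Set G) = ⊥ ∧
        Nat.card (fittingHallOf M) = Nat.card W₂ ^ Nat.card W₁ *
          Nat.card ↥(fittingHallOf M ⊓ Subgroup.centralizer (U : Set G)))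
  /-- (9.7), the Galois case -/
  galois_field : ∀ M W₁ U W₂ H₀ : Subgroup G, Hyp9 M W₁ U W₂ → IsChiefKernel M U H₀ →
    IsGaloisPair M U H₀ →
    ∃ (K : Type) (_ : Field K) (_ : Finite K) (f : G → K) (ψ : G → K) (σ : G → K → K),
      Nat.card K = factorPrime W₂ H₀ ^ Nat.card W₁ ∧
      Set.SurjOn f (fittingHallOf M : Set G) Set.univ ∧
      (∀ x ∈ fittingHallOf M, ∀ y ∈ fittingHallOf M, f (x * y) = f x + f y) ∧
      (∀ x ∈ fittingHallOf M, f x = 0 ↔ x ∈ H₀) ∧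
      (∀ v ∈ U, ψ v ≠ 0 ∧ ∀ x ∈ fittingHallOf M, f (v * x * v⁻¹) = ψ v * f x) ∧
      (∀ v ∈ U, ∀ w ∈ U, ψ (v * w) = ψ v * ψ w) ∧
      (∀ v ∈ U, ψ v = 1 ↔ v ∈ stabC M U H₀) ∧
      (∀ x ∈ fittingHallOf M, x ∈ H₀ ⊔ W₂ ↔ f x ^ factorPrime W₂ H₀ = f x) ∧
      (∀ e ∈ W₁, (∀ x ∈ fittingHallOf M, f (e * x * e⁻¹) = σ e (f x)) ∧
        (∀ a b, σ e (a + b) = σ e a + σ e b) ∧ ∀ a b, σ e (a * b) = σ e a * σ e b) ∧
      (stabC M U H₀).relIndex U * (factorPrime W₂ H₀ - 1) ∣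
        factorPrime W₂ H₀ ^ Nat.card W₁ - 1 ∧
      (stabC M U H₀ = ⊥ → IsCyclic U)
  /-- (9.7), the other case -/
  nonGalois_line : ∀ M W₁ U W₂ H₀ : Subgroup G, Hyp9 M W₁ U W₂ → IsChiefKernel M U H₀ →
    ¬ IsGaloisPair M U H₀ →
    ∃ H₁ : Subgroup G, IsLinePair M U W₂ H₀ H₁ ∧
      (⨆ e ∈ W₁, H₁.map (MulAut.conj e).toMonoidHom) = fittingHallOf M ∧
      1 < (U ⊓ quotStab H₁ H₀).relIndex U ∧
      (U ⊓ quotStab H₁ H₀).relIndex U ∣ factorPrime W₂ H₀ - 1 ∧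
      (∀ v ∈ U, v ∈ stabC M U H₀ ↔ ∀ e ∈ W₁, e⁻¹ * v * e ∈ quotStab H₁ H₀) ∧
      (stabC M U H₀).relIndex U ∣
        (U ⊓ quotStab H₁ H₀).relIndex U ^ (Nat.card W₁ - 1)
  /-- (9.8)(b), (9.9)(b): the reducible members of `S(H₀)` -/
  reducible_core_ind : ∀ M W₁ U W₂ H₀ : Subgroup G, Hyp9 M W₁ U W₂ → IsChiefKernel M U H₀ →
    ∀ [Fintype ↥M],
    {χ ∈ calS M H₀ | ¬ IsIrrCharacter ↥M χ}.ncard = factorPrime W₂ H₀ - 1 ∧
      ∀ χ ∈ calS M H₀, ¬ IsIrrCharacter ↥M χ →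
        χ ∈ calS M (H₀ ⊔ stabC M U H₀) ∧
        χ 1 = ((Nat.card W₁ * (stabC M U H₀).relIndex U : ℕ) : ℂ) ∧ IsIndHC M U H₀ χ
  /-- (9.8) -/
  nonGalois_characters : ∀ M W₁ U W₂ H₀ H₁ : Subgroup G, Hyp9 M W₁ U W₂ → IsChiefKernel M U H₀ →
    IsLinePair M U W₂ H₀ H₁ → ¬ IsGaloisPair M U H₀ → ∀ [Fintype ↥M],
    (∀ θ ∈ irrD M (fittingHallOf M) H₀, ∃ n : ℕ,
      θ 1 = ((n * (U ⊓ quotStab H₁ H₀).relIndex U : ℕ) : ℂ)) ∧
    (∃ χ ∈ calS M (H₀ ⊔ stabC M U H₀), IsIrrCharacter ↥M χ ∧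
      χ 1 = ((Nat.card W₁ * (stabC M U H₀).relIndex U : ℕ) : ℂ) ∧ IsIndHC M U H₀ χ) ∧
    ∀ Y : Subgroup G, ⁅U, U⁆ ≤ Y → Y ≤ stabC M U H₀ →
      (factorPrime W₂ H₀ - 1) * Y.relIndex U ≤ (U ⊓ quotStab H₁ H₀).relIndex U ^ 2 *
        {χ ∈ calS M (H₀ ⊔ Y) | IsIrrCharacter ↥M χ ∧
          χ 1 = ((Nat.card W₁ * (U ⊓ quotStab H₁ H₀).relIndex U : ℕ) : ℂ)}.ncard
  /-- (9.9) -/
  galois_characters : ∀ M W₁ U W₂ H₀ : Subgroup G, Hyp9 M W₁ U W₂ → IsChiefKernel M U H₀ →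
    IsGaloisPair M U H₀ → ∀ [Fintype ↥M],
    (∀ θ ∈ irrD M (fittingHallOf M) H₀, ∃ n : ℕ,
      θ 1 = ((n * (stabC M U H₀).relIndex U : ℕ) : ℂ)) ∧
    (∀ θ ∈ irrD M (fittingHallOf M) (H₀ ⊔ ⁅stabC M U H₀, stabC M U H₀⁆),
      θ 1 = ((stabC M U H₀).relIndex U : ℂ)) ∧
    ((∀ χ ∈ calS M H₀, ¬ IsIrrCharacter ↥M χ) →
      stabC M U H₀ = ⊥ ∧
        Nat.card U * (factorPrime W₂ H₀ - 1) = factorPrime W₂ H₀ ^ Nat.card W₁ - 1 ∧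
        ∀ v ∈ U, v ≠ 1 → ∀ x ∈ fittingHallOf M, x⁻¹ * (v * x * v⁻¹) ∈ H₀ → x ∈ H₀)
  /-- (9.10) -/
  reducible_core_cases : ∀ M W₁ U W₂ H₀ : Subgroup G, Hyp9 M W₁ U W₂ → IsChiefKernel M U H₀ →
    ∀ [Fintype ↥M],
    (∃ χ ∈ calS M (H₀ ⊔ ⁅stabC M U H₀, stabC M U H₀⁆), IsIrrCharacter ↥M χ ∧
      χ 1 = ((Nat.card W₁ * (stabC M U H₀).relIndex U : ℕ) : ℂ) ∧ IsIndHC M U H₀ χ) ∨
    (IsGaloisPair M U H₀ ∧ stabC M U H₀ = ⊥ ∧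
      (∀ v ∈ U, v ≠ 1 → ∀ x ∈ fittingHallOf M, x⁻¹ * (v * x * v⁻¹) ∈ H₀ → x ∈ H₀) ∧
      IsCyclic U ∧
      Nat.card U * (factorPrime W₂ H₀ - 1) = factorPrime W₂ H₀ ^ Nat.card W₁ - 1 ∧
      (IsOfTypeII M →
        ∀ v ∈ U, v ≠ 1 → fittingHallOf M ⊓ Subgroup.centralizer ({v} : Set G) = ⊥))
  /-- (9.11) -/
  coherence : ∀ M W₁ U W₂ H₀ : Subgroup G, Hyp9 M W₁ U W₂ → IsChiefKernel M U H₀ →
    ∀ [Fintype ↥M],
    IsCoherent (calS M (H₀ ⊔ ⁅stabC M U H₀, stabC M U H₀⁆)) {1}ᶜ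
      (dadeIsometry (coreA0 M) M (supportR M))

end Cfsg.Agent.Peterfalvi
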