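import Cfsg.Agent.Lib.Peterfalvi.Sec5PrimeDade
import Cfsg.Agent.Lib.Peterfalvi.Sec9Interface
import Cfsg.Agent.Lib.CyclicTI.Exists
import Cfsg.Agent.Lib.OddOrder14.Inputs16

/-!
# The prime Dade hypothesis of a subgroup of type P (owner: helper34)

For any data `IsTypePWith M W₁ U W₂` of a maximal subgroup `M` (any of the types II to V):

* `exists_decomp_of_typeP` : `W₁` is the `K` of a sigma decomposition and `W₂ = M_σ ∩ C(W₁)`
* `coreA0_eq_a0Set`, `primeDade_of_typeP` : `PrimeDade M M' M_σ W₁ W₂ (coreA M) (supportR M)`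
* `pdCalS_eq_seqIndD` : the set of (5.7) is `seqIndD M M_σ ⊥`
* `TypePChars`, `exists_typePChars` : `μ, δ, η, R` with all their properties, `τ` on `coreA0 M`
* `TypePChars.sys_seqIndD` : the coherence system on any `seqIndD M N Y`, `N ≤ M_σ`
-/

set_option autoImplicit false

namespace Cfsg.Agent.Peterfalvi

open scoped Pointwise commutatorElement ComplexConjugate
open Cfsg OddMax Cfsg.Agent.Coherence Cfsg.Agent.Char

universe u

variable {G : Type u} [Group G]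

theorem typeP_W₂_le {M W₁ U W₂ : Subgroup G} (hP : IsTypePWith M W₁ U W₂) : W₂ ≤ ⁅M, M⁆ :=
  (hP.W₂_le.trans inf_le_left).trans hP.U_compl.1

variable [Finite G] (hG : IsMinSimpleOddOrder G) {M W₁ U W₂ : Subgroup G} (hM : IsCoatom M)
  (hP : IsTypePWith M W₁ U W₂)
include hG hM hP

/-- Every choice of `W₁` is the `K` of a sigma decomposition. -/
theorem exists_decomp_of_typeP :
    ∃ U₁ : Subgroup G, IsSigmaDecomposition M W₁ U₁ ∧
      W₂ = sigmaCore M ⊓ Subgroup.centralizer (W₁ : Set G) ∧ ⁅M, M⁆ = U₁ ⊔ sigmaCore M := by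
  have F := OddOrder14.sec16 hG
  obtain ⟨K, V, hKV⟩ := exists_decomp F.toSec15Facts hM
  have hK := K_ne_of_typeP hG F hM hKV hP
  obtain ⟨-, hcompl, hcop⟩ := kappa_basic hG F hM hKV hK
  have hsolv : Group.IsSolvable ↥⁅M, M⁆ :=
    Coprime.isSolvable_of_le (commutator_lt hG hM).le (OddSigma.proper_solvable hG hM.1)
  have hcard : Nat.card W₁ = Nat.card K :=
    Nat.eq_of_mul_eq_mul_left Nat.card_pos
      ((compl_card hP.W₁_compl).trans (compl_card hcompl).symm)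
  obtain ⟨n, hn, rfl⟩ := Coprime.exists_conj_eq_of_le_sup (N := ⁅M, M⁆) (H := K) (L := W₁)
    ((K_le hKV).trans (le_normalizer_commutator_self M)) hcop.symm (Or.inr hsolv)
    (hP.W₁_compl.2.1.trans (compl_eq_sup hcompl).ge) hcard
  have hnM : n ∈ M := hcompl.1 hn
  have hd := decomposition_conj hKV hnM
  have hK' : MulAut.conj n • K ≠ ⊥ := hP.W₁_ne
  obtain ⟨hM', hcompl', -⟩ := kappa_basic hG F hM hd hK'
  refine ⟨_, hd, ?_, hM'⟩
  obtain ⟨x, hx, hx1⟩ := (MulAut.conj n • K).bot_or_exists_ne_one.resolve_left hK'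
  have h2 := F.s1354_second M hM (MulAut.conj n • K) hd.cyclic hd.hall hK' x hx hx1
  rw [← hP.W₂_centralizer x hx hx1]
  refine le_antisymm (fun y hy => ?_) (fun y hy => ⟨?_, ?_⟩)
  · have hy' : y ∈ M ⊓ Subgroup.centralizer ({x} : Set G) := ⟨hcompl'.1 hy.1, hy.2⟩
    rw [h2, sup_comm] at hy'
    set Ks := sigmaCore M ⊓ Subgroup.centralizer ((MulAut.conj n • K : Subgroup G) : Set G)
    have hKKs : MulAut.conj n • K ≤ Subgroup.normalizer (Ks : Set G) := fun k hk =>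
      Coprime.mem_normalizer_of_forall fun z hz => by
        have e : k * z = z * k := Subgroup.mem_centralizer_iff.1 hz.2 k hk
        rwa [e, mul_inv_cancel_right]
    obtain ⟨z, hz, k, hk, rfl⟩ := (Coprime.mem_sup_iff hKKs).1 hy'
    have hzM : z ∈ ⁅M, M⁆ := by rw [hM']; exact Subgroup.mem_sup_right hz.1
    have hk' : k ∈ ⁅M, M⁆ ⊓ MulAut.conj n • K :=
      ⟨by simpa using (⁅M, M⁆).mul_mem ((⁅M, M⁆).inv_mem hzM) hy.1, hk⟩
    rw [hcompl'.2.2.1, Subgroup.mem_bot] at hk'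
    simpa [hk'] using hz
  · rw [hM']
    exact Subgroup.mem_sup_right hy.1
  · exact Subgroup.mem_centralizer_singleton_iff.2
      (Subgroup.mem_centralizer_iff.1 hy.2 x hx).symm

theorem coreA_subset_derived : ∀ a ∈ coreA M, a ∈ ⁅M, M⁆ ∧ a ≠ 1 := by
  obtain ⟨U₁, hd, -, hM'⟩ := exists_decomp_of_typeP hG hM hP
  intro a ha
  rw [coreA_eq hG (OddOrder14.sec16 hG) hM hd] at ha
  exact ⟨hM'.symm ▸ ha.1.2, ha.2⟩

theorem coreA0_eq_a0Set : coreA0 M = a0Set M W₁ W₂ (coreA M) := by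
  obtain ⟨U₁, hd, hW₂, -⟩ := exists_decomp_of_typeP hG hM hP
  rw [coreA0, coreHat_eq hG (OddOrder14.sec16 hG) hM hd hP.W₁_ne, hW₂, a0Set]
  ext v
  constructor
  · rintro (hv | ⟨m, hm, w, ⟨hw, hw'⟩, e⟩)
    · exact Or.inl hv
    · exact Or.inr ⟨m, hm, w, hw, fun h => hw' (Or.inl h), fun h => hw' (Or.inr h), e⟩
  · rintro (hv | ⟨m, hm, w, hw, h1, h2, e⟩)
    · exact Or.inl hv
    · exact Or.inr ⟨m, hm, w, ⟨hw, fun h => h.elim h1 h2⟩, e⟩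

theorem primeTI_of_typeP : PrimeTI M ⁅M, M⁆ W₁ W₂ := by
  have hM'M := hP.W₁_compl.1
  have hW₁M := hP.W₁_compl.2.1
  have hW₂M' := typeP_W₂_le hP
  have hW₂M : W₂ ≤ M := hW₂M'.trans hM'M
  have hcyc : IsCyclic W₂ := by
    have := hP.selfNormalizing.2.2.2.2.1
    exact isCyclic_of_injective (Subgroup.inclusion (le_sup_right : W₂ ≤ W₁ ⊔ W₂))
      (Subgroup.inclusion_injective _)
  refine ⟨hM'M, hW₁M, hW₂M', hP.selfNormalizing.2.1, ⟨derivedIn_normal M, ?_, ?_, ?_, ?_, ?_, ?_,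
    fun x hx => hW₂M' hx, ?_⟩, OddSigma.odd_card hG M⟩
  · rw [eq_bot_iff]
    rintro x ⟨h1, h2⟩
    have : (x : G) ∈ ⁅M, M⁆ ⊓ W₁ := ⟨h1, h2⟩
    rw [hP.W₁_compl.2.2.1, Subgroup.mem_bot] at this
    exact Subtype.ext this
  · rw [← Subgroup.subgroupOf_sup hM'M hW₁M, compl_eq_sup hP.W₁_compl, Subgroup.subgroupOf_self]
  · intro e
    obtain ⟨a, ha, ha1⟩ := W₁.bot_or_exists_ne_one.resolve_left hP.W₁_ne
    have : (⟨a, hW₁M ha⟩ : ↥M) ∈ W₁.subgroupOf M := ha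
    rw [e, Subgroup.mem_bot] at this
    exact ha1 (congrArg Subtype.val this)
  · exact (Subgroup.subgroupOfEquivOfLe hW₁M).isCyclic.2 hP.W₁_cyclic
  · exact (Subgroup.subgroupOfEquivOfLe hW₂M).isCyclic.2 hcyc
  · rw [Nat.card_congr (Subgroup.subgroupOfEquivOfLe hW₁M).toEquiv]
    exact hP.W₁_hall
  · intro x hx hx1
    have hc := hP.W₂_centralizer (x : G) hx fun e => hx1 (Subtype.ext e)
    ext y
    rw [Subgroup.mem_inf, Subgroup.mem_centralizer_singleton_iff, Subgroup.mem_subgroupOf,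
      Subgroup.mem_subgroupOf, ← hc, Subgroup.mem_inf, Subgroup.mem_centralizer_singleton_iff]
    exact and_congr_right fun _ => ⟨fun e => congrArg Subtype.val e, fun e => Subtype.ext e⟩

/-- Peterfalvi (4.6) for a subgroup of type P. -/
theorem primeDade_of_typeP :
    PrimeDade M ⁅M, M⁆ (sigmaCore M) W₁ W₂ (coreA M) (supportR M) := by
  have F := OddOrder14.sec16 hG
  obtain ⟨U₁, hd, hW₂, hM'⟩ := exists_decomp_of_typeP hG hM hP
  refine ⟨primeTI_of_typeP hG hM hP, hP.selfNormalizing, hM' ▸ le_sup_right, fun x hx y hy => ?_,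
    hW₂ ▸ inf_le_left, coreA_subset_derived hG hM hP,
    fun x hx a ha => conj_mem_coreA hG F hM hx ha, fun k hk hk1 y hy hy1 e => ?_, ?_⟩
  · exact conj_mem_of_le_normalizer (le_normalizer_sigmaCore M) hx hy
  · rw [coreA_eq hG F hM hd]
    exact ⟨⟨⟨hP.W₁_compl.1 hk, y, hy, hy1, e⟩, hM' ▸ hk⟩, hk1⟩
  · rw [← coreA0_eq_a0Set hG hM hP]
    exact dade_hypothesis hG F hM (Or.inr (Or.inr rfl))

omit hM hP hG [Finite G] in
theorem pdCalS_eq_seqIndD [Fintype ↥M] (N : Subgroup G) :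
    pdCalS M ⁅M, M⁆ N = seqIndD M N ⊥ := by
  ext φ
  constructor
  · rintro ⟨θ, hθ, hker, rfl⟩
    simp only [HasInKer, not_forall] at hker
    obtain ⟨k, hk, hne⟩ := hker
    refine ⟨θ, ⟨hθ, fun a ha => ?_, k, hk, hne⟩, rfl⟩
    rw [show a = 1 from Subtype.ext (Subtype.ext (Subgroup.mem_bot.1 ha))]
  · rintro ⟨θ, ⟨hθ, -, a, ha, hne⟩, rfl⟩
    exact ⟨θ, hθ, fun hker => hne (hker a ha), rfl⟩

end Cfsg.Agent.Peterfalvi

namespace Cfsg.Agent.Peterfalvi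

open scoped Pointwise commutatorElement ComplexConjugate
open Cfsg OddMax Cfsg.Agent.Coherence Cfsg.Agent.Char

universe u

variable {G : Type u} [Group G]

theorem seqIndD_mono {M N N' Y Y' : Subgroup G} [Fintype ↥M] (hN : N ≤ N') (hY : Y' ≤ Y) :
    seqIndD M N Y ⊆ seqIndD M N' Y' :=
  Set.image_mono fun _ ⟨h1, h2, a, ha, h3⟩ => ⟨h1, fun b hb => h2 b (hY hb), a, hN ha, h3⟩

theorem seqIndD_conj_mem {M N Y : Subgroup G} [Fintype ↥M] {φ : ↥M → ℂ}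
    (h : φ ∈ seqIndD M N Y) : conjFun φ ∈ seqIndD M N Y := by
  obtain ⟨θ, ⟨h1, h2, a, ha, h3⟩, rfl⟩ := h
  haveI := Fintype.ofFinite ↥(derivedIn M)
  refine ⟨_, ⟨IsIrrCharacter.conj h1, fun b hb => by simp [h2 b hb], a, ha, fun e => h3 ?_⟩,
    (conjFun_indFun θ).symm⟩
  have := congrArg conj e
  simpa using this

variable [Fintype G]

/-- The characters attached to type P data: `μ`, its signs `δ`, the cyclic TI family `η` and the
coherence system `R` of (5.7). -/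
structure TypePChars (M W₁ W₂ : Subgroup G) [Fintype ↥M]
    (μ : (↥(W₁ ⊔ W₂) →* ℂˣ) → ↥M → ℂ) (δ : (↥(W₁ ⊔ W₂) →* ℂˣ) → ℂ)
    (η : (↥(W₁ ⊔ W₂) →* ℂˣ) → G → ℂ) (R : (↥M → ℂ) → Finset (G → ℂ)) : Prop where
  dade : PrimeDade M ⁅M, M⁆ (sigmaCore M) W₁ W₂ (coreA M) (supportR M)
  a0_eq : a0Set M W₁ W₂ (coreA M) = coreA0 M
  mu : MuFamily dade.toPrimeTI μ δ
  eta : IsCyclicTIFamily W₁ W₂ η
  system : PDSystem dade μ δ η R

theorem exists_typePChars (hG : IsMinSimpleOddOrder G) {M W₁ U W₂ : Subgroup G} [Fintype ↥M]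
    (hM : IsCoatom M) (hP : IsTypePWith M W₁ U W₂) :
    ∃ μ δ η R, TypePChars M W₁ W₂ μ δ η R := by
  have hD := primeDade_of_typeP hG hM hP
  obtain ⟨μ, δ, hμ⟩ := exists_muFamily hD.toPrimeTI
  obtain ⟨η, hη⟩ := CyclicTI.exists_family hD.ti (OddSigma.odd_card hG _)
  obtain ⟨R, hR⟩ := hD.exists_system hμ hη
  exact ⟨μ, δ, η, R, hD, (coreA0_eq_a0Set hG hM hP).symm, hμ, hη, hR⟩

namespace TypePChars

variable {M W₁ W₂ : Subgroup G} [Fintype ↥M] {μ : (↥(W₁ ⊔ W₂) →* ℂˣ) → ↥M → ℂ}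
  {δ : (↥(W₁ ⊔ W₂) →* ℂˣ) → ℂ} {η : (↥(W₁ ⊔ W₂) →* ℂˣ) → G → ℂ}
  {R : (↥M → ℂ) → Finset (G → ℂ)} (h : TypePChars M W₁ W₂ μ δ η R)
include h

theorem sys : IsCoherenceSystem (seqIndD M (sigmaCore M) ⊥)
    (dadeIsometry (coreA0 M) M (supportR M)) R := by
  rw [← pdCalS_eq_seqIndD, ← h.a0_eq]
  exact h.system.sys

theorem sys_seqIndD {N Y : Subgroup G} (hN : N ≤ sigmaCore M)
    (hne : (seqIndD M N Y).Nonempty) :
    IsCoherenceSystem (seqIndD M N Y) (dadeIsometry (coreA0 M) M (supportR M)) R :=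
  sys_subset h.sys (seqIndD_mono hN bot_le) hne fun _ hφ => seqIndD_conj_mem hφ

theorem colSum_mem {ω : ↥(W₁ ⊔ W₂) →* ℂˣ} (hω : ¬ SameCol ω 1) :
    colSum μ ω ∈ seqIndD M (sigmaCore M) ⊥ := by
  rw [← pdCalS_eq_seqIndD]
  exact h.dade.colSum_mem_calS h.mu hω

theorem cases {φ : ↥M → ℂ} (hφ : φ ∈ seqIndD M (sigmaCore M) ⊥) :
    (∃ ω, ¬ SameCol ω 1 ∧ φ = colSum μ ω) ∨
      (IsIrrCharacter ↥M φ ∧ ∀ ω, classInner φ (μ ω) = 0) := by
  rw [← pdCalS_eq_seqIndD] at hφ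
  exact h.dade.calS_cases h.mu hφ

theorem irr_orth {φ : ↥M → ℂ} (hφ : φ ∈ seqIndD M (sigmaCore M) ⊥) (hi : IsIrrCharacter ↥M φ)
    {α : G → ℂ} (hα : α ∈ R φ) (π : ↥(W₁ ⊔ W₂) →* ℂˣ) : classInner α (η π) = 0 := by
  rw [← pdCalS_eq_seqIndD] at hφ
  exact h.system.irr_orth φ hφ hi α hα π

theorem supp {φ : ↥M → ℂ} (hφ : φ ∈ seqIndD M (sigmaCore M) ⊥) (x : ↥M) (hx1 : x ≠ 1)
    (hxA : (x : G) ∉ coreA M) : φ x = 0 := by
  rw [← pdCalS_eq_seqIndD] at hφ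
  exact h.dade.calS_supp hφ x hx1 hxA

theorem tau_mu_sub {ω ν : ↥(W₁ ⊔ W₂) →* ℂˣ} (hr : SameRow ω ν) (hω : ¬ SameCol ω 1)
    (hν : ¬ SameCol ν 1) (hd : μ ω 1 = μ ν 1) :
    dadeIsometry (coreA0 M) M (supportR M) (μ ω - μ ν) = δ ω • (η ω - η ν) := by
  rw [← h.a0_eq]
  exact h.dade.tau_mu_sub h.mu h.eta hr hω hν hd

theorem tau_colSum_sub {ω ν : ↥(W₁ ⊔ W₂) →* ℂˣ} (hω : ¬ SameCol ω 1) (hν : ¬ SameCol ν 1)
    (hd : μ ω 1 = μ ν 1) :
    dadeIsometry (coreA0 M) M (supportR M) (colSum μ ω - colSum μ ν) =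
      δ ω • (∑ π ∈ colClass ω, η π - ∑ π ∈ colClass ν, η π) := by
  rw [← h.a0_eq]
  exact h.dade.tau_colSum_sub h.mu h.eta hω hν hd

theorem tau_apply_V {α : ↥M → ℂ} (hα : IsClassFunction ↥M α)
    (hoff : ∀ x : ↥M, (x : G) ∉ ⁅M, M⁆ → α x = 0) (w : ↥(W₁ ⊔ W₂)) (h1 : (w : G) ∉ W₁)
    (h2 : (w : G) ∉ W₂) : dadeIsometry (coreA0 M) M (supportR M) α (w : G) = 0 := by
  rw [← h.a0_eq]
  exact h.dade.tau_apply_V h.mu hα hoff w h1 h2

/-- (5.8) for a coherent subset of `S`. -/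
theorem coherent_colSum {T : Set (↥M → ℂ)} (hT : T ⊆ seqIndD M (sigmaCore M) ⊥)
    {τ₁ : (↥M → ℂ) → (G → ℂ)} (hτ₁ : IsLinearIsometryOn (zspan T) τ₁)
    (hag : ∀ α ∈ zspanOn T {1}ᶜ, τ₁ α = dadeIsometry (coreA0 M) M (supportR M) α)
    {ω : ↥(W₁ ⊔ W₂) →* ℂˣ} (hω : ¬ SameCol ω 1) (h1 : colSum μ ω ∈ T)
    (h2 : conjFun (colSum μ ω) ∈ T) {φ : ↥M → ℂ} (hφ : φ ∈ T) (hφc : conjFun φ ∈ T)
    (hne : φ ≠ colSum μ ω) (hne' : φ ≠ conjFun (colSum μ ω)) :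
    τ₁ (colSum μ ω) = δ ω • ∑ π ∈ colClass ω, η π ∨
      τ₁ (colSum μ ω) = -(δ ω • ∑ π ∈ colClass ω⁻¹, η π) := by
  rw [← pdCalS_eq_seqIndD] at hT
  rw [← h.a0_eq] at hag
  exact h.dade.coherent_colSum h.mu h.eta h.system hT hτ₁ hag hω h1 h2 hφ hφc hne hne'

/-- A coherent extension sends irreducible members to virtual characters orthogonal to `η`. -/
theorem coherent_irr_orth {T : Set (↥M → ℂ)} (hT : T ⊆ seqIndD M (sigmaCore M) ⊥)
    {τ₁ : (↥M → ℂ) → (G → ℂ)} (hτ₁ : IsLinearIsometryOn (zspan T) τ₁)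
    (hag : ∀ α ∈ zspanOn T {1}ᶜ, τ₁ α = dadeIsometry (coreA0 M) M (supportR M) α)
    {φ : ↥M → ℂ} (hφ : φ ∈ T) (hφc : conjFun φ ∈ T) (hi : IsIrrCharacter ↥M φ)
    (π : ↥(W₁ ⊔ W₂) →* ℂˣ) : classInner (τ₁ φ) (η π) = 0 := by
  obtain ⟨s, hs, hsum⟩ := subset_sum h.sys hτ₁ hag (hT hφ) hφ hφc
  rw [hsum, classInner_sum_left]
  exact Finset.sum_eq_zero fun α hα => h.irr_orth (hT hφ) hi (hs hα) π

end TypePChars

end Cfsg.Agent.Peterfalvi
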