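import Cfsg.Agent.Lib.Peterfalvi.Sec8

/-!
# Peterfalvi (8.16)-(8.17): supporting maximal subgroups (owner: helper34)

* `CoreSupports`, `coreSupports_conj`, `coreSupports_iff`
* `exists_coreSupports_iff`, `not_coreSupports_both`, `tilde_core_disjoint`
-/

set_option autoImplicit false

namespace Cfsg.Agent.Peterfalvi

open scoped Pointwise
open Cfsg OddMax

universe u

variable {G : Type u} [Group G]

/-- `T` supports `S`. -/
def CoreSupports (T S : Subgroup G) : Prop :=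
  IsCoatom T ∧ ∃ x ∈ sigmaCore S, x ≠ 1 ∧ ¬ Subgroup.centralizer ({x} : Set G) ≤ S ∧
    Subgroup.centralizer ({x} : Set G) ≤ T

variable [Finite G]

theorem coreSupports_conj {T S : Subgroup G} (h : CoreSupports T S) (g : G) :
    CoreSupports (MulAut.conj g • T) (MulAut.conj g • S) := by
  obtain ⟨hT, x, hx, hx1, hxS, hxT⟩ := h
  refine ⟨OddSigma.isCoatom_conj hT g, g * x * g⁻¹, ?_, fun e => hx1 (conj_eq_one_iff.1 e), ?_, ?_⟩
  · rw [sigmaCore_conj]
    exact Coprime.conj_mem_conj.2 hx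
  · rw [centralizer_conj, conj_le_conj]
    exact hxS
  · rw [centralizer_conj]
    exact (conj_le_conj g).2 hxT

variable (hG : IsMinSimpleOddOrder G) (F : Sec16Facts G)
include hG F

/-- The frozen form of `Supports`, over `A₀(M)`. -/
theorem coreSupports_iff_exists {T S : Subgroup G} (hS : IsCoatom S) :
    CoreSupports T S ↔ IsCoatom T ∧ ∃ x ∈ coreA0 S, ¬ Subgroup.centralizer ({x} : Set G) ≤ S ∧
      Subgroup.centralizer ({x} : Set G) ≤ T := by
  refine and_congr_right fun hT => ⟨?_, ?_⟩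
  · rintro ⟨x, hx, hx1, h⟩
    exact ⟨x, Or.inl (coreA1_subset_coreA hG F hS ⟨hx, hx1⟩), h⟩
  · rintro ⟨x, hx, h⟩
    obtain ⟨K, U, hKU⟩ := exists_decomp F.toSec15Facts hS
    exact ⟨x, (core_centralizer_le_or_mem hG F hS hKU hx).resolve_left h.1,
      (coreA0_facts hG F hS hx).2, h⟩

variable {S T : Subgroup G} (hS : IsCoatom S) (hT : IsCoatom T)
  (hnc : ∀ g : G, T ≠ MulAut.conj g • S)
include hS hT hnc

omit hG in
theorem not_mem_both {x : G} (hx : x ∈ sigmaCore S) (hx1 : x ≠ 1) : x ∉ sigmaCore T := by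
  intro h
  obtain ⟨p, hp, hd, -⟩ := exists_prime_part hx1
  obtain ⟨g, hg⟩ := F.sigma_disj S T hS hT
    ⟨p, pi_orderOf_of_mem (sigmaCore_pi S) hx p hp hd, pi_orderOf_of_mem (sigmaCore_pi T) h p hp hd⟩
  exact hnc g hg

theorem centralizer_facts {x : G} (hx : x ∈ sigmaCore S) (hx1 : x ≠ 1) (hxT : x ∈ coreA T) :
    ¬ Subgroup.centralizer ({x} : Set G) ≤ S ∧ Subgroup.centralizer ({x} : Set G) ≤ T := by
  obtain ⟨K, U, hKU⟩ := exists_decomp F.toSec15Facts hT
  have hxs := not_mem_both F hS hT hnc hx hx1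
  rw [coreA_eq hG F hT hKU] at hxT
  have hCT := (centralizer_le_of_sigmaA hG F hT hKU hxT.1 hxs).1
  refine ⟨fun hC => ?_, hCT⟩
  obtain ⟨⟨⟨hxT', y, hy, hy1, hc⟩, hxN⟩, -⟩ := hxT
  obtain ⟨a, b, ha, hb, hab, haπ, hbπ⟩ := exists_pi_parts (sigma T) x
  have hb1 : b ≠ 1 := by
    rintro rfl
    rw [mul_one] at hab
    exact hxs (hab ▸ mem_sigmaCore_of_sigma F.toSigFacts hT (Subgroup.zpowers_le.2 hxT' ha) haπ)
  have hbS : b ∈ sigmaCore S := Subgroup.zpowers_le.2 hx hb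
  rcases F.s1432 T hT y hy hy1 b
    ⟨Subgroup.zpowers_le.2 hxT' hb,
      Subgroup.zpowers_le.2 (Subgroup.mem_centralizer_singleton_iff.2 hc) hb⟩ hb1 hbπ with
    ⟨hk, -⟩ | ⟨-, -, -, huniq⟩
  · obtain ⟨p, hp, hd, -⟩ := exists_prime_part hb1
    refine hp.not_dvd_one ((sup_sigmaCore_coprime F hT hKU) ▸ Nat.dvd_gcd
      (hd.trans (Subgroup.orderOf_dvd_natCard _ (Subgroup.zpowers_le.2 hxN hb))) ?_)
    have h1 := card_mul_relIndex (K_le hKU)
    have h2 : p ∣ Nat.card T := (hk p hp hd).2.1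
    rw [← h1] at h2
    exact (hp.dvd_mul.1 h2).resolve_right (hKU.hall.2.2 p hp (hk p hp hd))
  by_cases hCb : Subgroup.centralizer ({b} : Set G) ≤ S
  · exact hnc 1 (by rw [Solvable.conj_one_smul]; exact (huniq S hS hCb).symm)
  obtain ⟨N, hN⟩ := exists_signalizer hG F.toSigFacts hS hbS hb1 hCb
  obtain rfl : N = T := huniq N hN.coatom hN.le
  have hyS : y ∈ S := hC (Subgroup.mem_centralizer_singleton_iff.2 hc.symm)
  refine hy1 ?_
  rw [← Subgroup.mem_bot, ← hN.compl.2.2.1]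
  exact ⟨⟨hyS, sigmaCore_le _ hy⟩, hy⟩

/-- Peterfalvi (8.16), first part. -/
theorem coreSupports_iff : CoreSupports T S ↔ (coreA1 S ∩ coreA T).Nonempty := by
  constructor
  · rintro ⟨-, x, hx, hx1, hxS, hxT⟩
    obtain ⟨N, hN⟩ := exists_signalizer hG F.toSigFacts hS hx hx1 hxS
    obtain rfl : T = N := hN.unique T hT hxT
    obtain ⟨K, U, hKU⟩ := exists_decomp F.toSec15Facts hT
    refine ⟨x, ⟨hx, hx1⟩, K, U, hKU, ?_, hx1⟩
    exact (decomp_facts hG F.toSigFacts hS hx hx1 hN hKU).2.1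
  · rintro ⟨x, ⟨hx, hx1⟩, hxT⟩
    exact ⟨hT, x, hx, hx1, centralizer_facts hG F hS hT hnc hx hx1 hxT⟩

omit hG F in
theorem nonconj_conj (h : G) : ∀ k : G, T ≠ MulAut.conj k • MulAut.conj h • S := by
  intro k e
  refine hnc (k * h) ?_
  rwa [← Solvable.conj_conj]

/-- Peterfalvi (8.17), first part: supporting conjugates and the sets `Ã₁(S)`, `Ã(T)`. -/
theorem exists_coreSupports_iff (C : CountFacts G) :
    (∃ g : G, CoreSupports (MulAut.conj g • T) S) ↔
      (tildeOf S (coreA1 S) ∩ tildeOf T (coreA T)).Nonempty := by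
  constructor
  · rintro ⟨g, hg⟩
    have h := coreSupports_conj hg g⁻¹
    rw [Solvable.conj_conj, inv_mul_cancel, Solvable.conj_one_smul] at h
    have hS' := OddSigma.isCoatom_conj hS g⁻¹
    obtain ⟨x, ⟨hx, hx1⟩, hxT⟩ :=
      (coreSupports_iff hG F hS' hT (nonconj_conj hS hT hnc g⁻¹)).1 h
    refine ⟨x, ⟨g * x * g⁻¹, ⟨?_, fun e => hx1 (conj_eq_one_iff.1 e)⟩, 1, one_mem _, g⁻¹,
      by group⟩, x, hxT, 1, one_mem _, 1, by group⟩
    rw [SetLike.mem_coe, sigmaCore_conj, Coprime.mem_conj] at hx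
    simpa using hx
  · rintro ⟨z, ⟨a, ⟨ha, ha1⟩, r, hr, v, rfl⟩, b, hb, s, hs, w, he⟩
    obtain ⟨K, U, hKU⟩ := exists_decomp F.toSec15Facts hT
    by_cases hbs : b ∈ sigmaCore T
    · exfalso
      have h := tilde_disjoint hG C hS hT hnc
      rw [Set.eq_empty_iff_forall_notMem] at h
      exact h _ ⟨⟨a, ⟨ha, ha1⟩, r, hr, v, rfl⟩, b, ⟨hbs, (coreA0_facts hG F hT (Or.inl hb)).2⟩,
        s, hs, w, he⟩
    have hb' := hb
    rw [coreA_eq hG F hT hKU] at hb'
    have hCb := (centralizer_le_of_sigmaA hG F hT hKU hb'.1 hbs).1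
    rw [supportR_eq_bot hCb, Subgroup.mem_bot] at hs
    subst hs
    rw [mul_one] at he
    -- `b = u (a r) u⁻¹`
    set u := w⁻¹ * v with hu
    have hbe : b = u * (a * r) * u⁻¹ := by
      rw [hu, show w⁻¹ * v * (a * r) * (w⁻¹ * v)⁻¹ = w⁻¹ * (v * (a * r) * v⁻¹) * w by group, he]
      group
    refine ⟨u⁻¹, ?_⟩
    have hS' := OddSigma.isCoatom_conj hS u
    suffices CoreSupports T (MulAut.conj u • S) by
      have h := coreSupports_conj this u⁻¹
      rwa [Solvable.conj_conj, inv_mul_cancel, Solvable.conj_one_smul] at h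
    refine (coreSupports_iff hG F hS' hT (nonconj_conj hS hT hnc u)).2 ⟨u * a * u⁻¹,
        ⟨by rw [sigmaCore_conj]; exact Coprime.conj_mem_conj.2 ha,
          fun e => ha1 (conj_eq_one_iff.1 e)⟩, ?_⟩
    have hpow : u * a * u⁻¹ ∈ Subgroup.zpowers b := by
      obtain ⟨k, hk⟩ := mem_zpowers_mul hG F.toSigFacts hS ha ha1 hr
      refine ⟨k, ?_⟩
      show b ^ k = _
      have hk' : (a * r) ^ k = a := hk
      rw [hbe, conj_zpow, hk']
    obtain ⟨⟨hbT, y, hy, hy1, hc⟩, hbN⟩ := hb'.1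
    refine ⟨K, U, hKU, ⟨⟨Subgroup.zpowers_le.2 hbT hpow, y, hy, hy1, ?_⟩,
      Subgroup.zpowers_le.2 hbN hpow⟩, fun e => ha1 (conj_eq_one_iff.1 e)⟩
    exact Subgroup.mem_centralizer_singleton_iff.1
      (Subgroup.zpowers_le.2 (Subgroup.mem_centralizer_singleton_iff.2 hc) hpow)

/-- Peterfalvi (8.17), second part: at most one of two subgroups supports the other. -/
theorem not_coreSupports_both {g h : G} (h1 : CoreSupports (MulAut.conj g • T) S)
    (h2 : CoreSupports (MulAut.conj h • S) T) : False := by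
  obtain ⟨hS', x, hx, hx1, hxT, hxS⟩ := h2
  obtain ⟨N, hN⟩ := exists_signalizer hG F.toSigFacts hT hx hx1 hxT
  obtain rfl : MulAut.conj h • S = N := hN.unique _ hS' hxS
  obtain ⟨p, hp, hd, -⟩ := exists_prime_part hx1
  have h1' := coreSupports_conj h1 h
  obtain ⟨hT', z, hz, hz1, hzS, hzT⟩ := h1'
  have hxS' : x ∈ MulAut.conj h • S := hxS (Subgroup.mem_centralizer_singleton_iff.2 rfl)
  have hp' : p ∈ tau2 (MulAut.conj h • S) := hN.tau2 p hp hd
  have := (F.s1436 _ hS' z hz hz1 hzS _ hT' hzT ⟨p, by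
    rw [OddMax.sigma_conj, OddMax.sigma_conj]
    exact pi_orderOf_of_mem (sigmaCore_pi T) hx p hp hd,
    hd.trans (Subgroup.orderOf_dvd_natCard _ hxS')⟩).2
  rw [this] at hp'
  exact hp'

/-- Peterfalvi (8.17), third part. -/
theorem tilde_core_disjoint (C : CountFacts G) :
    tildeOf S (coreA1 S) ∩ tildeOf T (coreA T) = ∅ ∨
      tildeOf T (coreA1 T) ∩ tildeOf S (coreA S) = ∅ := by
  by_contra h
  push Not at h
  obtain ⟨g, hg⟩ := (exists_coreSupports_iff hG F hS hT hnc C).2 h.1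
  obtain ⟨k, hk⟩ := (exists_coreSupports_iff hG F hT hS (fun k e => hnc k⁻¹ (by
    rw [e, Solvable.conj_conj, inv_mul_cancel, Solvable.conj_one_smul])) C).2 h.2
  exact not_coreSupports_both hG F hS hT hnc hg hk

end Cfsg.Agent.Peterfalvi
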