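import Cfsg.Agent.Lib.Peterfalvi.Sec4PrimeDade
import Cfsg.Agent.Lib.Coherence.InducedSet
import Cfsg.Agent.S1518

/-!
# Peterfalvi (5.7), (5.8): coherence systems under the prime Dade hypothesis (owner: helper34)

* `coeff_col_const` : the coefficient rule with the principal column zero
* `PrimeDade.calS_facts` : characters, conjugation, orthogonality, nonempty
* `PrimeDade.irr_image` : for irreducible `ζ ∈ calS`, `τ (ζ - ζ̄) = x - x̄` with `x` orthogonal to
  all `η`
* `PDSystem h μ δ η R`, `PrimeDade.exists_system` : (5.7)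
* `PrimeDade.coherent_colSum` : (5.8)
-/

set_option autoImplicit false

namespace Cfsg.Agent.Peterfalvi

open Cfsg Cfsg.Agent Cfsg.Agent.Char Cfsg.Agent.Coherence Cfsg.Agent.CyclicTI
open scoped ComplexConjugate

universe u

variable {G : Type u} [Group G]

/-- A class function vanishing on `V` and orthogonal to the principal column has coefficients
constant on each column. -/
theorem coeff_col_const [Fintype G] {W₁ W₂ : Subgroup G} (hP : IsPair W₁ W₂)
    {η : (↥(W₁ ⊔ W₂) →* ℂˣ) → G → ℂ} (hη : IsCyclicTIFamily W₁ W₂ η) {θ : G → ℂ}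
    (hθ : IsClassFunction G θ)
    (hθV : ∀ w : ↥(W₁ ⊔ W₂), (w : G) ∉ W₁ → (w : G) ∉ W₂ → θ w = 0)
    (h0 : ∀ π, SameCol π 1 → classInner θ (η π) = 0) {π π' : ↥(W₁ ⊔ W₂) →* ℂˣ}
    (hc : SameCol π π') : classInner θ (η π) = classInner θ (η π') := by
  have h := S1506.rectangle hP hη hθ hθV (φ := hP.lfst π) (φ' := hP.lfst π')
    (ψ := hP.lsnd π) (ψ' := 1)
    (fun w hw => hP.lfst_apply_of_mem₂ π hw) (fun w hw => hP.lfst_apply_of_mem₂ π' hw)
    (fun w hw => hP.lsnd_apply_of_mem₁ π hw) (fun w _ => rfl)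
  have e1 : ∀ ρ, hP.lfst ρ * 1 = hP.lfst ρ := fun ρ => MonoidHom.ext fun w => mul_one _
  rw [hP.lfst_mul_lsnd, e1, e1, (sameCol_lsnd hP).1 hc, hP.lfst_mul_lsnd] at h
  have z : ∀ ρ, classInner θ (η (hP.lfst ρ)) = 0 := fun ρ => h0 _ fun w hw => by
    rw [hP.lfst_apply_of_mem₂ ρ hw, MonoidHom.one_apply]
  rw [z, z, add_zero, zero_add] at h
  exact h

variable [Finite G] {L K H W₁ W₂ : Subgroup G} {A : Set G} {R₀ : G → Subgroup G}

/-- What the coherence system of (5.7) gives. -/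
structure PDSystem [Fintype G] [Fintype ↥L] (h : PrimeDade L K H W₁ W₂ A R₀)
    (μ : (↥(W₁ ⊔ W₂) →* ℂˣ) → ↥L → ℂ) (δ : (↥(W₁ ⊔ W₂) →* ℂˣ) → ℂ)
    (η : (↥(W₁ ⊔ W₂) →* ℂˣ) → G → ℂ) (R : (↥L → ℂ) → Finset (G → ℂ)) : Prop where
  sys : IsCoherenceSystem (pdCalS L K H) (dadeIsometry (a0Set L W₁ W₂ A) L R₀) R
  colSum_mem : ∀ ω, ¬ SameCol ω 1 → ∀ α, α ∈ R (colSum μ ω) ↔
    (∃ π ∈ colClass ω, α = δ ω • η π) ∨ ∃ π ∈ colClass ω⁻¹, α = -(δ ω • η π)
  irr_orth : ∀ φ ∈ pdCalS L K H, IsIrrCharacter ↥L φ → ∀ α ∈ R φ, ∀ π, classInner α (η π) = 0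

namespace PrimeDade

variable (h : PrimeDade L K H W₁ W₂ A R₀)
include h

theorem not_sameCol_inv {ω : ↥(W₁ ⊔ W₂) →* ℂˣ} (hω : ¬ SameCol ω 1) : ¬ SameCol ω ω⁻¹ := by
  intro e
  refine hω fun w hw => ?_
  have h2 : ω (w * w) = 1 := by
    rw [map_mul]
    conv_lhs => arg 2; rw [e w hw, MonoidHom.inv_apply]
    rw [mul_inv_cancel]
  have hodd : Odd (orderOf w) := by
    rw [← Subgroup.orderOf_coe w]
    exact h.odd.of_dvd_nat (Subgroup.orderOf_dvd_natCard L (h.toPrimeTI.sup_le w.2))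
  obtain ⟨k, hk⟩ := exists_pow_eq_self_of_coprime (x := w) (n := 2) hodd.coprime_two_left
  rw [← hk, map_pow, pow_two, h2, one_pow, MonoidHom.one_apply]

theorem not_sameCol_one_inv {ω : ↥(W₁ ⊔ W₂) →* ℂˣ} (hω : ¬ SameCol ω 1) : ¬ SameCol ω⁻¹ 1 :=
  fun e => hω fun w hw => by
    have := e w hw
    rwa [MonoidHom.inv_apply, MonoidHom.one_apply, inv_eq_one] at this

theorem exists_not_sameCol_one : ∃ ω : ↥(W₁ ⊔ W₂) →* ℂˣ, ¬ SameCol ω 1 := by
  by_contra hno
  push Not at hno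
  have hc := card_lin_factor₂ h.toPrimeTI.isPair h.toPrimeTI.comm
  have : Subsingleton {ψ : ↥(W₁ ⊔ W₂) →* ℂˣ // ∀ w : ↥(W₁ ⊔ W₂), (w : G) ∈ W₁ → ψ w = 1} :=
    ⟨fun a b => Subtype.ext (h.toPrimeTI.isPair.lin_ext (fun w hw => by rw [a.2 w hw, b.2 w hw])
      (fun w hw => by rw [hno a.1 w hw, hno b.1 w hw]))⟩
  have h1 := Finite.card_le_one_iff_subsingleton.2 this
  rw [hc] at h1
  have := h.toPrimeTI.three_le₂
  omega

variable [Fintype ↥L]

theorem calS_isCharacter {φ : ↥L → ℂ} (hφ : φ ∈ pdCalS L K H) : IsCharacter ↥L φ := by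
  obtain ⟨θ, hθ, -, rfl⟩ := hφ
  exact IsCharacter.indFun (K.subgroupOf L) (IsIrrCharacter.isCharacter hθ)

theorem calS_conj {φ : ↥L → ℂ} (hφ : φ ∈ pdCalS L K H) : conjFun φ ∈ pdCalS L K H := by
  obtain ⟨θ, hθ, hker, rfl⟩ := hφ
  haveI := Fintype.ofFinite ↥(K.subgroupOf L)
  refine ⟨_, IsIrrCharacter.conj hθ, fun e => hker fun k hk => ?_, conjFun_indFun θ⟩
  have := congrArg conj (e k hk)
  simpa using this

theorem calS_sub_conj_mem {φ : ↥L → ℂ} (hφ : φ ∈ pdCalS L K H) :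
    φ - conjFun φ ∈ zspanOn (pdCalS L K H) {1}ᶜ := by
  refine mem_zspanOn_one.2 ⟨zspan_sub (subset_zspan hφ) (subset_zspan (h.calS_conj hφ)), ?_⟩
  obtain ⟨d, hd⟩ := IsCharacter.exists_degree (h.calS_isCharacter hφ)
  simp [conjFun, hd]

theorem calS_one_eq {φ : ↥L → ℂ} (hφ : φ ∈ pdCalS L K H) : conjFun φ 1 = φ 1 := by
  obtain ⟨d, hd⟩ := IsCharacter.exists_degree (h.calS_isCharacter hφ)
  simp [conjFun, hd]

section Mu

variable {μ : (↥(W₁ ⊔ W₂) →* ℂˣ) → ↥L → ℂ} {δ : (↥(W₁ ⊔ W₂) →* ℂˣ) → ℂ}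
  (hμ : MuFamily h.toPrimeTI μ δ)
include hμ

omit [Fintype ↥L] in
theorem colSum_sameCol {ω ν : ↥(W₁ ⊔ W₂) →* ℂˣ} (e : colSum μ ω = colSum μ ν) : SameCol ω ν := by
  classical
  haveI := Fintype.ofFinite ↥L
  by_contra hne
  have h1 := hμ.inner_colSum ω ν
  rw [if_neg hne, e, hμ.inner_colSum, if_pos (sameCol_refl ν)] at h1
  exact Nat.cast_ne_zero.2 Nat.card_pos.ne' h1

theorem colSum_not_irr (ω : ↥(W₁ ⊔ W₂) →* ℂˣ) : ¬ IsIrrCharacter ↥L (colSum μ ω) := by
  classical
  intro hi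
  have h1 := classInner_irr_self hi
  rw [hμ.inner_colSum, if_pos (sameCol_refl ω), Nat.cast_eq_one] at h1
  have := h.toPrimeTI.three_le₁
  omega

theorem irr_conj_ne {φ : ↥L → ℂ} (hφ : φ ∈ pdCalS L K H) (hi : IsIrrCharacter ↥L φ) :
    conjFun φ ≠ φ := by
  intro e
  have h1 := CharApp.real_irr_of_odd h.odd hi fun g => by
    rw [← Complex.conj_eq_iff_im]
    exact congrFun e g
  rcases h.calS_cases hμ hφ with ⟨ω, -, rfl⟩ | ⟨-, ho⟩
  · exact h.colSum_not_irr hμ ω hi
  · have h2 := ho 1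
    rw [h1, hμ.mu_one.1] at h2
    exact one_ne_zero ((classInner_irr_self (isIrrCharacter_one (G := ↥L))).symm.trans h2)

theorem calS_conj_ne {φ : ↥L → ℂ} (hφ : φ ∈ pdCalS L K H) : conjFun φ ≠ φ := by
  rcases h.calS_cases hμ hφ with ⟨ω, hω, rfl⟩ | ⟨hi, -⟩
  · intro e
    rw [← hμ.colSum_inv] at e
    exact h.not_sameCol_inv hω (h.colSum_sameCol hμ e).symm
  · exact h.irr_conj_ne hμ hφ hi

theorem calS_orth {φ ψ : ↥L → ℂ} (hφ : φ ∈ pdCalS L K H) (hψ : ψ ∈ pdCalS L K H) (hne : φ ≠ ψ) :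
    classInner φ ψ = 0 := by
  classical
  rcases h.calS_cases hμ hφ with ⟨ω, -, rfl⟩ | ⟨hi, ho⟩ <;>
    rcases h.calS_cases hμ hψ with ⟨ν, -, rfl⟩ | ⟨hi', ho'⟩
  · rw [hμ.inner_colSum, if_neg fun e => hne ?_]
    rw [colSum, colSum, colClass_eq e]
  · rw [colSum, classInner_sum_left]
    exact Finset.sum_eq_zero fun π _ => classInner_symm_zero (ho' π)
  · rw [colSum, classInner_sum_right]
    exact Finset.sum_eq_zero fun π _ => ho π
  · exact classInner_irr_of_ne hi hi' hne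

section Tau

variable [Fintype G] {η : (↥(W₁ ⊔ W₂) →* ℂˣ) → G → ℂ} (hη : IsCyclicTIFamily W₁ W₂ η)
include hη

theorem tau_linearIsometry :
    IsLinearIsometryOn (zspanOn (pdCalS L K H) {1}ᶜ) (dadeIsometry (a0Set L W₁ W₂ A) L R₀) :=
  dade_linearIsometryOn h.dade fun α hα => ⟨isGC_of_mem_zspan
    (fun φ hφ => isGC_of_isCharacter (h.calS_isCharacter hφ)) hα.1,
    fun x hx => h.zspanOn_calS_supp hα x hx⟩

omit hη in
theorem tau_apply_V {α : ↥L → ℂ} (hα : IsClassFunction ↥L α)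
    (hoff : ∀ x : ↥L, (x : G) ∉ K → α x = 0) (w : ↥(W₁ ⊔ W₂)) (h1 : (w : G) ∉ W₁)
    (h2 : (w : G) ∉ W₂) : dadeIsometry (a0Set L W₁ W₂ A) L R₀ α (w : G) = 0 := by
  rw [show (w : G) = ((h.toPrimeTI.emb w : ↥L) : G) from rfl,
    dadeIsometry_self h.dade hα (h.toPrimeTI.emb w) (h.mem_a0Set h1 h2)]
  exact hoff _ fun hK => h2 (h.toPrimeTI.mem₂_of_mem_K w.2 hK)

/-- For an irreducible member `ζ`, `τ (ζ - ζ̄) = x - x̄` with `x` orthogonal to the whole family. -/
theorem irr_image {φ : ↥L → ℂ} (hφ : φ ∈ pdCalS L K H) (hi : IsIrrCharacter ↥L φ) :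
    ∃ x : G → ℂ, IsIrrCharacter G x ∧ conjFun x ≠ x ∧
      dadeIsometry (a0Set L W₁ W₂ A) L R₀ (φ - conjFun φ) = x - conjFun x ∧
      (∀ π, classInner x (η π) = 0) ∧ ∀ π, classInner (conjFun x) (η π) = 0 := by
  classical
  obtain ⟨x, hx, hτ⟩ := S1518.result (a0Set L W₁ W₂ A) L R₀ h.dade φ hi
    (fun y hy1 hyA => h.calS_supp hφ y hy1 fun e => hyA (Or.inl e))
  have hx' : IsIrrCharacter G (conjFun x) := IsIrrCharacter.conj hx
  have hmem := h.calS_sub_conj_mem hφ
  have hne : conjFun x ≠ x := by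
    intro e
    have h1 := (h.tau_linearIsometry hμ hη).2.2.1 _ hmem _ hmem
    rw [hτ, e, sub_self, classInner_zero_left] at h1
    have hic : IsIrrCharacter ↥L (conjFun φ) := IsIrrCharacter.conj hi
    simp only [classInner_sub_left, classInner_sub_right, classInner_irr_self hi,
      classInner_irr_self hic, classInner_irr_of_ne hi hic (Ne.symm (h.irr_conj_ne hμ hφ hi)),
      classInner_irr_of_ne hic hi (h.irr_conj_ne hμ hφ hi)] at h1
    norm_num at h1
  set θ := x - conjFun x with hθ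
  have hθcl : IsClassFunction G θ :=
    isClassFunction_sub (IsIrrCharacter.isClassFunction hx) (IsIrrCharacter.isClassFunction hx')
  have hθV : ∀ w : ↥(W₁ ⊔ W₂), (w : G) ∉ W₁ → (w : G) ∉ W₂ → θ w = 0 := fun w h1 h2 => by
    rw [← hτ]
    exact h.tau_apply_V hμ (isClassFunction_sub (IsIrrCharacter.isClassFunction hi)
      (IsIrrCharacter.isClassFunction (IsIrrCharacter.conj hi)))
      (fun y hy => by
        simp [conjFun, h.calS_vanish_off hφ y hy]) w h1 h2
  have hone : ∀ z : G → ℂ, IsSignedIrr G z → ∃ a, ∀ π, π ≠ a → classInner z (η π) = 0 := by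
    intro z hz
    by_cases hex : ∃ a, classInner z (η a) ≠ 0
    · obtain ⟨a, ha⟩ := hex
      refine ⟨a, fun π hπ => ?_⟩
      have ho : classInner (η a) (η π) = 0 := by rw [hη.orthonormal, if_neg (Ne.symm hπ)]
      rcases (classInner_signed hz (hη.irr_or_neg a)).2 with e | ⟨e, -⟩ | ⟨e, -⟩
      · exact absurd e ha
      · rw [← e]; exact ho
      · rw [show z = -η a by rw [e, neg_neg], classInner_neg_left, ho, neg_zero]
    · push Not at hex
      exact ⟨1, fun π _ => hex π⟩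
  obtain ⟨a, ha⟩ := hone x (Or.inl hx)
  obtain ⟨b, hb⟩ := hone (conjFun x) (Or.inl hx')
  have hs : ∀ π, π ≠ a → π ≠ b → classInner θ (η π) = 0 := fun π h1 h2 => by
    rw [hθ, classInner_sub_left, ha π h1, hb π h2, sub_zero]
  have hoddW : Odd (Nat.card ↥(W₁ ⊔ W₂)) :=
    h.odd.of_dvd_nat (Subgroup.card_dvd_of_le h.toPrimeTI.sup_le)
  have hzero : ∀ π, classInner θ (η π) = 0 := fun π => by
    by_cases h1 : π = a
    · rw [h1]
      exact coeff_eq_zero h.ti hoddW hη hθcl hθV a b hs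
    by_cases h2 : π = b
    · rw [h2]
      exact coeff_eq_zero h.ti hoddW hη hθcl hθV b a fun ν e1 e2 => hs ν e2 e1
    exact hs π h1 h2
  have heq : ∀ π, classInner x (η π) = classInner (conjFun x) (η π) := fun π => by
    have := hzero π
    rwa [hθ, classInner_sub_left, sub_eq_zero] at this
  have hx0 : ∀ π, classInner x (η π) = 0 := by
    intro π
    by_contra hc
    rcases (classInner_signed (Or.inl hx) (hη.irr_or_neg π)).2 with e | ⟨e, -⟩ | ⟨e, -⟩
    · exact hc e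
    · refine hc ((heq π).trans ?_)
      rw [e]; exact classInner_irr_of_ne hx' hx hne
    · refine hc ((heq π).trans ?_)
      rw [e, classInner_neg_right, classInner_irr_of_ne hx' hx hne, neg_zero]
  exact ⟨x, hx, hne, hτ, hx0, fun π => (heq π).symm.trans (hx0 π)⟩

theorem tau_colSum_sub_conj {ω : ↥(W₁ ⊔ W₂) →* ℂˣ} (hω : ¬ SameCol ω 1) :
    dadeIsometry (a0Set L W₁ W₂ A) L R₀ (colSum μ ω - conjFun (colSum μ ω)) =
      δ ω • (∑ π ∈ colClass ω, η π - ∑ π ∈ colClass ω⁻¹, η π) := by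
  rw [← hμ.colSum_inv]
  refine h.tau_colSum_sub hμ hη hω (h.not_sameCol_one_inv hω) ?_
  rw [(hμ.mu_inv ω).1]
  obtain ⟨d, hd⟩ := IsCharacter.exists_degree (IsIrrCharacter.isCharacter (hμ.irr ω))
  simp [conjFun, hd]

/-- Peterfalvi (5.7). -/
theorem exists_system : ∃ R, PDSystem h μ δ η R := by
  classical
  have hx : ∀ φ : ↥L → ℂ, ∃ x : G → ℂ, (φ ∈ pdCalS L K H ∧ IsIrrCharacter ↥L φ) →
      IsIrrCharacter G x ∧ conjFun x ≠ x ∧
      dadeIsometry (a0Set L W₁ W₂ A) L R₀ (φ - conjFun φ) = x - conjFun x ∧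
      (∀ π, classInner x (η π) = 0) ∧ ∀ π, classInner (conjFun x) (η π) = 0 := by
    intro φ
    by_cases e : φ ∈ pdCalS L K H ∧ IsIrrCharacter ↥L φ
    · obtain ⟨x, hx⟩ := h.irr_image hμ hη e.1 e.2
      exact ⟨x, fun _ => hx⟩
    · exact ⟨0, fun e' => absurd e' e⟩
  choose x hx using hx
  let colR : (↥(W₁ ⊔ W₂) →* ℂˣ) → Finset (G → ℂ) := fun ω =>
    (colClass ω).image (fun π => δ ω • η π) ∪ (colClass ω⁻¹).image (fun π => -(δ ω • η π))
  let R : (↥L → ℂ) → Finset (G → ℂ) := fun φ =>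
    if hφ : ∃ ω, ¬ SameCol ω 1 ∧ φ = colSum μ ω then colR hφ.choose else {x φ, -conjFun (x φ)}
  have hcolR : ∀ ω ν, SameCol ω ν → colR ω = colR ν := fun ω ν e => by
    simp only [colR]
    rw [colClass_eq e, colClass_eq e.inv, hμ.sign_col ω ν e]
  have hRc : ∀ ω, ¬ SameCol ω 1 → R (colSum μ ω) = colR ω := by
    intro ω hω
    have hex : ∃ ν, ¬ SameCol ν 1 ∧ colSum μ ω = colSum μ ν := ⟨ω, hω, rfl⟩
    simp only [R, dif_pos hex]
    exact hcolR _ _ (h.colSum_sameCol hμ hex.choose_spec.2.symm)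
  have hRi : ∀ φ ∈ pdCalS L K H, IsIrrCharacter ↥L φ → R φ = {x φ, -conjFun (x φ)} := by
    intro φ hφ hi
    simp only [R]
    rw [dif_neg]
    rintro ⟨ω, -, rfl⟩
    exact h.colSum_not_irr hμ ω hi
  have hηc : ∀ π π', classInner (η π) (η π') = if π = π' then 1 else 0 := fun π π' => by
    rw [hη.orthonormal]; congr
  have hdisjc : ∀ ω, ¬ SameCol ω 1 → Disjoint (colClass ω) (colClass ω⁻¹) := fun ω hω =>
    Finset.disjoint_left.2 fun π h1 h2 =>
      h.not_sameCol_inv hω ((mem_colClass.1 h1).symm.trans (mem_colClass.1 h2))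
  have hmemR : ∀ ω, ¬ SameCol ω 1 → ∀ α, α ∈ R (colSum μ ω) ↔
      (∃ π ∈ colClass ω, α = δ ω • η π) ∨ ∃ π ∈ colClass ω⁻¹, α = -(δ ω • η π) := by
    intro ω hω α
    rw [hRc ω hω]
    simp only [colR, Finset.mem_union, Finset.mem_image, eq_comm]
  have horth : ∀ φ ∈ pdCalS L K H, IsIrrCharacter ↥L φ → ∀ α ∈ R φ, ∀ π, classInner α (η π) = 0 := by
    intro φ hφ hi α hα π
    obtain ⟨-, -, -, h1, h2⟩ := hx φ ⟨hφ, hi⟩
    rw [hRi φ hφ hi, Finset.mem_insert, Finset.mem_singleton] at hα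
    rcases hα with rfl | rfl
    · exact h1 π
    · rw [classInner_neg_left, h2 π, neg_zero]
  refine ⟨R, ⟨?_, fun φ hφ => h.calS_isCharacter hφ, fun φ hφ => h.calS_conj hφ,
    fun φ hφ => h.calS_conj_ne hμ hφ, h.tau_linearIsometry hμ hη,
    fun α _ => dadeIsometry_one h.dade α, fun φ hφ ψ hψ hne => h.calS_orth hμ hφ hψ hne,
    ?_, ?_, ?_, ?_⟩, hmemR, horth⟩
  · obtain ⟨ω, hω⟩ := h.exists_not_sameCol_one
    exact ⟨_, h.colSum_mem_calS hμ hω⟩
  · -- orthonormal
    intro φ hφ α hα β hβ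
    rcases h.calS_cases hμ hφ with ⟨ω, hω, rfl⟩ | ⟨hi, -⟩
    · rw [hmemR ω hω] at hα hβ
      have hd := hμ.sign ω
      obtain ⟨s, a, hs, rfl⟩ : ∃ (s : ℂ) (a : ↥(W₁ ⊔ W₂) →* ℂˣ), (s = 1 ∧ a ∈ colClass ω ∨
          s = -1 ∧ a ∈ colClass ω⁻¹) ∧ α = (s * δ ω) • η a := by
        rcases hα with ⟨a, ha, rfl⟩ | ⟨a, ha, rfl⟩
        · exact ⟨1, a, Or.inl ⟨rfl, ha⟩, by rw [one_mul]⟩
        · exact ⟨-1, a, Or.inr ⟨rfl, ha⟩, by rw [neg_one_mul, neg_smul]⟩
      obtain ⟨t, b, ht, rfl⟩ : ∃ (t : ℂ) (b : ↥(W₁ ⊔ W₂) →* ℂˣ), (t = 1 ∧ b ∈ colClass ω ∨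
          t = -1 ∧ b ∈ colClass ω⁻¹) ∧ β = (t * δ ω) • η b := by
        rcases hβ with ⟨b, hb, rfl⟩ | ⟨b, hb, rfl⟩
        · exact ⟨1, b, Or.inl ⟨rfl, hb⟩, by rw [one_mul]⟩
        · exact ⟨-1, b, Or.inr ⟨rfl, hb⟩, by rw [neg_one_mul, neg_smul]⟩
      rw [classInner_smul_left, classInner_smul_right, map_mul, hμ.sign_conj, hηc]
      by_cases hab : a = b
      · subst hab
        have hst : s = t := by
          rcases hs with ⟨rfl, h1⟩ | ⟨rfl, h1⟩ <;> rcases ht with ⟨rfl, h2⟩ | ⟨rfl, h2⟩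
          · rfl
          · exact absurd h2 (Finset.disjoint_left.1 (hdisjc ω hω) h1)
          · exact absurd h1 (Finset.disjoint_left.1 (hdisjc ω hω) h2)
          · rfl
        subst hst
        rw [if_pos rfl, if_pos rfl, mul_one]
        rcases hs with ⟨rfl, -⟩ | ⟨rfl, -⟩ <;> simp [hμ.sign_sq]
      · rw [if_neg hab, mul_zero, mul_zero, if_neg]
        intro e
        have h2 := congrArg (fun f => classInner f (η a)) e
        simp only [classInner_smul_left, hηc, if_pos, if_neg (Ne.symm hab), mul_zero, mul_one] at h2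
        rcases hs with ⟨rfl, -⟩ | ⟨rfl, -⟩ <;> simp [hμ.sign_ne] at h2
    · rw [hRi φ hφ hi, Finset.mem_insert, Finset.mem_singleton] at hα hβ
      obtain ⟨hxi, hxne, -⟩ := hx φ ⟨hφ, hi⟩
      have hxi' : IsIrrCharacter G (conjFun (x φ)) := IsIrrCharacter.conj hxi
      have hdiff : x φ ≠ -conjFun (x φ) := by
        intro e
        have := congrArg (fun f => classInner f (x φ)) e
        simp only [classInner_irr_self hxi, classInner_neg_left,
          classInner_irr_of_ne hxi' hxi hxne, neg_zero] at this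
        exact one_ne_zero this
      rcases hα with rfl | rfl <;> rcases hβ with rfl | rfl
      · rw [if_pos rfl, classInner_irr_self hxi]
      · rw [if_neg hdiff, classInner_neg_right, classInner_irr_of_ne hxi hxi' (Ne.symm hxne),
          neg_zero]
      · rw [if_neg (Ne.symm hdiff), classInner_neg_left, classInner_irr_of_ne hxi' hxi hxne,
          neg_zero]
      · rw [if_pos rfl, classInner_neg_left, classInner_neg_right, neg_neg,
          classInner_irr_self hxi']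
  · -- virtual
    intro φ hφ α hα
    rcases h.calS_cases hμ hφ with ⟨ω, hω, rfl⟩ | ⟨hi, -⟩
    · rw [hmemR ω hω] at hα
      rcases hμ.sign ω with e | e <;> rcases hα with ⟨π, -, rfl⟩ | ⟨π, -, rfl⟩ <;> rw [e]
      all_goals first
        | simpa using isGC_signed (hη.irr_or_neg π)
        | simpa using isGC_neg (isGC_signed (hη.irr_or_neg π))
    · rw [hRi φ hφ hi, Finset.mem_insert, Finset.mem_singleton] at hα
      obtain ⟨hxi, -⟩ := hx φ ⟨hφ, hi⟩
      rcases hα with rfl | rfl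
      · exact isGC_of_irr hxi
      · exact isGC_neg (isGC_of_irr (IsIrrCharacter.conj hxi))
  · -- sums
    intro φ hφ
    rcases h.calS_cases hμ hφ with ⟨ω, hω, rfl⟩ | ⟨hi, -⟩
    · rw [h.tau_colSum_sub_conj hμ hη hω, hRc ω hω]
      have hinj : Function.Injective (fun π => δ ω • η π) := fun a b e => by
        by_contra hab
        have := congrArg (fun f => classInner f (η a)) e
        simp only [classInner_smul_left, hηc, if_pos, if_neg (Ne.symm hab), mul_one,
          mul_zero] at this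
        exact hμ.sign_ne ω this
      rw [Finset.sum_union, Finset.sum_image fun a _ b _ e => hinj e,
        Finset.sum_image fun a _ b _ e => hinj (neg_injective e), Finset.sum_neg_distrib,
        smul_sub, Finset.smul_sum, Finset.smul_sum, sub_eq_add_neg]
      rw [Finset.disjoint_left]
      intro f h1 h2
      simp only [Finset.mem_image] at h1 h2
      obtain ⟨a, ha, rfl⟩ := h1
      obtain ⟨b, hb, e⟩ := h2
      have := congrArg (fun f => classInner f (η a)) e
      simp only [classInner_neg_left, classInner_smul_left, hηc, if_pos,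
        if_neg (fun e : b = a => Finset.disjoint_left.1 (hdisjc ω hω) ha (e ▸ hb)), mul_one,
        mul_zero, neg_zero] at this
      exact hμ.sign_ne ω this.symm
    · rw [hRi φ hφ hi]
      obtain ⟨hxi, hxne, hτ, -⟩ := hx φ ⟨hφ, hi⟩
      rw [hτ, Finset.sum_insert, Finset.sum_singleton, sub_eq_add_neg]
      rw [Finset.mem_singleton]
      intro e
      have hxi' : IsIrrCharacter G (conjFun (x φ)) := IsIrrCharacter.conj hxi
      have := congrArg (fun f => classInner f (x φ)) e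
      simp only [classInner_irr_self hxi, classInner_neg_left,
        classInner_irr_of_ne hxi' hxi hxne, neg_zero] at this
      exact one_ne_zero this
  · -- disjointness
    intro φ hφ ψ hψ ho ho' α hα β hβ
    rcases h.calS_cases hμ hφ with ⟨ω, hω, rfl⟩ | ⟨hi, -⟩ <;>
      rcases h.calS_cases hμ hψ with ⟨ν, hν, rfl⟩ | ⟨hi', -⟩
    · rw [hmemR _ hω] at hβ
      rw [hmemR _ hν] at hα
      rw [hμ.inner_colSum] at ho
      rw [← hμ.colSum_inv, hμ.inner_colSum] at ho'
      have hw : (Nat.card W₁ : ℂ) ≠ 0 := Nat.cast_ne_zero.2 Nat.card_pos.ne'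
      have n1 : ¬ SameCol ν ω := fun e => by rw [if_pos e] at ho; exact hw ho
      have n2 : ¬ SameCol ν ω⁻¹ := fun e => by rw [if_pos e] at ho'; exact hw ho'
      have n3 : ¬ SameCol ν⁻¹ ω := fun e => n2 fun w hw => by
        rw [MonoidHom.inv_apply, ← e w hw, MonoidHom.inv_apply, inv_inv]
      have n4 : ¬ SameCol ν⁻¹ ω⁻¹ := fun e => n1 fun w hw => by
        have := e w hw
        rwa [MonoidHom.inv_apply, MonoidHom.inv_apply, inv_inj] at this
      have key : ∀ (ν' ω' : ↥(W₁ ⊔ W₂) →* ℂˣ), ¬ SameCol ν' ω' → ∀ a ∈ colClass ν',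
          ∀ b ∈ colClass ω', classInner (η a) (η b) = 0 := fun ν' ω' hn a ha b hb => by
        rw [hηc, if_neg]
        rintro rfl
        exact hn ((mem_colClass.1 ha).symm.trans (mem_colClass.1 hb))
      rcases hα with ⟨a, ha, rfl⟩ | ⟨a, ha, rfl⟩ <;> rcases hβ with ⟨b, hb, rfl⟩ | ⟨b, hb, rfl⟩
      all_goals simp only [classInner_neg_left, classInner_neg_right, classInner_smul_left,
        classInner_smul_right]
      · simp [key _ _ n1 a ha b hb]
      · simp [key _ _ n2 a ha b hb]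
      · simp [key _ _ n3 a ha b hb]
      · simp [key _ _ n4 a ha b hb]
    · rw [hmemR _ hω] at hβ
      rcases hβ with ⟨b, -, rfl⟩ | ⟨b, -, rfl⟩
      · rw [classInner_smul_right, horth _ hψ hi' α hα b, mul_zero]
      · rw [classInner_neg_right, classInner_smul_right, horth _ hψ hi' α hα b, mul_zero, neg_zero]
    · rw [hmemR _ hν] at hα
      rcases hα with ⟨a, -, rfl⟩ | ⟨a, -, rfl⟩
      · rw [classInner_smul_left, classInner_symm_zero (horth _ hφ hi β hβ a), mul_zero]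
      · rw [classInner_neg_left, classInner_smul_left,
          classInner_symm_zero (horth _ hφ hi β hβ a), mul_zero, neg_zero]
    · rw [hRi _ hφ hi, Finset.mem_insert, Finset.mem_singleton] at hβ
      rw [hRi _ hψ hi', Finset.mem_insert, Finset.mem_singleton] at hα
      obtain ⟨hx1, hx1n, hτ1, -⟩ := hx φ ⟨hφ, hi⟩
      obtain ⟨hx2, hx2n, hτ2, -⟩ := hx ψ ⟨hψ, hi'⟩
      have c1 : IsIrrCharacter G (conjFun (x φ)) := IsIrrCharacter.conj hx1
      have c2 : IsIrrCharacter G (conjFun (x ψ)) := IsIrrCharacter.conj hx2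
      have hconj : classInner (conjFun ψ) (conjFun φ) = 0 := by
        rw [classInner_conjFun, ho, map_zero]
      have hconj' : classInner (conjFun ψ) φ = 0 := by
        rw [← conjFun_conjFun φ, classInner_conjFun, ho', map_zero]
      have h0 : classInner (x ψ - conjFun (x ψ)) (x φ - conjFun (x φ)) = 0 := by
        rw [← hτ1, ← hτ2, (h.tau_linearIsometry hμ hη).2.2.1 _ (h.calS_sub_conj_mem hψ) _
          (h.calS_sub_conj_mem hφ)]
        simp only [classInner_sub_left, classInner_sub_right, ho, ho', hconj, hconj', sub_zero]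
      have e1 : x ψ ≠ x φ := fun e => by
        rw [e] at h0
        simp only [classInner_sub_left, classInner_sub_right, classInner_irr_self hx1,
          classInner_irr_self c1, classInner_irr_of_ne hx1 c1 (Ne.symm hx1n),
          classInner_irr_of_ne c1 hx1 hx1n] at h0
        norm_num at h0
      have e2 : x ψ ≠ conjFun (x φ) := fun e => by
        rw [e, conjFun_conjFun] at h0
        simp only [classInner_sub_left, classInner_sub_right, classInner_irr_self hx1,
          classInner_irr_self c1, classInner_irr_of_ne hx1 c1 (Ne.symm hx1n),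
          classInner_irr_of_ne c1 hx1 hx1n] at h0
        norm_num at h0
      have e3 : conjFun (x ψ) ≠ x φ := fun e => e2 (by rw [← e, conjFun_conjFun])
      have e4 : conjFun (x ψ) ≠ conjFun (x φ) := fun e => e1 (by
        rw [← conjFun_conjFun (x ψ), e, conjFun_conjFun])
      rcases hα with rfl | rfl <;> rcases hβ with rfl | rfl
      all_goals simp only [classInner_neg_left, classInner_neg_right,
        classInner_irr_of_ne hx2 hx1 e1, classInner_irr_of_ne hx2 c1 e2,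
        classInner_irr_of_ne c2 hx1 e3, classInner_irr_of_ne c2 c1 e4, neg_zero]

/-- Peterfalvi (5.8): a coherent extension sends a column sum to a column of the family, if the
coherent set has a member outside that pair of columns. -/
theorem coherent_colSum {R : (↥L → ℂ) → Finset (G → ℂ)} (hR : PDSystem h μ δ η R)
    {T : Set (↥L → ℂ)} (hT : T ⊆ pdCalS L K H) {τ₁ : (↥L → ℂ) → (G → ℂ)}
    (hτ₁ : IsLinearIsometryOn (zspan T) τ₁)
    (hag : ∀ α ∈ zspanOn T {1}ᶜ, τ₁ α = dadeIsometry (a0Set L W₁ W₂ A) L R₀ α)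
    {ω : ↥(W₁ ⊔ W₂) →* ℂˣ} (hω : ¬ SameCol ω 1) (h1 : colSum μ ω ∈ T)
    (h2 : conjFun (colSum μ ω) ∈ T) {φ : ↥L → ℂ} (hφ : φ ∈ T) (hφc : conjFun φ ∈ T)
    (hne : φ ≠ colSum μ ω) (hne' : φ ≠ conjFun (colSum μ ω)) :
    τ₁ (colSum μ ω) = δ ω • ∑ π ∈ colClass ω, η π ∨
      τ₁ (colSum μ ω) = -(δ ω • ∑ π ∈ colClass ω⁻¹, η π) := by
  classical
  have hωS := h.colSum_mem_calS hμ hω
  have hφS := hT hφ
  obtain ⟨s, hs, hsum⟩ := subset_sum hR.sys hτ₁ hag hωS h1 h2
  obtain ⟨s', hs', hsum'⟩ := subset_sum hR.sys hτ₁ hag hφS hφ hφc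
  obtain ⟨n, hn⟩ := IsCharacter.exists_degree (h.calS_isCharacter hωS)
  obtain ⟨m, hm, hm'⟩ := sys_degree hR.sys hφS
  -- the combination vanishing at `1`
  set α := (m : ℤ) • colSum μ ω - (n : ℤ) • φ with hα
  have hαT : α ∈ zspanOn T {1}ᶜ := mem_zspanOn_one.2
    ⟨zspan_sub (zspan_zsmul _ (subset_zspan h1)) (zspan_zsmul _ (subset_zspan hφ)), by
      simp [hα, hn, hm', mul_comm]⟩
  set θ := dadeIsometry (a0Set L W₁ W₂ A) L R₀ α with hθ
  have hθe : θ = (m : ℤ) • τ₁ (colSum μ ω) - (n : ℤ) • τ₁ φ := by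
    rw [hθ, ← hag α hαT, hα, sub_eq_add_neg,
      hτ₁.1 _ (zspan_zsmul _ (subset_zspan h1)) _ (zspan_neg (zspan_zsmul _ (subset_zspan hφ))),
      lin_neg hτ₁ (zspan_zsmul _ (subset_zspan hφ)), hτ₁.2.1 _ (subset_zspan h1),
      hτ₁.2.1 _ (subset_zspan hφ), sub_eq_add_neg]
  have hαcl : IsClassFunction ↥L α := isGC_isClassFunction (isGC_of_mem_zspan
    (fun ψ hψ => isGC_of_isCharacter (h.calS_isCharacter (hT hψ))) hαT.1)
  have hθcl : IsClassFunction G θ := Dade.dadeIsometry_isClassFunction h.dade hαcl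
  have hθV : ∀ w : ↥(W₁ ⊔ W₂), (w : G) ∉ W₁ → (w : G) ∉ W₂ → θ w = 0 := fun w e1 e2 =>
    h.tau_apply_V hμ hαcl (fun y hy => by
      simp [hα, h.calS_vanish_off hωS y hy, h.calS_vanish_off hφS y hy]) w e1 e2
  have hηc : ∀ π π', classInner (η π) (η π') = if π = π' then 1 else 0 := fun π π' => by
    rw [hη.orthonormal]; congr
  -- the coefficients of `τ₁ φ` vanish on the columns of `ω`, `ω⁻¹` and `1`
  have hE : ∀ π, (SameCol π ω ∨ SameCol π ω⁻¹ ∨ SameCol π 1) → classInner (τ₁ φ) (η π) = 0 := by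
    intro π hπ
    rw [hsum', classInner_sum_left]
    refine Finset.sum_eq_zero fun γ hγ => ?_
    rcases h.calS_cases hμ hφS with ⟨ν, hν, rfl⟩ | ⟨hi, -⟩
    · have key : ∀ a, SameCol a ν ∨ SameCol a ν⁻¹ → a ≠ π := by
        rintro a ha rfl
        have n1 : ¬ SameCol ν ω := fun e => hne (by rw [colSum, colSum, colClass_eq e])
        have n2 : ¬ SameCol ν ω⁻¹ := fun e => hne' (by
          rw [← hμ.colSum_inv, colSum, colSum, colClass_eq e])
        rcases ha with ha | ha <;> rcases hπ with hp | hp | hp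
        · exact n1 (ha.symm.trans hp)
        · exact n2 (ha.symm.trans hp)
        · exact hν (ha.symm.trans hp)
        · exact n2 fun w hw => by
            rw [MonoidHom.inv_apply, ← hp w hw, ha w hw, MonoidHom.inv_apply, inv_inv]
        · refine n1 fun w hw => ?_
          have e := (ha w hw).symm.trans (hp w hw)
          rwa [MonoidHom.inv_apply, MonoidHom.inv_apply, inv_inj] at e
        · exact h.not_sameCol_one_inv hν (ha.symm.trans hp)
      rcases (hR.colSum_mem ν hν γ).1 (hs' hγ) with ⟨a, ha, rfl⟩ | ⟨a, ha, rfl⟩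
      · rw [classInner_smul_left, hηc, if_neg (key a (Or.inl (mem_colClass.1 ha))), mul_zero]
      · rw [classInner_neg_left, classInner_smul_left, hηc,
          if_neg (key a (Or.inr (mem_colClass.1 ha))), mul_zero, neg_zero]
    · exact hR.irr_orth φ hφS hi γ (hs' hγ) π
  have hC : ∀ π, classInner θ (η π) =
      (m : ℂ) * classInner (τ₁ (colSum μ ω)) (η π) - (n : ℂ) * classInner (τ₁ φ) (η π) := fun π => by
    rw [hθe, classInner_sub_left, classInner_zsmul_left, classInner_zsmul_left]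
    push_cast
    rfl
  have hC0 : ∀ π, SameCol π 1 → classInner θ (η π) = 0 := by
    intro π hπ
    rw [hC, hE π (Or.inr (Or.inr hπ)), mul_zero, sub_zero, hsum, classInner_sum_left,
      Finset.sum_eq_zero, mul_zero]
    intro γ hγ
    rcases (hR.colSum_mem ω hω γ).1 (hs hγ) with ⟨a, ha, rfl⟩ | ⟨a, ha, rfl⟩
    · rw [classInner_smul_left, hηc, if_neg, mul_zero]
      exact fun e => hω ((mem_colClass.1 ha).symm.trans (e ▸ hπ))
    · rw [classInner_neg_left, classInner_smul_left, hηc, if_neg, mul_zero, neg_zero]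
      exact fun e => h.not_sameCol_one_inv hω ((mem_colClass.1 ha).symm.trans (e ▸ hπ))
  have hconst : ∀ π π', SameCol π π' → (SameCol π ω ∨ SameCol π ω⁻¹) →
      classInner (τ₁ (colSum μ ω)) (η π) = classInner (τ₁ (colSum μ ω)) (η π') := by
    intro π π' e hπ
    have hc := coeff_col_const h.toPrimeTI.isPair hη hθcl hθV hC0 e
    rw [hC, hC, hE π (hπ.elim Or.inl fun e' => Or.inr (Or.inl e')),
      hE π' (hπ.elim (fun e' => Or.inl (e.symm.trans e'))
        fun e' => Or.inr (Or.inl (e.symm.trans e'))), mul_zero, sub_zero, sub_zero] at hc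
    exact mul_left_cancel₀ (Nat.cast_ne_zero.2 hm.ne') hc
  -- membership in `s` through the coefficients
  have hcoef : ∀ γ ∈ R (colSum μ ω),
      classInner (τ₁ (colSum μ ω)) γ = if γ ∈ s then 1 else 0 := fun γ hγ => by
    rw [hsum, classInner_sum_left,
      Finset.sum_congr rfl fun β hβ => hR.sys.orthonormal _ hωS β (hs hβ) γ hγ,
      Finset.sum_ite_eq']
  set P := (colClass ω).image (fun π => δ ω • η π) with hP
  set Q := (colClass ω⁻¹).image (fun π => -(δ ω • η π)) with hQ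
  have hPR : ∀ π ∈ colClass ω, δ ω • η π ∈ R (colSum μ ω) := fun π hπ =>
    (hR.colSum_mem ω hω _).2 (Or.inl ⟨π, hπ, rfl⟩)
  have hQR : ∀ π ∈ colClass ω⁻¹, -(δ ω • η π) ∈ R (colSum μ ω) := fun π hπ =>
    (hR.colSum_mem ω hω _).2 (Or.inr ⟨π, hπ, rfl⟩)
  have hPall : (∀ γ ∈ P, γ ∈ s) ∨ ∀ γ ∈ P, γ ∉ s := by
    by_cases e : δ ω • η ω ∈ s
    · left
      intro γ hγ
      obtain ⟨π, hπ, rfl⟩ := Finset.mem_image.1 hγ
      have h3 := hcoef _ (hPR π hπ)
      rw [classInner_smul_right, hconst π ω (mem_colClass.1 hπ) (Or.inl (mem_colClass.1 hπ)),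
        ← classInner_smul_right, hcoef _ (hPR ω (mem_colClass.2 (sameCol_refl ω))), if_pos e] at h3
      by_contra hn
      rw [if_neg hn] at h3
      exact one_ne_zero h3
    · right
      intro γ hγ hn
      obtain ⟨π, hπ, rfl⟩ := Finset.mem_image.1 hγ
      have h3 := hcoef _ (hPR π hπ)
      rw [classInner_smul_right, hconst π ω (mem_colClass.1 hπ) (Or.inl (mem_colClass.1 hπ)),
        ← classInner_smul_right, hcoef _ (hPR ω (mem_colClass.2 (sameCol_refl ω))), if_neg e,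
        if_pos hn] at h3
      exact zero_ne_one h3
  have hQall : (∀ γ ∈ Q, γ ∈ s) ∨ ∀ γ ∈ Q, γ ∉ s := by
    have hself : ω⁻¹ ∈ colClass ω⁻¹ := mem_colClass.2 (sameCol_refl _)
    by_cases e : -(δ ω • η ω⁻¹) ∈ s
    · left
      intro γ hγ
      obtain ⟨π, hπ, rfl⟩ := Finset.mem_image.1 hγ
      have h3 := hcoef _ (hQR π hπ)
      rw [classInner_neg_right, classInner_smul_right,
        hconst π ω⁻¹ (mem_colClass.1 hπ) (Or.inr (mem_colClass.1 hπ)),
        ← classInner_smul_right, ← classInner_neg_right, hcoef _ (hQR _ hself), if_pos e] at h3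
      by_contra hn
      rw [if_neg hn] at h3
      exact one_ne_zero h3
    · right
      intro γ hγ hn
      obtain ⟨π, hπ, rfl⟩ := Finset.mem_image.1 hγ
      have h3 := hcoef _ (hQR π hπ)
      rw [classInner_neg_right, classInner_smul_right,
        hconst π ω⁻¹ (mem_colClass.1 hπ) (Or.inr (mem_colClass.1 hπ)),
        ← classInner_smul_right, ← classInner_neg_right, hcoef _ (hQR _ hself), if_neg e,
        if_pos hn] at h3
      exact zero_ne_one h3
  have hsPQ : ∀ γ ∈ s, γ ∈ P ∨ γ ∈ Q := fun γ hγ => by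
    rcases (hR.colSum_mem ω hω γ).1 (hs hγ) with ⟨a, ha, rfl⟩ | ⟨a, ha, rfl⟩
    · exact Or.inl (Finset.mem_image_of_mem _ ha)
    · exact Or.inr (Finset.mem_image_of_mem _ ha)
  have hinj : Function.Injective (fun π => δ ω • η π) := fun a b e => by
    by_contra hab
    have := congrArg (fun f => classInner f (η a)) e
    simp only [classInner_smul_left, hηc, if_pos, if_neg (Ne.symm hab), mul_one, mul_zero] at this
    exact hμ.sign_ne ω this
  have hnorm : (s.card : ℂ) = (Nat.card W₁ : ℂ) := by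
    have h3 := hτ₁.2.2.1 _ (subset_zspan h1) _ (subset_zspan h1)
    rw [hμ.inner_colSum, if_pos (sameCol_refl ω), hsum,
      Cfsg.Agent.Coherence.sum_R_norm hR.sys hωS hs hs, Finset.inter_self] at h3
    exact h3
  have hcardP : P.card = Nat.card W₁ := by
    rw [hP, Finset.card_image_of_injective _ hinj, MuFamily.card_colClass (h := h.toPrimeTI)]
  have hcardQ : Q.card = Nat.card W₁ := by
    rw [hQ, Finset.card_image_of_injective _ fun a b e => hinj (neg_injective e),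
      MuFamily.card_colClass (h := h.toPrimeTI)]
  have hdisj : Disjoint P Q := by
    rw [Finset.disjoint_left]
    intro γ e1 e2
    simp only [hP, hQ, Finset.mem_image] at e1 e2
    obtain ⟨a, ha, rfl⟩ := e1
    obtain ⟨b, hb, e⟩ := e2
    have := congrArg (fun f => classInner f (η a)) e
    simp only [classInner_neg_left, classInner_smul_left, hηc, if_pos,
      if_neg (fun e : b = a => h.not_sameCol_inv hω
        ((mem_colClass.1 ha).symm.trans (mem_colClass.1 (e ▸ hb)))), mul_one, mul_zero,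
      neg_zero] at this
    exact hμ.sign_ne ω this.symm
  have hw := h.toPrimeTI.three_le₁
  have hcard : s.card = Nat.card W₁ := Nat.cast_injective hnorm
  rcases hPall with hPs | hPs
  · left
    have he : s = P := (Finset.eq_of_subset_of_card_le hPs (by omega)).symm
    rw [hsum, he, hP, Finset.sum_image fun a _ b _ e => hinj e, Finset.smul_sum]
  · right
    have hsQ : s ⊆ Q := fun γ hγ => (hsPQ γ hγ).resolve_left fun e => hPs γ e hγ
    have he : s = Q := Finset.eq_of_subset_of_card_le hsQ (by omega)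
    rw [hsum, he, hQ, Finset.sum_image fun a _ b _ e => hinj (neg_injective e),
      Finset.sum_neg_distrib, Finset.smul_sum]

end Tau

end Mu

end PrimeDade

end Cfsg.Agent.Peterfalvi
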