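import Cfsg.Agent.Lib.Peterfalvi.Sec4PrimeTI
import Cfsg.Agent.Lib.Peterfalvi.DadeMap
import Cfsg.Agent.Lib.Codegree.Basic
import Cfsg.Agent.S1506
import Cfsg.Agent.Lib.TwoClassChar.Basic

/-!
# Peterfalvi (4.6)-(4.9): the prime Dade hypothesis (owner: helper34)

* `a0Set L W₁ W₂ A`, `PrimeDade L K H W₁ W₂ A R` : the hypothesis (4.6)
* `pdCalS L K H` : the characters induced from irreducible characters of `K` not containing `H` in
  their kernel; `calS_cases`, `colSum_mem_calS`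
* `apply_eq_zero_of_centralizer` : vanishing by column orthogonality
* `PrimeDade.calS_supp`, `mu_sub_supp`, `colSum_sub_supp` : (4.7)
* `PrimeDade.tau_mu_sub`, `tau_colSum_sub` : (4.8), (4.9)
-/

set_option autoImplicit false

namespace Cfsg.Agent.Peterfalvi

open Cfsg Cfsg.Agent Cfsg.Agent.Char Cfsg.Agent.Coherence Cfsg.Agent.CyclicTI
open scoped ComplexConjugate

universe u

variable {G : Type u} [Group G]

/-- `A₀ = A ∪` the conjugates of `W ∖ (W₁ ∪ W₂)` under `L`. -/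
def a0Set (L W₁ W₂ : Subgroup G) (A : Set G) : Set G :=
  A ∪ {v | ∃ x ∈ L, ∃ w ∈ W₁ ⊔ W₂, w ∉ W₁ ∧ w ∉ W₂ ∧ v = x * w * x⁻¹}

/-- Peterfalvi (4.6). -/
structure PrimeDade (L K H W₁ W₂ : Subgroup G) (A : Set G) (R : G → Subgroup G) : Prop
    extends PrimeTI L K W₁ W₂ where
  ti : IsSelfNormalizingCyclic W₁ W₂
  H_le : H ≤ K
  H_conj : ∀ x ∈ L, ∀ y ∈ H, x * y * x⁻¹ ∈ H
  W₂_le_H : W₂ ≤ H
  A_sub : ∀ a ∈ A, a ∈ K ∧ a ≠ 1
  A_conj : ∀ x ∈ L, ∀ a ∈ A, x * a * x⁻¹ ∈ A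
  A_cent : ∀ k ∈ K, k ≠ 1 → ∀ y ∈ H, y ≠ 1 → k * y = y * k → k ∈ A
  dade : DadeHypothesis (a0Set L W₁ W₂ A) L R

/-- `H` is in the kernel of `θ`. -/
def HasInKer (L K H : Subgroup G) (θ : ↥(K.subgroupOf L) → ℂ) : Prop :=
  ∀ k : ↥(K.subgroupOf L), ((k : ↥L) : G) ∈ H → θ k = θ 1

/-- The characters induced from irreducible characters of `K` without `H` in the kernel. -/
def pdCalS (L K H : Subgroup G) [Fintype ↥L] : Set (↥L → ℂ) :=
  {φ | ∃ θ, IsIrrCharacter ↥(K.subgroupOf L) θ ∧ ¬ HasInKer L K H θ ∧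
    φ = indFun (K.subgroupOf L) θ}

/-- Column orthogonality: an irreducible character without `N` in its kernel vanishes at the
elements centralised by no nontrivial element of `N`. -/
theorem apply_eq_zero_of_centralizer {X : Type*} [Group X] [Finite X] (N : Subgroup X) [N.Normal]
    {θ : X → ℂ} (hθ : IsIrrCharacter X θ) (hN : ¬ ∀ y ∈ N, θ y = θ 1) {g : X}
    (hg : ∀ y ∈ N, g * y = y * g → y = 1) : θ g = 0 := by
  classical
  haveI := Fintype.ofFinite X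
  haveI := Fintype.ofFinite (IrrCharacter X)
  haveI := Fintype.ofFinite (X ⧸ N)
  haveI := Fintype.ofFinite (IrrCharacter (X ⧸ N))
  have key : ∀ (Y : Type _) [Group Y] [Fintype Y] [Fintype (IrrCharacter Y)] (y : Y),
      ∑ χ : IrrCharacter Y, Complex.normSq ((χ : Y → ℂ) y) =
        (Nat.card (Subgroup.centralizer ({y} : Set Y)) : ℝ) := by
    intro Y _ _ _ y
    apply Complex.ofReal_injective
    push_cast
    simp only [← Complex.mul_conj]
    rw [← finsum_eq_sum_of_fintype, TwoClassChar.col_orth_self]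
  have hle : Nat.card (Subgroup.centralizer ({g} : Set X)) ≤
      Nat.card (Subgroup.centralizer ({(g : X ⧸ N)} : Set (X ⧸ N))) := by
    refine Nat.card_le_card_of_injective (fun c => ⟨((c : X) : X ⧸ N), ?_⟩) fun a b e => ?_
    · rw [Subgroup.mem_centralizer_singleton_iff, ← QuotientGroup.mk_mul, ← QuotientGroup.mk_mul,
        Subgroup.mem_centralizer_singleton_iff.1 c.2]
    · have e' : ((a : X) : X ⧸ N) = ((b : X) : X ⧸ N) := congrArg Subtype.val e
      rw [QuotientGroup.eq] at e'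
      have hc : g * ((a : X)⁻¹ * b) = (a : X)⁻¹ * b * g :=
        (Subgroup.mem_centralizer_singleton_iff.1
          (mul_mem (inv_mem a.2) b.2)).symm
      exact Subtype.ext (inv_mul_eq_one.1 (hg _ e' hc))
  have hinj : Function.Injective (Codegree.inflate N) := fun a b e => Subtype.ext (funext fun q => by
    obtain ⟨x, rfl⟩ := QuotientGroup.mk_surjective q
    exact congrFun (congrArg (fun χ : IrrCharacter X => (χ : X → ℂ)) e) x)
  have hnot : (⟨θ, hθ⟩ : IrrCharacter X) ∉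
      Finset.univ.image (Codegree.inflate N : IrrCharacter (X ⧸ N) → IrrCharacter X) := by
    rw [Finset.mem_image]
    rintro ⟨ψ, -, e⟩
    refine hN fun y hy => ?_
    have e' : θ = fun x : X => (ψ : X ⧸ N → ℂ) (x : X ⧸ N) :=
      (congrArg (fun χ : IrrCharacter X => (χ : X → ℂ)) e).symm
    rw [e']
    show (ψ : X ⧸ N → ℂ) (y : X ⧸ N) = (ψ : X ⧸ N → ℂ) ((1 : X) : X ⧸ N)
    rw [(QuotientGroup.eq_one_iff y).2 hy]
    rfl
  have h1 := key X g
  have h2 := key (X ⧸ N) (g : X ⧸ N)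
  have h3 : ∑ χ ∈ insert (⟨θ, hθ⟩ : IrrCharacter X)
      (Finset.univ.image (Codegree.inflate N : IrrCharacter (X ⧸ N) → IrrCharacter X)),
      Complex.normSq ((χ : X → ℂ) g) ≤ (Nat.card (Subgroup.centralizer ({g} : Set X)) : ℝ) := by
    rw [← h1]
    exact Finset.sum_le_sum_of_subset_of_nonneg (Finset.subset_univ _)
      fun _ _ _ => Complex.normSq_nonneg _
  rw [Finset.sum_insert hnot, Finset.sum_image fun a _ b _ e => hinj e] at h3
  simp only [Codegree.inflate_apply] at h3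
  rw [h2] at h3
  have h4 : (Nat.card (Subgroup.centralizer ({g} : Set X)) : ℝ) ≤
      Nat.card (Subgroup.centralizer ({(g : X ⧸ N)} : Set (X ⧸ N))) := by exact_mod_cast hle
  have h5 := Complex.normSq_nonneg (θ g)
  exact Complex.normSq_eq_zero.1 (le_antisymm (by linarith [h3]) h5)

variable [Finite G] {L K H W₁ W₂ : Subgroup G} {A : Set G} {R : G → Subgroup G}

namespace PrimeDade

variable (h : PrimeDade L K H W₁ W₂ A R)
include h

theorem normal : (K.subgroupOf L).Normal := h.toPrimeTI.normal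

theorem vanish_on_K {θ : ↥(K.subgroupOf L) → ℂ} (hθ : IsIrrCharacter ↥(K.subgroupOf L) θ)
    (hker : ¬ HasInKer L K H θ) (k : ↥(K.subgroupOf L)) (hk1 : k ≠ 1)
    (hkA : ((k : ↥L) : G) ∉ A) : θ k = 0 := by
  haveI := h.normal
  haveI : (H.subgroupOf L).Normal := ⟨fun n hn g => h.H_conj g g.2 _ hn⟩
  let N : Subgroup ↥(K.subgroupOf L) := (H.subgroupOf L).subgroupOf (K.subgroupOf L)
  haveI : N.Normal := inferInstance
  refine apply_eq_zero_of_centralizer N hθ hker fun y hy e => ?_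
  by_contra hy1
  refine hkA (h.A_cent _ k.2 (fun e' => hk1 (Subtype.ext (Subtype.ext e'))) _ hy
    (fun e' => hy1 (Subtype.ext (Subtype.ext e'))) ?_)
  exact congrArg (fun t : ↥(K.subgroupOf L) => ((t : ↥L) : G)) e

theorem mem_a0Set {w : ↥(W₁ ⊔ W₂)} (h1 : (w : G) ∉ W₁) (h2 : (w : G) ∉ W₂) :
    (w : G) ∈ a0Set L W₁ W₂ A :=
  Or.inr ⟨1, L.one_mem, w, w.2, h1, h2, by simp⟩

omit [Finite G] in
theorem a0_subset_ne_one : (1 : G) ∉ a0Set L W₁ W₂ A := h.dade.one_not_mem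

variable [Fintype ↥L]

/-- Peterfalvi (4.7)(a). -/
theorem calS_supp {φ : ↥L → ℂ} (hφ : φ ∈ pdCalS L K H) (x : ↥L) (hx1 : x ≠ 1)
    (hxA : (x : G) ∉ A) : φ x = 0 := by
  haveI := h.normal
  obtain ⟨θ, hθ, hker, rfl⟩ := hφ
  by_cases hxK : x ∈ K.subgroupOf L
  · rw [indFun, Finset.sum_eq_zero fun y _ => ?_, mul_zero]
    rw [extendByZero_eq]
    split_ifs with hm
    · refine h.vanish_on_K hθ hker _ (fun e => hx1 ?_) fun hA => hxA ?_
      · have e' : y⁻¹ * x * y = 1 := congrArg Subtype.val e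
        rw [show x = y * (y⁻¹ * x * y) * y⁻¹ by group, e']
        group
      · have := h.A_conj y y.2 _ hA
        simpa [mul_assoc] using this
    · rfl
  · exact CliffordChar.indFun_not_mem _ θ hxK

theorem calS_vanish_off {φ : ↥L → ℂ} (hφ : φ ∈ pdCalS L K H) (x : ↥L) (hx : (x : G) ∉ K) :
    φ x = 0 := by
  haveI := h.normal
  obtain ⟨θ, -, -, rfl⟩ := hφ
  exact CliffordChar.indFun_not_mem _ θ hx

/-- The members of `zspan (pdCalS)` vanishing at `1` live on `A`. -/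
theorem zspan_calS_supp {α : ↥L → ℂ} (hα : α ∈ zspan (pdCalS L K H)) (x : ↥L) (hx1 : x ≠ 1)
    (hxA : (x : G) ∉ A) : α x = 0 :=
  zspan_induction (P := fun a => a x = 0) (fun φ hφ => h.calS_supp hφ x hx1 hxA) rfl
    (fun a _ b _ ha hb => by simp [ha, hb]) (fun n a _ ha => by simp [ha]) hα

theorem zspanOn_calS_supp {α : ↥L → ℂ} (hα : α ∈ zspanOn (pdCalS L K H) {1}ᶜ) (x : ↥L)
    (hxA : (x : G) ∉ a0Set L W₁ W₂ A) : α x = 0 := by
  by_cases hx1 : x = 1
  · exact hα.2 x (by simp [hx1])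
  · exact h.zspan_calS_supp hα.1 x hx1 fun e => hxA (Or.inl e)

section Mu

variable {μ : (↥(W₁ ⊔ W₂) →* ℂˣ) → ↥L → ℂ} {δ : (↥(W₁ ⊔ W₂) →* ℂˣ) → ℂ}
  (hμ : MuFamily h.toPrimeTI μ δ)
include hμ

omit [Fintype ↥L] in
/-- `H` is not in the kernel of the nonprincipal columns. -/
theorem not_hasInKer {ω : ↥(W₁ ⊔ W₂) →* ℂˣ} (hω : ¬ SameCol ω 1) :
    ¬ HasInKer L K H (resK L K (μ ω)) := by
  intro hker
  refine hω fun u hu => ?_
  obtain ⟨a, -, -, ha2⟩ := h.exists_off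
  have hu' : μ ω (h.emb u) = μ ω 1 :=
    hker ⟨h.emb u, h.W₂_le hu⟩ (h.W₂_le_H hu)
  have h1 : μ ω (h.emb u * h.emb a) = μ ω (h.emb a) := TwoClassChar.ker_mul (hμ.irr ω) hu' _
  have hn : ((u * a : ↥(W₁ ⊔ W₂)) : G) ∉ W₂ := fun e => ha2 (by
    simpa using W₂.mul_mem (W₂.inv_mem hu) e)
  rw [← map_mul, hμ.apply_W ω _ hn, hμ.apply_W ω a ha2, map_mul, Units.val_mul] at h1
  have h2 : (ω u : ℂ) * (ω a : ℂ) = ω a := mul_left_cancel₀ (hμ.sign_ne ω) h1
  refine Units.ext ?_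
  rw [MonoidHom.one_apply, Units.val_one]
  exact mul_left_eq_self₀.1 h2 |>.resolve_right (Units.ne_zero _)

theorem colSum_mem_calS {ω : ↥(W₁ ⊔ W₂) →* ℂˣ} (hω : ¬ SameCol ω 1) :
    colSum μ ω ∈ pdCalS L K H :=
  ⟨_, (hμ.resK_facts ω).1, h.not_hasInKer hμ hω, (hμ.resK_facts ω).2.symm⟩

/-- The members of `calS`: nonprincipal column sums, or irreducible characters off the family. -/
theorem calS_cases {φ : ↥L → ℂ} (hφ : φ ∈ pdCalS L K H) :
    (∃ ω, ¬ SameCol ω 1 ∧ φ = colSum μ ω) ∨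
      (IsIrrCharacter ↥L φ ∧ ∀ ω, classInner φ (μ ω) = 0) := by
  obtain ⟨θ, hθ, hker, rfl⟩ := hφ
  rcases hμ.dichotomy hθ with ⟨ω, rfl⟩ | hr
  · refine Or.inl ⟨ω, fun e => hker ?_, (hμ.resK_facts ω).2⟩
    intro k _
    rw [hμ.res_col ω 1 e, hμ.mu_one.1]
    rfl
  · exact Or.inr hr

omit [Fintype ↥L] in
theorem mu_eq_zero {ω : ↥(W₁ ⊔ W₂) →* ℂˣ} (hω : ¬ SameCol ω 1) {x : ↥L} (hxK : (x : G) ∈ K)
    (hx1 : x ≠ 1) (hxA : (x : G) ∉ A) : μ ω x = 0 := by
  haveI := Fintype.ofFinite ↥L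
  exact h.vanish_on_K (hμ.resK_facts ω).1 (h.not_hasInKer hμ hω) ⟨x, hxK⟩
    (fun e => hx1 (congrArg Subtype.val e)) hxA

omit [Fintype ↥L] in
/-- Peterfalvi (4.7)(b). -/
theorem mu_sub_supp {ω ν : ↥(W₁ ⊔ W₂) →* ℂˣ} (hr : SameRow ω ν) (hω : ¬ SameCol ω 1)
    (hν : ¬ SameCol ν 1) (hd : μ ω 1 = μ ν 1) (x : ↥L)
    (hx : (x : G) ∉ a0Set L W₁ W₂ A) : (μ ω - μ ν) x = 0 := by
  by_cases hx1 : x = 1
  · rw [hx1, Pi.sub_apply, hd, sub_self]
  by_cases hxK : (x : G) ∈ K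
  · have hxA : (x : G) ∉ A := fun e => hx (Or.inl e)
    rw [Pi.sub_apply, h.mu_eq_zero hμ hω hxK hx1 hxA, h.mu_eq_zero hμ hν hxK hx1 hxA, sub_self]
  · obtain ⟨g, w, hw, rfl⟩ := h.exists_conj_W hxK
    have hw1 : (w : G) ∈ W₁ := by
      by_contra hw1
      exact hx (Or.inr ⟨g, g.2, w, w.2, hw1, hw, rfl⟩)
    rw [Pi.sub_apply, IsIrrCharacter.isClassFunction (hμ.irr ω),
      IsIrrCharacter.isClassFunction (hμ.irr ν), hμ.apply_W ω w hw, hμ.apply_W ν w hw,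
      hμ.sign_eq_of_degree hd, hr w hw1, sub_self]

section Tau

variable [Fintype G] {η : (↥(W₁ ⊔ W₂) →* ℂˣ) → G → ℂ} (hη : IsCyclicTIFamily W₁ W₂ η)
include hη

/-- Peterfalvi (4.8). -/
theorem tau_mu_sub {ω ν : ↥(W₁ ⊔ W₂) →* ℂˣ} (hr : SameRow ω ν) (hω : ¬ SameCol ω 1)
    (hν : ¬ SameCol ν 1) (hd : μ ω 1 = μ ν 1) :
    dadeIsometry (a0Set L W₁ W₂ A) L R (μ ω - μ ν) = δ ω • (η ω - η ν) := by
  classical
  by_cases hne : ω = ν
  · subst hne
    rw [sub_self, sub_self, smul_zero, ← sub_self (μ ω), dadeIsometry_sub, sub_self]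
  set T := dadeIsometry (a0Set L W₁ W₂ A) L R (μ ω - μ ν) with hT
  have hsupp := h.mu_sub_supp hμ hr hω hν hd
  have hgcα : IsGeneralizedCharacter ↥L (μ ω - μ ν) :=
    isGC_sub (isGC_of_irr (hμ.irr ω)) (isGC_of_irr (hμ.irr ν))
  have hcl := isGC_isClassFunction hgcα
  have hTgc : IsGeneralizedCharacter G T := Dade.dadeIsometry_isGeneralized h.dade hgcα hsupp
  have hTn : classInner T T = 2 := by
    rw [hT, dadeIsometry_inner h.dade hcl hsupp hcl hsupp]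
    simp only [classInner_sub_left, classInner_sub_right, hμ.inner_mu, if_neg hne, if_neg (Ne.symm hne)]
    norm_num
  have hηgc : ∀ π, IsGeneralizedCharacter G (η π) := fun π => isGC_signed (hη.irr_or_neg π)
  choose c hc using fun π => classInner_gc_int hTgc (hηgc π)
  obtain ⟨s, hs, hδ⟩ : ∃ s : ℤ, (s = 1 ∨ s = -1) ∧ δ ω = (s : ℂ) := by
    rcases hμ.sign ω with e | e
    · exact ⟨1, Or.inl rfl, by simp [e]⟩
    · exact ⟨-1, Or.inr rfl, by simp [e]⟩
  have hcol : ¬ SameCol ω ν := fun e => hne (h.isPair.lin_ext hr e)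
  set θ := T - δ ω • (η ω - η ν) with hθ
  have hθcl : IsClassFunction G θ :=
    isClassFunction_sub (isGC_isClassFunction hTgc) fun g x => by
      simp only [Pi.smul_apply, Pi.sub_apply, isGC_isClassFunction (hηgc ω) g x,
        isGC_isClassFunction (hηgc ν) g x]
  have hθV : ∀ w : ↥(W₁ ⊔ W₂), (w : G) ∉ W₁ → (w : G) ∉ W₂ → θ w = 0 := by
    intro w h1 h2
    have e : T (w : G) = (μ ω - μ ν) (h.emb w) :=
      dadeIsometry_self h.dade hcl (h.emb w) (h.mem_a0Set h1 h2)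
    rw [hθ, Pi.sub_apply, e, Pi.smul_apply, Pi.sub_apply, Pi.sub_apply, hη.eq_on ω w h1 h2,
      hη.eq_on ν w h1 h2, hμ.apply_W ω w h2, hμ.apply_W ν w h2, hμ.sign_eq_of_degree hd,
      smul_eq_mul]
    ring
  have hd' : ∀ π, classInner θ (η π) =
      (c π : ℂ) - (s : ℂ) * ((if ω = π then 1 else 0) - (if ν = π then 1 else 0)) := fun π => by
    rw [hθ, classInner_sub_left, classInner_smul_left, classInner_sub_left, hη.orthonormal,
      hη.orthonormal, hc π, hδ]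
    congr! 4
  have hP := h.isPair
  let σ : (↥(W₁ ⊔ W₂) →* ℂˣ) → (↥(W₁ ⊔ W₂) →* ℂˣ) := fun π => hP.lfst π * hP.lsnd ν
  have hσf : ∀ π, hP.lfst (σ π) = hP.lfst π ∧ hP.lsnd (σ π) = hP.lsnd ν := fun π =>
    hP.split_mul (fun w hw => hP.lfst_apply_of_mem₂ π hw) (fun w hw => hP.lsnd_apply_of_mem₁ ν hw)
  have hσω : σ ω = ν := by
    show hP.lfst ω * hP.lsnd ν = ν
    rw [(sameRow_lfst hP).1 hr, hP.lfst_mul_lsnd]
  set D := c ω - c ν - 2 * s with hD
  have hrel : ∀ π ∈ colClass ω, π ≠ ω → c π - c (σ π) = D := by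
    intro π hπ hπω
    have hπs : hP.lsnd π = hP.lsnd ω := (sameCol_lsnd hP).1 (mem_colClass.1 hπ)
    have hrect := S1506.rectangle hP hη hθcl hθV
      (φ := hP.lfst π) (φ' := hP.lfst ω) (ψ := hP.lsnd ω) (ψ' := hP.lsnd ν)
      (fun w hw => hP.lfst_apply_of_mem₂ π hw) (fun w hw => hP.lfst_apply_of_mem₂ ω hw)
      (fun w hw => hP.lsnd_apply_of_mem₁ ω hw) (fun w hw => hP.lsnd_apply_of_mem₁ ν hw)
    have e1 : hP.lfst π * hP.lsnd ω = π := by rw [← hπs, hP.lfst_mul_lsnd]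
    have e3 : hP.lfst ω * hP.lsnd ν = ν := hσω
    rw [e1, e3, hP.lfst_mul_lsnd, show hP.lfst π * hP.lsnd ν = σ π from rfl, hd', hd', hd', hd']
      at hrect
    have n1 : ν ≠ π := fun e => hcol ((sameCol_lsnd hP).2 (e ▸ hπs).symm)
    have n2 : ω ≠ σ π := fun e => hcol ((sameCol_lsnd hP).2 (by
      rw [← (hσf π).2, ← e]))
    have n3 : ν ≠ σ π := fun e => hπω (by
      rw [← hP.lfst_mul_lsnd π, ← hP.lfst_mul_lsnd ω, hπs, ← (hσf π).1, ← e,
        ← (sameRow_lfst hP).1 hr])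
    rw [if_neg (Ne.symm hπω), if_neg n1, if_neg hne, if_pos rfl, if_pos rfl,
      if_neg (Ne.symm hne), if_neg n2, if_neg n3] at hrect
    apply Int.cast_injective (α := ℂ)
    rw [hD]
    push_cast
    linear_combination hrect
  have hbes : ∑ π ∈ colClass ω ∪ colClass ν, c π ^ 2 ≤ 2 := by
    have hb := (bessel (colClass ω ∪ colClass ν) η (fun _ => 1) (fun _ _ => one_pos)
      (fun π _ => by rw [hη.orthonormal, if_pos rfl, Complex.ofReal_one])
      (fun π _ π' _ e => by rw [hη.orthonormal, if_neg e]) T).1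
    simp only [hTn, hc, div_one, Complex.norm_intCast, sq_abs] at hb
    have : ((∑ π ∈ colClass ω ∪ colClass ν, c π ^ 2 : ℤ) : ℝ) ≤ ((2 : ℤ) : ℝ) := by
      push_cast
      simpa using hb
    exact_mod_cast this
  have hdisj : Disjoint (colClass ω) (colClass ν) := Finset.disjoint_left.2 fun π h1 h2 =>
    hcol ((mem_colClass.1 h1).symm.trans (mem_colClass.1 h2))
  have hσsum : ∑ π ∈ colClass ν, c π ^ 2 = ∑ π ∈ colClass ω, c (σ π) ^ 2 := by
    symm
    refine Finset.sum_nbij' σ (fun π => hP.lfst π * hP.lsnd ω) ?_ ?_ ?_ ?_ fun π _ => rfl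
    · exact fun π _ => mem_colClass.2 ((sameCol_lsnd hP).2 (hσf π).2)
    · intro π _
      exact mem_colClass.2 ((sameCol_lsnd hP).2
        (hP.split_mul (fun w hw => hP.lfst_apply_of_mem₂ π hw)
          (fun w hw => hP.lsnd_apply_of_mem₁ ω hw)).2)
    · intro π hπ
      rw [(hσf π).1, ← (sameCol_lsnd hP).1 (mem_colClass.1 hπ), hP.lfst_mul_lsnd]
    · intro π hπ
      show hP.lfst (hP.lfst π * hP.lsnd ω) * hP.lsnd ν = π
      rw [(hP.split_mul (fun w hw => hP.lfst_apply_of_mem₂ π hw)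
        (fun w hw => hP.lsnd_apply_of_mem₁ ω hw)).1,
        ← (sameCol_lsnd hP).1 (mem_colClass.1 hπ), hP.lfst_mul_lsnd]
  rw [Finset.sum_union hdisj, hσsum, ← Finset.sum_add_distrib,
    ← Finset.add_sum_erase _ _ (mem_colClass.2 (sameCol_refl ω)), hσω] at hbes
  have hcard : 2 ≤ ((colClass ω).erase ω).card := by
    rw [Finset.card_erase_of_mem (mem_colClass.2 (sameCol_refl ω)),
      MuFamily.card_colClass (h := h.toPrimeTI)]
    have := h.three_le₁
    omega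
  have hlow : ∀ b : ℤ, (∀ π ∈ (colClass ω).erase ω, b ≤ c π ^ 2 + c (σ π) ^ 2) → 0 ≤ b →
      2 * b ≤ ∑ π ∈ (colClass ω).erase ω, (c π ^ 2 + c (σ π) ^ 2) := by
    intro b hb hb0
    calc 2 * b ≤ (((colClass ω).erase ω).card : ℤ) * b := by
          exact mul_le_mul_of_nonneg_right (by exact_mod_cast hcard) hb0
      _ ≤ _ := by rw [← nsmul_eq_mul]; exact Finset.card_nsmul_le_sum _ _ _ hb
  have hrest : 0 ≤ ∑ π ∈ (colClass ω).erase ω, (c π ^ 2 + c (σ π) ^ 2) :=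
    Finset.sum_nonneg fun _ _ => by positivity
  have hD0 : D = 0 := by
    by_contra hD0
    have h1 := hlow 1 (fun π hπ => by
      have e := hrel π (Finset.mem_of_mem_erase hπ) (Finset.ne_of_mem_erase hπ)
      by_contra hlt
      push Not at hlt
      have a0 : c π = 0 := by nlinarith [sq_nonneg (c π), sq_nonneg (c (σ π))]
      have b0 : c (σ π) = 0 := by nlinarith [sq_nonneg (c π), sq_nonneg (c (σ π))]
      omega) zero_le_one
    have hω0 : c ω = 0 := by nlinarith [sq_nonneg (c ω), sq_nonneg (c ν)]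
    have hν0 : c ν = 0 := by nlinarith [sq_nonneg (c ω), sq_nonneg (c ν)]
    have h2 := hlow 2 (fun π hπ => by
      have e := hrel π (Finset.mem_of_mem_erase hπ) (Finset.ne_of_mem_erase hπ)
      have e2 : c (σ π) = c π + 2 * s := by omega
      rcases hs with rfl | rfl <;> nlinarith [sq_nonneg (c π + 1), sq_nonneg (c π - 1)]) (by norm_num)
    rw [hω0, hν0] at hbes
    omega
  have hcω : c ω = s ∧ c ν = -s := by
    have e : c ν = c ω - 2 * s := by omega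
    have : (c ω - s) ^ 2 ≤ 0 := by
      rcases hs with rfl | rfl <;> nlinarith [hbes, hrest]
    have : c ω - s = 0 := by nlinarith [sq_nonneg (c ω - s)]
    omega
  have hz : classInner θ θ = 0 := by
    rw [hθ]
    simp only [classInner_sub_left, classInner_sub_right, classInner_smul_left,
      classInner_smul_right, hTn, hc, ← classInner_conj_symm T (η _), hη.orthonormal,
      if_pos, if_neg hne, if_neg (Ne.symm hne), hδ, hcω.1, hcω.2, map_intCast, Int.cast_neg,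
      map_neg]
    rcases hs with rfl | rfl <;> norm_num
  exact sub_eq_zero.1 (classInner_self_eq_zero.1 hz)

/-- Peterfalvi (4.9), first part. -/
theorem tau_colSum_sub {ω ν : ↥(W₁ ⊔ W₂) →* ℂˣ} (hω : ¬ SameCol ω 1) (hν : ¬ SameCol ν 1)
    (hd : μ ω 1 = μ ν 1) :
    dadeIsometry (a0Set L W₁ W₂ A) L R (colSum μ ω - colSum μ ν) =
      δ ω • (∑ π ∈ colClass ω, η π - ∑ π ∈ colClass ν, η π) := by
  classical
  have hP := h.isPair
  let σ : (↥(W₁ ⊔ W₂) →* ℂˣ) → (↥(W₁ ⊔ W₂) →* ℂˣ) := fun π => hP.lfst π * hP.lsnd ν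
  have hσf : ∀ π, hP.lfst (σ π) = hP.lfst π ∧ hP.lsnd (σ π) = hP.lsnd ν := fun π =>
    hP.split_mul (fun w hw => hP.lfst_apply_of_mem₂ π hw) (fun w hw => hP.lsnd_apply_of_mem₁ ν hw)
  have hbij : ∀ {M : Type u} [AddCommMonoid M] (f : (↥(W₁ ⊔ W₂) →* ℂˣ) → M),
      ∑ π ∈ colClass ν, f π = ∑ π ∈ colClass ω, f (σ π) := by
    intro M _ f
    symm
    refine Finset.sum_nbij' σ (fun π => hP.lfst π * hP.lsnd ω) ?_ ?_ ?_ ?_ fun π _ => rfl
    · exact fun π _ => mem_colClass.2 ((sameCol_lsnd hP).2 (hσf π).2)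
    · intro π _
      exact mem_colClass.2 ((sameCol_lsnd hP).2
        (hP.split_mul (fun w hw => hP.lfst_apply_of_mem₂ π hw)
          (fun w hw => hP.lsnd_apply_of_mem₁ ω hw)).2)
    · intro π hπ
      rw [(hσf π).1, ← (sameCol_lsnd hP).1 (mem_colClass.1 hπ), hP.lfst_mul_lsnd]
    · intro π hπ
      show hP.lfst (hP.lfst π * hP.lsnd ω) * hP.lsnd ν = π
      rw [(hP.split_mul (fun w hw => hP.lfst_apply_of_mem₂ π hw)
        (fun w hw => hP.lsnd_apply_of_mem₁ ω hw)).1,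
        ← (sameCol_lsnd hP).1 (mem_colClass.1 hπ), hP.lfst_mul_lsnd]
  rw [colSum, colSum, hbij μ, hbij η, ← Finset.sum_sub_distrib, ← Finset.sum_sub_distrib,
    dadeIsometry_sum, Finset.smul_sum]
  refine Finset.sum_congr rfl fun π hπ => ?_
  have hπ' := mem_colClass.1 hπ
  have hσc : SameCol (σ π) ν := (sameCol_lsnd hP).2 (hσf π).2
  have d1 : μ π 1 = μ ω 1 := congrFun (hμ.res_col π ω hπ') 1
  have d2 : μ (σ π) 1 = μ ν 1 := congrFun (hμ.res_col _ ν hσc) 1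
  rw [h.tau_mu_sub hμ hη ((sameRow_lfst hP).2 (hσf π).1.symm) (fun e => hω (hπ'.symm.trans e))
    (fun e => hν (hσc.symm.trans e)) (by rw [d1, d2, hd]), hμ.sign_col π ω hπ']

end Tau

end Mu

end PrimeDade

end Cfsg.Agent.Peterfalvi
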