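import Cfsg.Agent.Lib.Coherence.Sibley

/-!
# Coherence from a pivot (owner: helper40)

For a coherent set `Y` of characters of norm `1` and equal degree inside a coherence system, with
extension `τ₁` and `ζ ∈ Y`, `ψ = τ₁ ζ`: the deviation `⟨α^τ, ψ⟩ - ⟨α, ζ⟩` of `α ∈ ℤ[S, L^#]`
controls coherence of all of `S`.

* `coherent_of_pivot` : if every deviation vanishes then `S` is coherent
* `Pivot.coeff`, `Pivot.residue_bound`, `Pivot.residue_bound_orth` : Bessel bounds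
* `Pivot.dev_char` : the deviation of `χ - d ζ` is an integer `a` with `n a² - 2 a d ≤ 0`
* `Pivot.swap` : the second extension when `|Y| = 2`
-/

set_option autoImplicit false
set_option linter.unusedSectionVars false

namespace Cfsg.Agent.Peterfalvi

open Cfsg Cfsg.Agent Cfsg.Agent.Char Cfsg.Agent.Coherence
open scoped ComplexConjugate

universe u

variable {L : Type u} [Group L] [Fintype L] {G : Type u} [Group G] [Fintype G]
  {S : Set (L → ℂ)} {τ : (L → ℂ) → (G → ℂ)} {R : (L → ℂ) → Finset (G → ℂ)} {ζ : L → ℂ}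

/-- `⟨α^τ, ψ⟩ - ⟨α, ζ⟩`. -/
noncomputable def pivotDev (τ : (L → ℂ) → (G → ℂ)) (ζ : L → ℂ) (ψ : G → ℂ) (α : L → ℂ) : ℂ :=
  classInner (τ α) ψ - classInner α ζ

theorem pivotDev_add (hτ : IsLinearIsometryOn (zspanOn S {1}ᶜ) τ) {ψ : G → ℂ} {α β : L → ℂ}
    (hα : α ∈ zspanOn S {1}ᶜ) (hβ : β ∈ zspanOn S {1}ᶜ) :
    pivotDev τ ζ ψ (α + β) = pivotDev τ ζ ψ α + pivotDev τ ζ ψ β := by
  rw [pivotDev, pivotDev, pivotDev, hτ.1 _ hα _ hβ, classInner_add_left, classInner_add_left]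
  ring

theorem pivotDev_zsmul (hτ : IsLinearIsometryOn (zspanOn S {1}ᶜ) τ) {ψ : G → ℂ} {α : L → ℂ}
    (hα : α ∈ zspanOn S {1}ᶜ) (n : ℤ) :
    pivotDev τ ζ ψ (n • α) = (n : ℂ) * pivotDev τ ζ ψ α := by
  rw [pivotDev, pivotDev, hτ.2.1 _ hα n, classInner_zsmul_left, classInner_zsmul_left]
  ring

theorem pivotDev_sum (hτ : IsLinearIsometryOn (zspanOn S {1}ᶜ) τ) {ψ : G → ℂ} {ι : Type*}
    (s : Finset ι) {f : ι → L → ℂ} (hf : ∀ i ∈ s, f i ∈ zspanOn S {1}ᶜ) :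
    pivotDev τ ζ ψ (∑ i ∈ s, f i) = ∑ i ∈ s, pivotDev τ ζ ψ (f i) := by
  rw [pivotDev, linOn_sum hτ s hf, classInner_sum_left, classInner_sum_left,
    ← Finset.sum_sub_distrib]
  rfl

/-- If `ψ` pairs with `ℤ[S, L^#]^τ` as `ζ` does with `ℤ[S, L^#]`, then `S` is coherent. -/
theorem coherent_of_pivot (hτ : IsLinearIsometryOn (zspanOn S {1}ᶜ) τ)
    (hne : ∃ α ∈ zspanOn S {1}ᶜ, α ≠ 0) (hζ : ζ ∈ S) (hζn : classInner ζ ζ = 1) (hζ1 : ζ 1 ≠ 0)
    {ψ : G → ℂ} (hψ : IsGeneralizedCharacter G ψ) (hψn : classInner ψ ψ = 1)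
    (hdev : ∀ φ ∈ S, ∃ d : ℤ, φ 1 = (d : ℂ) * ζ 1 ∧ pivotDev τ ζ ψ (φ - d • ζ) = 0) :
    IsCoherent S {1}ᶜ τ := by
  classical
  have hex : ∀ v ∈ zspan S, ∃ d : ℤ, v 1 = (d : ℂ) * ζ 1 := fun v hv =>
    zspan_induction (P := fun v => ∃ d : ℤ, v 1 = (d : ℂ) * ζ 1)
      (fun φ hφ => ⟨_, (hdev φ hφ).choose_spec.1⟩) ⟨0, by simp⟩
      (fun a _ b _ ⟨d, hd⟩ ⟨e, he⟩ => ⟨d + e, by simp [hd, he, add_mul]⟩)
      (fun n a _ ⟨d, hd⟩ => ⟨n * d, by simp [hd, mul_assoc]⟩) hv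
  set D : (L → ℂ) → ℤ := fun v => if h : ∃ d : ℤ, v 1 = (d : ℂ) * ζ 1 then h.choose else 0
    with hDdef
  have hD : ∀ v ∈ zspan S, v 1 = (D v : ℂ) * ζ 1 := fun v hv => by
    simp only [hDdef, dif_pos (hex v hv)]
    exact (hex v hv).choose_spec
  have hDu : ∀ v ∈ zspan S, ∀ d : ℤ, v 1 = (d : ℂ) * ζ 1 → D v = d := fun v hv d hd =>
    Int.cast_injective (mul_right_cancel₀ hζ1 ((hD v hv).symm.trans hd))
  have hm : ∀ v ∈ zspan S, v - D v • ζ ∈ zspanOn S {1}ᶜ := fun v hv =>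
    mem_zspanOn_one.2 ⟨zspan_sub hv (zspan_zsmul _ (subset_zspan hζ)), by simp [hD v hv]⟩
  have hadd : ∀ v ∈ zspan S, ∀ w ∈ zspan S, D (v + w) = D v + D w := fun v hv w hw =>
    hDu _ (zspan_add hv hw) _ (by simp [hD v hv, hD w hw, add_mul])
  have hsmul : ∀ v ∈ zspan S, ∀ n : ℤ, D (n • v) = n * D v := fun v hv n =>
    hDu _ (zspan_zsmul n hv) _ (by simp [hD v hv, mul_assoc])
  have key : ∀ v ∈ zspan S, pivotDev τ ζ ψ (v - D v • ζ) = 0 := by
    intro v hv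
    refine (zspan_induction (P := fun v => v ∈ zspan S ∧ pivotDev τ ζ ψ (v - D v • ζ) = 0)
      ?_ ?_ ?_ ?_ hv).2
    · intro φ hφ
      obtain ⟨d, hd, h0⟩ := hdev φ hφ
      exact ⟨subset_zspan hφ, by rwa [hDu φ (subset_zspan hφ) d hd]⟩
    · refine ⟨zspan_zero, ?_⟩
      rw [hDu 0 zspan_zero 0 (by simp), zero_zsmul, sub_zero, pivotDev, lin_zero hτ zspanOn_zero,
        classInner_zero_left, classInner_zero_left, sub_zero]
    · rintro a - b - ⟨ha, ha0⟩ ⟨hb, hb0⟩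
      refine ⟨zspan_add ha hb, ?_⟩
      rw [hadd a ha b hb, show a + b - (D a + D b) • ζ = (a - D a • ζ) + (b - D b • ζ) by module,
        pivotDev_add hτ (hm a ha) (hm b hb), ha0, hb0, add_zero]
    · rintro n a - ⟨ha, ha0⟩
      refine ⟨zspan_zsmul n ha, ?_⟩
      rw [hsmul a ha n, show n • a - (n * D a) • ζ = n • (a - D a • ζ) by module,
        pivotDev_zsmul hτ (hm a ha), ha0, mul_zero]
  refine ⟨hne, fun v => τ (v - D v • ζ) + D v • ψ, ⟨?_, ?_, ?_, ?_⟩, ?_⟩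
  · intro a ha b hb
    show τ (a + b - D (a + b) • ζ) + D (a + b) • ψ = _
    rw [hadd a ha b hb, show a + b - (D a + D b) • ζ = (a - D a • ζ) + (b - D b • ζ) by module,
      hτ.1 _ (hm a ha) _ (hm b hb)]
    module
  · intro a ha n
    show τ (n • a - D (n • a) • ζ) + D (n • a) • ψ = n • (τ (a - D a • ζ) + D a • ψ)
    rw [hsmul a ha n, show n • a - (n * D a) • ζ = n • (a - D a • ζ) by module,
      hτ.2.1 _ (hm a ha) n]
    module
  · intro a ha b hb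
    show classInner (τ (a - D a • ζ) + D a • ψ) (τ (b - D b • ζ) + D b • ψ) = classInner a b
    have k1 : ∀ v ∈ zspan S, classInner (τ (v - D v • ζ)) ψ = classInner (v - D v • ζ) ζ :=
      fun v hv => sub_eq_zero.1 (key v hv)
    have e2 : classInner ψ (τ (b - D b • ζ)) = classInner ζ (b - D b • ζ) := by
      rw [← classInner_conj_symm, k1 b hb, classInner_conj_symm]
    rw [classInner_add_left, classInner_add_right, classInner_add_right,
      hτ.2.2.1 _ (hm a ha) _ (hm b hb), classInner_zsmul_right, classInner_zsmul_left,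
      classInner_zsmul_left, classInner_zsmul_right, k1 a ha, e2, hψn]
    conv_rhs => rw [show a = (a - D a • ζ) + D a • ζ by module,
      show b = (b - D b • ζ) + D b • ζ by module]
    rw [classInner_add_left, classInner_add_right, classInner_add_right, classInner_zsmul_right,
      classInner_zsmul_left, classInner_zsmul_left, classInner_zsmul_right, hζn]
  · intro a ha
    exact isGC_add (hτ.2.2.2 _ (hm a ha)) (isGC_zsmul hψ _)
  · intro α hα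
    obtain ⟨h1, h0⟩ := mem_zspanOn_one.1 hα
    show τ (α - D α • ζ) + D α • ψ = τ α
    rw [hDu α h1 0 (by simp [h0])]
    simp

/-- A coherent set of characters of norm `1` and equal degree inside a coherence system, with a
distinguished member. -/
structure Pivot (S : Set (L → ℂ)) (τ : (L → ℂ) → (G → ℂ)) (R : (L → ℂ) → Finset (G → ℂ))
    (Y : Finset (L → ℂ)) (τ₁ : (L → ℂ) → (G → ℂ)) (ζ : L → ℂ) : Prop where
  sys : IsCoherenceSystem S τ R
  sub : (↑Y : Set (L → ℂ)) ⊆ S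
  conj_closed : ∀ φ ∈ Y, conjFun φ ∈ Y
  norm : ∀ φ ∈ Y, classInner φ φ = 1
  deg : ∀ φ ∈ Y, φ 1 = ζ 1
  mem : ζ ∈ Y
  iso : IsLinearIsometryOn (zspan (↑Y : Set (L → ℂ))) τ₁
  agree : ∀ α ∈ zspanOn (↑Y : Set (L → ℂ)) {1}ᶜ, τ₁ α = τ α

namespace Pivot

variable {Y : Finset (L → ℂ)} {τ₁ : (L → ℂ) → (G → ℂ)} (P : Pivot S τ R Y τ₁ ζ)
include P

theorem image_gc {φ : L → ℂ} (hφ : φ ∈ Y) : IsGeneralizedCharacter G (τ₁ φ) :=
  P.iso.2.2.2 _ (subset_zspan hφ)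

theorem image_norm {φ : L → ℂ} (hφ : φ ∈ Y) : classInner (τ₁ φ) (τ₁ φ) = 1 := by
  rw [P.iso.2.2.1 _ (subset_zspan hφ) _ (subset_zspan hφ), P.norm φ hφ]

theorem image_orth {φ φ' : L → ℂ} (hφ : φ ∈ Y) (hφ' : φ' ∈ Y) (hne : φ ≠ φ') :
    classInner (τ₁ φ) (τ₁ φ') = 0 := by
  rw [P.iso.2.2.1 _ (subset_zspan hφ) _ (subset_zspan hφ'),
    P.sys.orthogonal φ (P.sub hφ) φ' (P.sub hφ') hne]

theorem two_le : 2 ≤ Y.card :=
  Finset.one_lt_card.2 ⟨_, P.conj_closed ζ P.mem, _, P.mem, P.sys.conj_ne ζ (P.sub P.mem)⟩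

theorem gc_of_mem {α : L → ℂ} (hα : α ∈ zspanOn S {1}ᶜ) : IsGeneralizedCharacter L α :=
  isGC_of_mem_zspan (fun χ hχ => isGC_of_isCharacter (P.sys.isCharacter χ hχ)) hα.1

theorem dev_int {α : L → ℂ} (hα : α ∈ zspanOn S {1}ᶜ) :
    ∃ A : ℤ, pivotDev τ ζ (τ₁ ζ) α = A := by
  obtain ⟨x, hx⟩ := classInner_gc_int (P.sys.isometry.2.2.2 _ hα) (P.image_gc P.mem)
  obtain ⟨y, hy⟩ := classInner_gc_int (P.gc_of_mem hα)
    (isGC_of_isCharacter (P.sys.isCharacter ζ (P.sub P.mem)))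
  exact ⟨x - y, by rw [pivotDev, hx, hy]; push_cast; rfl⟩

theorem sub_mem {φ φ' : L → ℂ} (hφ : φ ∈ Y) (hφ' : φ' ∈ Y) :
    φ - φ' ∈ zspanOn (↑Y : Set (L → ℂ)) {1}ᶜ :=
  mem_zspanOn_one.2 ⟨zspan_sub (subset_zspan hφ) (subset_zspan hφ'),
    by simp [P.deg φ hφ, P.deg φ' hφ']⟩

theorem tau_sub {φ φ' : L → ℂ} (hφ : φ ∈ Y) (hφ' : φ' ∈ Y) :
    τ (φ - φ') = τ₁ φ - τ₁ φ' := by
  rw [← P.agree _ (P.sub_mem hφ hφ'), sub_eq_add_neg, P.iso.1 _ (subset_zspan hφ) _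
    (zspan_neg (subset_zspan hφ')), lin_neg P.iso (subset_zspan hφ'), ← sub_eq_add_neg]

/-- All coefficients on the images are shifted by the deviation. -/
theorem coeff {α : L → ℂ} (hα : α ∈ zspanOn S {1}ᶜ) {φ : L → ℂ} (hφ : φ ∈ Y) :
    classInner (τ α) (τ₁ φ) = pivotDev τ ζ (τ₁ ζ) α + classInner α φ := by
  have h := P.sys.isometry.2.2.1 _ hα _ (zspanOn_mono P.sub (P.sub_mem hφ P.mem))
  rw [P.tau_sub hφ P.mem, classInner_sub_right, classInner_sub_right] at h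
  rw [pivotDev]
  linear_combination h

theorem dev_self {φ : L → ℂ} (hφ : φ ∈ Y) :
    pivotDev τ ζ (τ₁ ζ) (φ - ζ) = 0 := by
  rw [pivotDev, P.tau_sub hφ P.mem, classInner_sub_left, classInner_sub_left,
    P.image_norm P.mem, P.norm ζ P.mem]
  by_cases h : φ = ζ
  · subst h
    rw [P.image_norm P.mem, P.norm φ P.mem, sub_self]
  · rw [P.image_orth hφ P.mem h, P.sys.orthogonal φ (P.sub hφ) ζ (P.sub P.mem) h, sub_self]

/-- Images of `Y` are orthogonal to `R χ` for `χ` outside `Y`. -/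
theorem orth_R {χ : L → ℂ} (hχ : χ ∈ S) (hχY : χ ∉ Y) {φ : L → ℂ} (hφ : φ ∈ Y) {β : G → ℂ}
    (hβ : β ∈ R χ) : classInner β (τ₁ φ) = 0 := by
  obtain ⟨s, hs, he⟩ := subset_sum P.sys P.iso P.agree (P.sub hφ) hφ (P.conj_closed φ hφ)
  rw [he, classInner_sum_right]
  exact Finset.sum_eq_zero fun γ hγ => P.sys.disjoint φ (P.sub hφ) χ hχ
    (P.sys.orthogonal χ hχ φ (P.sub hφ) fun e => hχY (e ▸ hφ))
    (P.sys.orthogonal χ hχ _ (P.sub (P.conj_closed φ hφ)) fun e => hχY (e ▸ P.conj_closed φ hφ))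
    β hβ γ (hs hγ)

open Classical in
/-- Bessel on the images of `Y` and a further orthogonal family. -/
theorem residue_bound_orth {α : L → ℂ} (hα : α ∈ zspanOn S {1}ᶜ) {A h : ℤ}
    (hA : pivotDev τ ζ (τ₁ ζ) α = A)
    (hh : ∀ φ ∈ Y, classInner α φ = if φ = ζ then -(h : ℂ) else 0)
    (T : Finset (G → ℂ)) (N : (G → ℂ) → ℝ) (hN : ∀ v ∈ T, 0 < N v)
    (hT : ∀ v ∈ T, classInner v v = (N v : ℂ))
    (hTo : ∀ v ∈ T, ∀ w ∈ T, v ≠ w → classInner v w = 0)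
    (hTY : ∀ v ∈ T, ∀ φ ∈ Y, classInner v (τ₁ φ) = 0) :
    ((Y.card : ℝ) * (A : ℝ) ^ 2 - 2 * h * A + (h : ℝ) ^ 2) +
      ∑ v ∈ T, ‖classInner (τ α) v‖ ^ 2 / N v ≤ (classInner α α).re := by
  have hc : ∀ φ ∈ Y, classInner (τ α) (τ₁ φ) = ((A + if φ = ζ then -h else 0 : ℤ) : ℂ) := by
    intro φ hφ
    rw [P.coeff hα hφ, hA, hh φ hφ]
    split_ifs <;> simp
  have hb := (bessel (Y.disjSum T) (Sum.elim τ₁ id) (Sum.elim (fun _ => 1) N)
    (by rintro (i | i) hi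
        · exact one_pos
        · exact hN i (Finset.inr_mem_disjSum.1 hi))
    (by rintro (i | i) hi
        · simpa using P.image_norm (Finset.inl_mem_disjSum.1 hi)
        · simpa using hT i (Finset.inr_mem_disjSum.1 hi))
    (by rintro (i | i) hi (j | j) hj hne
        · exact P.image_orth (Finset.inl_mem_disjSum.1 hi) (Finset.inl_mem_disjSum.1 hj)
            fun e => hne (congrArg Sum.inl e)
        · exact classInner_symm_zero
            (hTY j (Finset.inr_mem_disjSum.1 hj) i (Finset.inl_mem_disjSum.1 hi))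
        · exact hTY i (Finset.inr_mem_disjSum.1 hi) j (Finset.inl_mem_disjSum.1 hj)
        · exact hTo i (Finset.inr_mem_disjSum.1 hi) j (Finset.inr_mem_disjSum.1 hj)
            fun e => hne (congrArg Sum.inr e))
    (τ α)).1
  rw [Finset.sum_disjSum, P.sys.isometry.2.2.1 _ hα _ hα] at hb
  simp only [Sum.elim_inl, Sum.elim_inr, div_one, id] at hb
  have hY : ∑ φ ∈ Y, ‖classInner (τ α) (τ₁ φ)‖ ^ 2 =
      (Y.card : ℝ) * (A : ℝ) ^ 2 - 2 * h * A + (h : ℝ) ^ 2 := by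
    rw [Finset.sum_congr rfl (g := fun φ => (A : ℝ) ^ 2 +
      if φ = ζ then -2 * (h : ℝ) * A + (h : ℝ) ^ 2 else 0) fun φ hφ => ?_]
    · rw [Finset.sum_add_distrib, Finset.sum_const, nsmul_eq_mul, Finset.sum_ite_eq',
        if_pos P.mem]
      ring
    · rw [hc φ hφ, Complex.norm_intCast, sq_abs]
      split_ifs <;> push_cast <;> ring
  rwa [hY] at hb

theorem residue_bound {α : L → ℂ} (hα : α ∈ zspanOn S {1}ᶜ) {A h : ℤ}
    (hA : pivotDev τ ζ (τ₁ ζ) α = A)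
    (hh : ∀ φ ∈ Y, classInner α φ = if φ = ζ then -(h : ℂ) else 0) :
    (Y.card : ℝ) * (A : ℝ) ^ 2 - 2 * h * A + (h : ℝ) ^ 2 ≤ (classInner α α).re := by
  simpa using P.residue_bound_orth hα hA hh ∅ (fun _ => 1) (by simp) (by simp) (by simp) (by simp)

omit P in
/-- `χ - d ζ` and its inner products with `Y`. -/
theorem char_inner (P : Pivot S τ R Y τ₁ ζ) {χ : L → ℂ} (hχ : χ ∈ S) (hχY : χ ∉ Y) (d : ℤ)
    {φ : L → ℂ} (hφ : φ ∈ Y) [Decidable (φ = ζ)] :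
    classInner (χ - d • ζ) φ = if φ = ζ then -(d : ℂ) else 0 := by
  rw [classInner_sub_left, classInner_zsmul_left,
    P.sys.orthogonal χ hχ φ (P.sub hφ) fun e => hχY (e ▸ hφ), zero_sub]
  split_ifs with h
  · rw [h, P.norm ζ P.mem, mul_one]
  · rw [P.sys.orthogonal ζ (P.sub P.mem) φ (P.sub hφ) (Ne.symm h), mul_zero, neg_zero]

theorem char_sub_mem {χ : L → ℂ} (hχ : χ ∈ S) {d : ℤ} (hd : χ 1 = (d : ℂ) * ζ 1) :
    χ - d • ζ ∈ zspanOn S {1}ᶜ :=
  mem_zspanOn_one.2 ⟨zspan_sub (subset_zspan hχ) (zspan_zsmul d (subset_zspan (P.sub P.mem))),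
    by simp [hd]⟩

theorem char_norm {χ : L → ℂ} (hχ : χ ∈ S) (hχY : χ ∉ Y) (d : ℤ) :
    classInner (χ - d • ζ) (χ - d • ζ) = classInner χ χ + (d : ℂ) ^ 2 := by
  have o := P.sys.orthogonal χ hχ ζ (P.sub P.mem) fun e => hχY (e ▸ P.mem)
  simp only [classInner_sub_left, classInner_sub_right, classInner_zsmul_left,
    classInner_zsmul_right, o, classInner_symm_zero o, P.norm ζ P.mem]
  ring

/-- The deviation of `χ - d ζ` lies between `0` and `2 d / n`. -/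
theorem dev_char {χ : L → ℂ} (hχ : χ ∈ S) (hχY : χ ∉ Y) {d : ℤ} (hd : χ 1 = (d : ℂ) * ζ 1) :
    ∃ a : ℤ, pivotDev τ ζ (τ₁ ζ) (χ - d • ζ) = a ∧
      (Y.card : ℤ) * a ^ 2 - 2 * a * d ≤ 0 := by
  classical
  have hm := P.char_sub_mem hχ hd
  obtain ⟨a, ha⟩ := P.dev_int hm
  refine ⟨a, ha, ?_⟩
  obtain ⟨m, -, hm0⟩ := sys_norm P.sys hχ
  have hgc := P.sys.isometry.2.2.2 _ hm
  obtain ⟨c, hc, hcs, -⟩ := exists_subsum P.sys hχ hgc
  have hb := P.residue_bound_orth hm ha (fun φ hφ => char_inner P hχ hχY d hφ) (R χ) (fun _ => 1)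
    (fun _ _ => one_pos)
    (fun v hv => by rw [P.sys.orthonormal χ hχ v hv v hv]; simp)
    (fun v hv w hw hne => by rw [P.sys.orthonormal χ hχ v hv w hw]; simp [hne])
    (fun v hv φ hφ => P.orth_R hχ hχY hφ hv)
  rw [Finset.sum_congr rfl (g := fun v => ((c v : ℝ)) ^ 2) (fun v hv => by
    rw [hc v hv, Complex.norm_intCast, sq_abs, div_one]), P.char_norm hχ hχY d, hm0] at hb
  have hsum : (∑ v ∈ R χ, c v : ℤ) = (m : ℤ) := by
    have h := P.sys.isometry.2.2.1 _ hm _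
      (sys_sub_conj_mem P.sys hχ hχ (P.sys.conj_mem χ hχ))
    rw [hcs] at h
    have o1 := P.sys.orthogonal χ hχ _ (P.sys.conj_mem χ hχ) (P.sys.conj_ne χ hχ).symm
    have o2 := P.sys.orthogonal ζ (P.sub P.mem) χ hχ fun e => hχY (e ▸ P.mem)
    have o3 := P.sys.orthogonal ζ (P.sub P.mem) _ (P.sys.conj_mem χ hχ) fun e => hχY (by
      have := P.conj_closed _ P.mem
      rwa [e, conjFun_conjFun] at this)
    simp only [classInner_sub_left, classInner_sub_right, classInner_zsmul_left, hm0, o1, o2, o3,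
      mul_zero, sub_zero] at h
    exact_mod_cast h
  have hle : (m : ℤ) ≤ ∑ v ∈ R χ, c v ^ 2 := by
    rw [← hsum]
    exact Finset.sum_le_sum fun v _ => by nlinarith [Int.le_self_sq (c v)]
  have hle' : (m : ℝ) ≤ ∑ v ∈ R χ, (c v : ℝ) ^ 2 := by exact_mod_cast hle
  simp [pow_two] at hb
  have : ((Y.card : ℝ) * (a : ℝ) ^ 2 - 2 * a * d : ℝ) ≤ 0 := by
    simp [pow_two] at hle' ⊢
    linarith
  exact_mod_cast this

/-- For `|Y| = 2` there is a second extension, with deviation `-dev α - ⟨α, ζ + conj ζ⟩`. -/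
theorem swap (hirr : IsIrrCharacter L ζ) (hcard : Y.card = 2) :
    ∃ τ₁', Pivot S τ R Y τ₁' ζ ∧ ∀ α ∈ zspanOn S {1}ᶜ,
      pivotDev τ ζ (τ₁' ζ) α =
        -pivotDev τ ζ (τ₁ ζ) α - classInner α ζ - classInner α (conjFun ζ) := by
  classical
  have hne := P.sys.conj_ne ζ (P.sub P.mem)
  have hYeq : (↑Y : Set (L → ℂ)) = {ζ, conjFun ζ} := by
    have : ({ζ, conjFun ζ} : Finset (L → ℂ)) = Y := Finset.eq_of_subset_of_card_le
      (by intro x hx
          rcases Finset.mem_insert.1 hx with rfl | hx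
          · exact P.mem
          · rw [Finset.mem_singleton.1 hx]; exact P.conj_closed _ P.mem)
      (by rw [hcard, Finset.card_pair hne.symm])
    rw [← this]; simp
  have hiso := P.iso
  have hag := P.agree
  rw [hYeq] at hiso hag
  obtain ⟨ρ, h1, h2, h3⟩ := swap_pair hirr (Char.IsIrrCharacter.conj hirr) hne.symm
    (P.deg _ (P.conj_closed _ P.mem)).symm hiso hag
  refine ⟨ρ, ⟨P.sys, P.sub, P.conj_closed, P.norm, P.deg, P.mem, hYeq ▸ h1, hYeq ▸ h2⟩, fun α hα => ?_⟩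
  have hc := P.coeff hα (P.conj_closed _ P.mem)
  rw [pivotDev, h3, classInner_neg_right]
  erw [hc]
  ring

end Pivot

end Cfsg.Agent.Peterfalvi
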