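import Cfsg.Agent.Lib.Peterfalvi.Sec7Coherent
import Cfsg.Agent.Lib.Coherence.OddPartition

/-!
# Peterfalvi (7.9): two Dade maps with disjoint supports (owner: helper40)

* `dade_disjoint_orth`
* `image_pair`, `Coh.conj_image` : `τ₁` commutes with complex conjugation (odd order)
* `image_orth` : irreducible images for disjoint supports are orthogonal
* `Coh.parity` : (7.9); `Coh.cross_bound` : `b² (h' - 1) / e' ≤ e - 1`
-/

set_option autoImplicit false
set_option linter.style.haveILetI false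

namespace Cfsg.Agent.Peterfalvi

open Cfsg Cfsg.Agent Cfsg.Agent.Char Cfsg.Agent.Coherence Cfsg.Agent.OddPartition
open scoped ComplexConjugate

universe u

variable {G : Type u} [Group G] [Fintype G] {A A' : Set G} {L L' : Subgroup G}
  {R R' : G → Subgroup G}

theorem dade_disjoint_orth (hD : DadeHypothesis A L R) (hD' : DadeHypothesis A' L' R')
    (hdis : Disjoint (Dade.support A R) (Dade.support A' R')) (α : ↥L → ℂ) (α' : ↥L' → ℂ) :
    classInner (dadeIsometry A L R α) (dadeIsometry A' L' R' α') = 0 := by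
  rw [classInner, Finset.sum_eq_zero fun g _ => ?_, mul_zero]
  by_cases hg : g ∈ Dade.support A R
  · rw [Dade.dadeIsometry_eq_zero hD' (Set.disjoint_left.1 hdis hg), map_zero, mul_zero]
  · rw [Dade.dadeIsometry_eq_zero hD hg, zero_mul]

/-- The images `v`, `w` of a pair of conjugate characters are conjugate. -/
theorem image_pair (hodd : Odd (Nat.card G)) {v w : G → ℂ} (hv : IsSignedIrr G v)
    (hw : IsSignedIrr G w) (hv1 : classInner v (fun _ => 1) = 0) (ho : classInner v w = 0)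
    (hskew : conjFun v - conjFun w = w - v) : w = conjFun v := by
  obtain ⟨-, -, hvv⟩ := conj_ne hodd hv hv1
  have hvn : classInner v v = 1 := (classInner_signed hv hv).2.elim
    (fun h => absurd h (by
      rcases hv with h' | h'
      · rw [classInner_irr_self h']; exact one_ne_zero
      · have := classInner_irr_self h'
        rw [classInner_neg_left, classInner_neg_right, neg_neg] at this
        rw [this]; exact one_ne_zero))
    (fun h => h.elim (fun h => h.2) (fun h => absurd h.1 fun e => by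
      rcases hv with h' | h'
      · exact IsIrrCharacter.ne_zero h' (funext fun g => by
          have := congrFun e g; simp only [Pi.neg_apply] at this; simp only [Pi.zero_apply]
          linear_combination this / 2)
      · exact IsIrrCharacter.ne_zero h' (funext fun g => by
          have := congrFun e g; simp only [Pi.neg_apply] at this ⊢; simp only [Pi.zero_apply]
          linear_combination -this / 2)))
  have hcc : ∀ f g : G → ℂ, classInner (conjFun f) (conjFun g) = conj (classInner f g) := by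
    intro f g
    simp [classInner, conjFun, map_sum]
  have h := congrArg (fun f => classInner f (conjFun v)) hskew
  simp only [classInner_sub_left, hcc, hvn, map_one] at h
  rw [← classInner_conj_symm v w, ho, map_zero, map_zero, sub_zero, ← classInner_conj_symm (conjFun v) v,
    hvv, map_zero, sub_zero] at h
  rcases (classInner_signed hw (signed_conjFun hv)).2 with h' | ⟨h', h''⟩ | ⟨h', h''⟩
  · rw [h'] at h; exact absurd h one_ne_zero
  · exact h'.symm
  · rw [h''] at h; norm_num at h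

namespace Coh

variable [Fintype ↥L] [Fintype ↥L'] {K : Subgroup ↥L} [K.Normal] {K' : Subgroup ↥L'} [K'.Normal]
  {τ₁ : (↥L → ℂ) → G → ℂ} {τ₂ : (↥L' → ℂ) → G → ℂ} {ζ : ↥L → ℂ} {ξ : ↥L' → ℂ}
  (hD : DadeHypothesis A L R) (hA : ∀ x : ↥L, (x : G) ∈ A ↔ x ∈ K ∧ x ≠ 1)
  (hc : Coh A L R K τ₁ ζ) (hodd : Odd (Nat.card G))
include hD hA hc hodd

omit hodd in
theorem signed_image {φ : ↥L → ℂ} (hφ : φ ∈ inducedIrrAbove K ⊥) (hi : IsIrrCharacter ↥L φ) :
    IsSignedIrr G (τ₁ φ) ∧ classInner (τ₁ φ) (τ₁ φ) = 1 ∧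
      classInner (τ₁ φ) (fun _ => 1) = 0 := by
  obtain ⟨-, -, hiso, hgc⟩ := hc.isometry
  have hn : classInner (τ₁ φ) (τ₁ φ) = 1 := by
    rw [hiso _ (subset_zspan hφ) _ (subset_zspan hφ), classInner_irr_self hi]
  exact ⟨gc_norm_one (hgc _ (subset_zspan hφ)) hn, hn, hc.inner_one hD hA hφ⟩

/-- The image of the conjugate is the conjugate of the image. -/
theorem conj_image {φ : ↥L → ℂ} (hφ : φ ∈ inducedIrrAbove K ⊥) :
    τ₁ (conjFun φ) = conjFun (τ₁ φ) := by
  obtain ⟨hadd, hsmul, hiso, -⟩ := hc.isometry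
  have hζb := inducedSet_conj_mem ⊥ hc.mem
  obtain ⟨hv, -, hv1⟩ := hc.signed_image hD hA hc.mem hc.irr
  obtain ⟨hw, -, -⟩ := hc.signed_image hD hA hζb (IsIrrCharacter.conj hc.irr)
  have hz1 : conjFun ζ 1 = ζ 1 := by simp [conjFun, hc.degree]
  have hd1 : conjFun ζ 1 / ζ 1 = 1 := by
    rw [hz1, div_self (IsIrrCharacter.apply_one_ne_zero hc.irr)]
  have h1 := hc.image_sub hζb
  rw [hd1, one_smul, one_smul] at h1
  have ho : classInner (τ₁ ζ) (τ₁ (conjFun ζ)) = 0 := by
    rw [hiso _ (subset_zspan hc.mem) _ (subset_zspan hζb)]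
    exact classInner_irr_of_ne hc.irr (IsIrrCharacter.conj hc.irr) (Ne.symm hc.nonreal)
  have hskew : conjFun (τ₁ ζ) - conjFun (τ₁ (conjFun ζ)) = τ₁ (conjFun ζ) - τ₁ ζ := by
    rw [← h1, ← conjFun_sub', ← neg_sub (τ₁ (conjFun ζ)), ← h1]
    rw [show conjFun (-dadeIsometry A L R (conjFun ζ - ζ)) =
      conjFun (dadeIsometry A L R (ζ - conjFun ζ)) by rw [← dadeIsometry_neg, neg_sub],
      ← dadeIsometry_conj]
    congr 1
    funext x; simp [conjFun]
  have hbase := image_pair hodd hv hw hv1 ho hskew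
  obtain ⟨d, -, hd, hd1'⟩ := hc.degree_div hφ
  have hφb := inducedSet_conj_mem ⊥ hφ
  have hdb : conjFun φ 1 / ζ 1 = (d : ℂ) := by
    rw [← hd]; congr 1; simp [conjFun, hd1']
  have e1 := hc.image_sub hφ
  have e2 := hc.image_sub hφb
  rw [hd] at e1
  rw [hdb] at e2
  have e3 := congrArg conjFun e1
  rw [← dadeIsometry_conj] at e3
  conv_rhs at e3 => rw [conjFun_sub']
  have e4 : dadeIsometry A L R (conjFun φ - (d : ℂ) • ζ) +
      dadeIsometry A L R ((d : ℂ) • (ζ - conjFun ζ)) =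
      dadeIsometry A L R (conjFun (φ - (d : ℂ) • ζ)) := by
    rw [← dadeIsometry_add]
    congr 1
    funext x; simp [conjFun, mul_sub]
  rw [e2, e3, dadeIsometry_smul, ← neg_sub (conjFun ζ) ζ, dadeIsometry_neg, h1, hbase] at e4
  funext g
  have := congrFun e4 g
  simp [conjFun] at this ⊢
  linear_combination this

omit hD hA hc hodd in
omit [Fintype G] in
theorem conj_indOne : conjFun (indOne K) = indOne K := by
  funext x
  by_cases hx : x ∈ K
  · simp [conjFun, indFun_one_of_mem K hx]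
  · simp [conjFun, (indSet_facts K (indOne_mem K)).2.1 x hx]

/-- `β + τ₁ ζ` is real. -/
theorem beta_add_real :
    conjFun (beta A L R K ζ + τ₁ ζ) = beta A L R K ζ + τ₁ ζ := by
  have hζb := inducedSet_conj_mem ⊥ hc.mem
  have h1 := hc.image_sub hζb
  rw [show conjFun ζ 1 / ζ 1 = 1 by
    rw [show conjFun ζ 1 = ζ 1 by simp [conjFun, hc.degree],
      div_self (IsIrrCharacter.apply_one_ne_zero hc.irr)], one_smul, one_smul,
    hc.conj_image hD hA hodd hc.mem] at h1
  rw [conjFun_add', beta, ← dadeIsometry_conj, conjFun_sub', Coh.conj_indOne,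
    show indOne K - conjFun ζ = (indOne K - ζ) - (conjFun ζ - ζ) by abel, dadeIsometry_sub, h1]
  abel

omit hD hA hodd in
theorem sum_sq : ∑ φ ∈ (indSet K).erase (indOne K), (φ 1 / ζ 1) ^ 2 / classInner φ φ =
    ((Nat.card K : ℂ) - 1) / (K.index : ℂ) := by
  have h := sum_sq_div (⊥ : Subgroup ↥L) bot_le ((indSet K).erase (indOne K)) (Set.ext fun φ => by
    rw [Finset.mem_coe, mem_erase]) (K := K)
  rw [Subgroup.relIndex_bot_left] at h
  have hi : (K.index : ℂ) ≠ 0 := Nat.cast_ne_zero.2 Subgroup.index_ne_zero_of_finite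
  rw [eq_div_iff hi, Finset.sum_mul, ← mul_right_inj' hi, Finset.mul_sum, ← h]
  refine Finset.sum_congr rfl fun φ _ => ?_
  rw [hc.degree]
  field_simp

variable (hD' : DadeHypothesis A' L' R') (hA' : ∀ x : ↥L', (x : G) ∈ A' ↔ x ∈ K' ∧ x ≠ 1)
  (hc' : Coh A' L' R' K' τ₂ ξ) (hdis : Disjoint (Dade.support A R) (Dade.support A' R'))
include hD' hA' hc' hdis

/-- Irreducible images are orthogonal. -/
theorem image_orth {φ : ↥L → ℂ} (hφ : φ ∈ inducedIrrAbove K ⊥) (hi : IsIrrCharacter ↥L φ)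
    {ψ : ↥L' → ℂ} (hψ : ψ ∈ inducedIrrAbove K' ⊥) (hi' : IsIrrCharacter ↥L' ψ) : classInner (τ₁ φ) (τ₂ ψ) = 0 := by
  obtain ⟨hv, hvn, hv1⟩ := hc.signed_image hD hA hφ hi
  obtain ⟨hw, -, -⟩ := hc'.signed_image hD' hA' hψ hi'
  obtain ⟨-, -, hvv⟩ := conj_ne hodd hv hv1
  have hsub : ∀ {B : Set G} {M : Subgroup G} {S : G → Subgroup G} [Fintype ↥M] {N : Subgroup ↥M}
      [N.Normal] {σ : (↥M → ℂ) → G → ℂ} {μ : ↥M → ℂ} (hE : DadeHypothesis B M S)
      (hB : ∀ x : ↥M, (x : G) ∈ B ↔ x ∈ N ∧ x ≠ 1) (hcc : Coh B M S N σ μ) {χ : ↥M → ℂ},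
      χ ∈ inducedIrrAbove N ⊥ →
      dadeIsometry B M S (χ - conjFun χ) = σ χ - conjFun (σ χ) := by
    intro B M S _ N _ σ μ hE hB hcc χ hχ
    obtain ⟨d, -, hd, hd1⟩ := hcc.degree_div hχ
    have hχb := inducedSet_conj_mem ⊥ hχ
    have hdb : conjFun χ 1 / μ 1 = (d : ℂ) := by
      rw [← hd]; congr 1; simp [conjFun, hd1]
    have e1 := hcc.image_sub hχ
    have e2 := hcc.image_sub hχb
    rw [hd] at e1
    rw [hdb, hcc.conj_image hE hB hodd hχ] at e2
    rw [show χ - conjFun χ = (χ - (d : ℂ) • μ) - (conjFun χ - (d : ℂ) • μ) by abel,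
      dadeIsometry_sub, e1, e2]
    abel
  have h := dade_disjoint_orth hD hD' hdis (φ - conjFun φ) (ψ - conjFun ψ)
  rw [hsub hD hA hc hφ, hsub hD' hA' hc' hψ] at h
  by_contra hne
  rcases signed_eq_of_inner_ne hv hw hne with e | e <;>
  · rw [e] at h
    have hcv : classInner (conjFun (τ₁ φ)) (conjFun (τ₁ φ)) = 1 := by
      have : classInner (conjFun (τ₁ φ)) (conjFun (τ₁ φ)) = conj (classInner (τ₁ φ) (τ₁ φ)) := by
        simp [classInner, conjFun, map_sum]
      rw [this, hvn, map_one]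
    have hvv' : classInner (τ₁ φ) (conjFun (τ₁ φ)) = 0 := by
      rw [← classInner_conj_symm, hvv, map_zero]
    simp only [show conjFun (-τ₁ φ) = -conjFun (τ₁ φ) from funext fun g => by simp [conjFun],
      classInner_sub_left, classInner_sub_right, classInner_neg_right, hvn, hcv, hvv, hvv'] at h
    norm_num at h

omit hA hc hodd hA' in
omit [K.Normal] [K'.Normal] in
/-- The cross coefficients are proportional to the degrees. -/
theorem cross_coeff {ψ : ↥L' → ℂ} (hψ : ψ ∈ inducedIrrAbove K' ⊥) :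
    classInner (beta A L R K ζ) (τ₂ ψ) =
      ψ 1 / ξ 1 * classInner (beta A L R K ζ) (τ₂ ξ) := by
  obtain ⟨d, -, hd, -⟩ := hc'.degree_div hψ
  have h := dade_disjoint_orth hD hD' hdis (indOne K - ζ) (ψ - (ψ 1 / ξ 1) • ξ)
  rw [hc'.image_sub hψ, classInner_sub_right, classInner_smul_right, hd, Complex.conj_natCast,
    sub_eq_zero] at h
  rw [hd]
  exact h

/-- Peterfalvi (7.9): the two cross coefficients have odd sum. -/
theorem parity : ∃ b b' : ℤ, classInner (beta A L R K ζ) (τ₂ ξ) = (b : ℂ) ∧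
    classInner (beta A' L' R' K' ξ) (τ₁ ζ) = (b' : ℂ) ∧ Odd (b + b') := by
  obtain ⟨-, -, -, hgc⟩ := hc.isometry
  obtain ⟨-, -, -, hgc'⟩ := hc'.isometry
  have hv := hgc _ (subset_zspan hc.mem)
  have hw := hgc' _ (subset_zspan hc'.mem)
  obtain ⟨b, hb⟩ := classInner_gc_int (hc.beta_gc hD hA) hw
  obtain ⟨b', hb'⟩ := classInner_gc_int (hc'.beta_gc hD' hA') hv
  refine ⟨b, b', hb, hb', ?_⟩
  have h1G : IsGeneralizedCharacter G (fun _ => (1 : ℂ)) := isGC_of_isCharacter isCharacter_one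
  set P := beta A L R K ζ + τ₁ ζ with hP
  set Q := beta A' L' R' K' ξ + τ₂ ξ with hQ
  have h11 : classInner (fun _ : G => (1 : ℂ)) (fun _ => 1) = 1 :=
    classInner_irr_self isIrrCharacter_one
  have hQ1 : classInner Q (fun _ => 1) = 1 := by
    rw [hQ, classInner_add_left, hc'.beta_one hD' hA', hc'.inner_one hD' hA' hc'.mem, add_zero]
  have hP1 : classInner P (fun _ => 1) = 1 := by
    rw [hP, classInner_add_left, hc.beta_one hD hA, hc.inner_one hD hA hc.mem, add_zero]
  obtain ⟨n, hn⟩ := real_inner_even hodd (D := P - fun _ => 1) (D' := Q)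
    (isGC_sub (isGC_add (hc.beta_gc hD hA) hv) h1G) (isGC_add (hc'.beta_gc hD' hA') hw)
    (by rw [conjFun_sub', hP, hc.beta_add_real hD hA hodd, conjFun_one'])
    (hc'.beta_add_real hD' hA' hodd)
    (by rw [classInner_sub_left, hP1, h11, sub_self])
  rw [classInner_sub_left, ← classInner_conj_symm Q (fun _ => 1), hQ1, map_one] at hn
  have h0 : classInner (τ₁ ζ) (τ₂ ξ) = 0 :=
    hc.image_orth hD hA hodd hD' hA' hc' hdis hc.mem hc.irr hc'.mem hc'.irr
  rw [hP, hQ, classInner_add_left, classInner_add_right, classInner_add_right, h0, hb,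
    ← classInner_conj_symm (beta A' L' R' K' ξ) (τ₁ ζ), hb', map_intCast,
    beta, beta, dade_disjoint_orth hD hD' hdis, zero_add, add_zero] at hn
  have hz : b + b' = 2 * n + 1 := by
    have hh : ((b + b' : ℤ) : ℂ) = ((2 * n + 1 : ℤ) : ℂ) := by push_cast at hn ⊢; linear_combination hn
    exact_mod_cast hh
  exact ⟨n, hz⟩

omit hodd in
/-- The norm bound on a cross coefficient. -/
theorem cross_bound (hsmall : 2 * K.index + 1 ≤ Nat.card K)
    (horth : ∀ φ ∈ inducedIrrAbove K ⊥, ∀ ψ ∈ inducedIrrAbove K' ⊥,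
      classInner (τ₁ φ) (τ₂ ψ) = 0) {b : ℤ}
    (hb : classInner (beta A L R K ζ) (τ₂ ξ) = (b : ℂ)) :
    (b : ℝ) ^ 2 * (((Nat.card K' : ℝ) - 1) / (K'.index : ℝ)) ≤ (K.index : ℝ) - 1 := by
  classical
  obtain ⟨a, ha, -⟩ := hc.coeff hD hA
  obtain ⟨Γ, hΓ1, -, hdec, hnorm⟩ := hc.beta_decomposition hD hA ha
  obtain ⟨-, -, hiso', -⟩ := hc'.isometry
  set S := (indSet K').erase (indOne K') with hS
  have hΓψ : ∀ ψ ∈ S, classInner Γ (τ₂ ψ) = ψ 1 / ξ 1 * (b : ℂ) := by
    intro ψ hψ
    have hψS := mem_erase.1 hψ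
    have h := congrArg (fun f => classInner f (τ₂ ψ)) hdec
    simp only [classInner_add_left, classInner_sub_left, classInner_smul_left,
      classInner_sum_left] at h
    rw [Coh.cross_coeff hD hD' hc' hdis hψS, hb, horth _ hc.mem _ hψS,
      Finset.sum_eq_zero (fun φ hφ => by rw [horth _ (mem_erase.1 hφ) _ hψS, mul_zero]),
      ← classInner_conj_symm (τ₂ ψ) (fun _ => 1), hc'.inner_one hD' hA' hψS, map_zero] at h
    simpa using h.symm
  have hconj : ∀ ψ ∈ S, conj ((b : ℂ) * (ψ 1 / ξ 1 / classInner ψ ψ)) =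
      (b : ℂ) * (ψ 1 / ξ 1 / classInner ψ ψ) := by
    intro ψ hψ
    obtain ⟨d, -, hd, -⟩ := hc'.degree_div (mem_erase.1 hψ)
    rw [map_mul, hd, map_div₀, map_intCast, Complex.conj_natCast, classInner_conj_symm]
  set Y := ∑ ψ ∈ S, ((b : ℂ) * (ψ 1 / ξ 1 / classInner ψ ψ)) • τ₂ ψ with hY
  set t : ℂ := (b : ℂ) ^ 2 * (((Nat.card K' : ℂ) - 1) / (K'.index : ℂ)) with ht
  have hsq := hc'.sum_sq
  have hYY : classInner Y Y = t := by
    rw [ht, ← hsq, Finset.mul_sum, hY, classInner_sum_left]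
    refine Finset.sum_congr rfl fun ψ hψ => ?_
    rw [classInner_smul_left, classInner_sum_right, Finset.sum_eq_single ψ, classInner_smul_right,
      hconj ψ hψ, hiso' _ (subset_zspan (mem_erase.1 hψ)) _ (subset_zspan (mem_erase.1 hψ))]
    · have hn : classInner ψ ψ ≠ 0 := fun h =>
        (indSet_facts K' (Finset.mem_of_mem_erase hψ)).2.2 (classInner_self_eq_zero.1 h)
      field_simp
    · intro ψ' hψ' hne
      rw [classInner_smul_right, hiso' _ (subset_zspan (mem_erase.1 hψ)) _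
        (subset_zspan (mem_erase.1 hψ')), indSet_orth K' (Finset.mem_of_mem_erase hψ)
        (Finset.mem_of_mem_erase hψ') (Ne.symm hne), mul_zero]
    · exact fun h => absurd hψ h
  have hΓY : classInner Γ Y = t := by
    rw [ht, ← hsq, Finset.mul_sum, hY, classInner_sum_right]
    refine Finset.sum_congr rfl fun ψ hψ => ?_
    rw [classInner_smul_right, hconj ψ hψ, hΓψ ψ hψ]
    ring
  have htr : t = (((b : ℝ) ^ 2 * (((Nat.card K' : ℝ) - 1) / (K'.index : ℝ)) : ℝ) : ℂ) := by
    rw [ht]; push_cast; rfl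
  have hpos := classInner_self_re_nonneg (Γ - Y)
  rw [classInner_sub_left, classInner_sub_right, classInner_sub_right, hΓY, hYY,
    ← classInner_conj_symm Γ Y, hΓY, htr, Complex.conj_ofReal] at hpos
  simp only [Complex.sub_re, Complex.ofReal_re] at hpos
  have := gamma_le hsmall hnorm
  linarith

end Coh

end Cfsg.Agent.Peterfalvi
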