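import Cfsg.Agent.Lib.Peterfalvi.Sec9Theta

/-!
# Peterfalvi (9.8)-(9.10) (owner: helper44)

* `Hyp9.reducible_core_ind`, `nonGalois_characters`, `galois_characters`, `reducible_core_cases`:
  the fields of `Sec9Facts`
* `Hyp9.fullSet`, `card_fullSet`, `full_fix`: the characters nontrivial on every line
-/

set_option autoImplicit false
set_option linter.style.haveILetI false
set_option linter.unusedSectionVars false

namespace Cfsg.Agent.Peterfalvi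

open scoped Pointwise commutatorElement
open Cfsg OddMax

universe u

variable {G : Type u} [Group G]

theorem commutator_sup_le {A B Y : Subgroup G} (hA : A ≤ Subgroup.normalizer (Y : Set G))
    (hB : B ≤ Subgroup.normalizer (Y : Set G)) (h1 : ⁅A, A⁆ ≤ Y) (h2 : ⁅A, B⁆ ≤ Y)
    (h3 : ⁅B, B⁆ ≤ Y) : ⁅A ⊔ B, A ⊔ B⁆ ≤ Y := by
  set N := Subgroup.normalizer (Y : Set G)
  haveI : (Y.subgroupOf N).Normal := Subgroup.normal_in_normalizer
  let π := QuotientGroup.mk' (Y.subgroupOf N)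
  have key : ∀ {X Z : Subgroup G}, X ≤ N → Z ≤ N → (⁅X, Z⁆ ≤ Y ↔
      ⁅(X.subgroupOf N).map π, (Z.subgroupOf N).map π⁆ = ⊥) := by
    intro X Z hX hZ
    rw [← Subgroup.map_commutator, Subgroup.map_eq_bot_iff, QuotientGroup.ker_mk']
    constructor
    · intro h x hx
      refine Subgroup.mem_subgroupOf.2 (h ?_)
      have h' := Subgroup.mem_map_of_mem N.subtype hx
      rw [Subgroup.map_commutator, Subgroup.map_subgroupOf_eq_of_le hX,
        Subgroup.map_subgroupOf_eq_of_le hZ] at h'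
      exact h'
    · intro h x hx
      have h' : x ∈ (⁅X.subgroupOf N, Z.subgroupOf N⁆).map N.subtype := by
        rw [Subgroup.map_commutator, Subgroup.map_subgroupOf_eq_of_le hX,
          Subgroup.map_subgroupOf_eq_of_le hZ]
        exact hx
      obtain ⟨y, hy, rfl⟩ := h'
      exact h hy
  rw [key (sup_le hA hB) (sup_le hA hB), Subgroup.subgroupOf_sup hA hB, Subgroup.map_sup,
    Subgroup.commutator_eq_bot_iff_le_centralizer]
  have c1 := (key hA hA).1 h1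
  have c2 := (key hA hB).1 h2
  have c3 := (key hB hB).1 h3
  rw [Subgroup.commutator_eq_bot_iff_le_centralizer] at c1 c2 c3
  exact sup_le (Subgroup.le_centralizer_iff.2 (sup_le c1 (Subgroup.le_centralizer_iff.1 c2)))
    (Subgroup.le_centralizer_iff.2 (sup_le c2 c3))

/-- Two characters of a normal subgroup inducing the same function are conjugate. -/
theorem exists_conj_of_ind_eq {L : Type u} [Group L] [Fintype L] {K : Subgroup L} [K.Normal]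
    [Fintype K] {θ θ' : K → ℂ} (hθ : IsIrrCharacter K θ) (hθ' : IsIrrCharacter K θ')
    (he : indFun K θ = indFun K θ') : ∃ x : L, CliffordChar.conjFun K x θ = θ' := by
  classical
  by_contra hno
  push Not at hno
  have h2 : CliffordChar.orbitSum K θ = CliffordChar.orbitSum K θ' := by
    funext n
    have h1 := congrFun he (n : L)
    rw [CliffordChar.indFun_coe, CliffordChar.indFun_coe] at h1
    exact mul_left_cancel₀ (inv_ne_zero (Nat.cast_ne_zero.2 Nat.card_pos.ne')) h1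
  refine CliffordChar.orbitSum_inner_self_ne_zero K hθ' ?_
  rw [← h2, CliffordChar.classInner_orbitSum K hθ hθ',
    Finset.filter_false_of_mem fun x _ => hno x]
  simp

variable [Fintype G] {M W₁ U W₂ H₀ : Subgroup G}

theorem irrD_finite {N Y : Subgroup G} : (irrD M N Y).Finite :=
  (Set.finite_range fun χ : IrrCharacter ↥(derivedIn M) => (χ : ↥(derivedIn M) → ℂ)).subset
    fun θ hθ => ⟨⟨θ, hθ.1⟩, rfl⟩

theorem irrD_mono {N Y Y' : Subgroup G} (hY : Y' ≤ Y) : irrD M N Y ⊆ irrD M N Y' :=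
  fun _ hθ => ⟨hθ.1, fun a ha => hθ.2.1 a (hY ha), hθ.2.2⟩

theorem card_facChars_comm {V Y : Subgroup G} (hYV : Y ≤ V) (hc : ⁅V, V⁆ ≤ Y) :
    (facChars V Y).ncard = Y.relIndex V := by
  haveI : (Y.subgroupOf V).Normal := ⟨fun z hz g => by
    show (g : G) * z * (g : G)⁻¹ ∈ Y
    rw [show (g : G) * z * (g : G)⁻¹ = ⁅(g : G), (z : G)⁆ * z by rw [commutatorElement_def]; group]
    exact mul_mem (hc (Subgroup.commutator_mem_commutator g.2 z.2)) hz⟩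
  exact card_facChars hYV fun x hx y hy =>
    hc (Subgroup.commutator_mem_commutator hx hy)

namespace Hyp9

section Basic

theorem index_derived [Fintype ↥M] (h : Hyp9 M W₁ U W₂) : (derivedIn M).index = Nat.card W₁ := by
  show ⁅M, M⁆.relIndex M = _
  exact Nat.eq_of_mul_eq_mul_left Nat.card_pos
    ((card_mul_relIndex (derived_le M)).trans (compl_card h.data.W₁_compl).symm)

/-- `H₀ C''` is normal in `M'`. -/
theorem sup_normalized (h : Hyp9 M W₁ U W₂) (hK : IsChiefKernel M U H₀) {D : Subgroup G}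
    (hDC : D ≤ stabC M U H₀) (hD : U ≤ Subgroup.normalizer (D : Set G)) :
    ⁅M, M⁆ ≤ Subgroup.normalizer ((H₀ ⊔ D : Subgroup G) : Set G) := by
  rw [← h.M'_eq]
  refine _root_.sup_le (fun a ha => Coprime.mem_normalizer_of_forall fun z hz => ?_)
    (fun v hv => Coprime.mem_normalizer_of_forall fun z hz => ?_)
  · have hle : H₀ ⊔ D ≤ (H₀ ⊔ D).comap (MulAut.conj a).toMonoidHom := by
      refine _root_.sup_le (fun c hc => Subgroup.mem_sup_left
        (conj_mem_of_le_normalizer hK.normal (OddTypeP.fittingHallOf_le M ha) hc)) fun c hc => ?_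
      show a * c * a⁻¹ ∈ H₀ ⊔ D
      have h1 := (hDC hc).2.2.2 a⁻¹ (inv_mem ha)
      rw [inv_inv] at h1
      rw [show a * c * a⁻¹ = a * (c * a⁻¹ * c⁻¹) * c by group]
      exact mul_mem (Subgroup.mem_sup_left h1) (Subgroup.mem_sup_right hc)
    exact hle hz
  · have hle : H₀ ⊔ D ≤ (H₀ ⊔ D).comap (MulAut.conj v).toMonoidHom :=
      _root_.sup_le (fun c hc => Subgroup.mem_sup_left
        (conj_mem_of_le_normalizer hK.normal (h.le_M.2.2.2.2 hv) hc))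
        fun c hc => Subgroup.mem_sup_right (conj_mem_of_le_normalizer hD hv hc)
    exact hle hz

theorem triv_sup (h : Hyp9 M W₁ U W₂) (hK : IsChiefKernel M U H₀) {V D : Subgroup G}
    {f : G → ℂˣ} [Fintype ↥M] [Fintype ↥(derivedIn M)] (hT : ThetaData M U H₀ V f)
    (hDC : D ≤ stabC M U H₀) (hD : U ≤ Subgroup.normalizer (D : Set G)) (hDV : D ≤ V)
    (hf : ∀ y ∈ D, f y = 1) :
    ∀ x ∈ ⁅M, M⁆, ∀ y ∈ H₀ ⊔ D,
      x⁻¹ * y * x ∈ fittingHallOf M ⊔ V ∧ f (x⁻¹ * y * x) = 1 := by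
  intro x hx y hy
  let K : Subgroup G :=
    { carrier := {z | z ∈ fittingHallOf M ⊔ V ∧ f z = 1}
      one_mem' := ⟨one_mem _, hT.ker 1 (one_mem _)⟩
      mul_mem' := fun {a b} ha hb => ⟨mul_mem ha.1 hb.1, by
        rw [hT.mul _ ha.1 _ hb.1, ha.2, hb.2, mul_one]⟩
      inv_mem' := fun {a} ha => ⟨inv_mem ha.1, by rw [hT.map_inv ha.1, ha.2, inv_one]⟩ }
  have hle : H₀ ⊔ D ≤ K := _root_.sup_le
    (fun z hz => ⟨Subgroup.mem_sup_left (hK.le hz), hT.ker z hz⟩)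
    fun z hz => ⟨Subgroup.mem_sup_right (hDV hz), hf z hz⟩
  refine hle ?_
  simpa using conj_mem_of_le_normalizer (h.sup_normalized hK hDC hD) (inv_mem hx) hy

theorem stabC_le_U : stabC M U H₀ ≤ U := inf_le_left

theorem U_normalizes_stabC (hG : IsMinSimpleOddOrder G) (h : Hyp9 M W₁ U W₂)
    (hK : IsChiefKernel M U H₀) : U ≤ Subgroup.normalizer (stabC M U H₀ : Set G) :=
  le_sup_left.trans (h.factor hG hK).2.2.2.2.2.2.1

theorem commC_le (hG : IsMinSimpleOddOrder G) (h : Hyp9 M W₁ U W₂) (hK : IsChiefKernel M U H₀) :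
    ⁅stabC M U H₀, stabC M U H₀⁆ ≤ stabC M U H₀ ∧
      U ≤ Subgroup.normalizer ((⁅stabC M U H₀, stabC M U H₀⁆ : Subgroup G) : Set G) := by
  refine ⟨Subgroup.commutator_le_self _, fun v hv => Coprime.mem_normalizer_of_forall fun z hz => ?_⟩
  have h1 := Subgroup.mem_map_of_mem (MulAut.conj v).toMonoidHom hz
  rw [Subgroup.map_commutator] at h1
  refine Subgroup.commutator_mono ?_ ?_ h1 <;>
  · rintro _ ⟨c, hc, rfl⟩
    exact conj_mem_of_le_normalizer (h.U_normalizes_stabC hG hK) hv hc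

theorem p_odd (hG : IsMinSimpleOddOrder G) (h : Hyp9 M W₁ U W₂) (hK : IsChiefKernel M U H₀) :
    Odd (factorPrime W₂ H₀) :=
  (OddSigma.odd_card hG W₂).of_dvd_nat (Dvd.intro_left _ (card_mul_relIndex inf_le_left))

theorem relIndex_pos {X : Subgroup G} : 0 < X.relIndex U :=
  Nat.pos_of_ne_zero Subgroup.index_ne_zero_of_finite

end Basic

section Degrees

variable [Fintype ↥M] [Fintype ↥(derivedIn M)]

/-- The inertia group of a linear character of `H`. -/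
theorem inertia_fac (h : Hyp9 M W₁ U W₂) (hK : IsChiefKernel M U H₀)
    (l : ↥(inD M (fittingHallOf M)) →* ℂˣ) (hl1 : l ≠ 1)
    (hl0 : ∀ n : inD M (fittingHallOf M), (n : ↥(derivedIn M)) ∈ inD M H₀ → l n = 1) :
    ∃ l' ∈ facChars (fittingHallOf M) H₀, l' ≠ 1 ∧
      (haveI := h.inD_H_normal
       CharApp.inertia (inD M (fittingHallOf M)) (CyclicTI.lin l) =
        inD M (fittingHallOf M ⊔ (U ⊓ fixSub (fittingHallOf M) l'))) := by
  classical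
  haveI := h.inD_H_normal
  let l' : G → ℂˣ := fun x =>
    if hx : x ∈ fittingHallOf M then l ⟨liftD M x (h.le_M.1 hx), hx⟩ else 1
  have hl' : ∀ (n : inD M (fittingHallOf M)), l' (((n : ↥(derivedIn M)) : ↥M) : G) = l n :=
    fun n => dif_pos n.2
  have hfac : l' ∈ facChars (fittingHallOf M) H₀ := by
    refine ⟨fun x hx y hy => ?_, fun x hx => ?_, fun x hx => dif_neg hx⟩
    · simp only [l', dif_pos hx, dif_pos hy, dif_pos (mul_mem hx hy), ← map_mul]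
      rfl
    · simp only [l', dif_pos (hK.le hx)]
      exact hl0 _ hx
  refine ⟨l', hfac, fun e => hl1 (MonoidHom.ext fun n => by rw [← hl', e]; rfl), ?_⟩
  ext g
  rw [CharApp.mem_inertia_iff]
  obtain ⟨a, ha, v, hv, hav⟩ := h.exists_mul (show ((g : ↥M) : G) ∈ ⁅M, M⁆ from g.2)
  have hvx : ∀ x ∈ fittingHallOf M, v * x * v⁻¹ ∈ fittingHallOf M := fun x hx =>
    conj_mem_of_le_normalizer h.H_normalized (h.le_M.2.1 hv) hx
  have key : ∀ n : inD M (fittingHallOf M),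
      l' (((g : ↥M) : G) * (((n : ↥(derivedIn M)) : ↥M) : G) * ((g : ↥M) : G)⁻¹) =
        l' (v * (((n : ↥(derivedIn M)) : ↥M) : G) * v⁻¹) := fun n => by
    rw [← hav, show a * v * (((n : ↥(derivedIn M)) : ↥M) : G) * (a * v)⁻¹ =
      a * (v * (((n : ↥(derivedIn M)) : ↥M) : G) * v⁻¹) * a⁻¹ by group]
    exact fac_conj_self hfac ha (hvx _ n.2)
  constructor
  · intro hg
    rw [mem_inD, ← hav]
    refine mul_mem (Subgroup.mem_sup_left ha) (Subgroup.mem_sup_right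
      ⟨hv, h.H_normalized (h.le_M.2.1 hv), fun x hx => ?_⟩)
    have h1 := Units.ext (hg ⟨liftD M x (h.le_M.1 hx), hx⟩)
    rw [← hl', ← hl'] at h1
    exact (key ⟨liftD M x (h.le_M.1 hx), hx⟩).symm.trans h1
  · intro hg n
    rw [mem_inD, ← hav] at hg
    have hXn : U ⊓ fixSub (fittingHallOf M) l' ≤ Subgroup.normalizer (fittingHallOf M : Set G) :=
      fun w hw => hw.2.1
    obtain ⟨c, hc, w, hw, e⟩ := (Coprime.mem_sup_iff hXn).1 hg
    have hwv : c⁻¹ * a = w * v⁻¹ := by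
      calc c⁻¹ * a = c⁻¹ * (a * v) * v⁻¹ := by group
        _ = c⁻¹ * (c * w) * v⁻¹ := by rw [e]
        _ = _ := by group
    have h2 : c⁻¹ * a ∈ fittingHallOf M ⊓ U :=
      Subgroup.mem_inf.2 ⟨mul_mem (inv_mem hc) ha, hwv ▸ mul_mem hw.1 (inv_mem hv)⟩
    rw [h.H_U_inf, Subgroup.mem_bot] at h2
    rw [h2] at hwv
    have hwv' : w = v := by rw [eq_mul_inv_iff_mul_eq, one_mul] at hwv; exact hwv.symm
    subst hwv'
    refine congrArg Units.val ?_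
    rw [← hl', ← hl']
    exact (key n).trans (hw.2.2 _ n.2)

/-- The degrees of the members of `irrD M H H₀`: multiples of an index `[U : U_λ]`. -/
theorem exists_degree_factor (hG : IsMinSimpleOddOrder G) (h : Hyp9 M W₁ U W₂)
    (hK : IsChiefKernel M U H₀) {θ : ↥(derivedIn M) → ℂ}
    (hθ : θ ∈ irrD M (fittingHallOf M) H₀) :
    ∃ l ∈ facChars (fittingHallOf M) H₀, l ≠ 1 ∧ ∃ n : ℕ,
      θ 1 = ((n * (U ⊓ fixSub (fittingHallOf M) l).relIndex U : ℕ) : ℂ) := by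
  haveI := h.inD_H_normal
  obtain ⟨a, ha, hne⟩ := hθ.2.2
  obtain ⟨l, hl1, hl0, k, hk⟩ := Lin9.exists_linear_below (inD M (fittingHallOf M)) hθ.1
    (inD M H₀) (fun x hx y hy => comm_mem hK _ hx _ hy) (fun x hx => hθ.2.1 x hx) ⟨⟨a, ha⟩, hne⟩
  obtain ⟨l', hl', hl'1, hI⟩ := h.inertia_fac hK l hl1 hl0
  refine ⟨l', hl', hl'1, k, hk.trans ?_⟩
  rw [hI, index_inD, h.relIndex_sup inf_le_left]

end Degrees

/-- A linear character of `H C` from one of `inD M (H C)`. -/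
theorem isIndHC_of_linInd [Fintype ↥M] [Fintype ↥(derivedIn M)] (h : Hyp9 M W₁ U W₂)
    (ξ : ↥(inD M (fittingHallOf M ⊔ stabC M U H₀)) →* ℂˣ) :
    IsIndHC M U H₀ (indFun (derivedIn M) (Lin9.linInd _ ξ)) := by
  have hle : (fittingHallOf M ⊔ stabC M U H₀).subgroupOf M ≤ derivedIn M := fun _ ha =>
    (_root_.sup_le h.le_M.1 (stabC_le_U.trans h.le_M.2.1) :
      fittingHallOf M ⊔ stabC M U H₀ ≤ ⁅M, M⁆) ha
  let ξ' : ↥((fittingHallOf M ⊔ stabC M U H₀).subgroupOf M) →* ℂˣ :=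
    MonoidHom.mk' (fun a => ξ ⟨⟨(a : ↥M), hle a.2⟩, a.2⟩) fun a b => by
      rw [← map_mul]; rfl
  refine ⟨CyclicTI.lin ξ', CyclicTI.lin_irr ξ', by simp [CyclicTI.lin], ?_⟩
  exact Char.indFun_trans _ (derivedIn M) hle (CyclicTI.lin ξ')

theorem isIndHC_theta [Fintype ↥M] [Fintype ↥(derivedIn M)] (h : Hyp9 M W₁ U W₂) {f : G → ℂˣ}
    (hT : ThetaData M U H₀ (stabC M U H₀) f) :
    IsIndHC M U H₀ (indFun (derivedIn M) (thetaOf M (fittingHallOf M ⊔ stabC M U H₀) f)) := by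
  rw [thetaOf_eq hT.mul]
  exact h.isIndHC_of_linInd _

theorem ind_degree [Fintype ↥M] (h : Hyp9 M W₁ U W₂) {θ : ↥(derivedIn M) → ℂ} {d : ℕ}
    (hd : θ 1 = (d : ℂ)) : indFun (derivedIn M) θ 1 = ((Nat.card W₁ * d : ℕ) : ℂ) := by
  rw [Char.indFun_one_apply, h.index_derived, hd]
  push_cast
  rfl

theorem conj_derived [Fintype ↥M] {θ : ↥(derivedIn M) → ℂ}
    (hθ : IsClassFunction ↥(derivedIn M) θ) {g : ↥M} (hg : g ∈ derivedIn M) :
    CliffordChar.conjFun (derivedIn M) g θ = θ :=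
  CharApp.le_inertia (derivedIn M) hθ hg

/-- A character fixed by `W₁` is fixed by `M`. -/
theorem conj_fixed [Fintype ↥M] (h : Hyp9 M W₁ U W₂) {θ : ↥(derivedIn M) → ℂ}
    (hθ : IsClassFunction ↥(derivedIn M) θ)
    (hW : ∀ (e : G) (he : e ∈ W₁),
      CliffordChar.conjFun (derivedIn M) ⟨e, h.le_M.2.2.2.1 he⟩ θ = θ) (g : ↥M) :
    CliffordChar.conjFun (derivedIn M) g θ = θ := by
  obtain ⟨a, ha, e, he, hae⟩ := h.exists_M_mul g.2
  rw [show g = (⟨a, derived_le M ha⟩ : ↥M) * ⟨e, h.le_M.2.2.2.1 he⟩ from Subtype.ext hae.symm,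
    CliffordChar.conjFun_mul, hW e he, conj_derived hθ ha]

section Fixed

/-- `θ_l` for a character `l` fixed by `W₁`. -/
theorem exists_fixed_theta (hG : IsMinSimpleOddOrder G) (h : Hyp9 M W₁ U W₂)
    (hK : IsChiefKernel M U H₀) [Fintype ↥M] [Fintype ↥(derivedIn M)] {l : G → ℂˣ}
    (hl : l ∈ facChars (fittingHallOf M) H₀) (hl1 : l ≠ 1)
    (hW : W₁ ≤ fixSub (fittingHallOf M) l) :
    ∃ f : G → ℂˣ, ThetaData M U H₀ (stabC M U H₀) f ∧ (∀ x ∈ fittingHallOf M, f x = l x) ∧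
      thetaOf M (fittingHallOf M ⊔ stabC M U H₀) f ∈
        irrD M (fittingHallOf M) (H₀ ⊔ stabC M U H₀) ∧
      ∀ g : ↥M, CliffordChar.conjFun (derivedIn M) g
        (thetaOf M (fittingHallOf M ⊔ stabC M U H₀) f) =
          thetaOf M (fittingHallOf M ⊔ stabC M U H₀) f := by
  set C := stabC M U H₀ with hC
  set H := fittingHallOf M with hH
  have hfix : C ≤ fixSub H l := (stabC_le_fix hK hl).trans inf_le_right
  obtain ⟨f, hmul, hfH, hfC⟩ := exists_ext hl hfix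
    (le_bot_iff.1 (h.H_U_inf ▸ inf_le_inf_left _ stabC_le_U)) (fun _ => 1)
    fun _ _ _ _ => (mul_one 1).symm
  have hT : ThetaData M U H₀ C f := by
    refine ⟨stabC_le_U, hmul, fun x hx => ?_, ?_, fun v hv =>
      h.fix_le_stabC hG hK hl hl1 hW ⟨hv.1, hv.2.1, fun x hx => ?_⟩⟩
    · rw [hfH x (hK.le hx)]; exact hl.2.1 x hx
    · obtain ⟨x, hx, hx1⟩ := exists_ne_one hl hl1
      exact ⟨x, hx, by rwa [hfH x hx]⟩
    · rw [← hfH _ ((Subgroup.mem_normalizer_iff.1 hv.2.1 x).1 hx), ← hfH x hx]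
      exact hv.2.2 x hx
  refine ⟨f, hT, hfH, hT.mem_irrD h (h.triv_sup hK hT le_rfl (h.U_normalizes_stabC hG hK) le_rfl
    fun y hy => hfC y hy), ?_⟩
  have hCW : W₁ ≤ Subgroup.normalizer (C : Set G) := le_sup_right.trans (h.factor hG hK).2.2.2.2.2.2.1
  have hHW : ∀ e ∈ W₁, e ∈ Subgroup.normalizer (H : Set G) := fun e he =>
    le_normalizer_fittingHallOf M (h.le_M.2.2.2.1 he)
  have hinv : ∀ e ∈ W₁, ∀ x ∈ H ⊔ C, ∃ hx : e * x * e⁻¹ ∈ H ⊔ C, f (e * x * e⁻¹) = f x := by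
    intro e he x hx
    have hCn : C ≤ Subgroup.normalizer (H : Set G) := fun c hc => (hfix hc).1
    obtain ⟨a, ha, c, hc, rfl⟩ := (Coprime.mem_sup_iff hCn).1 hx
    have ha' : e * a * e⁻¹ ∈ H := (Subgroup.mem_normalizer_iff.1 (hHW e he) a).1 ha
    have hc' : e * c * e⁻¹ ∈ C := conj_mem_of_le_normalizer hCW he hc
    have e1 : e * (a * c) * e⁻¹ = e * a * e⁻¹ * (e * c * e⁻¹) := by group
    refine ⟨e1 ▸ Subgroup.mul_mem_sup ha' hc', ?_⟩
    rw [e1, hmul _ (Subgroup.mem_sup_left ha') _ (Subgroup.mem_sup_right hc'),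
      hmul _ (Subgroup.mem_sup_left ha) _ (Subgroup.mem_sup_right hc), hfH _ ha', hfH _ ha,
      hfC _ hc', hfC _ hc, (hW he).2 a ha]
  refine h.conj_fixed (Char.IsIrrCharacter.isClassFunction (hT.irr h)) fun e he => ?_
  funext n
  rw [CliffordChar.conjFun_apply]
  simp only [thetaOf, indFun]
  congr 1
  let σ : ↥(derivedIn M) ≃ ↥(derivedIn M) :=
    (MulAut.conjNormal (⟨e, h.le_M.2.2.2.1 he⟩ : ↥M) :
      ↥(derivedIn M) ≃* ↥(derivedIn M)).toEquiv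
  refine Fintype.sum_equiv σ _ _ fun x => ?_
  rw [Char.extendByZero_eq, Char.extendByZero_eq]
  set y := x⁻¹ * (⟨(⟨e, h.le_M.2.2.2.1 he⟩ : ↥M)⁻¹ * n * ⟨e, h.le_M.2.2.2.1 he⟩, by
    simpa using (derivedIn_normal M).conj_mem n n.2 (⟨e, h.le_M.2.2.2.1 he⟩ : ↥M)⁻¹⟩) * x with hy
  have hval : (((σ x)⁻¹ * n * σ x : ↥(derivedIn M)) : ↥M) = (⟨e, h.le_M.2.2.2.1 he⟩ : ↥M) *
      (y : ↥M) * (⟨e, h.le_M.2.2.2.1 he⟩ : ↥M)⁻¹ := by
    simp only [σ, hy, MulEquiv.toEquiv_eq_coe, MulEquiv.coe_toEquiv, Subgroup.coe_mul,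
      InvMemClass.coe_inv, MulAut.conjNormal_apply]
    group
  have hvalG : ((((σ x)⁻¹ * n * σ x : ↥(derivedIn M)) : ↥M) : G) = e * ((y : ↥M) : G) * e⁻¹ := by
    rw [hval]; rfl
  by_cases hm : y ∈ inD M (H ⊔ C)
  · obtain ⟨h1, h2⟩ := hinv e he _ hm
    have hm' : (σ x)⁻¹ * n * σ x ∈ inD M (H ⊔ C) := by rw [mem_inD, hvalG]; exact h1
    rw [dif_pos hm, dif_pos hm']
    refine congrArg Units.val ?_
    show f ((y : ↥M) : G) = f ((((σ x)⁻¹ * n * σ x : ↥(derivedIn M)) : ↥M) : G)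
    rw [hvalG]
    exact h2.symm
  · have hm' : (σ x)⁻¹ * n * σ x ∉ inD M (H ⊔ C) := by
      intro hc
      rw [mem_inD, hvalG] at hc
      obtain ⟨h1, -⟩ := hinv e⁻¹ (inv_mem he) _ hc
      refine hm ?_
      rw [mem_inD]
      simpa [mul_assoc] using h1
    rw [dif_neg hm, dif_neg hm']

/-- The reducible members come from the fixed characters. -/
theorem reducible_eq_fixed (hG : IsMinSimpleOddOrder G) (h : Hyp9 M W₁ U W₂)
    (hK : IsChiefKernel M U H₀) [Fintype ↥M] [Fintype ↥(derivedIn M)] :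
    let A := {θ ∈ irrD M (fittingHallOf M) H₀ | ¬ IsIrrCharacter ↥M (indFun (derivedIn M) θ)}
    A.ncard = factorPrime W₂ H₀ - 1 ∧ Set.InjOn (indFun (derivedIn M)) A ∧
      ∀ θ ∈ A, ∃ f, ThetaData M U H₀ (stabC M U H₀) f ∧
        θ = thetaOf M (fittingHallOf M ⊔ stabC M U H₀) f ∧
        θ ∈ irrD M (fittingHallOf M) (H₀ ⊔ stabC M U H₀) := by
  classical
  intro A
  haveI := hK.quot_normal
  set H := fittingHallOf M
  set C := stabC M U H₀
  set Fx := {l ∈ facChars H H₀ | W₁ ≤ fixSub H l} \ {1} with hFx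
  have hone : (1 : G → ℂˣ) ∈ {l ∈ facChars H H₀ | W₁ ≤ fixSub H l} :=
    ⟨facChars_one, fun e he => ⟨le_normalizer_fittingHallOf M (h.le_M.2.2.2.1 he), fun _ _ => rfl⟩⟩
  have hcard : Fx.ncard = factorPrime W₂ H₀ - 1 := by
    rw [hFx, Set.ncard_sdiff_singleton_of_mem hone, h.card_fixed hG hK]
  have key : ∀ l ∈ Fx, _ := fun l (hl : l ∈ Fx) =>
    h.exists_fixed_theta hG hK hl.1.1 (fun e => hl.2 e) hl.1.2
  choose! F hF hFl hFm hFfix using key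
  have hmaps : ∀ l ∈ Fx, thetaOf M (H ⊔ C) (F l) ∈ A := fun l hl =>
    ⟨irrD_mono le_sup_left (hFm l hl), h.not_irr_of_fixed (hFm l hl).1 (hFfix l hl)⟩
  have hinj : Set.InjOn (fun l => thetaOf M (H ⊔ C) (F l)) Fx := by
    intro l hl l' hl' e
    obtain ⟨u, hu, hx⟩ := (hF l hl).conj_of_eq (hF l' hl') h (g := 1) (by
      rw [CliffordChar.conjFun_one]; exact e)
    have hx' : ∀ x ∈ H, l' x = l (u⁻¹ * x * u) := fun x hxH => by
      have h1 := hx x hxH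
      rw [hFl l' hl' x hxH] at h1
      rw [h1, hFl l hl _ ?_]
      · simp
      · simpa using conj_mem_of_le_normalizer h.H_normalized (inv_mem (h.le_M.2.1 hu)) hxH
    suffices hC : u ∈ C by
      refine fac_ext hl.1.1 hl'.1.1 fun x hxH => ?_
      rw [hx' x hxH]
      have h1 := (stabC_le_fix hK hl.1.1 (inv_mem hC)).2.2 x hxH
      simpa using h1.symm
    obtain ⟨⟨w, hw⟩, hw1⟩ := Subgroup.ne_bot_iff_exists_ne_one.1 h.data.W₁_ne
    have hw' : w⁻¹ * u⁻¹ * w ∈ U := by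
      simpa using conj_mem_of_le_normalizer h.U_normalized (inv_mem hw) (inv_mem hu)
    have hwC : w⁻¹ * u⁻¹ * w * u ∈ C := by
      refine h.fix_le_stabC hG hK hl.1.1 (fun e => hl.2 e) hl.1.2
        ⟨mul_mem hw' hu, h.H_normalized (h.le_M.2.1 (mul_mem hw' hu)), fun y hy => ?_⟩
      have hz : u * y * u⁻¹ ∈ H := conj_mem_of_le_normalizer h.H_normalized (h.le_M.2.1 hu) hy
      have hwz : w * (u * y * u⁻¹) * w⁻¹ ∈ H :=
        conj_mem_of_le_normalizer (le_normalizer_fittingHallOf M) (h.le_M.2.2.2.1 hw) hz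
      have h1 := (hl'.1.2 hw).2 _ hz
      rw [hx' _ hwz, hx' _ hz] at h1
      have h2 : u⁻¹ * (w * (u * y * u⁻¹) * w⁻¹) * u ∈ H := by
        simpa using conj_mem_of_le_normalizer h.H_normalized (inv_mem (h.le_M.2.1 hu)) hwz
      rw [← (hl.1.2 (inv_mem hw)).2 _ h2] at h1
      rw [show w⁻¹ * (u⁻¹ * (w * (u * y * u⁻¹) * w⁻¹) * u) * w⁻¹⁻¹ =
        w⁻¹ * u⁻¹ * w * u * y * (w⁻¹ * u⁻¹ * w * u)⁻¹ by group,
        show u⁻¹ * (u * y * u⁻¹) * u = y by group] at h1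
      exact h1
    have hwC' := conj_mem_of_le_normalizer (h.U_normalizes_stabC hG hK) hu hwC
    rw [show u * (w⁻¹ * u⁻¹ * w * u) * u⁻¹ = u⁻¹⁻¹ * (w⁻¹ * u⁻¹ * w⁻¹⁻¹) by group] at hwC'
    simpa using inv_mem ((h.factor hG hK).2.2.2.2.2.2.2 w⁻¹ (inv_mem hw)
      (fun e => hw1 (Subtype.ext (inv_eq_one.1 e))) u⁻¹ (inv_mem hu) hwC')
  have hAfin : A.Finite := irrD_finite.subset fun _ hθ => hθ.1
  have himg : (fun l => thetaOf M (H ⊔ C) (F l)) '' Fx = A := by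
    refine Set.eq_of_subset_of_ncard_le (Set.image_subset_iff.2 hmaps) ?_ hAfin
    rw [hinj.ncard_image, hcard]
    exact h.reducible_ncard_le hG hK
  refine ⟨?_, fun θ hθ θ' hθ' e => ?_, fun θ hθ => ?_⟩
  · rw [← himg, hinj.ncard_image, hcard]
  · obtain ⟨g, hg⟩ := exists_conj_of_ind_eq hθ.1.1 hθ'.1.1 e
    rw [← hg, h.fixed_of_reducible hG hθ.1.1 hθ.2]
  · obtain ⟨l, hl, rfl⟩ := himg.ge hθ
    exact ⟨F l, hF l hl, rfl, hFm l hl⟩

/-- Field `reducible_core_ind`. -/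
theorem reducible_core_ind (hG : IsMinSimpleOddOrder G) (h : Hyp9 M W₁ U W₂)
    (hK : IsChiefKernel M U H₀) [Fintype ↥M] :
    {χ ∈ calS M H₀ | ¬ IsIrrCharacter ↥M χ}.ncard = factorPrime W₂ H₀ - 1 ∧
      ∀ χ ∈ calS M H₀, ¬ IsIrrCharacter ↥M χ →
        χ ∈ calS M (H₀ ⊔ stabC M U H₀) ∧
        χ 1 = ((Nat.card W₁ * (stabC M U H₀).relIndex U : ℕ) : ℂ) ∧ IsIndHC M U H₀ χ := by
  haveI := Fintype.ofFinite ↥(derivedIn M)
  obtain ⟨hc, hinj, hall⟩ := h.reducible_eq_fixed hG hK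
  refine ⟨?_, ?_⟩
  · rw [← hc, ← hinj.ncard_image]
    congr 1
    ext χ
    constructor
    · rintro ⟨⟨θ, hθ, rfl⟩, hn⟩
      exact ⟨θ, ⟨hθ, hn⟩, rfl⟩
    · rintro ⟨θ, ⟨hθ, hn⟩, rfl⟩
      exact ⟨⟨θ, hθ, rfl⟩, hn⟩
  · rintro _ ⟨θ, hθ, rfl⟩ hn
    obtain ⟨f, hf, rfl, hm⟩ := hall θ ⟨hθ, hn⟩
    exact ⟨⟨_, hm, rfl⟩, h.ind_degree (hf.degree h), h.isIndHC_theta hf⟩

end Fixed

section Galois

variable [Fintype ↥M] [Fintype ↥(derivedIn M)]

theorem galois_degree (hG : IsMinSimpleOddOrder G) (h : Hyp9 M W₁ U W₂)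
    (hK : IsChiefKernel M U H₀) (hgal : IsGaloisPair M U H₀) {θ : ↥(derivedIn M) → ℂ}
    (hθ : θ ∈ irrD M (fittingHallOf M) (H₀ ⊔ ⁅stabC M U H₀, stabC M U H₀⁆)) :
    θ 1 = ((stabC M U H₀).relIndex U : ℂ) ∧
      ∃ ξ, θ = Lin9.linInd (inD M (fittingHallOf M ⊔ stabC M U H₀)) ξ := by
  haveI := h.inD_H_normal
  set C := stabC M U H₀
  set H := fittingHallOf M
  obtain ⟨a, ha, hne⟩ := hθ.2.2
  have hn := h.sup_normalized hK (h.commC_le hG hK).1 (h.commC_le hG hK).2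
  have hHC : ⁅H, C⁆ ≤ H₀ := by
    rw [Subgroup.commutator_le]
    intro x hx c hc
    have h1 := hc.2.2.2 x⁻¹ (inv_mem hx)
    rw [inv_inv] at h1
    rw [commutatorElement_def]
    simpa [mul_assoc] using h1
  have hab : ⁅H ⊔ C, H ⊔ C⁆ ≤ H₀ ⊔ ⁅C, C⁆ :=
    commutator_sup_le (h.le_M.1.trans hn) ((stabC_le_U.trans h.le_M.2.1).trans hn)
      (hK.comm_le.trans le_sup_left) (hHC.trans le_sup_left) le_sup_right
  obtain ⟨h1, h2⟩ := Lin9.degree_eq_index (inD M H) (inD M (H ⊔ C)) hθ.1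
    (inD M H₀) (inD M (H₀ ⊔ ⁅C, C⁆)) (fun x hx y hy => comm_mem hK _ hx _ hy)
    (fun x hx => hθ.2.1 x (Subgroup.mem_sup_left (S := H₀) hx))
    (fun x hx => hθ.2.1 x hx) ⟨⟨a, ha⟩, hne⟩
    (fun l hl1 hl0 => by
      obtain ⟨l', hl', hl'1, hI⟩ := h.inertia_fac hK l hl1 hl0
      rw [hI, h.galois_fix hG hK hgal hl' hl'1])
    (fun x hx y hy => hab (Subgroup.commutator_mem_commutator hx hy))
  rw [index_inD, h.relIndex_sup stabC_le_U] at h1
  exact ⟨h1, h2⟩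

/-- All members of `S(H₀ C')` reducible: `C = 1` and `U` is as large as possible. -/
theorem galois_all_reducible (hG : IsMinSimpleOddOrder G) (h : Hyp9 M W₁ U W₂)
    (hK : IsChiefKernel M U H₀) (hgal : IsGaloisPair M U H₀)
    (hall : ∀ θ ∈ irrD M (fittingHallOf M) (H₀ ⊔ ⁅stabC M U H₀, stabC M U H₀⁆),
      ¬ IsIrrCharacter ↥M (indFun (derivedIn M) θ)) :
    stabC M U H₀ = ⊥ ∧
      Nat.card U * (factorPrime W₂ H₀ - 1) = factorPrime W₂ H₀ ^ Nat.card W₁ - 1 ∧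
      ∀ v ∈ U, v ≠ 1 → ∀ x ∈ fittingHallOf M, x⁻¹ * (v * x * v⁻¹) ∈ H₀ → x ∈ H₀ := by
  classical
  haveI := hK.quot_normal
  obtain ⟨K, _, _, f, ψ, σ, -, -, hadd, hker, hψ, -, hψ1, -, -, hdvd, -⟩ :=
    h.galois_field hG hK hgal
  set C := stabC M U H₀
  obtain ⟨hCC, hUC⟩ := h.commC_le hG hK
  haveI hn : (⁅C, C⁆.subgroupOf C).Normal := ⟨fun z hz g =>
    conj_mem_of_le_normalizer ((stabC_le_U : C ≤ U).trans hUC) g.2 hz⟩
  have h1 := h.count_theta hK (V := C) (Y := ⁅C, C⁆) hCC stabC_le_U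
    (S := facChars (fittingHallOf M) H₀ \ {1})
    (fun l hl => ⟨hl.1, fun e => hl.2 e, h.galois_fix hG hK hgal hl.1 fun e => hl.2 e⟩)
    (T := {θ ∈ irrD M (fittingHallOf M) H₀ | ¬ IsIrrCharacter ↥M (indFun (derivedIn M) θ)})
    (irrD_finite.subset fun _ hθ => hθ.1) fun f hf _ hfY => by
      have hm := hf.mem_irrD h (h.triv_sup hK hf hCC hUC hCC hfY)
      exact ⟨irrD_mono le_sup_left hm, hall _ hm⟩
  rw [Set.ncard_sdiff_singleton_of_mem facChars_one, h.card_dual hG hK,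
    card_facChars_comm hCC le_rfl] at h1
  have h2 := h1.trans (Nat.mul_le_mul_left _ (h.reducible_ncard_le hG hK))
  have hp := (h.factor hG hK).1
  have hpos : 0 < factorPrime W₂ H₀ ^ Nat.card W₁ - 1 :=
    Nat.sub_pos_of_lt (Nat.one_lt_pow h.prime.ne_zero hp.one_lt)
  have h3 : C.relIndex U * (factorPrime W₂ H₀ - 1) ≤ factorPrime W₂ H₀ ^ Nat.card W₁ - 1 :=
    Nat.le_of_dvd hpos hdvd
  have h4 : ⁅C, C⁆.relIndex C = 1 := le_antisymm
    (Nat.le_of_mul_le_mul_left (h2.trans (h3.trans (mul_one _).ge)) hpos)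
    (Nat.pos_of_ne_zero Subgroup.index_ne_zero_of_finite)
  rw [h4, mul_one] at h2
  have hC : C = ⊥ := by
    haveI : Group.IsSolvable C := h.solvable hG (stabC_le_U.trans h.le_M.2.2.2.2)
    by_contra hne
    haveI : Nontrivial C := (Subgroup.nontrivial_iff_ne_bot C).2 hne
    refine (Group.IsSolvable.commutator_lt_top_of_nontrivial C).ne (top_le_iff.1 fun x _ => ?_)
    have h6 : (x : G) ∈ (⁅(⊤ : Subgroup C), (⊤ : Subgroup C)⁆ : Subgroup C).map C.subtype := by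
      rw [Subgroup.map_commutator, ← MonoidHom.range_eq_map, C.range_subtype]
      exact Subgroup.relIndex_eq_one.1 h4 x.2
    obtain ⟨y, hy, hyx⟩ := h6
    rwa [← show y = x from Subtype.ext hyx]
  refine ⟨hC, ?_, fun v hv hv1 x hx hm => ?_⟩
  · have h5 : C.relIndex U = Nat.card U := by rw [hC, Subgroup.relIndex_bot_left]
    rw [h5] at h2 h3
    exact le_antisymm h3 h2
  · have hψne : ψ v - 1 ≠ 0 := fun e => hv1 (by
      have := (hψ1 v hv).1 (sub_eq_zero.1 e)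
      rwa [hC, Subgroup.mem_bot] at this)
    have hvx : v * x * v⁻¹ ∈ fittingHallOf M :=
      conj_mem_of_le_normalizer h.H_normalized (h.le_M.2.1 hv) hx
    have hinv : f x⁻¹ = -f x := by
      rw [eq_neg_iff_add_eq_zero, ← hadd _ (inv_mem hx) _ hx, inv_mul_cancel,
        (hker 1 (one_mem _)).2 (one_mem _)]
    have h7 := (hker _ (mul_mem (inv_mem hx) hvx)).2 hm
    rw [hadd _ (inv_mem hx) _ hvx, hinv, (hψ v hv).2 x hx] at h7
    rw [← hker x hx]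
    exact (mul_eq_zero.1 (by rw [sub_mul, one_mul, sub_eq_neg_add]; exact h7 :
      (ψ v - 1) * f x = 0)).resolve_left hψne

end Galois

/-- Field `galois_characters`. -/
theorem galois_characters (hG : IsMinSimpleOddOrder G) (h : Hyp9 M W₁ U W₂)
    (hK : IsChiefKernel M U H₀) (hgal : IsGaloisPair M U H₀) [Fintype ↥M] :
    (∀ θ ∈ irrD M (fittingHallOf M) H₀, ∃ n : ℕ,
      θ 1 = ((n * (stabC M U H₀).relIndex U : ℕ) : ℂ)) ∧
    (∀ θ ∈ irrD M (fittingHallOf M) (H₀ ⊔ ⁅stabC M U H₀, stabC M U H₀⁆),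
      θ 1 = ((stabC M U H₀).relIndex U : ℂ)) ∧
    ((∀ χ ∈ calS M H₀, ¬ IsIrrCharacter ↥M χ) →
      stabC M U H₀ = ⊥ ∧
        Nat.card U * (factorPrime W₂ H₀ - 1) = factorPrime W₂ H₀ ^ Nat.card W₁ - 1 ∧
        ∀ v ∈ U, v ≠ 1 → ∀ x ∈ fittingHallOf M, x⁻¹ * (v * x * v⁻¹) ∈ H₀ → x ∈ H₀) := by
  haveI := Fintype.ofFinite ↥(derivedIn M)
  refine ⟨fun θ hθ => ?_, fun θ hθ => (h.galois_degree hG hK hgal hθ).1, fun hall =>
    h.galois_all_reducible hG hK hgal fun θ hθ => hall _ ⟨θ, irrD_mono le_sup_left hθ, rfl⟩⟩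
  obtain ⟨l, hl, hl1, n, hn⟩ := h.exists_degree_factor hG hK hθ
  exact ⟨n, by rw [hn, h.galois_fix hG hK hgal hl hl1]⟩

section NonGalois

variable {H₁ : Subgroup G}

/-- The characters nontrivial on every line. -/
def fullSet (M H₀ H₁ W₁ : Subgroup G) : Set (G → ℂˣ) :=
  {l ∈ facChars (fittingHallOf M) H₀ | ∀ e ∈ W₁, lineComp H₁ l e ≠ 1}

theorem card_fullSet (hG : IsMinSimpleOddOrder G) (h : Hyp9 M W₁ U W₂)
    (hK : IsChiefKernel M U H₀) (hL : IsLinePair M U W₂ H₀ H₁) :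
    (fullSet M H₀ H₁ W₁).ncard = (factorPrime W₂ H₀ - 1) ^ Nat.card W₁ := by
  classical
  haveI := line_normal hK hL
  have hfin := facChars_finite (H := H₁) hL.le
  haveI := hfin.to_subtype
  let e := Equiv.ofBijective _ (h.comp_bijective hG hK hL)
  have hc : Nat.card ↥(facChars H₁ H₀ \ {1}) = factorPrime W₂ H₀ - 1 := by
    rw [Nat.card_coe_set_eq, Set.ncard_sdiff_singleton_of_mem facChars_one, card_line_dual hK hL]
  let e2 : {c : W₁ → ↥(facChars H₁ H₀) // ∀ w : W₁, (c w).1 ≠ 1} ≃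
      (W₁ → ↥(facChars H₁ H₀ \ {1})) :=
    { toFun := fun c w => ⟨(c.1 w).1, (c.1 w).2, c.2 w⟩
      invFun := fun c => ⟨fun w => ⟨(c w).1, (c w).2.1⟩, fun w => (c w).2.2⟩
      left_inv := fun c => rfl
      right_inv := fun c => rfl }
  rw [← hc, ← Nat.card_fun, ← Nat.card_coe_set_eq]
  refine Nat.card_congr (((Equiv.subtypeSubtypeEquivSubtypeInter
    (fun l => l ∈ facChars (fittingHallOf M) H₀)
      fun l => ∀ w ∈ W₁, lineComp H₁ l w ≠ 1).symm.trans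
        (e.subtypeEquiv fun l => ?_)).trans e2)
  exact ⟨fun hl w => hl w w.2, fun hl w hw => hl ⟨w, hw⟩⟩

theorem exists_of_lineComp_ne {l : G → ℂˣ} {e : G} (hne : lineComp H₁ l e ≠ 1) :
    ∃ x ∈ H₁, l (e * x * e⁻¹) ≠ 1 := by
  by_contra hno
  push Not at hno
  refine hne (funext fun x => ?_)
  by_cases hx : x ∈ H₁
  · simp [lineComp, hx, hno x hx]
  · simp [lineComp, hx]

theorem full_fix (hG : IsMinSimpleOddOrder G) (h : Hyp9 M W₁ U W₂) (hK : IsChiefKernel M U H₀)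
    (hL : IsLinePair M U W₂ H₀ H₁) {l : G → ℂˣ} (hl : l ∈ fullSet M H₀ H₁ W₁) :
    l ≠ 1 ∧ U ⊓ fixSub (fittingHallOf M) l = stabC M U H₀ := by
  refine ⟨fun e => ?_, le_antisymm (fun v hv => ?_) (stabC_le_fix hK hl.1)⟩
  · obtain ⟨x, -, hx⟩ := exists_of_lineComp_ne (hl.2 1 (one_mem _))
    exact hx (by rw [e]; rfl)
  · rw [(h.line_facts hG hK hL).2.2.2.1 v hv.1]
    intro e he
    have h1 := h.fix_le_line hG hK hL hl.1 he (exists_of_lineComp_ne (hl.2 e he)) hv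
    rw [Coprime.mem_conj] at h1
    exact h1.2

theorem a_bound (hG : IsMinSimpleOddOrder G) (h : Hyp9 M W₁ U W₂) (hK : IsChiefKernel M U H₀)
    (hL : IsLinePair M U W₂ H₀ H₁) :
    Odd ((U ⊓ quotStab H₁ H₀).relIndex U) ∧
      2 * (U ⊓ quotStab H₁ H₀).relIndex U ≤ factorPrime W₂ H₀ - 1 ∧
      1 < (U ⊓ quotStab H₁ H₀).relIndex U := by
  obtain ⟨-, ha1, had, -⟩ := h.line_facts hG hK hL
  have hodd : Odd ((U ⊓ quotStab H₁ H₀).relIndex U) :=
    (OddSigma.odd_card hG U).of_dvd_nat (Dvd.intro_left _ (card_mul_relIndex inf_le_left))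
  refine ⟨hodd, ?_, ha1⟩
  have hp := (h.factor hG hK).1
  obtain ⟨k, hk⟩ := had
  have hk2 : 2 ≤ k := by
    by_contra hlt
    have hp1 := hp.two_le
    obtain ⟨j, hj⟩ := h.p_odd hG hK
    obtain ⟨i, hi⟩ := hodd
    rcases (by omega : k = 0 ∨ k = 1) with rfl | rfl <;> omega
  calc 2 * _ ≤ k * (U ⊓ quotStab H₁ H₀).relIndex U := Nat.mul_le_mul_right _ hk2
    _ = _ := by rw [hk, mul_comm]

theorem u_bound (hG : IsMinSimpleOddOrder G) (h : Hyp9 M W₁ U W₂) (hK : IsChiefKernel M U H₀)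
    (hL : IsLinePair M U W₂ H₀ H₁) :
    (stabC M U H₀).relIndex U ≤ (U ⊓ quotStab H₁ H₀).relIndex U ^ (Nat.card W₁ - 1) :=
  Nat.le_of_dvd (pow_pos relIndex_pos _) (h.line_facts hG hK hL).2.2.2.2

variable [Fintype ↥M] [Fintype ↥(derivedIn M)]

/-- The characters induced from full characters of `H C` trivial on `C`. -/
theorem full_count (hG : IsMinSimpleOddOrder G) (h : Hyp9 M W₁ U W₂) (hK : IsChiefKernel M U H₀)
    (hL : IsLinePair M U W₂ H₀ H₁) :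
    (factorPrime W₂ H₀ - 1) ^ Nat.card W₁ ≤ (stabC M U H₀).relIndex U *
      {θ ∈ irrD M (fittingHallOf M) (H₀ ⊔ stabC M U H₀) | ∃ f,
        ThetaData M U H₀ (stabC M U H₀) f ∧
          θ = thetaOf M (fittingHallOf M ⊔ stabC M U H₀) f}.ncard := by
  haveI : ((stabC M U H₀).subgroupOf (stabC M U H₀)).Normal := by
    rw [Subgroup.subgroupOf_self]; infer_instance
  have h1 := h.count_theta hK (V := stabC M U H₀) (Y := stabC M U H₀) le_rfl stabC_le_U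
    (S := fullSet M H₀ H₁ W₁)
    (fun l hl => ⟨hl.1, h.full_fix hG hK hL hl⟩)
    (T := {θ ∈ irrD M (fittingHallOf M) (H₀ ⊔ stabC M U H₀) | ∃ f,
      ThetaData M U H₀ (stabC M U H₀) f ∧
        θ = thetaOf M (fittingHallOf M ⊔ stabC M U H₀) f})
    (irrD_finite.subset fun _ hθ => hθ.1) fun f hf _ hfY =>
      ⟨hf.mem_irrD h (h.triv_sup hK hf le_rfl (h.U_normalizes_stabC hG hK) le_rfl hfY), f, hf, rfl⟩
  rwa [h.card_fullSet hG hK hL, card_facChars_comm le_rfl (Subgroup.commutator_le_self _),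
    Subgroup.relIndex_self, mul_one] at h1

theorem exists_irr_core (hG : IsMinSimpleOddOrder G) (h : Hyp9 M W₁ U W₂)
    (hK : IsChiefKernel M U H₀) (hL : IsLinePair M U W₂ H₀ H₁) :
    ∃ χ ∈ calS M (H₀ ⊔ stabC M U H₀), IsIrrCharacter ↥M χ ∧
      χ 1 = ((Nat.card W₁ * (stabC M U H₀).relIndex U : ℕ) : ℂ) ∧ IsIndHC M U H₀ χ := by
  by_contra hno
  push Not at hno
  have h1 := (h.full_count hG hK hL).trans (Nat.mul_le_mul_left _ ((Set.ncard_le_ncard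
    (t := {θ ∈ irrD M (fittingHallOf M) H₀ | ¬ IsIrrCharacter ↥M (indFun (derivedIn M) θ)})
    (fun θ hθ => ?_) (irrD_finite.subset fun _ h => h.1)).trans (h.reducible_ncard_le hG hK)))
  · obtain ⟨-, hap, ha1⟩ := h.a_bound hG hK hL
    have hu := h.u_bound hG hK hL
    have hq := h.prime.two_le
    rw [show Nat.card W₁ = Nat.card W₁ - 1 + 1 by omega, pow_succ] at h1
    have h2 := Nat.le_of_mul_le_mul_right h1 (by omega)
    have h3 : (U ⊓ quotStab H₁ H₀).relIndex U ^ (Nat.card W₁ - 1) <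
        (factorPrime W₂ H₀ - 1) ^ (Nat.card W₁ - 1) := Nat.pow_lt_pow_left (by omega) (by omega)
    omega
  · obtain ⟨hm, f, hf, rfl⟩ := hθ
    refine ⟨irrD_mono le_sup_left hm, fun hirr => ?_⟩
    exact hno _ ⟨_, hm, rfl⟩ hirr (h.ind_degree (hf.degree h)) (h.isIndHC_theta hf)

/-- `l` is trivial on every line but `H₁`. -/
def onlyLine (M H₀ H₁ W₁ : Subgroup G) : Set (G → ℂˣ) :=
  {l ∈ facChars (fittingHallOf M) H₀ |
    lineComp H₁ l 1 ≠ 1 ∧ ∀ e ∈ W₁, e ≠ 1 → lineComp H₁ l e = 1}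

theorem card_onlyLine (hG : IsMinSimpleOddOrder G) (h : Hyp9 M W₁ U W₂)
    (hK : IsChiefKernel M U H₀) (hL : IsLinePair M U W₂ H₀ H₁) :
    (onlyLine M H₀ H₁ W₁).ncard = factorPrime W₂ H₀ - 1 := by
  classical
  haveI := line_normal hK hL
  haveI := (facChars_finite (H := H₁) hL.le).to_subtype
  rw [← card_line_dual hK hL, ← Set.ncard_sdiff_singleton_of_mem (facChars_one (H := H₁) (H₀ := H₀)),
    ← Nat.card_coe_set_eq, ← Nat.card_coe_set_eq]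
  refine Nat.card_congr (Equiv.ofBijective
    (fun l => (⟨lineComp H₁ l.1 1, h.lineComp_mem hK hL l.2.1 (one_mem _), l.2.2.1⟩ :
      ↥(facChars H₁ H₀ \ {1}))) ⟨fun l l' e => ?_, fun c => ?_⟩)
  · refine Subtype.ext (h.eq_of_lineComp hG hK hL l.2.1 l'.2.1 fun w hw x hx => ?_)
    have h0 : lineComp H₁ l.1 w = lineComp H₁ l'.1 w := by
      by_cases hw1 : w = 1
      · subst hw1; exact congrArg Subtype.val e
      · rw [l.2.2.2 w hw hw1, l'.2.2.2 w hw hw1]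
    simpa [lineComp, hx] using congrFun h0 x
  · obtain ⟨l, hl⟩ := (h.comp_bijective hG hK hL).2
      fun w => if w = 1 then ⟨c.1, c.2.1⟩ else ⟨1, facChars_one⟩
    have hval : ∀ (w : G) (hw : w ∈ W₁), lineComp H₁ l.1 w = if w = 1 then c.1 else 1 :=
      fun w hw => by
        have h0 := congrArg Subtype.val (congrFun hl ⟨w, hw⟩)
        simp only at h0
        rw [h0]
        by_cases hw1 : w = 1
        · subst hw1
          rw [if_pos rfl, if_pos (show ((⟨1, hw⟩ : W₁)) = 1 from Subtype.ext rfl)]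
        · rw [if_neg hw1, if_neg fun e : (⟨w, hw⟩ : W₁) = 1 => hw1 (congrArg Subtype.val e)]
    refine ⟨⟨l.1, l.2, ?_, fun e he he1 => by rw [hval e he, if_neg he1]⟩, Subtype.ext ?_⟩
    · rw [hval 1 (one_mem _), if_pos rfl]; exact c.2.2
    · show lineComp H₁ l.1 1 = c.1
      rw [hval 1 (one_mem _), if_pos rfl]

theorem onlyLine_apply {l : G → ℂˣ} (hl : l ∈ onlyLine M H₀ H₁ W₁) {e : G} (he : e ∈ W₁)
    (he1 : e ≠ 1) {x : G} (hx : x ∈ H₁) : l (e * x * e⁻¹) = 1 := by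
  simpa [lineComp, hx] using congrFun (hl.2.2 e he he1) x

theorem onlyLine_fix (hG : IsMinSimpleOddOrder G) (h : Hyp9 M W₁ U W₂)
    (hK : IsChiefKernel M U H₀) (hL : IsLinePair M U W₂ H₀ H₁) {l : G → ℂˣ}
    (hl : l ∈ onlyLine M H₀ H₁ W₁) :
    l ≠ 1 ∧ U ⊓ fixSub (fittingHallOf M) l = U ⊓ quotStab H₁ H₀ := by
  obtain ⟨y, hy, hy1⟩ := exists_of_lineComp_ne hl.2.1
  refine ⟨fun e => hy1 (by rw [e]; rfl), le_antisymm ?_ fun v hv => ⟨hv.1, ?_⟩⟩
  · have h1 := h.fix_le_line hG hK hL hl.1 (one_mem _) ⟨y, hy, hy1⟩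
    rwa [map_one, one_smul] at h1
  · have hvH : v ∈ Subgroup.normalizer (fittingHallOf M : Set G) :=
      h.H_normalized (h.le_M.2.1 hv.1)
    refine ⟨hvH, fun x hx => ?_⟩
    let S : Subgroup G :=
      { carrier := {x | x ∈ fittingHallOf M ∧ l (v * x * v⁻¹) = l x}
        one_mem' := ⟨one_mem _, by simp⟩
        mul_mem' := fun {a b} ha hb => ⟨mul_mem ha.1 hb.1, by
          rw [show v * (a * b) * v⁻¹ = (v * a * v⁻¹) * (v * b * v⁻¹) by group,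
            hl.1.1 _ ((Subgroup.mem_normalizer_iff.1 hvH a).1 ha.1) _
              ((Subgroup.mem_normalizer_iff.1 hvH b).1 hb.1), hl.1.1 _ ha.1 _ hb.1, ha.2, hb.2]⟩
        inv_mem' := fun {a} ha => ⟨inv_mem ha.1, by
          rw [show v * a⁻¹ * v⁻¹ = (v * a * v⁻¹)⁻¹ by group,
            fac_inv hl.1 ((Subgroup.mem_normalizer_iff.1 hvH a).1 ha.1), fac_inv hl.1 ha.1, ha.2]⟩ }
    have h1 : fittingHallOf M ≤ S := by
      rw [← (h.line_facts hG hK hL).1]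
      refine iSup₂_le fun e he => ?_
      rintro _ ⟨z, hz, rfl⟩
      refine ⟨h.conj_line_le hL he hz, ?_⟩
      show l (v * (e * z * e⁻¹) * v⁻¹) = l (e * z * e⁻¹)
      by_cases he1 : e = 1
      · subst he1
        simp only [one_mul, inv_one, mul_one]
        exact fac_congr hl.1 hK.le (hL.le_H hz) (hv.2.2.2 z hz)
      · have hw : e⁻¹ * v * e ∈ U := by
          simpa using conj_mem_of_le_normalizer h.U_normalized (inv_mem he) hv.1
        rw [show v * (e * z * e⁻¹) * v⁻¹ = e * (e⁻¹ * v * e * z * (e⁻¹ * v * e)⁻¹) * e⁻¹ by group,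
          onlyLine_apply hl he he1 (conj_mem_of_le_normalizer hL.normal hw hz),
          onlyLine_apply hl he he1 hz]
    exact (h1 hx).2

theorem onlyLine_conj (h : Hyp9 M W₁ U W₂) (hK : IsChiefKernel M U H₀)
    (hL : IsLinePair M U W₂ H₀ H₁) {V V' : Subgroup G} {f f' : G → ℂˣ}
    (hf : ThetaData M U H₀ V f) (hf' : ThetaData M U H₀ V' f')
    (hl : resTo (fittingHallOf M) f ∈ onlyLine M H₀ H₁ W₁)
    (hl' : resTo (fittingHallOf M) f' ∈ onlyLine M H₀ H₁ W₁) {g : ↥M}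
    (he : CliffordChar.conjFun (derivedIn M) g (thetaOf M (fittingHallOf M ⊔ V) f) =
      thetaOf M (fittingHallOf M ⊔ V') f') : g ∈ derivedIn M := by
  obtain ⟨u, hu, hx⟩ := hf.conj_of_eq hf' h he
  obtain ⟨a, ha, e, hew, hae⟩ := h.exists_M_mul g.2
  obtain ⟨b, hb, v, hv, hbv⟩ := h.exists_mul ha
  by_cases he1 : e = 1
  · subst he1
    show (g : G) ∈ ⁅M, M⁆
    rwa [← hae, mul_one]
  exfalso
  obtain ⟨y, hy, hy1⟩ := exists_of_lineComp_ne hl'.2.1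
  have hyH : y ∈ fittingHallOf M := hL.le_H hy
  have hy2 : f' y ≠ 1 := by simpa [resTo, hyH] using hy1
  refine hy2 ?_
  rw [hx y hyH]
  -- the argument lies in the line of `e⁻¹`, up to a factor in `H₀`
  have hw2 : e * u⁻¹ * e⁻¹ ∈ U := conj_mem_of_le_normalizer h.U_normalized hew (inv_mem hu)
  set w := e * u⁻¹ * e⁻¹ * v⁻¹ with hw
  have hwU : w ∈ U := mul_mem hw2 (inv_mem hv)
  have hz : w * y * w⁻¹ ∈ H₁ := conj_mem_of_le_normalizer hL.normal hwU hy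
  have hz' : e⁻¹ * (w * y * w⁻¹) * e⁻¹⁻¹ ∈ fittingHallOf M :=
    h.conj_line_le hL (inv_mem hew) hz
  have heq : f (u⁻¹ * ((g : G)⁻¹ * y * g) * u) = f (e⁻¹ * (w * y * w⁻¹) * e⁻¹⁻¹) := by
    have hcom : b⁻¹ * y * b * y⁻¹ ∈ H₀ := by
      simpa using comm_mem hK _ (inv_mem hb) _ hyH
    have hd : (u⁻¹ * e⁻¹ * v⁻¹) * (b⁻¹ * y * b * y⁻¹) * (u⁻¹ * e⁻¹ * v⁻¹)⁻¹ ∈ H₀ :=
      conj_mem_of_le_normalizer hK.normal (mul_mem (mul_mem (inv_mem (h.le_M.2.2.2.2 hu))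
        (inv_mem (h.le_M.2.2.2.1 hew))) (inv_mem (h.le_M.2.2.2.2 hv))) hcom
    rw [← hae, ← hbv, show u⁻¹ * ((b * v * e)⁻¹ * y * (b * v * e)) * u =
      (u⁻¹ * e⁻¹ * v⁻¹) * (b⁻¹ * y * b * y⁻¹) * (u⁻¹ * e⁻¹ * v⁻¹)⁻¹ *
        (e⁻¹ * (w * y * w⁻¹) * e⁻¹⁻¹) by rw [hw]; group,
      hf.mul _ (Subgroup.mem_sup_left (hK.le hd)) _ (Subgroup.mem_sup_left hz'), hf.ker _ hd,
      one_mul]
  rw [heq]
  have h1 := onlyLine_apply hl (inv_mem hew) (fun e' => he1 (inv_eq_one.1 e')) hz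
  rwa [resTo, if_pos hz'] at h1

/-- (9.8)(d). -/
theorem line_count (hG : IsMinSimpleOddOrder G) (h : Hyp9 M W₁ U W₂) (hK : IsChiefKernel M U H₀)
    (hL : IsLinePair M U W₂ H₀ H₁) {Y : Subgroup G} (hY1 : ⁅U, U⁆ ≤ Y)
    (hY2 : Y ≤ stabC M U H₀) :
    (factorPrime W₂ H₀ - 1) * Y.relIndex U ≤ (U ⊓ quotStab H₁ H₀).relIndex U ^ 2 *
      {χ ∈ calS M (H₀ ⊔ Y) | IsIrrCharacter ↥M χ ∧
        χ 1 = ((Nat.card W₁ * (U ⊓ quotStab H₁ H₀).relIndex U : ℕ) : ℂ)}.ncard := by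
  classical
  set U₁ := U ⊓ quotStab H₁ H₀ with hU₁
  have hCU₁ : stabC M U H₀ ≤ U₁ := fun v hv =>
    ⟨hv.1, hL.normal hv.1, hK.normal (h.le_M.2.2.2.2 hv.1), fun x hx => hv.2.2.2 x (hL.le_H hx)⟩
  have hYU : U ≤ Subgroup.normalizer (Y : Set G) := fun v hv =>
    Coprime.mem_normalizer_of_forall fun z hz => by
      rw [show v * z * v⁻¹ = ⁅v, z⁆ * z by rw [commutatorElement_def]; group]
      exact mul_mem (hY1 (Subgroup.commutator_mem_commutator hv (hY2 hz).1)) hz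
  have hYU₁ : Y ≤ U₁ := hY2.trans hCU₁
  haveI : (Y.subgroupOf U₁).Normal := ⟨fun z hz g =>
    conj_mem_of_le_normalizer ((inf_le_left : U₁ ≤ U).trans hYU) g.2 hz⟩
  set T := {θ : ↥(derivedIn M) → ℂ | ∃ f, ThetaData M U H₀ U₁ f ∧
    resTo (fittingHallOf M) f ∈ onlyLine M H₀ H₁ W₁ ∧ (∀ y ∈ Y, f y = 1) ∧
      θ = thetaOf M (fittingHallOf M ⊔ U₁) f}
  have hTfin : T.Finite :=
    (irrD_finite (M := M) (N := fittingHallOf M) (Y := ⊥)).subset fun θ hθ => by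
      obtain ⟨f, hf, -, -, rfl⟩ := hθ
      exact hf.mem_irrD h fun x _ y hy => by
        rw [Subgroup.mem_bot] at hy
        subst hy
        rw [show x⁻¹ * 1 * x = 1 by group]
        exact ⟨one_mem _, hf.ker 1 (one_mem _)⟩
  have h1 := h.count_theta hK (V := U₁) (Y := Y) hYU₁ inf_le_left
    (S := onlyLine M H₀ H₁ W₁) (fun l hl => ⟨hl.1, h.onlyLine_fix hG hK hL hl⟩)
    (T := T) hTfin fun f hf hfS hfY => ⟨f, hf, hfS, hfY, rfl⟩
  rw [h.card_onlyLine hG hK hL, card_facChars_comm hYU₁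
    ((Subgroup.commutator_mono inf_le_left inf_le_left).trans hY1)] at h1
  have hfinS : {χ ∈ calS M (H₀ ⊔ Y) | IsIrrCharacter ↥M χ ∧
      χ 1 = ((Nat.card W₁ * U₁.relIndex U : ℕ) : ℂ)}.Finite :=
    ((irrD_finite (M := M)).image _).subset fun χ hχ => hχ.1
  have h2 : T.ncard ≤ {χ ∈ calS M (H₀ ⊔ Y) | IsIrrCharacter ↥M χ ∧
      χ 1 = ((Nat.card W₁ * U₁.relIndex U : ℕ) : ℂ)}.ncard := by
    refine Set.ncard_le_ncard_of_injOn (indFun (derivedIn M)) ?_ ?_ hfinS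
    · rintro θ ⟨f, hf, hl, hfY, rfl⟩
      refine ⟨⟨_, hf.mem_irrD h (h.triv_sup hK hf hY2 hYU hYU₁ hfY), rfl⟩, ?_,
        h.ind_degree (hf.degree h)⟩
      by_contra hirr
      obtain ⟨⟨e, he⟩, he1⟩ := Subgroup.ne_bot_iff_exists_ne_one.1 h.data.W₁_ne
      have h3 := h.onlyLine_conj hK hL hf hf hl hl (g := ⟨e, h.le_M.2.2.2.1 he⟩)
        (h.fixed_of_reducible hG (hf.irr h) hirr _)
      have h4 : e ∈ ⁅M, M⁆ ⊓ W₁ := Subgroup.mem_inf.2 ⟨h3, he⟩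
      rw [h.data.W₁_compl.2.2.1, Subgroup.mem_bot] at h4
      exact he1 (Subtype.ext h4)
    · rintro θ ⟨f, hf, hl, -, rfl⟩ θ' ⟨f', hf', hl', -, rfl⟩ e
      obtain ⟨g, hg⟩ := exists_conj_of_ind_eq (hf.irr h) (hf'.irr h) e
      rw [← hg, conj_derived (Char.IsIrrCharacter.isClassFunction (hf.irr h))
        (h.onlyLine_conj hK hL hf hf' hl hl' hg)]
  have h3 : Y.relIndex U₁ * U₁.relIndex U = Y.relIndex U :=
    Subgroup.relIndex_mul_relIndex Y U₁ U hYU₁ inf_le_left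
  rw [← h3, ← mul_assoc, pow_two, mul_assoc _ _ (Set.ncard _), mul_comm (U₁.relIndex U) (_ * _)]
  exact Nat.mul_le_mul_right _ (h1.trans (Nat.mul_le_mul_left _ h2))

end NonGalois

/-- Field `nonGalois_characters`. -/
theorem nonGalois_characters (hG : IsMinSimpleOddOrder G) (h : Hyp9 M W₁ U W₂)
    (hK : IsChiefKernel M U H₀) {H₁ : Subgroup G} (hL : IsLinePair M U W₂ H₀ H₁) [Fintype ↥M] :
    (∀ θ ∈ irrD M (fittingHallOf M) H₀, ∃ n : ℕ,
      θ 1 = ((n * (U ⊓ quotStab H₁ H₀).relIndex U : ℕ) : ℂ)) ∧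
    (∃ χ ∈ calS M (H₀ ⊔ stabC M U H₀), IsIrrCharacter ↥M χ ∧
      χ 1 = ((Nat.card W₁ * (stabC M U H₀).relIndex U : ℕ) : ℂ) ∧ IsIndHC M U H₀ χ) ∧
    ∀ Y : Subgroup G, ⁅U, U⁆ ≤ Y → Y ≤ stabC M U H₀ →
      (factorPrime W₂ H₀ - 1) * Y.relIndex U ≤ (U ⊓ quotStab H₁ H₀).relIndex U ^ 2 *
        {χ ∈ calS M (H₀ ⊔ Y) | IsIrrCharacter ↥M χ ∧
          χ 1 = ((Nat.card W₁ * (U ⊓ quotStab H₁ H₀).relIndex U : ℕ) : ℂ)}.ncard := by
  haveI := Fintype.ofFinite ↥(derivedIn M)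
  refine ⟨fun θ hθ => ?_, h.exists_irr_core hG hK hL, fun Y h1 h2 => h.line_count hG hK hL h1 h2⟩
  obtain ⟨l, hl, hl1, n, hn⟩ := h.exists_degree_factor hG hK hθ
  obtain ⟨e, he, x, hx, hne⟩ : ∃ e ∈ W₁, ∃ x ∈ H₁, l (e * x * e⁻¹) ≠ 1 := by
    by_contra hno
    push Not at hno
    exact hl1 (h.eq_of_lineComp hG hK hL hl facChars_one fun e he x hx => hno e he x hx)
  obtain ⟨k, hk⟩ : (U ⊓ quotStab H₁ H₀).relIndex U ∣
      (U ⊓ fixSub (fittingHallOf M) l).relIndex U := by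
    rw [← h.relIndex_conj_line (H₀ := H₀) (H₁ := H₁) he]
    exact Subgroup.relIndex_dvd_of_le_left U (h.fix_le_line hG hK hL hl he ⟨x, hx, hne⟩)
  exact ⟨n * k, by rw [hn, hk]; push_cast; ring⟩

/-- Field `reducible_core_cases`. -/
theorem reducible_core_cases (hG : IsMinSimpleOddOrder G) (h : Hyp9 M W₁ U W₂)
    (hK : IsChiefKernel M U H₀) [Fintype ↥M] :
    (∃ χ ∈ calS M (H₀ ⊔ ⁅stabC M U H₀, stabC M U H₀⁆), IsIrrCharacter ↥M χ ∧
      χ 1 = ((Nat.card W₁ * (stabC M U H₀).relIndex U : ℕ) : ℂ) ∧ IsIndHC M U H₀ χ) ∨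
    (IsGaloisPair M U H₀ ∧ stabC M U H₀ = ⊥ ∧
      (∀ v ∈ U, v ≠ 1 → ∀ x ∈ fittingHallOf M, x⁻¹ * (v * x * v⁻¹) ∈ H₀ → x ∈ H₀) ∧
      IsCyclic U ∧
      Nat.card U * (factorPrime W₂ H₀ - 1) = factorPrime W₂ H₀ ^ Nat.card W₁ - 1 ∧
      (IsOfTypeII M →
        ∀ v ∈ U, v ≠ 1 → fittingHallOf M ⊓ Subgroup.centralizer ({v} : Set G) = ⊥)) := by
  haveI := Fintype.ofFinite ↥(derivedIn M)
  by_cases hgal : IsGaloisPair M U H₀
  · by_cases hall : ∀ θ ∈ irrD M (fittingHallOf M) (H₀ ⊔ ⁅stabC M U H₀, stabC M U H₀⁆),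
        ¬ IsIrrCharacter ↥M (indFun (derivedIn M) θ)
    · obtain ⟨hC, hu, hfree⟩ := h.galois_all_reducible hG hK hgal hall
      obtain ⟨K, _, _, f, ψ, σ, -, -, -, -, -, -, -, -, -, -, hcyc⟩ := h.galois_field hG hK hgal
      exact Or.inr ⟨hgal, hC, hfree, hcyc hC, hu, fun hII => h.free_of_cyclic hG hII (hcyc hC)⟩
    · push Not at hall
      obtain ⟨θ, hθ, hirr⟩ := hall
      obtain ⟨hd, ξ, hξ⟩ := h.galois_degree hG hK hgal hθ
      exact Or.inl ⟨_, ⟨θ, hθ, rfl⟩, hirr, h.ind_degree hd, hξ ▸ h.isIndHC_of_linInd ξ⟩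
  · obtain ⟨H₁, hL, -⟩ := h.nonGalois_line hG hK hgal
    obtain ⟨χ, hχ, hrest⟩ := h.exists_irr_core hG hK hL
    exact Or.inl ⟨χ, seqIndD_mono le_rfl (sup_le_sup_left (h.commC_le hG hK).1 _) hχ, hrest⟩

end Hyp9

end Cfsg.Agent.Peterfalvi
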