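import Cfsg.Agent.Lib.Peterfalvi.Sec9Chars
import Cfsg.Agent.Lib.Coherence.EqualityCase

/-!
# Peterfalvi (9.11): `S(H₀ C')` is coherent (owner: helper44)

In the boundary case of the degree criterion, `Δ = τ (Ind_{H U₁}^M 1 - ψ)` has norm smaller than the
number of irreducible members of degree `q u`, which excludes the bad sign.

* `Hyp9.line_mem_coreA`, `Hyp9.gamma_norm`, `Hyp9.coherence`
-/

set_option autoImplicit false
set_option linter.style.haveILetI false
set_option linter.unusedSectionVars false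

namespace Cfsg.Agent.Peterfalvi

open scoped Pointwise commutatorElement
open Cfsg OddMax Cfsg.Agent.Coherence

universe u

variable {G : Type u} [Group G] [Fintype G] {M W₁ U W₂ H₀ H₁ : Subgroup G}

/-- A character trivial on `Y` has degree at most the index of a subgroup abelian modulo `Y`. -/
theorem degree_le_index {L : Type u} [Group L] [Fintype L] {θ : L → ℂ} (hθ : IsIrrCharacter L θ)
    (T Y : Subgroup L) (hY : ∀ a ∈ Y, θ a = θ 1)
    (hTY : ∀ a ∈ T, ∀ b ∈ T, a * b * a⁻¹ * b⁻¹ ∈ Y) {n : ℕ} (hn : θ 1 = n) : n ≤ T.index := by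
  haveI := Fintype.ofFinite T
  have hr : IsCharacter T (fun t : T => θ t) :=
    Char.IsCharacter.restrict (Char.IsIrrCharacter.isCharacter hθ) T
  obtain ⟨φ, hφ⟩ := CharApp.exists_constituent hr (Char.IsIrrCharacter.apply_one_ne_zero hθ)
  have hd : (φ : T → ℂ) 1 = 1 := CharApp.degree_one_of_trivOn (Y.subgroupOf T)
    (fun a b => hTY a a.2 b b.2) φ.2 fun y =>
      Broline.apply_eq_of_constituent hr φ.2 hφ (by simpa using hY _ y.2)
  have hind : IsCharacter L (indFun T (φ : T → ℂ)) :=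
    Char.IsCharacter.indFun T (Char.IsIrrCharacter.isCharacter φ.2)
  obtain ⟨m, hm⟩ := Char.IsCharacter.classInner_nat hind (Char.IsIrrCharacter.isCharacter hθ)
  have hm0 : m ≠ 0 := by
    rintro rfl
    rw [Char.frobenius_reciprocity T _ (Char.IsIrrCharacter.isClassFunction hθ), Nat.cast_zero] at hm
    exact hφ (by rw [← Char.classInner_conj_symm, hm, map_zero])
  have h1 := CharApp.classInner_nat_le_degree hind hθ hm
    (a := T.index) (by rw [Char.indFun_one_apply, hd, mul_one]) hn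
  exact le_trans (Nat.le_mul_of_pos_left _ (Nat.pos_of_ne_zero hm0)) h1

theorem nine_eleven_arith {a q : ℕ} (ha : 1 ≤ a) (hq : 3 ≤ q) :
    6 * a * a ^ (q - 1) + q * a ^ (q - 1) * ((q + 2) * a) < 3 * (2 * a) ^ q := by
  have h : ∀ j : ℕ, 3 ≤ j → j * j + 2 * j + 6 < 3 * 2 ^ j := by
    intro j hj
    induction j, hj using Nat.le_induction with
    | base => norm_num
    | succ j hj ih => rw [pow_succ]; nlinarith
  obtain ⟨j, rfl⟩ : ∃ j, q = j + 1 := ⟨q - 1, by omega⟩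
  rw [Nat.add_sub_cancel, mul_pow, pow_succ a]
  have hpos : 0 < a ^ j * a := Nat.mul_pos (pow_pos ha _) ha
  calc 6 * a * a ^ j + (j + 1) * a ^ j * ((j + 1 + 2) * a)
      = ((j + 1) * (j + 1) + 2 * (j + 1) + 6) * (a ^ j * a) := by ring
    _ < 3 * 2 ^ (j + 1) * (a ^ j * a) := Nat.mul_lt_mul_of_pos_right (h _ hq) hpos
    _ = _ := by ring

namespace Hyp9

variable [Fintype ↥M]

theorem derived_commutes_mod (hG : IsMinSimpleOddOrder G) (h : Hyp9 M W₁ U W₂)
    (hK : IsChiefKernel M U H₀) :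
    ⁅fittingHallOf M ⊔ stabC M U H₀, fittingHallOf M ⊔ stabC M U H₀⁆ ≤
      H₀ ⊔ ⁅stabC M U H₀, stabC M U H₀⁆ := by
  obtain ⟨hCC, hUC⟩ := h.commC_le hG hK
  have hn := h.sup_normalized hK hCC hUC
  have hHC : ⁅fittingHallOf M, stabC M U H₀⁆ ≤ H₀ := by
    rw [Subgroup.commutator_le]
    intro x hx c hc
    have h1 := hc.2.2.2 x⁻¹ (inv_mem hx)
    rw [inv_inv] at h1
    rw [commutatorElement_def]
    simpa [mul_assoc] using h1
  exact commutator_sup_le (h.le_M.1.trans hn) ((stabC_le_U.trans h.le_M.2.1).trans hn)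
    (hK.comm_le.trans le_sup_left) (hHC.trans le_sup_left) le_sup_right

/-- Members of `S(H₀ C')` come from characters of degree at most `u`. -/
theorem degree_le (hG : IsMinSimpleOddOrder G) (h : Hyp9 M W₁ U W₂) (hK : IsChiefKernel M U H₀)
    {θ : ↥(derivedIn M) → ℂ}
    (hθ : θ ∈ irrD M (fittingHallOf M) (H₀ ⊔ ⁅stabC M U H₀, stabC M U H₀⁆)) {n : ℕ}
    (hn : θ 1 = (n : ℂ)) : n ≤ (stabC M U H₀).relIndex U := by
  haveI := Fintype.ofFinite ↥(derivedIn M)
  have h1 := degree_le_index hθ.1 (inD M (fittingHallOf M ⊔ stabC M U H₀))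
    (inD M (H₀ ⊔ ⁅stabC M U H₀, stabC M U H₀⁆)) (fun a ha => hθ.2.1 a ha)
    (fun a ha b hb => h.derived_commutes_mod hG hK (Subgroup.commutator_mem_commutator ha hb)) hn
  rwa [index_inD, h.relIndex_sup stabC_le_U] at h1

section Line

theorem U₁_facts (h : Hyp9 M W₁ U W₂) (hK : IsChiefKernel M U H₀)
    (hL : IsLinePair M U W₂ H₀ H₁) :
    stabC M U H₀ ≤ U ⊓ quotStab H₁ H₀ ∧
      fittingHallOf M ⊔ (U ⊓ quotStab H₁ H₀) ≤ quotStab H₁ H₀ := by
  have h0H : ∀ x ∈ H₁, ∀ a ∈ fittingHallOf M, x⁻¹ * (a * x * a⁻¹) ∈ H₀ := fun x hx a ha => by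
    have := comm_mem hK x⁻¹ (inv_mem (hL.le_H hx)) a ha
    simpa [mul_assoc] using this
  refine ⟨fun v hv => ⟨hv.1, hL.normal hv.1, hK.normal (h.le_M.2.2.2.2 hv.1),
    fun x hx => hv.2.2.2 x (hL.le_H hx)⟩, _root_.sup_le (fun a ha => ⟨?_, ?_, fun x hx => h0H x hx a ha⟩)
    inf_le_right⟩
  · refine Coprime.mem_normalizer_of_forall fun x hx => ?_
    rw [show a * x * a⁻¹ = x * (x⁻¹ * (a * x * a⁻¹)) by group]
    exact mul_mem hx (hL.le (h0H x hx a ha))
  · exact hK.normal (OddTypeP.fittingHallOf_le M ha)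

/-- The nontrivial elements of `H U₁` lie in `A(M)`. -/
theorem line_mem_coreA (hG : IsMinSimpleOddOrder G) (h : Hyp9 M W₁ U W₂)
    (hK : IsChiefKernel M U H₀) (hL : IsLinePair M U W₂ H₀ H₁) {x : G}
    (hx : x ∈ fittingHallOf M ⊔ (U ⊓ quotStab H₁ H₀)) (hx1 : x ≠ 1) : x ∈ coreA M := by
  obtain ⟨V, hd, -, hM'⟩ := exists_decomp_of_typeP hG h.coatom h.data
  have hxD : x ∈ ⁅M, M⁆ :=
    (_root_.sup_le h.le_M.1 (inf_le_left.trans h.le_M.2.1) :
      fittingHallOf M ⊔ (U ⊓ quotStab H₁ H₀) ≤ ⁅M, M⁆) hx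
  have hxM : x ∈ M := derived_le M hxD
  set n := Nat.card (fittingHallOf M) with hn
  set j := (fittingHallOf M).relIndex M with hj
  have hcop : n.Coprime j := fittingHallOf_coprime M
  haveI : ((fittingHallOf M).subgroupOf M).Normal := ⟨fun z hz g =>
    conj_mem_of_le_normalizer (le_normalizer_fittingHallOf M) g.2 hz⟩
  have hr : x ^ j ∈ fittingHallOf M :=
    Subgroup.mem_subgroupOf.1 (Subgroup.pow_index_mem ((fittingHallOf M).subgroupOf M) ⟨x, hxM⟩)
  set s := x ^ n with hs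
  have hsj : s ^ j = 1 := by
    rw [hs, ← pow_mul, mul_comm, pow_mul]
    exact congrArg Subtype.val (pow_card_eq_one' (x := (⟨x ^ j, hr⟩ : fittingHallOf M)))
  have hxq := (h.U₁_facts hK hL).2 hx
  have hZM : Subgroup.zpowers s ≤ M := Subgroup.zpowers_le.2 (M.pow_mem hxM n)
  have hZn : Subgroup.zpowers s ≤ Subgroup.normalizer (fittingHallOf M : Set G) :=
    hZM.trans (le_normalizer_fittingHallOf M)
  have hZc : (Nat.card (Subgroup.zpowers s)).Coprime n := by
    rw [Nat.card_zpowers]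
    exact hcop.symm.coprime_dvd_left (orderOf_dvd_of_pow_eq_one hsj)
  obtain ⟨y, hy, hy0⟩ : ∃ y ∈ H₁, y ∉ H₀ := by
    by_contra hno
    push Not at hno
    have h1 := hL.card
    rw [Subgroup.relIndex_eq_one.2 hno] at h1
    exact (h.factor hG hK).1.one_lt.ne h1
  obtain ⟨c, hc, hcy⟩ := Coprime.exists_mem_centralizer_of_coset' (A := Subgroup.zpowers s)
    (K := fittingHallOf M) (N := H₀) hZn hZc (Or.inr (h.solvable hG (OddTypeP.fittingHallOf_le M)))
    hK.le (hZM.trans hK.normal) (hL.le_H hy) fun a ha => by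
      have haq : a ∈ quotStab H₁ H₀ :=
        (Subgroup.zpowers_le.2 ((quotStab H₁ H₀).pow_mem hxq n) : Subgroup.zpowers s ≤ _) ha
      simpa [mul_assoc] using haq.2.2 y hy
  set Q := fittingHallOf M ⊓ Subgroup.centralizer (Subgroup.zpowers s : Set G) with hQ
  have hcQ : c ∈ Q := hc
  have hrQ : x ^ j ∈ Q := by
    refine Subgroup.mem_inf.2 ⟨hr, Subgroup.mem_centralizer_iff.2 fun a ha => ?_⟩
    obtain ⟨i, rfl⟩ := Subgroup.mem_zpowers_iff.1 ha
    exact ((Commute.pow_pow_self x n j).zpow_left i).eq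
  have hQne : Q ≠ ⊥ := fun e => hy0 (by
    rw [e, Subgroup.mem_bot] at hcQ
    rw [hcQ, mul_one, inv_mem_iff] at hcy
    exact hcy)
  haveI : Group.IsNilpotent (fittingHallOf M) := fittingHallOf_nilpotent M
  haveI : Group.IsNilpotent Q :=
    Group.nilpotent_of_mulEquiv (Subgroup.subgroupOfEquivOfLe (inf_le_left : Q ≤ fittingHallOf M))
  haveI : Nontrivial Q := (Subgroup.nontrivial_iff_ne_bot Q).2 hQne
  obtain ⟨⟨z, hzt⟩, hz1⟩ := Subgroup.ne_bot_iff_exists_ne_one.1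
    (Cores.inf_center_ne_bot (G := Q) ⊤ top_ne_bot)
  have hzc : z ∈ Subgroup.center Q := hzt.2
  have hzQ : (z : G) ∈ Q := z.2
  refine (coreA_eq hG (OddOrder14.sec16 hG) h.coatom hd).ge ⟨⟨⟨hxM, (z : G),
    fittingHallOf_le_sigmaCore hG h.coatom hzQ.1, fun e => hz1 (Subtype.ext (Subtype.ext e)), ?_⟩,
    hM' ▸ hxD⟩, hx1⟩
  have h1 : Commute (x ^ j) (z : G) :=
    congrArg Subtype.val (Subgroup.mem_center_iff.1 hzc ⟨x ^ j, hrQ⟩)
  have h2 : Commute s (z : G) :=
    Subgroup.mem_centralizer_iff.1 hzQ.2 s (Subgroup.mem_zpowers s)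
  have hdec : x = (x ^ j) ^ (n.gcdB j) * s ^ (n.gcdA j) := by
    have e := Nat.gcd_eq_gcd_ab n j
    rw [hcop.gcd_eq_one] at e
    rw [hs, ← zpow_natCast x j, ← zpow_natCast x n, ← zpow_mul, ← zpow_mul, ← zpow_add,
      show (j : ℤ) * n.gcdB j + (n : ℤ) * n.gcdA j = 1 by push_cast at e; linarith, zpow_one]
  rw [hdec]
  exact ((h1.zpow_left _).mul_left (h2.zpow_left _)).eq

/-- `‖Ind_{H U₁}^M 1‖² ≤ a (q + 2) / 3`. -/
theorem gamma_norm (hG : IsMinSimpleOddOrder G) (h : Hyp9 M W₁ U W₂) (hK : IsChiefKernel M U H₀)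
    (hL : IsLinePair M U W₂ H₀ H₁)
    (hne : stabC M U H₀ ≠ U ⊓ quotStab H₁ H₀) :
    3 * (classInner (indFun ((fittingHallOf M ⊔ (U ⊓ quotStab H₁ H₀)).subgroupOf M) fun _ => (1 : ℂ))
      (indFun ((fittingHallOf M ⊔ (U ⊓ quotStab H₁ H₀)).subgroupOf M) fun _ => (1 : ℂ))).re ≤
      ((U ⊓ quotStab H₁ H₀).relIndex U * (Nat.card W₁ + 2) : ℕ) := by
  classical
  set U₁ := U ⊓ quotStab H₁ H₀ with hU₁
  set T := (fittingHallOf M ⊔ U₁).subgroupOf M with hT
  haveI := Fintype.ofFinite T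
  have hU₁U : U₁ ≤ U := inf_le_left
  have hXD : fittingHallOf M ⊔ U₁ ≤ ⁅M, M⁆ :=
    _root_.sup_le h.le_M.1 (hU₁U.trans h.le_M.2.1)
  -- the double sum
  let cnt : ↥M → ℕ := fun x => (Finset.univ.filter fun t : T => x⁻¹ * (t : ↥M) * x ∈ T).card
  have hnorm : classInner (indFun T fun _ => (1 : ℂ)) (indFun T fun _ => (1 : ℂ)) =
      ((∑ x : ↥M, cnt x : ℕ) : ℂ) / (Nat.card T : ℂ) ^ 2 := by
    rw [Char.frobenius_reciprocity T _ (Char.indFun_isClassFunction T _), classInner]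
    simp only [indFun, Char.extendByZero_eq, one_mul, map_mul, map_inv₀, map_natCast, map_sum]
    rw [← Finset.mul_sum, Finset.sum_comm, Finset.sum_congr rfl (g := fun x => ((cnt x : ℕ) : ℂ))
      fun x _ => by
        rw [show cnt x = (Finset.univ.filter fun t : T => x⁻¹ * (t : ↥M) * x ∈ T).card from rfl,
          ← Finset.sum_boole]
        refine Finset.sum_congr rfl fun t _ => ?_
        split_ifs <;> simp]
    push_cast
    field_simp
  -- bounds for the summands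
  have hle : ∀ x : ↥M, cnt x ≤ Nat.card T := fun x => by
    rw [Nat.card_eq_fintype_card]; exact Finset.card_le_univ _
  have hodd : Odd (Nat.card T) := (OddSigma.odd_card hG M).of_dvd_nat T.card_subgroup_dvd_card
  have hout : ∀ x : ↥M, x ∉ derivedIn M → 3 * cnt x ≤ Nat.card T := by
    intro x hx
    let S : Subgroup T :=
      { carrier := {t | x⁻¹ * (t : ↥M) * x ∈ T}
        one_mem' := by simp
        mul_mem' := fun {a b} (ha : _ ∈ T) (hb : _ ∈ T) => by
          show x⁻¹ * ((a : ↥M) * b) * x ∈ T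
          rw [show x⁻¹ * ((a : ↥M) * b) * x = x⁻¹ * (a : ↥M) * x * (x⁻¹ * (b : ↥M) * x) by group]
          exact mul_mem ha hb
        inv_mem' := fun {a} (ha : _ ∈ T) => by
          show x⁻¹ * (a : ↥M)⁻¹ * x ∈ T
          rw [show x⁻¹ * (a : ↥M)⁻¹ * x = (x⁻¹ * (a : ↥M) * x)⁻¹ by group]
          exact inv_mem ha }
    have hS : Nat.card S = cnt x := by
      rw [Nat.card_eq_fintype_card, Fintype.card_subtype]
      rfl
    rw [← hS, ← S.card_mul_index, mul_comm 3]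
    refine Nat.mul_le_mul_left _ ?_
    have hi : Odd S.index := hodd.of_dvd_nat (Subgroup.index_dvd_card S)
    have hi1 : S.index ≠ 1 := by
      intro e
      rw [Subgroup.index_eq_one] at e
      -- `T` is normal in `M'`, so an element of `W₁` would normalise `U₁`
      obtain ⟨a, ha, w, hw, haw⟩ := h.exists_M_mul x.2
      have hw1 : w ≠ 1 := fun e' => hx (by
        show (x : G) ∈ ⁅M, M⁆
        rw [← haw, e', mul_one]
        exact ha)
      have hcU : ⁅U, U⁆ ≤ U₁ := (h.factor hG hK).2.2.2.2.1.trans (h.U₁_facts hK hL).1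
      have hU₁n : U ≤ Subgroup.normalizer (U₁ : Set G) := fun v hv =>
        Coprime.mem_normalizer_of_forall fun z hz => by
          rw [show v * z * v⁻¹ = ⁅v, z⁆ * z by rw [commutatorElement_def]; group]
          exact mul_mem (hcU (Subgroup.commutator_mem_commutator hv (hU₁U hz))) hz
      have hnormX : ⁅M, M⁆ ≤ Subgroup.normalizer ((fittingHallOf M ⊔ U₁ : Subgroup G) : Set G) := by
        rw [← h.M'_eq]
        refine _root_.sup_le (le_sup_left.trans Subgroup.le_normalizer) fun v hv =>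
          Coprime.mem_normalizer_of_forall fun z hz => ?_
        have hle : fittingHallOf M ⊔ U₁ ≤
            (fittingHallOf M ⊔ U₁).comap (MulAut.conj v).toMonoidHom :=
          _root_.sup_le (fun c hc => Subgroup.mem_sup_left
            (conj_mem_of_le_normalizer h.H_normalized (h.le_M.2.1 hv) hc))
            fun c hc => Subgroup.mem_sup_right (conj_mem_of_le_normalizer hU₁n hv hc)
        exact hle hz
      have hstep : ∀ v ∈ U₁, w⁻¹ * v * w ∈ U₁ := by
        intro v hv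
        have hv' : a * v * a⁻¹ ∈ fittingHallOf M ⊔ U₁ :=
          conj_mem_of_le_normalizer hnormX ha (Subgroup.mem_sup_right hv)
        have h1 : (⟨⟨a * v * a⁻¹, derived_le M (hXD hv')⟩, hv'⟩ : T) ∈ S :=
          e ▸ Subgroup.mem_top _
        have h2 : (x : G)⁻¹ * (a * v * a⁻¹) * x ∈ fittingHallOf M ⊔ U₁ := h1
        rw [← haw, show (a * w)⁻¹ * (a * v * a⁻¹) * (a * w) = w⁻¹ * v * w by group] at h2
        have hU₁H : U₁ ≤ Subgroup.normalizer (fittingHallOf M : Set G) :=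
          (hU₁U.trans h.le_M.2.1).trans h.H_normalized
        obtain ⟨b, hb, v', hv', e'⟩ := (Coprime.mem_sup_iff hU₁H).1 h2
        have hwU : w⁻¹ * v * w ∈ U := by
          simpa using conj_mem_of_le_normalizer h.U_normalized (inv_mem hw) (hU₁U hv)
        have h3 : b ∈ fittingHallOf M ⊓ U := Subgroup.mem_inf.2 ⟨hb, by
          rw [show b = w⁻¹ * v * w * v'⁻¹ by rw [← e']; group]
          exact mul_mem hwU (inv_mem (hU₁U hv'))⟩
        rw [h.H_U_inf, Subgroup.mem_bot] at h3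
        rw [h3, one_mul] at e'
        exact e' ▸ hv'
      refine hne (le_antisymm (h.U₁_facts hK hL).1 fun v hv => ?_)
      rw [(h.line_facts hG hK hL).2.2.2.1 v hv.1]
      intro e₁ he₁
      obtain ⟨i, hi⟩ : ∃ i : ℕ, w ^ i = e₁ := by
        haveI := Fact.mk h.prime
        obtain ⟨i, hi⟩ := (mem_powers_iff_mem_zpowers).2 (mem_zpowers_of_prime_card
          (G := W₁) rfl (g := (⟨w, hw⟩ : W₁)) (g' := ⟨e₁, he₁⟩)
          fun e' => hw1 (congrArg Subtype.val e'))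
        exact ⟨i, congrArg Subtype.val hi⟩
      rw [← hi]
      suffices hall : ∀ i : ℕ, ∀ v ∈ U₁, (w ^ i)⁻¹ * v * w ^ i ∈ U₁ from (hall i v hv).2
      intro i
      induction i with
      | zero => intro v hv; simpa using hv
      | succ i ih =>
        intro v hv
        rw [pow_succ, show (w ^ i * w)⁻¹ * v * (w ^ i * w) = w⁻¹ * ((w ^ i)⁻¹ * v * w ^ i) * w by
          group]
        exact hstep _ (ih v hv)
    obtain ⟨i, hi⟩ := hi
    omega
  -- the bound
  have hidx : T.index = (U₁.relIndex U) * Nat.card W₁ := by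
    show (fittingHallOf M ⊔ U₁).relIndex M = _
    rw [← Subgroup.relIndex_mul_relIndex _ ⁅M, M⁆ M hXD (derived_le M), h.relIndex_sup hU₁U]
    congr 1
    exact h.index_derived
  have hsum : 3 * ∑ x : ↥M, cnt x ≤
      Nat.card T * (2 * Nat.card (derivedIn M) + Nat.card ↥M) := by
    rw [Finset.mul_sum, ← Finset.sum_filter_add_sum_filter_not Finset.univ (· ∈ derivedIn M)]
    refine (add_le_add (Finset.sum_le_card_nsmul _ _ (3 * Nat.card T) fun x _ =>
      Nat.mul_le_mul_left 3 (hle x)) (Finset.sum_le_card_nsmul _ _ (Nat.card T) fun x hx =>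
      hout x (Finset.mem_filter.1 hx).2)).trans (le_of_eq ?_)
    have hpart := Finset.card_filter_add_card_filter_not (s := (Finset.univ : Finset ↥M))
      (· ∈ derivedIn M)
    have hc : (Finset.univ.filter fun x => x ∈ derivedIn M).card = Nat.card (derivedIn M) := by
      rw [Nat.card_eq_fintype_card, Fintype.card_subtype]
    rw [smul_eq_mul, smul_eq_mul, Nat.card_eq_fintype_card (α := ↥M), ← Finset.card_univ, ← hpart,
      hc]
    ring
  have hK' : Nat.card (derivedIn M) * Nat.card W₁ = Nat.card ↥M := by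
    rw [← h.index_derived]; exact Subgroup.card_mul_index _
  have hK'' : Nat.card (derivedIn M) = Nat.card T * U₁.relIndex U := by
    have h1 := T.card_mul_index
    rw [hidx, ← mul_assoc] at h1
    exact Nat.eq_of_mul_eq_mul_right Nat.card_pos (hK'.trans h1.symm)
  rw [hnorm]
  have hT0 : (0 : ℝ) < Nat.card T := Nat.cast_pos.2 Nat.card_pos
  rw [show (((∑ x : ↥M, cnt x : ℕ) : ℂ) / (Nat.card T : ℂ) ^ 2) =
    ((((∑ x : ↥M, cnt x : ℕ) : ℝ) / (Nat.card T : ℝ) ^ 2 : ℝ) : ℂ) by push_cast; ring,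
    Complex.ofReal_re, ← mul_div_assoc, div_le_iff₀ (by positivity)]
  rw [← hK', hK''] at hsum
  have h2 : ((3 * ∑ x : ↥M, cnt x : ℕ) : ℝ) ≤
      ((Nat.card T * (2 * (Nat.card T * U₁.relIndex U) +
        Nat.card T * U₁.relIndex U * Nat.card W₁) : ℕ) : ℝ) := by exact_mod_cast hsum
  push_cast at h2 ⊢
  linarith

end Line

/-- An irreducible member of `calS` is not trivial on `H`. -/
theorem irr_member_ne_on_H [Fintype ↥(derivedIn M)] (h : Hyp9 M W₁ U W₂) {Y : Subgroup G}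
    {χ : ↥M → ℂ} (hχ : χ ∈ calS M Y) (hi : IsIrrCharacter ↥M χ) :
    ∃ x : ↥M, (x : G) ∈ fittingHallOf M ∧ χ x ≠ χ 1 := by
  obtain ⟨θ, hθ, rfl⟩ := hχ
  obtain ⟨a, ha, hne⟩ := hθ.2.2
  refine ⟨a, ha, fun e => hne (Broline.apply_eq_of_constituent
    (Char.IsCharacter.restrict (Char.IsIrrCharacter.isCharacter hi) (derivedIn M)) hθ.1 ?_
    (by simpa using e))⟩
  have h1 := Char.classInner_irr_self hi
  rw [Char.frobenius_reciprocity (derivedIn M) θ (Char.IsIrrCharacter.isClassFunction hi)] at h1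
  rw [← Char.classInner_conj_symm, h1, map_one]
  exact one_ne_zero

/-- Peterfalvi (9.11). -/
theorem coherence (hG : IsMinSimpleOddOrder G) (h : Hyp9 M W₁ U W₂) (hK : IsChiefKernel M U H₀) :
    IsCoherent (calS M (H₀ ⊔ ⁅stabC M U H₀, stabC M U H₀⁆)) {1}ᶜ
      (dadeIsometry (coreA0 M) M (supportR M)) := by
  classical
  haveI := Fintype.ofFinite ↥(derivedIn M)
  obtain ⟨μ, δ, η, R, P⟩ := exists_typePChars hG h.coatom h.data
  set C := stabC M U H₀ with hC
  set Y := H₀ ⊔ ⁅C, C⁆ with hY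
  set q := Nat.card W₁ with hq
  set u := C.relIndex U with hu
  obtain ⟨hCC, hUC⟩ := h.commC_le hG hK
  have hH := fittingHallOf_le_sigmaCore hG h.coatom
  have hsub : calS M Y ⊆ seqIndD M (sigmaCore M) ⊥ := seqIndD_mono hH bot_le
  have hne : (calS M Y).Nonempty := by
    obtain ⟨hcard, hall⟩ := h.reducible_core_ind hG hK
    have h1 : {χ ∈ calS M H₀ | ¬ IsIrrCharacter ↥M χ}.Nonempty := by
      refine Set.nonempty_of_ncard_ne_zero ?_
      rw [hcard]
      have := (h.factor hG hK).1.two_le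
      omega
    obtain ⟨χ, hχ, hn⟩ := h1
    exact ⟨χ, seqIndD_mono le_rfl (sup_le_sup_left hCC _) (hall χ hχ hn).1⟩
  have hS : IsCoherenceSystem (calS M Y) (dadeIsometry (coreA0 M) M (supportR M)) R :=
    P.sys_seqIndD hH hne
  have hirr0 : ∀ {θ}, θ ∈ irrD M (fittingHallOf M) Y → θ ∈ irrD M (fittingHallOf M) H₀ :=
    fun hθ => irrD_mono le_sup_left hθ
  by_cases hgal : IsGaloisPair M U H₀
  · refine Coherence.uniform hS ?_
    rintro _ ⟨θ, hθ, rfl⟩ _ ⟨θ', hθ', rfl⟩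
    rw [h.ind_degree (h.galois_degree hG hK hgal hθ).1, h.ind_degree (h.galois_degree hG hK hgal hθ').1]
  obtain ⟨H₁, hL, -⟩ := h.nonGalois_line hG hK hgal
  set U₁ := U ⊓ quotStab H₁ H₀ with hU₁
  set a := U₁.relIndex U with ha
  set k := C.relIndex U₁ with hk
  have hku : k * a = u := Subgroup.relIndex_mul_relIndex C U₁ U (h.U₁_facts hK hL).1 inf_le_left
  obtain ⟨hdeg, -, hcount⟩ := h.nonGalois_characters hG hK hL
  rw [← hU₁, ← ha] at hdeg hcount
  obtain ⟨haodd, hap, ha1⟩ : Odd a ∧ 2 * a ≤ factorPrime W₂ H₀ - 1 ∧ 1 < a :=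
    h.a_bound hG hK hL
  have hq0 : 0 < q := h.prime.pos
  have hqa : 0 < q * a := Nat.mul_pos hq0 (by omega)
  have hdval : ∀ χ ∈ calS M Y, ∃ n : ℕ, 1 ≤ n ∧ n ≤ k ∧ χ 1 = ((q * (n * a) : ℕ) : ℂ) := by
    rintro _ ⟨θ, hθ, rfl⟩
    obtain ⟨n, hn⟩ := hdeg θ (hirr0 hθ)
    refine ⟨n, ?_, ?_, h.ind_degree hn⟩
    · by_contra h0
      rw [show n = 0 by omega, zero_mul, Nat.cast_zero] at hn
      exact Char.IsIrrCharacter.apply_one_ne_zero hθ.1 hn
    · have h1 := h.degree_le hG hK hθ hn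
      rw [← hC, ← hu, ← hku] at h1
      exact Nat.le_of_mul_le_mul_right h1 (by omega)
  rcases Nat.lt_or_ge k 2 with hk2 | hk2
  · refine Coherence.uniform hS fun φ hφ ψ hψ => ?_
    obtain ⟨n, hn1, hn2, hn⟩ := hdval φ hφ
    obtain ⟨m, hm1, hm2, hm⟩ := hdval ψ hψ
    rw [hn, hm, show n = m by omega]
  -- the irreducible members of degree `q a`
  have hfin := sys_finite hS
  set S₁ := hfin.toFinset.filter fun χ => IsIrrCharacter ↥M χ ∧ χ 1 = ((q * a : ℕ) : ℂ) with hS₁def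
  have memS₁ : ∀ {χ}, χ ∈ S₁ ↔
      χ ∈ calS M Y ∧ IsIrrCharacter ↥M χ ∧ χ 1 = ((q * a : ℕ) : ℂ) := by
    intro χ; rw [hS₁def, Finset.mem_filter, Set.Finite.mem_toFinset]
  have hS₁S : ↑S₁ ⊆ calS M Y := fun χ hχ => (memS₁.1 hχ).1
  have hS₁c : ∀ φ ∈ S₁, conjFun φ ∈ S₁ := by
    intro φ hφ
    obtain ⟨h1, h2, h3⟩ := memS₁.1 hφ
    exact memS₁.2 ⟨hS.conj_mem φ h1, Char.IsIrrCharacter.conj h2, by simp [conjFun, h3]⟩
  have hn1 : ∀ φ ∈ S₁, classInner φ φ = 1 := fun φ hφ => Char.classInner_irr_self (memS₁.1 hφ).2.1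
  set N := S₁.card with hN
  have hder : ⁅U, U⁆ ≤ C := (h.factor hG hK).2.2.2.2.1
  have hN2 : (factorPrime W₂ H₀ - 1) * u ≤ a ^ 2 * N := by
    refine le_trans (Nat.mul_le_mul_left _ (Nat.le_of_dvd relIndex_pos
      (Subgroup.relIndex_dvd_of_le_left U hder))) ((hcount ⁅U, U⁆ le_rfl hder).trans ?_)
    refine Nat.mul_le_mul_left _ ?_
    rw [hN, ← Set.ncard_coe_finset]
    refine Set.ncard_le_ncard (fun χ hχ => ?_) (Finset.finite_toSet _)
    obtain ⟨h1, h2, h3⟩ := hχ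
    exact Finset.mem_coe.2 (memS₁.2 ⟨seqIndD_mono le_rfl (sup_le_sup_left
      (Subgroup.commutator_mono stabC_le_U stabC_le_U) _) h1, h2, h3⟩)
  have hN2k : 2 * k ≤ N := by
    refine Nat.le_of_mul_le_mul_left (le_trans ?_ hN2) (pow_pos (by omega : 0 < a) 2)
    rw [← hku]
    calc a ^ 2 * (2 * k) = 2 * a * (k * a) := by ring
      _ ≤ _ := Nat.mul_le_mul_right _ hap
  have hN0 : 0 < N := by omega
  obtain ⟨ψ, hψ⟩ := Finset.card_pos.1 hN0
  have hcoh1 : IsCoherent (↑S₁ : Set (↥M → ℂ)) {1}ᶜ (dadeIsometry (coreA0 M) M (supportR M)) :=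
    Coherence.uniform (sys_subset hS hS₁S ⟨ψ, hψ⟩ hS₁c) fun φ hφ φ' hφ' =>
      (memS₁.1 hφ).2.2.trans (memS₁.1 hφ').2.2.symm
  have hdvd : ∀ χ ∈ calS M Y, ∃ e : ℤ, χ 1 = e * ψ 1 := fun χ hχ => by
    obtain ⟨n, -, -, hn⟩ := hdval χ hχ
    exact ⟨n, by rw [hn, (memS₁.1 hψ).2.2]; push_cast; ring⟩
  have hsum : ∑ φ ∈ S₁, ((φ 1).re ^ 2 / (classInner φ φ).re) = (N : ℝ) * ((q * a : ℕ) : ℝ) ^ 2 := by
    rw [Finset.sum_congr rfl (g := fun _ => ((q * a : ℕ) : ℝ) ^ 2) (fun φ hφ => by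
      rw [(memS₁.1 hφ).2.2, hn1 φ hφ, Complex.natCast_re, Complex.one_re, div_one]),
      Finset.sum_const, nsmul_eq_mul]
  have hbig : ∀ χ ∈ calS M Y, (2 * (χ 1).re * (ψ 1).re : ℝ) ≤ 2 * k * ((q * a : ℕ) : ℝ) ^ 2 := by
    intro χ hχ
    obtain ⟨n, -, hnk, hn⟩ := hdval χ hχ
    rw [hn, (memS₁.1 hψ).2.2, Complex.natCast_re, Complex.natCast_re]
    have h1 : (n : ℝ) ≤ k := by exact_mod_cast hnk
    push_cast
    nlinarith [mul_nonneg (sq_nonneg ((q : ℝ) * a)) (sub_nonneg.2 h1)]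
  have hqa2 : (0 : ℝ) < ((q * a : ℕ) : ℝ) ^ 2 := pow_pos (Nat.cast_pos.2 hqa) 2
  rcases lt_or_eq_of_le hN2k with hlt | heq
  · refine adjoin_all hS S₁ hS₁S hS₁c hcoh1 hψ hdvd fun χ hχ => ?_
    rw [hsum]
    refine lt_of_le_of_lt (hbig χ hχ) (mul_lt_mul_of_pos_right ?_ hqa2)
    exact_mod_cast hlt
  -- the boundary case
  have hp2a : factorPrime W₂ H₀ - 1 = 2 * a := by
    refine le_antisymm ?_ hap
    rw [← heq, ← hku] at hN2
    refine Nat.le_of_mul_le_mul_right (hN2.trans_eq ?_) (Nat.mul_pos (by omega : 0 < k) (by omega : 0 < a))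
    ring
  set T₀ := {θ ∈ irrD M (fittingHallOf M) (H₀ ⊔ C) | ∃ f, ThetaData M U H₀ C f ∧
    θ = thetaOf M (fittingHallOf M ⊔ C) f} with hT₀
  set C₂ := hfin.toFinset.filter fun χ => IsIrrCharacter ↥M χ ∧ χ 1 = ((q * u : ℕ) : ℂ) with hC₂def
  have memC₂ : ∀ {χ}, χ ∈ C₂ ↔
      χ ∈ calS M Y ∧ IsIrrCharacter ↥M χ ∧ χ 1 = ((q * u : ℕ) : ℂ) := by
    intro χ; rw [hC₂def, Finset.mem_filter, Set.Finite.mem_toFinset]
  set T₁ := (fittingHallOf M ⊔ U₁).subgroupOf M with hT₁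
  set γ := indFun T₁ (fun _ => (1 : ℂ)) with hγ
  have hgn := h.gamma_norm hG hK hL fun e => by
    have : k = 1 := by rw [hk, hU₁, ← e]; exact Subgroup.relIndex_self C
    omega
  have hm : (a * (q + 2) : ℕ) < 3 * C₂.card := by
    by_contra hle
    push Not at hle
    have hT0fin : T₀.Finite := irrD_finite.subset fun _ h => h.1
    have hred : (T₀ ∩ {θ | ¬ IsIrrCharacter ↥M (indFun (derivedIn M) θ)}).ncard ≤ 2 * a := by
      rw [← hp2a]
      refine le_trans (Set.ncard_le_ncard ?_ (irrD_finite.subset fun _ h => h.1))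
        (h.reducible_ncard_le hG hK)
      exact fun θ hθ => ⟨irrD_mono le_sup_left hθ.1.1, hθ.2⟩
    have hirr : (T₀ \ {θ | ¬ IsIrrCharacter ↥M (indFun (derivedIn M) θ)}).ncard ≤ q * C₂.card := by
      set B := T₀ \ {θ | ¬ IsIrrCharacter ↥M (indFun (derivedIn M) θ)}
      have hBfin : B.Finite := hT0fin.sdiff
      rw [Set.ncard_eq_toFinset_card _ hBfin]
      refine le_trans (Finset.card_le_mul_card_image hBfin.toFinset q (f := indFun (derivedIn M))
        fun b hb => ?_) (Nat.mul_le_mul_left _ (Finset.card_le_card ?_))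
      · obtain ⟨θ, hθ, rfl⟩ := Finset.mem_image.1 hb
        rw [Set.Finite.mem_toFinset] at hθ
        haveI := Fintype.ofFinite W₁
        refine le_trans (Finset.card_le_card (t := Finset.univ.image fun e : W₁ =>
          CliffordChar.conjFun (derivedIn M) ⟨e, h.le_M.2.2.2.1 e.2⟩ θ) fun θ' hθ' => ?_)
          (Finset.card_image_le.trans (by rw [Finset.card_univ, hq, Nat.card_eq_fintype_card]))
        rw [Finset.mem_filter, Set.Finite.mem_toFinset] at hθ'
        obtain ⟨g, hg⟩ := exists_conj_of_ind_eq hθ.1.1.1 hθ'.1.1.1.1 hθ'.2.symm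
        obtain ⟨b, hb, e, he, hbe⟩ := h.exists_M_mul g.2
        refine Finset.mem_image.2 ⟨⟨e, he⟩, Finset.mem_univ _, ?_⟩
        rw [← hg, show g = (⟨b, derived_le M hb⟩ : ↥M) * ⟨e, h.le_M.2.2.2.1 he⟩ from
          Subtype.ext hbe.symm, CliffordChar.conjFun_mul]
        exact (conj_derived (Char.IsIrrCharacter.isClassFunction
          (CliffordChar.isIrr_conjFun _ _ hθ.1.1.1)) hb).symm
      · intro χ hχ
        obtain ⟨θ, hθ, rfl⟩ := Finset.mem_image.1 hχ
        rw [Set.Finite.mem_toFinset] at hθ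
        obtain ⟨⟨hm, f, hf, hfθ⟩, hi⟩ := hθ
        refine memC₂.2 ⟨seqIndD_mono le_rfl (sup_le_sup_left hCC _) ⟨θ, hm, rfl⟩, not_not.1 hi, ?_⟩
        exact h.ind_degree (hfθ ▸ hf.degree h)
    have h1 := h.full_count hG hK hL
    rw [← hC, ← hu, ← hT₀, ← hq, hp2a,
      ← Set.ncard_inter_add_ncard_sdiff_eq_ncard T₀ {θ | ¬ IsIrrCharacter ↥M (indFun (derivedIn M) θ)}
        hT0fin] at h1
    have h2 : u ≤ a ^ (q - 1) := h.u_bound hG hK hL
    have hq3 : 3 ≤ q := by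
      have h3 : Odd q := OddSigma.odd_card hG W₁
      obtain ⟨i, hi⟩ := h3
      have := h.prime.two_le
      omega
    have key := nine_eleven_arith (a := a) (q := q) (by omega) hq3
    have h4 : 3 * (2 * a) ^ q ≤ a ^ (q - 1) * (6 * a) + a ^ (q - 1) * (q * (a * (q + 2))) :=
      calc 3 * (2 * a) ^ q ≤ 3 * (u * (2 * a + q * C₂.card)) :=
            Nat.mul_le_mul_left 3 (h1.trans (Nat.mul_le_mul_left u (add_le_add hred hirr)))
        _ ≤ 3 * (a ^ (q - 1) * (2 * a + q * C₂.card)) := by gcongr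
        _ = a ^ (q - 1) * (6 * a) + a ^ (q - 1) * (q * (3 * C₂.card)) := by ring
        _ ≤ _ := by gcongr
    linarith
  -- `Δ = τ (γ - ψ)`
  have hcl1 : IsClassFunction T₁ (fun _ : T₁ => (1 : ℂ)) := fun _ _ => rfl
  have hγc : IsCharacter ↥M γ :=
    Char.IsCharacter.indFun T₁ (Char.IsIrrCharacter.isCharacter Char.isIrrCharacter_one)
  obtain ⟨hψS, hψi, hψd⟩ := memS₁.1 hψ
  have hαgc : IsGeneralizedCharacter ↥M (γ - ψ) :=
    isGC_sub (isGC_of_isCharacter hγc) (isGC_of_irr hψi)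
  have hγ1 : γ 1 = ((q * a : ℕ) : ℂ) := by
    rw [hγ, Char.indFun_one_apply, mul_one]
    show ((fittingHallOf M ⊔ U₁).relIndex M : ℂ) = _
    rw [← Subgroup.relIndex_mul_relIndex _ ⁅M, M⁆ M
      (_root_.sup_le h.le_M.1 (inf_le_left.trans h.le_M.2.1)) (derived_le M),
      h.relIndex_sup (inf_le_left : U₁ ≤ U), show ⁅M, M⁆.relIndex M = q from h.index_derived,
      mul_comm]
  have hsupp : ∀ φ ∈ calS M Y, ∀ x : ↥M, x ≠ 1 → (x : G) ∉ coreA M → φ x = 0 :=
    fun φ hφ => P.supp (hsub hφ)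
  have hαA : ∀ x : ↥M, (x : G) ∉ coreA0 M → (γ - ψ) x = 0 := by
    intro x hx
    have hxA : (x : G) ∉ coreA M := fun e => hx (Or.inl e)
    by_cases hx1 : x = 1
    · rw [hx1, Pi.sub_apply, hγ1, hψd, sub_self]
    rw [Pi.sub_apply, hsupp ψ hψS x hx1 hxA, sub_zero, hγ, indFun, Finset.sum_eq_zero, mul_zero]
    intro y _
    refine Char.extendByZero_not_mem T₁ _ fun hy => hxA ?_
    have h1 : ((y⁻¹ * x * y : ↥M) : G) ∈ coreA M := h.line_mem_coreA hG hK hL hy fun e => hx1 (by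
      have h2 : y⁻¹ * x * y = 1 := Subtype.ext e
      rw [show x = y * (y⁻¹ * x * y) * y⁻¹ by group, h2]
      group)
    have h3 := conj_mem_coreA hG (OddOrder14.sec16 hG) h.coatom y.2 h1
    simpa [mul_assoc] using h3
  have hγo : ∀ χ ∈ calS M Y, IsIrrCharacter ↥M χ → classInner γ χ = 0 := by
    intro χ hχ hi
    by_contra hne0
    obtain ⟨x, hx, hxne⟩ := h.irr_member_ne_on_H hχ hi
    refine hxne (Broline.apply_eq_of_constituent hγc hi hne0 ?_)
    rw [hγ, indFun, indFun]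
    congr 1
    refine Finset.sum_congr rfl fun y _ => ?_
    have h1 : y⁻¹ * x * y ∈ T₁ := by
      show ((y⁻¹ * x * y : ↥M) : G) ∈ fittingHallOf M ⊔ U₁
      refine Subgroup.mem_sup_left ?_
      simpa using conj_mem_of_le_normalizer (le_normalizer_fittingHallOf M) (inv_mem y.2) hx
    have h2 : y⁻¹ * 1 * y ∈ T₁ := by simp
    rw [Char.extendByZero_mem _ _ h1, Char.extendByZero_mem _ _ h2]
  set Δ := dadeIsometry (coreA0 M) M (supportR M) (γ - ψ) with hΔ
  have hDade : DadeHypothesis (coreA0 M) M (supportR M) := P.a0_eq ▸ P.dade.dade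
  have hαcl := isGC_isClassFunction hαgc
  have hΔgc : IsGeneralizedCharacter G Δ := Dade.dadeIsometry_isGeneralized hDade hαgc hαA
  have hτ : ∀ β ∈ zspanOn (calS M Y) {1}ᶜ,
      classInner Δ (dadeIsometry (coreA0 M) M (supportR M) β) = classInner (γ - ψ) β := by
    intro β hβ
    refine dadeIsometry_inner hDade hαcl hαA (isGC_isClassFunction
      (isGC_of_mem_zspan (fun φ hφ => isGC_of_isCharacter (hS.isCharacter φ hφ)) hβ.1)) fun x hx => ?_
    by_cases hx1 : x = 1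
    · rw [hx1]; exact (mem_zspanOn_one.1 hβ).2
    · obtain ⟨m, hm'⟩ := exists_coeffs_of_mem_zspan (S := hfin.toFinset)
        (by rw [Set.Finite.coe_toFinset]; exact hβ.1)
      rw [hm', Finset.sum_apply]
      refine Finset.sum_eq_zero fun φ hφ => ?_
      rw [Pi.smul_apply, hsupp φ (hfin.mem_toFinset.1 hφ) x hx1 fun e => hx (Or.inl e), smul_zero]
  obtain ⟨-, τ₁, hτ₁, hag⟩ := id hcoh1
  have hkq : ((k : ℤ) : ℂ) * (((q * a : ℕ) : ℤ) : ℂ) = ((q * u : ℕ) : ℂ) := by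
    rw [← hku]; push_cast; ring
  have hd0 : ((q * a : ℕ) : ℤ) ≠ 0 := by exact_mod_cast hqa.ne'
  obtain ⟨χ, hχ, hpair⟩ := exists_pair_of_witness hS S₁ hS₁S hS₁c hτ₁ hag hn1 hd0
    (fun φ hφ => by rw [(memS₁.1 hφ).2.2, Int.cast_natCast]) hk2 heq.symm hψ C₂
    (fun χ hχ => (memC₂.1 hχ).1) (fun χ hχ => Char.classInner_irr_self (memC₂.1 hχ).2.1)
    (fun χ hχ => by rw [(memC₂.1 hχ).2.2, hkq])
    (fun χ hχ hmem => by
      have h1 := (memC₂.1 hχ).2.2.symm.trans (memS₁.1 hmem).2.2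
      have h2 : q * u = q * a := by exact_mod_cast h1
      have h3 := Nat.eq_of_mul_eq_mul_left hq0 h2
      rw [← hku] at h3
      nlinarith) hΔgc
    (fun φ hφ hne' => by
      obtain ⟨hφS, hφi, hφd⟩ := memS₁.1 hφ
      rw [hτ _ (mem_zspanOn_one.2 ⟨zspan_sub (subset_zspan hφS) (subset_zspan hψS),
        by simp [hφd, hψd]⟩), Char.classInner_sub_left, Char.classInner_sub_right,
        Char.classInner_sub_right, hγo φ hφS hφi, hγo ψ hψS hψi,
        Char.classInner_irr_of_ne hψi hφi (Ne.symm hne'), hn1 ψ hψ]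
      ring)
    (fun χ hχ => by
      obtain ⟨hχS, hχi, hχd⟩ := memC₂.1 hχ
      have hχψ : χ ≠ ψ := fun e => by
        have h1 : q * u = q * a := by exact_mod_cast (hχd.symm.trans (e ▸ hψd))
        have h3 := Nat.eq_of_mul_eq_mul_left hq0 h1
        rw [← hku] at h3
        nlinarith
      rw [hτ _ (mem_zspanOn_one.2 ⟨zspan_sub (subset_zspan hχS)
        (zspan_zsmul _ (subset_zspan hψS)), by
          rw [Pi.sub_apply, Pi.smul_apply, hχd, hψd, zsmul_eq_mul, ← hkq]; push_cast; ring⟩),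
        Char.classInner_sub_left, Char.classInner_sub_right, Char.classInner_sub_right,
        classInner_zsmul_right, classInner_zsmul_right, hγo χ hχS hχi, hγo ψ hψS hψi,
        Char.classInner_irr_of_ne hψi hχi hχψ.symm, hn1 ψ hψ]
      push_cast
      ring)
    (by
      rw [hΔ, dadeIsometry_inner hDade hαcl hαA hαcl hαA, Char.classInner_sub_left,
        Char.classInner_sub_right, Char.classInner_sub_right, hγo ψ hψS hψi,
        classInner_symm_zero (hγo ψ hψS hψi), hn1 ψ hψ]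
      simp only [sub_zero, zero_sub, sub_neg_eq_add, Complex.add_re, Complex.one_re]
      have h1 : ((a * (q + 2) : ℕ) : ℝ) < ((3 * C₂.card : ℕ) : ℝ) := by exact_mod_cast hm
      rw [Nat.cast_mul 3, Nat.cast_ofNat] at h1
      have h2 := hgn.trans_lt (by rw [← hU₁, ← ha, ← hq]; exact h1)
      rw [← hT₁, ← hγ] at h2
      linarith)
  obtain ⟨hχS, hχi, hχd⟩ := memC₂.1 hχ
  have hχ' : conjFun χ ∈ calS M Y := hS.conj_mem χ hχS
  refine adjoin_all hS (S₁ ∪ {χ, conjFun χ}) ?_ ?_ (by simpa using hpair)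
    (Finset.mem_union_left _ hψ) hdvd fun φ hφ => ?_
  · intro x hx
    simp only [Finset.coe_union, Finset.coe_insert, Finset.coe_singleton, Set.mem_union,
      Set.mem_insert_iff, Set.mem_singleton_iff] at hx
    rcases hx with h | rfl | rfl
    exacts [hS₁S h, hχS, hχ']
  · intro x hx
    simp only [Finset.mem_union, Finset.mem_insert, Finset.mem_singleton] at hx ⊢
    rcases hx with h | rfl | rfl
    · exact Or.inl (hS₁c x h)
    · exact Or.inr (Or.inr rfl)
    · exact Or.inr (Or.inl (conjFun_conjFun χ))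
  · have hnot : χ ∉ S₁ := fun hmem => by
      have h1 := hχd.symm.trans (memS₁.1 hmem).2.2
      have h2 : q * u = q * a := by exact_mod_cast h1
      have h3 := Nat.eq_of_mul_eq_mul_left hq0 h2
      rw [← hku] at h3
      nlinarith
    refine lt_of_le_of_lt (hbig φ hφ) (lt_of_eq_of_lt ?_ (Finset.sum_lt_sum_of_subset
      Finset.subset_union_left (i := χ) (Finset.mem_union_right _ (Finset.mem_insert_self _ _))
      hnot ?_ fun x _ _ => div_nonneg (sq_nonneg _) (Char.classInner_self_re_nonneg x)))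
    · rw [hsum, ← heq]; push_cast; ring
    · rw [hχd, Char.classInner_irr_self hχi, Complex.natCast_re, Complex.one_re, div_one]
      exact pow_pos (Nat.cast_pos.2 (Nat.mul_pos hq0 relIndex_pos)) 2

end Hyp9

end Cfsg.Agent.Peterfalvi
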