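import Cfsg.Agent.Lib.Peterfalvi.Sec9Group
import Cfsg.Agent.Lib.CyclicTI.Basic

/-!
# The linear characters of `H / H₀` (owner: helper44)

* `facChars H H₀`, `facEquiv`, `card_facChars`, `fixSub H l`
* `exists_ext`: extension of a linear character to `H ⋊ V`
* `Hyp9.fix_le_stabC`, `card_fixed`: the characters fixed by `W₁`
* `Hyp9.galois_fix`, `comp_bijective`, `fix_le_line`: the two cases of (9.7)
-/

set_option autoImplicit false
set_option linter.unusedSectionVars false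
set_option linter.style.haveILetI false

namespace Cfsg.Agent.Peterfalvi

open scoped Pointwise commutatorElement
open Cfsg OddMax FixedFormula

universe u v

section ModDual

variable {Γ : Type u} [Group Γ] [Finite Γ] {A : Type v} [CommGroup A] [Finite A]
  {U E : Subgroup Γ} {φ : Γ →* MulAut A} {p : ℕ}

/-- A normal subgroup fixing a nontrivial character acts trivially. -/
theorem ModData.fix_char_trivial (D : ModData U E φ p) {V : Subgroup Γ}
    (hn : ∀ g : Γ, ∀ v ∈ V, g * v * g⁻¹ ∈ V) {ψ : A →* ℂˣ} (hψ : ψ ≠ 1)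
    (hfix : ∀ v ∈ V, ∀ a, ψ (φ v a) = ψ a) : ∀ v ∈ V, φ v = 1 := by
  classical
  haveI := Fintype.ofFinite V
  have hinv : ∀ g : Γ, ∀ b ∈ fixBy φ V, φ g b ∈ fixBy φ V := by
    intro g b hb v hv
    have h1 : g⁻¹ * v * g ∈ V := by simpa using hn g⁻¹ v hv
    calc φ v (φ g b) = φ g (φ (g⁻¹ * v * g) b) := by
          rw [← MulAut.mul_apply, ← map_mul, ← MulAut.mul_apply, ← map_mul]; congr 2; group
      _ = φ g b := by rw [hb _ h1]
  rcases D.irred _ hinv with h | h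
  · exfalso
    refine hψ (MonoidHom.ext fun a => ?_)
    have hmem : ∏ v : V, φ (v : Γ) a ∈ fixBy φ V := by
      intro w hw
      rw [map_prod]
      refine Fintype.prod_equiv (Equiv.mulLeft (⟨w, hw⟩ : V)) _ _ fun v => ?_
      rw [← MulAut.mul_apply, ← map_mul]
      rfl
    rw [h, Subgroup.mem_bot] at hmem
    have h1 : ψ a ^ Nat.card V = 1 := by
      have h2 := congrArg ψ hmem
      rw [map_prod, Finset.prod_congr rfl (g := fun _ => ψ a) fun (v : V) _ => hfix v v.2 a,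
        Finset.prod_const, Finset.card_univ, map_one, ← Nat.card_eq_fintype_card] at h2
      exact h2
    have h3 : ψ a ^ p = 1 := by rw [← map_pow, D.exp, map_one]
    exact orderOf_eq_one_iff.1 (Nat.eq_one_of_dvd_coprimes
      (D.coprime.coprime_dvd_left V.card_subgroup_dvd_card)
      (orderOf_dvd_of_pow_eq_one h1) (orderOf_dvd_of_pow_eq_one h3))
  · exact fun v hv => MulEquiv.ext fun a => (h ▸ Subgroup.mem_top a : a ∈ fixBy φ V) v hv

/-- There are `p` characters fixed by `E`. -/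
theorem ModData.card_fixed_dual (D : ModData U E φ p) :
    Nat.card {ψ : A →* ℂˣ // ∀ e ∈ E, ∀ a, ψ (φ e a) = ψ a} = p := by
  classical
  haveI := Fintype.ofFinite E
  haveI := CyclicTI.finite_lin A
  haveI := CyclicTI.finite_lin ↥(fixBy φ E)
  have hqp : (Nat.card E).Coprime p := D.coprime.coprime_dvd_left E.card_subgroup_dvd_card
  have hN : ∀ a : A, ∏ e : E, φ (e : Γ) a ∈ fixBy φ E := by
    intro a w hw
    rw [map_prod]
    refine Fintype.prod_equiv (Equiv.mulLeft (⟨w, hw⟩ : E)) _ _ fun v => ?_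
    rw [← MulAut.mul_apply, ← map_mul]
    rfl
  let N : A →* ↥(fixBy φ E) := MonoidHom.mk' (fun a => ⟨_, hN a⟩) fun a b => Subtype.ext (by
    show ∏ e : E, φ (e : Γ) (a * b) = (∏ e : E, φ (e : Γ) a) * ∏ e : E, φ (e : Γ) b
    rw [← Finset.prod_mul_distrib]
    exact Finset.prod_congr rfl fun e _ => map_mul _ _ _)
  let res : {ψ : A →* ℂˣ // ∀ e ∈ E, ∀ a, ψ (φ e a) = ψ a} → (↥(fixBy φ E) →* ℂˣ) :=
    fun ψ => ψ.1.comp (fixBy φ E).subtype
  let ind : (↥(fixBy φ E) →* ℂˣ) → {ψ : A →* ℂˣ // ∀ e ∈ E, ∀ a, ψ (φ e a) = ψ a} := fun χ =>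
    ⟨χ.comp N, fun e he a => congrArg χ (Subtype.ext (by
      show ∏ d : E, φ (d : Γ) (φ e a) = ∏ d : E, φ (d : Γ) a
      refine Fintype.prod_equiv (Equiv.mulRight (⟨e, he⟩ : E)) _ _ fun d => ?_
      rw [← MulAut.mul_apply, ← map_mul]
      rfl))⟩
  have hcancel : ∀ {x y : ℂˣ}, x ^ p = 1 → y ^ p = 1 → x ^ Nat.card E = y ^ Nat.card E → x = y := by
    intro x y hx hy hxy
    refine div_eq_one.1 (orderOf_eq_one_iff.1 (Nat.eq_one_of_dvd_coprimes hqp
      (orderOf_dvd_of_pow_eq_one (n := Nat.card E) ?_) (orderOf_dvd_of_pow_eq_one ?_)))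
    · rw [div_pow, hxy, div_self']
    · rw [div_pow, hx, hy, div_one]
  have hres : Function.Injective res := by
    intro ψ ψ' he
    refine Subtype.ext (MonoidHom.ext fun a => hcancel (by rw [← map_pow, D.exp, map_one])
      (by rw [← map_pow, D.exp, map_one]) ?_)
    have h1 := DFunLike.congr_fun he (N a)
    change ψ.1 (∏ e : E, φ (e : Γ) a) = ψ'.1 (∏ e : E, φ (e : Γ) a) at h1
    rw [map_prod, map_prod, Finset.prod_congr rfl (g := fun _ => ψ.1 a) fun (e : E) _ => ψ.2 e e.2 a,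
      Finset.prod_congr rfl (g := fun _ => ψ'.1 a) fun (e : E) _ => ψ'.2 e e.2 a, Finset.prod_const,
      Finset.prod_const, Finset.card_univ, ← Nat.card_eq_fintype_card] at h1
    exact h1
  have hind : Function.Injective ind := by
    intro χ χ' he
    refine MonoidHom.ext fun a => hcancel ?_ ?_ ?_
    · rw [← map_pow, show a ^ p = 1 from Subtype.ext (D.exp a), map_one]
    · rw [← map_pow, show a ^ p = 1 from Subtype.ext (D.exp a), map_one]
    · have h1 := DFunLike.congr_fun (congrArg Subtype.val he) (a : A)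
      change χ (N a) = χ' (N a) at h1
      have h2 : N (a : A) = a ^ Nat.card E := Subtype.ext (by
        show ∏ e : E, φ (e : Γ) (a : A) = _
        rw [Finset.prod_congr rfl (g := fun _ => (a : A)) fun (e : E) _ => a.2 e e.2, Finset.prod_const,
          Finset.card_univ, ← Nat.card_eq_fintype_card]
        rfl)
      rwa [h2, map_pow, map_pow] at h1
  refine (le_antisymm (Nat.card_le_card_of_injective res hres)
    (Nat.card_le_card_of_injective ind hind)).trans ?_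
  rw [CyclicTI.card_monoidHom_of_comm fun a b => mul_comm a b, D.fixE]

end ModDual

variable {G : Type u} [Group G]

/-- The linear characters of `H / H₀`, as functions on `G`. -/
def facChars (H H₀ : Subgroup G) : Set (G → ℂˣ) :=
  {l | (∀ x ∈ H, ∀ y ∈ H, l (x * y) = l x * l y) ∧ (∀ x ∈ H₀, l x = 1) ∧ ∀ x, x ∉ H → l x = 1}

section FacChars

variable {H H₀ : Subgroup G} {l : G → ℂˣ}

theorem facChars_one : (1 : G → ℂˣ) ∈ facChars H H₀ :=
  ⟨fun _ _ _ _ => (mul_one 1).symm, fun _ _ => rfl, fun _ _ => rfl⟩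

theorem fac_one (hl : l ∈ facChars H H₀) : l 1 = 1 := hl.2.1 1 (one_mem _)

theorem fac_inv (hl : l ∈ facChars H H₀) {x : G} (hx : x ∈ H) : l x⁻¹ = (l x)⁻¹ := by
  refine eq_inv_of_mul_eq_one_left ?_
  rw [← hl.1 _ (inv_mem hx) _ hx, inv_mul_cancel, fac_one hl]

/-- The values are constant on the cosets of `H₀`. -/
theorem fac_congr (hl : l ∈ facChars H H₀) (hle : H₀ ≤ H) {x y : G} (hx : x ∈ H)
    (h : x⁻¹ * y ∈ H₀) : l y = l x := by
  rw [show y = x * (x⁻¹ * y) by group, hl.1 _ hx _ (hle h), hl.2.1 _ h, mul_one]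

theorem fac_conj_self (hl : l ∈ facChars H H₀) {h x : G} (hh : h ∈ H) (hx : x ∈ H) :
    l (h * x * h⁻¹) = l x := by
  rw [hl.1 _ (mul_mem hh hx) _ (inv_mem hh), hl.1 _ hh _ hx, fac_inv hl hh, mul_right_comm,
    mul_inv_cancel, one_mul]

theorem fac_ext {l' : G → ℂˣ} (hl : l ∈ facChars H H₀) (hl' : l' ∈ facChars H H₀)
    (h : ∀ x ∈ H, l x = l' x) : l = l' := funext fun x => by
  by_cases hx : x ∈ H
  · exact h x hx
  · rw [hl.2.2 x hx, hl'.2.2 x hx]

theorem exists_ne_one (hl : l ∈ facChars H H₀) (h : l ≠ 1) : ∃ x ∈ H, l x ≠ 1 := by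
  by_contra hno
  push Not at hno
  exact h (fac_ext hl facChars_one hno)

open Classical in
/-- The functions in `facChars H H₀` are the linear characters of `H / H₀`. -/
noncomputable def facEquiv [(H₀.subgroupOf H).Normal] (hle : H₀ ≤ H) :
    facChars H H₀ ≃ (↥H ⧸ H₀.subgroupOf H →* ℂˣ) where
  toFun l := QuotientGroup.lift _ (MonoidHom.mk' (fun x : H => l.1 x)
    fun x y => l.2.1 x x.2 y y.2) fun x hx => l.2.2.1 x hx
  invFun ψ := ⟨fun x => if hx : x ∈ H then ψ (QuotientGroup.mk ⟨x, hx⟩) else 1,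
    fun x hx y hy => by
      show dite _ _ _ = dite _ _ _ * dite _ _ _
      rw [dif_pos (mul_mem hx hy), dif_pos hx, dif_pos hy, ← map_mul]
      rfl,
    fun x hx => by
      show dite _ _ _ = _
      rw [dif_pos (hle hx), (QuotientGroup.eq_one_iff _).2 (Subgroup.mem_subgroupOf.2 hx), map_one],
    fun x hx => dif_neg hx⟩
  left_inv l := Subtype.ext (funext fun x => by
    show dite _ _ _ = _
    split_ifs with hx
    · rfl
    · exact (l.2.2.2 x hx).symm)
  right_inv ψ := by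
    refine QuotientGroup.monoidHom_ext _ (MonoidHom.ext fun x => ?_)
    show dite _ _ _ = _
    rw [dif_pos x.2]
    rfl

theorem facEquiv_apply [(H₀.subgroupOf H).Normal] (hle : H₀ ≤ H) (l : facChars H H₀) (x : H) :
    facEquiv hle l (QuotientGroup.mk x) = l.1 x := rfl

variable [Finite G]

theorem card_facChars (hle : H₀ ≤ H) [(H₀.subgroupOf H).Normal]
    (hc : ∀ x ∈ H, ∀ y ∈ H, x * y * x⁻¹ * y⁻¹ ∈ H₀) :
    (facChars H H₀).ncard = H₀.relIndex H := by
  rw [← Nat.card_coe_set_eq, Nat.card_congr (facEquiv hle), CyclicTI.card_monoidHom_of_comm]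
  · rfl
  · rintro ⟨a⟩ ⟨b⟩
    refine QuotientGroup.eq.2 ?_
    rw [Subgroup.mem_subgroupOf]
    simpa [mul_assoc] using hc (b : G)⁻¹ (inv_mem b.2) (a : G)⁻¹ (inv_mem a.2)

theorem facChars_finite (hle : H₀ ≤ H) [(H₀.subgroupOf H).Normal] : (facChars H H₀).Finite := by
  haveI := CyclicTI.finite_lin (↥H ⧸ H₀.subgroupOf H)
  exact Set.finite_coe_iff.1 (Finite.of_equiv _ (facEquiv hle).symm)

variable (H) in
/-- The elements normalising `H` that fix `l` on `H`. -/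
def fixSub (l : G → ℂˣ) : Subgroup G where
  carrier := {g | g ∈ Subgroup.normalizer (H : Set G) ∧ ∀ x ∈ H, l (g * x * g⁻¹) = l x}
  one_mem' := ⟨one_mem _, fun x _ => by simp⟩
  mul_mem' := by
    rintro a b ⟨ha1, ha2⟩ ⟨hb1, hb2⟩
    refine ⟨mul_mem ha1 hb1, fun x hx => ?_⟩
    rw [show a * b * x * (a * b)⁻¹ = a * (b * x * b⁻¹) * a⁻¹ by group,
      ha2 _ ((Subgroup.mem_normalizer_iff.1 hb1 x).1 hx), hb2 x hx]
  inv_mem' := by
    rintro a ⟨ha1, ha2⟩
    have hi := (Subgroup.normalizer (H : Set G)).inv_mem ha1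
    refine ⟨hi, fun x hx => ?_⟩
    have h1 := ha2 _ ((Subgroup.mem_normalizer_iff.1 hi x).1 hx)
    rw [show a * (a⁻¹ * x * a⁻¹⁻¹) * a⁻¹ = x by group] at h1
    exact h1.symm

theorem mem_fixSub {l : G → ℂˣ} {g : G} : g ∈ fixSub H l ↔
    g ∈ Subgroup.normalizer (H : Set G) ∧ ∀ x ∈ H, l (g * x * g⁻¹) = l x := Iff.rfl

/-- Extension to `H ⋊ V`. -/
theorem exists_ext {V : Subgroup G} (hl : l ∈ facChars H H₀) (hV : V ≤ fixSub H l)
    (hd : H ⊓ V = ⊥) (b : G → ℂˣ) (hb : ∀ x ∈ V, ∀ y ∈ V, b (x * y) = b x * b y) :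
    ∃ f : G → ℂˣ, (∀ x ∈ H ⊔ V, ∀ y ∈ H ⊔ V, f (x * y) = f x * f y) ∧
      (∀ x ∈ H, f x = l x) ∧ ∀ x ∈ V, f x = b x := by
  classical
  have hVH : V ≤ Subgroup.normalizer (H : Set G) := fun v hv => (hV hv).1
  have hb1 : b 1 = 1 := by
    have := hb 1 (one_mem _) 1 (one_mem _)
    rw [mul_one] at this
    exact mul_left_cancel (this.symm.trans (mul_one _).symm)
  have huniq : ∀ {a a' v v' : G}, a ∈ H → a' ∈ H → v ∈ V → v' ∈ V → a * v = a' * v' →
      a = a' ∧ v = v' := by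
    intro a a' v v' ha ha' hv hv' he
    have h1 : a'⁻¹ * a = v' * v⁻¹ := by
      calc a'⁻¹ * a = a'⁻¹ * (a * v) * v⁻¹ := by group
        _ = a'⁻¹ * (a' * v') * v⁻¹ := by rw [he]
        _ = _ := by group
    have h2 : a'⁻¹ * a ∈ H ⊓ V :=
      Subgroup.mem_inf.2 ⟨mul_mem (inv_mem ha') ha, h1 ▸ mul_mem hv' (inv_mem hv)⟩
    rw [hd, Subgroup.mem_bot, inv_mul_eq_one] at h2
    subst h2
    exact ⟨rfl, mul_left_cancel he⟩
  let f : G → ℂˣ := fun x =>
    if h : ∃ a ∈ H, ∃ v ∈ V, a * v = x then l h.choose * b h.choose_spec.2.choose else 1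
  have hf : ∀ a ∈ H, ∀ v ∈ V, f (a * v) = l a * b v := by
    intro a ha v hv
    have h : ∃ a' ∈ H, ∃ v' ∈ V, a' * v' = a * v := ⟨a, ha, v, hv, rfl⟩
    obtain ⟨h1, h2⟩ := huniq h.choose_spec.1 ha h.choose_spec.2.choose_spec.1 hv
      h.choose_spec.2.choose_spec.2
    show dite _ _ _ = _
    rw [dif_pos h]
    exact congrArg₂ (· * ·) (congrArg l h1) (congrArg b h2)
  refine ⟨f, fun x hx y hy => ?_, fun x hx => ?_, fun x hx => ?_⟩
  · obtain ⟨a, ha, v, hv, rfl⟩ := (Coprime.mem_sup_iff hVH).1 hx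
    obtain ⟨c, hc, w, hw, rfl⟩ := (Coprime.mem_sup_iff hVH).1 hy
    have hc' : v * c * v⁻¹ ∈ H := (Subgroup.mem_normalizer_iff.1 (hVH hv) c).1 hc
    rw [show a * v * (c * w) = a * (v * c * v⁻¹) * (v * w) by group,
      hf _ (mul_mem ha hc') _ (mul_mem hv hw), hl.1 _ ha _ hc', (hV hv).2 c hc, hb v hv w hw,
      hf a ha v hv, hf c hc w hw, mul_mul_mul_comm]
  · simpa [hb1] using hf x hx 1 (one_mem _)
  · simpa [fac_one hl] using hf 1 (one_mem _) x hx

end FacChars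

variable [Finite G] {M W₁ U W₂ H₀ : Subgroup G}

namespace Hyp9

theorem comm_mem (hK : IsChiefKernel M U H₀) :
    ∀ x ∈ fittingHallOf M, ∀ y ∈ fittingHallOf M, x * y * x⁻¹ * y⁻¹ ∈ H₀ := fun x hx y hy =>
  hK.comm_le (Subgroup.commutator_mem_commutator hx hy)

theorem card_dual (hG : IsMinSimpleOddOrder G) (h : Hyp9 M W₁ U W₂) (hK : IsChiefKernel M U H₀) :
    (facChars (fittingHallOf M) H₀).ncard = factorPrime W₂ H₀ ^ Nat.card W₁ := by
  haveI := hK.quot_normal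
  rw [card_facChars hK.le (comm_mem hK), (h.factor hG hK).2.1]

/-- A character fixed by `W₁` is fixed by `C` only. -/
theorem fix_le_stabC (hG : IsMinSimpleOddOrder G) (h : Hyp9 M W₁ U W₂)
    (hK : IsChiefKernel M U H₀) {l : G → ℂˣ} (hl : l ∈ facChars (fittingHallOf M) H₀) (hl1 : l ≠ 1)
    (hW : W₁ ≤ fixSub (fittingHallOf M) l) :
    U ⊓ fixSub (fittingHallOf M) l ≤ stabC M U H₀ := by
  haveI := hK.quot_normal
  letI := hK.commGroup
  obtain ⟨p, D, -, -⟩ := h.exists_modData hG hK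
  obtain ⟨hX1, hX2⟩ := h.act_hyps hK
  have hUn : U ⊔ W₁ ≤ Subgroup.normalizer (U : Set G) :=
    _root_.sup_le Subgroup.le_normalizer h.U_normalized
  have hXV : U ⊔ W₁ ≤ Subgroup.normalizer ((U ⊓ fixSub (fittingHallOf M) l : Subgroup G) : Set G) := by
    refine _root_.sup_le (fun u hu => Coprime.mem_normalizer_of_forall fun v hv => ?_)
      (fun e he => Coprime.mem_normalizer_of_forall fun v hv => ?_)
    · have hw : u * v * u⁻¹ ∈ U := mul_mem (mul_mem hu hv.1) (inv_mem hu)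
      refine ⟨hw, hX1 (Subgroup.mem_sup_left hw), fun x hx => ?_⟩
      have hc : v⁻¹ * (u * v * u⁻¹) ∈ stabC M U H₀ := by
        refine (h.factor hG hK).2.2.2.2.1 ?_
        have := Subgroup.commutator_mem_commutator (H₁ := U) (H₂ := U) (inv_mem hv.1) hu
        rw [commutatorElement_def] at this
        simpa [mul_assoc] using this
      have hq := hc.2.2.2 x hx
      have hz : v⁻¹ * (u * v * u⁻¹) * x * (v⁻¹ * (u * v * u⁻¹))⁻¹ ∈ fittingHallOf M :=
        conj_mem_of_le_normalizer hX1 (Subgroup.mem_sup_left (mul_mem (inv_mem hv.1) hw)) hx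
      have h1 := hv.2.2 _ hz
      rw [show v * (v⁻¹ * (u * v * u⁻¹) * x * (v⁻¹ * (u * v * u⁻¹))⁻¹) * v⁻¹ =
        u * v * u⁻¹ * x * (u * v * u⁻¹)⁻¹ by group] at h1
      rw [h1]
      exact fac_congr hl hK.le hx hq
    · exact ⟨conj_mem_of_le_normalizer h.U_normalized he hv.1,
        (fixSub _ l).mul_mem ((fixSub _ l).mul_mem (hW he) hv.2) ((fixSub _ l).inv_mem (hW he))⟩
  have hψ : facEquiv hK.le ⟨l, hl⟩ ≠ 1 := fun e => hl1 (fac_ext hl facChars_one fun x hx => by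
    refine (facEquiv_apply hK.le ⟨l, hl⟩ ⟨x, hx⟩).symm.trans ?_
    rw [e]
    rfl)
  have key := D.fix_char_trivial (V := (U ⊓ fixSub (fittingHallOf M) l).subgroupOf (U ⊔ W₁))
    (fun g v hv => conj_mem_of_le_normalizer hXV g.2 hv) hψ fun v hv a => by
      obtain ⟨x, rfl⟩ := QuotientGroup.mk_surjective a
      rw [show chiefAct hX1 hX2 v (QuotientGroup.mk x) = QuotientGroup.mk (Coprime.conjAut hX1 v x)
        from quotAct_mk _ _ _ v x, facEquiv_apply, facEquiv_apply, Coprime.coe_conjAut]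
      exact hv.2.2 x x.2
  exact fun v hv => ⟨hv.1, (mem_quotStab_iff_act hX1 hX2 (g := ⟨v, Subgroup.mem_sup_left hv.1⟩)).2
    (key ⟨v, Subgroup.mem_sup_left hv.1⟩ hv)⟩

theorem stabC_le_fix (hK : IsChiefKernel M U H₀) {l : G → ℂˣ}
    (hl : l ∈ facChars (fittingHallOf M) H₀) :
    stabC M U H₀ ≤ U ⊓ fixSub (fittingHallOf M) l := fun v hv =>
  ⟨hv.1, hv.2.1, fun x hx => fac_congr hl hK.le hx (hv.2.2.2 x hx)⟩

/-- There are `p` characters of `H / H₀` fixed by `W₁`. -/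
theorem card_fixed (hG : IsMinSimpleOddOrder G) (h : Hyp9 M W₁ U W₂) (hK : IsChiefKernel M U H₀) :
    {l ∈ facChars (fittingHallOf M) H₀ | W₁ ≤ fixSub (fittingHallOf M) l}.ncard =
      factorPrime W₂ H₀ := by
  haveI := hK.quot_normal
  letI := hK.commGroup
  obtain ⟨p, D, hp, -⟩ := h.exists_modData hG hK
  obtain ⟨hX1, hX2⟩ := h.act_hyps hK
  obtain rfl : p = factorPrime W₂ H₀ := hp.symm
  rw [← D.card_fixed_dual, ← Nat.card_coe_set_eq]
  refine Nat.card_congr ((Equiv.subtypeSubtypeEquivSubtypeInter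
    (fun l => l ∈ facChars (fittingHallOf M) H₀) (fun l => W₁ ≤ fixSub (fittingHallOf M) l)).symm.trans
    ((facEquiv hK.le).subtypeEquiv fun l => ?_))
  constructor
  · intro hW e he a
    obtain ⟨x, rfl⟩ := QuotientGroup.mk_surjective a
    rw [show chiefAct hX1 hX2 e (QuotientGroup.mk x) = QuotientGroup.mk (Coprime.conjAut hX1 e x)
      from quotAct_mk _ _ _ e x, facEquiv_apply, facEquiv_apply, Coprime.coe_conjAut]
    exact (hW (Subgroup.mem_subgroupOf.1 he)).2 x x.2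
  · intro hψ e he
    refine ⟨hX1 (Subgroup.mem_sup_right he), fun x hx => ?_⟩
    have h1 := hψ ⟨e, Subgroup.mem_sup_right he⟩ he (QuotientGroup.mk ⟨x, hx⟩)
    rw [show chiefAct hX1 hX2 ⟨e, Subgroup.mem_sup_right he⟩ (QuotientGroup.mk ⟨x, hx⟩) =
      QuotientGroup.mk (Coprime.conjAut hX1 ⟨e, Subgroup.mem_sup_right he⟩ ⟨x, hx⟩)
      from quotAct_mk _ _ _ _ _, facEquiv_apply, facEquiv_apply, Coprime.coe_conjAut] at h1
    exact h1

/-- In the Galois case only `C` fixes a nontrivial character. -/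
theorem galois_fix (hG : IsMinSimpleOddOrder G) (h : Hyp9 M W₁ U W₂)
    (hK : IsChiefKernel M U H₀) (hgal : IsGaloisPair M U H₀) {l : G → ℂˣ}
    (hl : l ∈ facChars (fittingHallOf M) H₀) (hl1 : l ≠ 1) :
    U ⊓ fixSub (fittingHallOf M) l = stabC M U H₀ := by
  refine le_antisymm (fun v hv => ?_) (stabC_le_fix hK hl)
  obtain ⟨K, _, _, f, ψ, σ, -, hsurj, hadd, hker, hψ, -, hψ1, -⟩ := h.galois_field hG hK hgal
  rw [← hψ1 v hv.1]
  by_contra hne
  obtain ⟨y, hy, hy1⟩ := exists_ne_one hl hl1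
  obtain ⟨x, hx, hfx⟩ := hsurj (Set.mem_univ (f y / (ψ v - 1)))
  have hvx : v * x * v⁻¹ ∈ fittingHallOf M :=
    (Subgroup.mem_normalizer_iff.1 hv.2.1 x).1 hx
  have hf1 : f 1 = 0 := (hker 1 (one_mem _)).2 (one_mem _)
  have hfinv : ∀ z ∈ fittingHallOf M, f z⁻¹ = -f z := fun z hz => by
    rw [eq_neg_iff_add_eq_zero, ← hadd _ (inv_mem hz) _ hz, inv_mul_cancel, hf1]
  have h1 : (v * x * v⁻¹ * x⁻¹)⁻¹ * y ∈ H₀ := by
    have hd : v * x * v⁻¹ * x⁻¹ ∈ fittingHallOf M := mul_mem hvx (inv_mem hx)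
    rw [← hker _ (mul_mem (inv_mem hd) hy), hadd _ (inv_mem hd) _ hy, hfinv _ hd,
      hadd _ hvx _ (inv_mem hx), (hψ v hv.1).2 x hx, hfinv x hx, hfx]
    have : ψ v - 1 ≠ 0 := sub_ne_zero.2 hne
    field_simp
    ring
  refine hy1 ?_
  rw [fac_congr hl hK.le (mul_mem hvx (inv_mem hx)) h1, hl.1 _ hvx _ (inv_mem hx), fac_inv hl hx,
    hv.2.2 x hx, mul_inv_cancel]

section Line

variable {H₁ : Subgroup G}

theorem conj_line_le (h : Hyp9 M W₁ U W₂) (hL : IsLinePair M U W₂ H₀ H₁) {e x : G} (he : e ∈ W₁)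
    (hx : x ∈ H₁) : e * x * e⁻¹ ∈ fittingHallOf M :=
  conj_mem_of_le_normalizer ((le_sup_right : W₁ ≤ U ⊔ W₁).trans
    (h.sup_le.trans (le_normalizer_fittingHallOf M))) he (hL.le_H hx)

open Classical in
/-- The component of `l` on the line `e H₁ e⁻¹`. -/
noncomputable def lineComp (H₁ : Subgroup G) (l : G → ℂˣ) (e : G) : G → ℂˣ :=
  fun x => if x ∈ H₁ then l (e * x * e⁻¹) else 1

theorem lineComp_mem (h : Hyp9 M W₁ U W₂) (hK : IsChiefKernel M U H₀)
    (hL : IsLinePair M U W₂ H₀ H₁) {l : G → ℂˣ} (hl : l ∈ facChars (fittingHallOf M) H₀) {e : G}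
    (he : e ∈ W₁) : lineComp H₁ l e ∈ facChars H₁ H₀ := by
  refine ⟨fun x hx y hy => ?_, fun x hx => ?_, fun x hx => if_neg hx⟩
  · simp only [lineComp, if_pos hx, if_pos hy, if_pos (mul_mem hx hy)]
    rw [← hl.1 _ (h.conj_line_le hL he hx) _ (h.conj_line_le hL he hy)]
    congr 1
    group
  · simp only [lineComp, if_pos (hL.le hx)]
    exact hl.2.1 _ (conj_mem_of_le_normalizer hK.normal (h.le_M.2.2.2.1 he) hx)

/-- Two characters with the same components are equal. -/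
theorem eq_of_lineComp (hG : IsMinSimpleOddOrder G) (h : Hyp9 M W₁ U W₂)
    (hK : IsChiefKernel M U H₀) (hL : IsLinePair M U W₂ H₀ H₁) {l l' : G → ℂˣ}
    (hl : l ∈ facChars (fittingHallOf M) H₀) (hl' : l' ∈ facChars (fittingHallOf M) H₀)
    (he : ∀ e ∈ W₁, ∀ x ∈ H₁, l (e * x * e⁻¹) = l' (e * x * e⁻¹)) : l = l' := by
  refine fac_ext hl hl' fun x hx => ?_
  let S : Subgroup G :=
    { carrier := {x | x ∈ fittingHallOf M ∧ l x = l' x}
      one_mem' := ⟨one_mem _, by rw [fac_one hl, fac_one hl']⟩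
      mul_mem' := fun {a b} ha hb => ⟨mul_mem ha.1 hb.1, by
        rw [hl.1 _ ha.1 _ hb.1, hl'.1 _ ha.1 _ hb.1, ha.2, hb.2]⟩
      inv_mem' := fun {a} ha => ⟨inv_mem ha.1, by rw [fac_inv hl ha.1, fac_inv hl' ha.1, ha.2]⟩ }
  have h1 : fittingHallOf M ≤ S := by
    rw [← (h.line_facts hG hK hL).1]
    refine iSup₂_le fun e he' => ?_
    rintro _ ⟨y, hy, rfl⟩
    exact ⟨h.conj_line_le hL he' hy, he e he' y hy⟩
  exact (h1 hx).2

theorem line_normal (hK : IsChiefKernel M U H₀) (hL : IsLinePair M U W₂ H₀ H₁) :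
    (H₀.subgroupOf H₁).Normal :=
  ⟨fun n hn g => conj_mem_of_le_normalizer hK.normal
    (OddTypeP.fittingHallOf_le M (hL.le_H g.2)) hn⟩

theorem card_line_dual (hK : IsChiefKernel M U H₀) (hL : IsLinePair M U W₂ H₀ H₁) :
    (facChars H₁ H₀).ncard = factorPrime W₂ H₀ := by
  haveI := line_normal hK hL
  rw [card_facChars hL.le fun x hx y hy => comm_mem hK x (hL.le_H hx) y (hL.le_H hy), hL.card]

/-- The components can be prescribed. -/
theorem comp_bijective (hG : IsMinSimpleOddOrder G) (h : Hyp9 M W₁ U W₂)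
    (hK : IsChiefKernel M U H₀) (hL : IsLinePair M U W₂ H₀ H₁) :
    Function.Bijective (fun (l : facChars (fittingHallOf M) H₀) (e : W₁) =>
      (⟨lineComp H₁ l.1 e, h.lineComp_mem hK hL l.2 e.2⟩ : facChars H₁ H₀)) := by
  haveI := line_normal hK hL
  haveI := hK.quot_normal
  haveI := (facChars_finite hL.le).to_subtype
  haveI := (facChars_finite hK.le).to_subtype
  refine (Nat.bijective_iff_injective_and_card _).2 ⟨fun l l' e => ?_, ?_⟩
  · refine Subtype.ext (h.eq_of_lineComp hG hK hL l.2 l'.2 fun w hw x hx => ?_)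
    have h1 := congrFun (congrArg Subtype.val (congrFun e ⟨w, hw⟩)) x
    simpa [lineComp, hx] using h1
  · rw [Nat.card_fun, Nat.card_coe_set_eq, Nat.card_coe_set_eq, card_line_dual hK hL,
      h.card_dual hG hK]

/-- Only elements of `e U₁ e⁻¹` fix a character that is nontrivial on `e H₁ e⁻¹`. -/
theorem fix_le_line (hG : IsMinSimpleOddOrder G) (h : Hyp9 M W₁ U W₂)
    (hK : IsChiefKernel M U H₀) (hL : IsLinePair M U W₂ H₀ H₁) {l : G → ℂˣ}
    (hl : l ∈ facChars (fittingHallOf M) H₀) {e : G} (he : e ∈ W₁)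
    (hne : ∃ x ∈ H₁, l (e * x * e⁻¹) ≠ 1) :
    U ⊓ fixSub (fittingHallOf M) l ≤ MulAut.conj e • (U ⊓ quotStab H₁ H₀) := by
  intro v hv
  have hw : e⁻¹ * v * e ∈ U := by
    simpa using conj_mem_of_le_normalizer h.U_normalized (inv_mem he) hv.1
  rw [Coprime.mem_conj]
  refine ⟨hw, hL.normal hw, hK.normal (h.le_M.2.2.2.2 hw), fun x hx => ?_⟩
  set z := x⁻¹ * (e⁻¹ * v * e * x * (e⁻¹ * v * e)⁻¹) with hz
  have hx' : e⁻¹ * v * e * x * (e⁻¹ * v * e)⁻¹ ∈ H₁ :=
    conj_mem_of_le_normalizer hL.normal hw hx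
  have hzH : z ∈ H₁ := mul_mem (inv_mem hx) hx'
  have hlz : l (e * z * e⁻¹) = 1 := by
    rw [show e * z * e⁻¹ = (e * x * e⁻¹)⁻¹ * (v * (e * x * e⁻¹) * v⁻¹) by rw [hz]; group,
      hl.1 _ (inv_mem (h.conj_line_le hL he hx)) _
        ((Subgroup.mem_normalizer_iff.1 hv.2.1 _).1 (h.conj_line_le hL he hx)),
      fac_inv hl (h.conj_line_le hL he hx), hv.2.2 _ (h.conj_line_le hL he hx), inv_mul_cancel]
  let K : Subgroup G :=
    { carrier := {y | y ∈ H₁ ∧ l (e * y * e⁻¹) = 1}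
      one_mem' := ⟨one_mem _, by simpa using fac_one hl⟩
      mul_mem' := fun {a b} ha hb => ⟨mul_mem ha.1 hb.1, by
        rw [show e * (a * b) * e⁻¹ = (e * a * e⁻¹) * (e * b * e⁻¹) by group,
          hl.1 _ (h.conj_line_le hL he ha.1) _ (h.conj_line_le hL he hb.1), ha.2, hb.2, mul_one]⟩
      inv_mem' := fun {a} ha => ⟨inv_mem ha.1, by
        rw [show e * a⁻¹ * e⁻¹ = (e * a * e⁻¹)⁻¹ by group,
          fac_inv hl (h.conj_line_le hL he ha.1), ha.2, inv_one]⟩ }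
  have h0K : H₀ ≤ K := fun y hy =>
    ⟨hL.le hy, hl.2.1 _ (conj_mem_of_le_normalizer hK.normal (h.le_M.2.2.2.1 he) hy)⟩
  have hK1 : K ≤ H₁ := fun y hy => hy.1
  have hmul := Subgroup.relIndex_mul_relIndex H₀ K H₁ h0K hK1
  rw [hL.card] at hmul
  have hcases := ((h.factor hG hK).1).eq_one_or_self_of_dvd _ (Dvd.intro _ hmul)
  rcases hcases with h1 | h1
  · exact Subgroup.relIndex_eq_one.1 h1 ⟨hzH, hlz⟩
  · exfalso
    obtain ⟨y, hy, hy1⟩ := hne
    rw [h1] at hmul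
    exact hy1 (Subgroup.relIndex_eq_one.1 (Nat.eq_of_mul_eq_mul_left (h.factor hG hK).1.pos
      (hmul.trans (mul_one _).symm)) hy).2

theorem relIndex_conj_line (h : Hyp9 M W₁ U W₂) {e : G} (he : e ∈ W₁) :
    (MulAut.conj e • (U ⊓ quotStab H₁ H₀)).relIndex U = (U ⊓ quotStab H₁ H₀).relIndex U := by
  have hU : MulAut.conj e • U = U := by
    ext x
    rw [Coprime.mem_conj]
    exact (Subgroup.mem_normalizer_iff''.1 (h.U_normalized he) x).symm
  conv_lhs => arg 2; rw [← hU]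
  exact Subgroup.relIndex_pointwise_smul _ _ _

end Line

end Hyp9

end Cfsg.Agent.Peterfalvi
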