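import Cfsg.Agent.Lib.Peterfalvi.Sec9Interface
import Cfsg.Agent.S1545

/-!
# Peterfalvi (9.3)-(9.7): the group-theoretic results of section 9 (owner: helper44)

* `Hyp9.factor`, `Hyp9.core`, `Hyp9.galois_field`, `Hyp9.nonGalois_line`: the fields of `Sec9Facts`
* `Hyp9.free_of_cyclic`: in Type II a cyclic `U` acts fixed point freely on `H`
-/

set_option autoImplicit false

namespace Cfsg.Agent.Peterfalvi

open scoped Pointwise commutatorElement
open Cfsg OddMax FixedFormula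

universe u

variable {G : Type u} [Group G] [Finite G] {M W₁ U W₂ H₀ : Subgroup G}

theorem mem_quotStab_iff_act {X H H₀ : Subgroup G} [(H₀.subgroupOf H).Normal]
    (h1 : X ≤ Subgroup.normalizer (H : Set G)) (h2 : X ≤ Subgroup.normalizer (H₀ : Set G))
    {g : X} : (g : G) ∈ quotStab H H₀ ↔ chiefAct h1 h2 g = 1 := by
  rw [chiefAct_eq_one]
  exact ⟨fun h => h.2.2, fun h => ⟨h1 g.2, h2 g.2, h⟩⟩

/-- The preimage in `G` of a subgroup of `H / H₀`. -/
def preImage {H H₀ : Subgroup G} [(H₀.subgroupOf H).Normal]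
    (B : Subgroup (↥H ⧸ H₀.subgroupOf H)) : Subgroup G :=
  (B.comap (QuotientGroup.mk' (H₀.subgroupOf H))).map H.subtype

theorem mem_preImage {H H₀ : Subgroup G} [(H₀.subgroupOf H).Normal]
    {B : Subgroup (↥H ⧸ H₀.subgroupOf H)} {x : H} :
    (x : G) ∈ preImage B ↔ QuotientGroup.mk x ∈ B := by
  constructor
  · rintro ⟨y, hy, hyx⟩
    rw [← show y = x from Subtype.ext hyx]
    exact hy
  · exact fun hx => ⟨x, hx, rfl⟩

theorem le_preImage {H H₀ : Subgroup G} [(H₀.subgroupOf H).Normal] (hle : H₀ ≤ H)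
    (B : Subgroup (↥H ⧸ H₀.subgroupOf H)) : H₀ ≤ preImage B ∧ preImage B ≤ H := by
  refine ⟨fun x hx => (mem_preImage (x := ⟨x, hle hx⟩)).2 ?_, Subgroup.map_subtype_le _⟩
  rw [(QuotientGroup.eq_one_iff _).2 (Subgroup.mem_subgroupOf.2 hx)]
  exact one_mem B

namespace Hyp9

theorem act_hyps (h : Hyp9 M W₁ U W₂) (hK : IsChiefKernel M U H₀) :
    U ⊔ W₁ ≤ Subgroup.normalizer (fittingHallOf M : Set G) ∧
      U ⊔ W₁ ≤ Subgroup.normalizer (H₀ : Set G) :=
  ⟨h.sup_le.trans (le_normalizer_fittingHallOf M), h.sup_le.trans hK.normal⟩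

/-- Fields `factor`. -/
theorem factor (hG : IsMinSimpleOddOrder G) (h : Hyp9 M W₁ U W₂) (hK : IsChiefKernel M U H₀) :
    (factorPrime W₂ H₀).Prime ∧
      H₀.relIndex (fittingHallOf M) = factorPrime W₂ H₀ ^ Nat.card W₁ ∧
      (∀ x ∈ fittingHallOf M, x ^ factorPrime W₂ H₀ ∈ H₀) ∧
      stabC M U H₀ ≠ U ∧ ⁅U, U⁆ ≤ stabC M U H₀ ∧
      M ≤ Subgroup.normalizer ((fittingHallOf M ⊔ stabC M U H₀ : Subgroup G) : Set G) ∧
      U ⊔ W₁ ≤ Subgroup.normalizer (stabC M U H₀ : Set G) ∧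
      ∀ w ∈ W₁, w ≠ 1 → ∀ v ∈ U, v⁻¹ * (w * v * w⁻¹) ∈ stabC M U H₀ → v ∈ stabC M U H₀ := by
  haveI := hK.quot_normal
  letI := hK.commGroup
  obtain ⟨p, D, hp, -⟩ := h.exists_modData hG hK
  obtain ⟨hX1, hX2⟩ := h.act_hyps hK
  obtain ⟨p', hp', hp'W, hidx, hexp⟩ := h.factor_facts hG hK
  obtain rfl : p' = factorPrime W₂ H₀ := hp'W.symm
  have hC : ∀ v : ↥(U ⊔ W₁), (v : G) ∈ quotStab (fittingHallOf M) H₀ ↔ chiefAct hX1 hX2 v = 1 :=
    fun v => mem_quotStab_iff_act hX1 hX2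
  have hder : ⁅U, U⁆ ≤ stabC M U H₀ := fun x hx => by
    refine ⟨Subgroup.commutator_le_self U hx, ⟨hX1 (Subgroup.mem_sup_left (Subgroup.commutator_le_self U hx)),
      hX2 (Subgroup.mem_sup_left (Subgroup.commutator_le_self U hx)), fun z hz => ?_⟩⟩
    rw [← Subgroup.mem_centralizer_iff.1 (h.commutator_centralizes hx) z hz, mul_inv_cancel_right,
      inv_mul_cancel]
    exact one_mem _
  have hXn : U ⊔ W₁ ≤ Subgroup.normalizer (stabC M U H₀ : Set G) := by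
    intro g hg
    refine Coprime.mem_normalizer_of_forall fun z hz => ⟨?_, ?_⟩
    · exact conj_mem_of_le_normalizer
        (_root_.sup_le Subgroup.le_normalizer h.U_normalized) hg hz.1
    · have h1 := (hC ⟨z, Subgroup.mem_sup_left hz.1⟩).1 hz.2
      refine (hC ⟨g * z * g⁻¹, mul_mem (mul_mem hg (Subgroup.mem_sup_left hz.1)) (inv_mem hg)⟩).2 ?_
      rw [show (⟨g * z * g⁻¹, _⟩ : ↥(U ⊔ W₁)) = ⟨g, hg⟩ * ⟨z, Subgroup.mem_sup_left hz.1⟩ * ⟨g, hg⟩⁻¹
        from rfl, map_mul, map_mul, h1, mul_one, ← map_mul, mul_inv_cancel, map_one]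
  refine ⟨hp', hidx, hexp, fun hCU => ?_, hder, ?_, hXn, fun w hw hw1 v hv hvC => ⟨hv, ?_⟩⟩
  · have h1 : fixBy (chiefAct hX1 hX2) (U.subgroupOf (U ⊔ W₁)) = ⊤ := by
      rw [eq_top_iff]
      intro a _ v hv
      have h2 : (v : G) ∈ stabC M U H₀ := hCU.symm ▸ hv
      rw [(hC v).1 h2.2]
      rfl
    have h3 := D.fixU.symm.trans h1
    have h4 := D.fixE
    have h5 : fixBy (chiefAct hX1 hX2) (W₁.subgroupOf (U ⊔ W₁)) = ⊥ :=
      le_bot_iff.1 (h3.symm ▸ le_top)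
    rw [h5, Subgroup.card_bot] at h4
    exact D.prime_p.one_lt.ne h4
  · refine ((compl_eq_sup h.data.W₁_compl).ge.trans
      (sup_le_sup_right (compl_eq_sup h.data.U_compl).ge W₁)).trans ?_
    have hHn : (fittingHallOf M) ≤ Subgroup.normalizer (((fittingHallOf M) ⊔ stabC M U H₀ : Subgroup G) : Set G) :=
      le_sup_left.trans Subgroup.le_normalizer
    have hXH : U ⊔ W₁ ≤ Subgroup.normalizer (((fittingHallOf M) ⊔ stabC M U H₀ : Subgroup G) : Set G) :=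
      fun g hg => Coprime.mem_normalizer_of_forall fun z hz => by
        have hle : (fittingHallOf M) ⊔ stabC M U H₀ ≤ ((fittingHallOf M) ⊔ stabC M U H₀).comap (MulAut.conj g).toMonoidHom :=
          _root_.sup_le (fun c hc => Subgroup.mem_sup_left (conj_mem_of_le_normalizer hX1 hg hc))
            (fun c hc => Subgroup.mem_sup_right (conj_mem_of_le_normalizer hXn hg hc))
        exact hle hz
    exact _root_.sup_le (_root_.sup_le hHn (le_sup_left.trans hXH)) (le_sup_right.trans hXH)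
  · have hwX : w ∈ U ⊔ W₁ := Subgroup.mem_sup_right hw
    have hvX : v ∈ U ⊔ W₁ := Subgroup.mem_sup_left hv
    refine (hC ⟨v, hvX⟩).2 (D.mem_ker_of_fixed (e := ⟨w, hwX⟩) hw
      (fun e => hw1 (congrArg Subtype.val e)) hv ?_)
    have h1 := (hC (⟨v, hvX⟩⁻¹ * (⟨w, hwX⟩ * ⟨v, hvX⟩ * ⟨w, hwX⟩⁻¹))).1 hvC.2
    rw [map_mul, map_inv, inv_mul_eq_one] at h1
    exact h1.symm

/-- A complement of `H` in `M'` is conjugate to `U`, so Type II gives free elements in `U`. -/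
theorem exists_free (hG : IsMinSimpleOddOrder G) (h : Hyp9 M W₁ U W₂) (hII : IsOfTypeII M) :
    ∃ U₀ : Subgroup G, U₀ ≤ U ∧ Monoid.exponent U₀ = Monoid.exponent U ∧
      ∀ v ∈ U₀, v ≠ 1 → fittingHallOf M ⊓ Subgroup.centralizer ({v} : Set G) = ⊥ := by
  obtain ⟨-, -, -, -, -, -, -, -, -, hF, hFH⟩ := hII
  obtain ⟨-, -, -, -, U'', -, hc, -, V, hV, hexp, hfree⟩ := hF
  set U₂ := U''.map (⁅M, M⁆).subtype with hU₂
  have hHD : (fittingHallOf M) ≤ ⁅M, M⁆ := h.le_M.1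
  have hHeq : (fittingHall ↥⁅M, M⁆).map (⁅M, M⁆).subtype = (fittingHallOf M) := hFH
  have hcard : Nat.card U₂ = Nat.card U := by
    rw [Subgroup.card_map_of_injective (⁅M, M⁆).subtype_injective]
    have h1 := hc.card_mul
    rw [← Subgroup.card_map_of_injective (⁅M, M⁆).subtype_injective (K := fittingHall ↥⁅M, M⁆), hHeq] at h1
    exact Nat.eq_of_mul_eq_mul_left Nat.card_pos (h1.trans (compl_card h.data.U_compl).symm)
  obtain ⟨n, hn, hconj⟩ := Coprime.exists_conj_eq_of_le_sup (N := fittingHallOf M) (H := U) (L := U₂)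
    (h.le_M.2.2.2.2.trans (le_normalizer_fittingHallOf M)) h.coprime_U
    (Or.inr (h.solvable hG (OddTypeP.fittingHallOf_le M)))
    ((Subgroup.map_subtype_le _).trans (compl_eq_sup h.data.U_compl).ge) hcard
  refine ⟨MulAut.conj n⁻¹ • V.map (⁅M, M⁆).subtype, ?_, ?_, fun v hv hv1 => ?_⟩
  · have h1 : U = MulAut.conj n⁻¹ • U₂ := by rw [← hconj, map_inv, inv_smul_smul]
    rw [h1]
    exact Subgroup.map_mono (Subgroup.map_mono hV)
  · have e1 : MulAut.conj n⁻¹ • V.map (⁅M, M⁆).subtype =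
        (V.map (⁅M, M⁆).subtype).map (MulAut.conj n⁻¹).toMonoidHom := rfl
    rw [e1, ← Monoid.exponent_eq_of_mulEquiv (Subgroup.equivMapOfInjective (V.map (⁅M, M⁆).subtype)
        (MulAut.conj n⁻¹).toMonoidHom (MulAut.conj n⁻¹).injective),
      ← Monoid.exponent_eq_of_mulEquiv (Subgroup.equivMapOfInjective V _ (⁅M, M⁆).subtype_injective), hexp,
      Monoid.exponent_eq_of_mulEquiv (Subgroup.equivMapOfInjective U'' _ (⁅M, M⁆).subtype_injective)]
    show Monoid.exponent U₂ = _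
    rw [← hconj]
    exact (Monoid.exponent_eq_of_mulEquiv (Subgroup.equivMapOfInjective U
      (MulAut.conj n).toMonoidHom (MulAut.conj n).injective)).symm
  · rw [eq_bot_iff]
    intro x hx
    rw [Coprime.mem_conj, inv_inv] at hv
    obtain ⟨⟨w, hwD⟩, hwV, hwe⟩ := hv
    have hxn : n * x * n⁻¹ ∈ (fittingHallOf M) := mul_mem (mul_mem hn hx.1) (inv_mem hn)
    have hw1 : (⟨w, hwD⟩ : ↥(⁅M, M⁆ : Subgroup G)) ≠ 1 := fun e => hv1 (conj_eq_one_iff.1
      (hwe.symm.trans (congrArg Subtype.val e)))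
    have hxF : (⟨n * x * n⁻¹, hHD hxn⟩ : ↥(⁅M, M⁆ : Subgroup G)) ∈ fittingHall ↥⁅M, M⁆ := by
      rw [← hHeq] at hxn
      obtain ⟨y, hy, hye⟩ := hxn
      rwa [← show y = (⟨n * x * n⁻¹, _⟩ : ↥(⁅M, M⁆ : Subgroup G)) from Subtype.ext hye]
    have h2 := hfree ⟨w, hwD⟩ hwV hw1 ⟨n * x * n⁻¹, hHD hxn⟩ hxF (Subtype.ext (by
      show w * (n * x * n⁻¹) = n * x * n⁻¹ * w
      have e : v * x = x * v := (Subgroup.mem_centralizer_singleton_iff.1 hx.2).symm
      rw [show w = n * v * n⁻¹ from hwe]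
      calc n * v * n⁻¹ * (n * x * n⁻¹) = n * (v * x) * n⁻¹ := by group
        _ = n * (x * v) * n⁻¹ := by rw [e]
        _ = _ := by group))
    exact Subgroup.mem_bot.2 (conj_eq_one_iff.1 (congrArg Subtype.val h2))

/-- For Type II, `C_H(U) = 1`; if `U` is cyclic it acts without fixed points. -/
theorem free_of_cyclic (hG : IsMinSimpleOddOrder G) (h : Hyp9 M W₁ U W₂) (hII : IsOfTypeII M)
    (hc : IsCyclic U) : ∀ v ∈ U, v ≠ 1 →
      fittingHallOf M ⊓ Subgroup.centralizer ({v} : Set G) = ⊥ := by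
  obtain ⟨U₀, hU₀, hexp, hfree⟩ := h.exists_free hG hII
  have : IsCyclic U₀ := isCyclic_of_injective (Subgroup.inclusion hU₀) (Subgroup.inclusion_injective _)
  have heq : U₀ = U := Subgroup.eq_of_le_of_card_ge hU₀
    (by rw [← IsCyclic.exponent_eq_card, ← IsCyclic.exponent_eq_card, hexp])
  rw [← heq]
  exact hfree

theorem centralizer_U_eq_bot (hG : IsMinSimpleOddOrder G) (h : Hyp9 M W₁ U W₂)
    (hII : IsOfTypeII M) : fittingHallOf M ⊓ Subgroup.centralizer (U : Set G) = ⊥ := by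
  obtain ⟨U₀, hU₀, hexp, hfree⟩ := h.exists_free hG hII
  obtain ⟨⟨v, hv⟩, hv1⟩ := Subgroup.ne_bot_iff_exists_ne_one.1 (fun e : U₀ = ⊥ => h.U_ne (by
    have : Monoid.exponent U₀ = 1 := by
      rw [e]
      exact Monoid.exp_eq_one_iff.2 inferInstance
    rw [hexp, Monoid.exp_eq_one_iff] at this
    exact Subgroup.eq_bot_of_subsingleton U))
  rw [eq_bot_iff, ← hfree v hv fun e => hv1 (Subtype.ext e)]
  exact inf_le_inf_left _ (Subgroup.centralizer_le (Set.singleton_subset_iff.2 (hU₀ hv)))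

theorem card_formula (hG : IsMinSimpleOddOrder G) (h : Hyp9 M W₁ U W₂) :
    Nat.card ↥(fittingHallOf M ⊓ Subgroup.centralizer ((U ⊔ W₁ : Subgroup G) : Set G)) ^
        Nat.card W₁ * Nat.card (fittingHallOf M) =
      Nat.card W₂ ^ Nat.card W₁ *
        Nat.card ↥(fittingHallOf M ⊓ Subgroup.centralizer (U : Set G)) := by
  have hW : fittingHallOf M ⊓ Subgroup.centralizer (W₁ : Set G) = W₂ := by
    obtain ⟨⟨x, hx⟩, hx1⟩ := Subgroup.ne_bot_iff_exists_ne_one.1 h.data.W₁_ne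
    have e := h.data.W₂_centralizer x hx fun e => hx1 (Subtype.ext e)
    refine le_antisymm ?_ (le_inf (fun w hw => (h.data.W₂_le hw).1) fun w hw =>
      Subgroup.mem_centralizer_iff.2 fun a ha => h.data.selfNormalizing.2.2.2.1 a ha w hw)
    rw [← e]
    exact inf_le_inf h.le_M.1 (Subgroup.centralizer_le (Set.singleton_subset_iff.2 hx))
  have h' := S1545.result U W₁ (fittingHallOf M) h.U_ne h.data.W₁_ne h.W₁_inf_U
    (fun e he v hv => conj_mem_of_le_normalizer h.U_normalized he hv)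
    (fun e he he1 v hv hc => h.fpf he he1 hv hc)
    (fun x hx z hz => conj_mem_of_le_normalizer (le_normalizer_fittingHallOf M) (h.sup_le hx) hz)
    (Coprime.inf_eq_bot h.coprime_sup.symm) (h.solvable hG (OddTypeP.fittingHallOf_le M))
    h.coprime_sup.symm
  rwa [hW] at h'

/-- Field `core`. -/
theorem core (hG : IsMinSimpleOddOrder G) (F : Sec16Facts G) (h : Hyp9 M W₁ U W₂)
    (hK : IsChiefKernel M U H₀) :
    (IsOfTypeII M →
      fittingHallOf M ⊓ Subgroup.centralizer (U : Set G) = ⊥ ∧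
        Nat.card (fittingHallOf M) = Nat.card W₂ ^ Nat.card W₁) ∧
    (¬ IsOfTypeII M →
      (Nat.card W₂).Prime ∧ factorPrime W₂ H₀ = Nat.card W₂ ∧
        fittingHallOf M ⊓ Subgroup.centralizer ((U ⊔ W₁ : Subgroup G) : Set G) = ⊥ ∧
        Nat.card (fittingHallOf M) = Nat.card W₂ ^ Nat.card W₁ *
          Nat.card ↥(fittingHallOf M ⊓ Subgroup.centralizer (U : Set G))) := by
  have hform := h.card_formula hG
  constructor
  · intro hII
    have h1 := h.centralizer_U_eq_bot hG hII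
    refine ⟨h1, ?_⟩
    have h2 : fittingHallOf M ⊓ Subgroup.centralizer ((U ⊔ W₁ : Subgroup G) : Set G) = ⊥ :=
      le_bot_iff.1 (h1 ▸ inf_le_inf_left _ (Subgroup.centralizer_le
        (le_sup_left : U ≤ U ⊔ W₁)))
    rwa [h1, h2, Subgroup.card_bot, one_pow, one_mul, mul_one] at hform
  · intro hII
    have hM := h.coatom
    obtain ⟨K, U', hKU⟩ := exists_decomp F.toSec15Facts hM
    have hKne := K_ne_of_typeP hG F hM hKU h.data
    have hU' : U' = ⊥ := by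
      by_contra hne
      exact hII ((typeII_iff hG F hM hKU).2 ⟨hKne, hne⟩)
    obtain ⟨Ms, hMs, hKs, hKsH⟩ := F.s1366 M hM K U' hKU hKne
    obtain ⟨Us, hUs⟩ := F.s1352_exists Ms hMs _ (F.s1364 M hM K U' hKU hKne).1 hKsH
    have hUs1 : Us ≠ ⊥ :=
      ((F.s1369 M hM K U' hKU hKne Ms hMs hKs hKsH).resolve_left fun e => e hU') Us hUs
    have hprime := (type_p2_facts hG F.toSec15Facts hMs F.fittingTI hUs
      (F.s1354 M hM K hKU.cyclic hKU.hall) hUs1).1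
    obtain ⟨m, -, -, hW2⟩ := typeP_data_eq hG F hM hKU h.data
    have hp2 : (Nat.card W₂).Prime := by rwa [hW2, Coprime.card_conj]
    have hpf := (h.factor hG hK).1
    have hdvd : factorPrime W₂ H₀ ∣ Nat.card W₂ :=
      Dvd.intro_left _ (card_mul_relIndex inf_le_left)
    have hp : factorPrime W₂ H₀ = Nat.card W₂ :=
      (Nat.prime_dvd_prime_iff_eq hpf hp2).1 hdvd
    have hbot : fittingHallOf M ⊓ Subgroup.centralizer ((U ⊔ W₁ : Subgroup G) : Set G) = ⊥ := by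
      rw [eq_bot_iff]
      intro x hx
      have h1 : x ∈ H₀ := hK.fixed_le
        ⟨hx.1, Subgroup.centralizer_le (le_sup_left : U ≤ U ⊔ W₁) hx.2⟩
      have h2 : x ∈ W₂ := by
        obtain ⟨⟨w, hw⟩, hw1⟩ := Subgroup.ne_bot_iff_exists_ne_one.1 h.data.W₁_ne
        rw [← h.data.W₂_centralizer w hw fun e => hw1 (Subtype.ext e)]
        exact ⟨h.le_M.1 hx.1, Subgroup.mem_centralizer_singleton_iff.2
          (Subgroup.mem_centralizer_iff.1 hx.2 w (Subgroup.mem_sup_right hw)).symm⟩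
      have h3 : W₂ ⊓ H₀ = ⊥ := by
        refine Subgroup.eq_bot_of_card_eq _ (Nat.eq_of_mul_eq_mul_right hp2.pos ?_)
        have h4 := card_mul_relIndex (inf_le_left : W₂ ⊓ H₀ ≤ W₂)
        rw [show (W₂ ⊓ H₀).relIndex W₂ = Nat.card W₂ from hp] at h4
        rw [one_mul, h4]
      exact h3 ▸ ⟨h2, h1⟩
    refine ⟨hp2, hp, hbot, ?_⟩
    rwa [hbot, Subgroup.card_bot, one_pow, one_mul] at hform

/-- Field `galois_field`. -/
theorem galois_field (hG : IsMinSimpleOddOrder G) (h : Hyp9 M W₁ U W₂)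
    (hK : IsChiefKernel M U H₀) (hgal : IsGaloisPair M U H₀) :
    ∃ (K : Type) (_ : Field K) (_ : Finite K) (f : G → K) (ψ : G → K) (σ : G → K → K),
      Nat.card K = factorPrime W₂ H₀ ^ Nat.card W₁ ∧
      Set.SurjOn f (fittingHallOf M : Set G) Set.univ ∧
      (∀ x ∈ fittingHallOf M, ∀ y ∈ fittingHallOf M, f (x * y) = f x + f y) ∧
      (∀ x ∈ fittingHallOf M, f x = 0 ↔ x ∈ H₀) ∧
      (∀ v ∈ U, ψ v ≠ 0 ∧ ∀ x ∈ fittingHallOf M, f (v * x * v⁻¹) = ψ v * f x) ∧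
      (∀ v ∈ U, ∀ w ∈ U, ψ (v * w) = ψ v * ψ w) ∧
      (∀ v ∈ U, ψ v = 1 ↔ v ∈ stabC M U H₀) ∧
      (∀ x ∈ fittingHallOf M, x ∈ H₀ ⊔ W₂ ↔ f x ^ factorPrime W₂ H₀ = f x) ∧
      (∀ e ∈ W₁, (∀ x ∈ fittingHallOf M, f (e * x * e⁻¹) = σ e (f x)) ∧
        (∀ a b, σ e (a + b) = σ e a + σ e b) ∧ ∀ a b, σ e (a * b) = σ e a * σ e b) ∧
      (stabC M U H₀).relIndex U * (factorPrime W₂ H₀ - 1) ∣
        factorPrime W₂ H₀ ^ Nat.card W₁ - 1 ∧
      (stabC M U H₀ = ⊥ → IsCyclic U) := by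
  classical
  haveI := hK.quot_normal
  letI := hK.commGroup
  obtain ⟨p, D, hp, hfixW⟩ := h.exists_modData hG hK
  obtain rfl : p = factorPrime W₂ H₀ := hp.symm
  obtain ⟨hX1, hX2⟩ := h.act_hyps hK
  have hact : ∀ (g : ↥(U ⊔ W₁)) (a : ↥(fittingHallOf M)),
      chiefAct hX1 hX2 g (QuotientGroup.mk a) = QuotientGroup.mk (Coprime.conjAut hX1 g a) :=
    fun g a => quotAct_mk _ _ _ g a
  have hirr : IsGaloisAction (U.subgroupOf (U ⊔ W₁)) (chiefAct hX1 hX2) := by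
    intro B hB
    obtain ⟨h1, h2⟩ := le_preImage hK.le B
    have h3 : U ≤ Subgroup.normalizer (preImage B : Set G) := fun v hv =>
      Coprime.mem_normalizer_of_forall fun z hz => by
        have hz' := hB ⟨v, Subgroup.mem_sup_left hv⟩ hv _
          ((mem_preImage (x := ⟨z, h2 hz⟩)).1 hz)
        rw [hact] at hz'
        simpa [Coprime.coe_conjAut] using mem_preImage.2 hz'
    rcases hgal _ h1 h2 h3 with he | he
    · refine Or.inl (eq_bot_iff.2 fun b hb => ?_)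
      obtain ⟨x, rfl⟩ := QuotientGroup.mk_surjective b
      rw [Subgroup.mem_bot, QuotientGroup.eq_one_iff, Subgroup.mem_subgroupOf, ← he]
      exact mem_preImage.2 hb
    · refine Or.inr (eq_top_iff.2 fun b _ => ?_)
      obtain ⟨x, rfl⟩ := QuotientGroup.mk_surjective b
      exact mem_preImage.1 (he.symm ▸ x.2)
  obtain ⟨K, fK, fin, f, ψ, σ, hcard, hbij, hadd, hψ, hψm, hψ1, hfix, hσ, hcyc, hdvd⟩ :=
    D.exists_field hirr
  let f' : G → K := fun x =>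
    if hx : x ∈ fittingHallOf M then f (QuotientGroup.mk ⟨x, hx⟩) else 0
  have hf' : ∀ x (hx : x ∈ fittingHallOf M), f' x = f (QuotientGroup.mk ⟨x, hx⟩) :=
    fun x hx => dif_pos hx
  have hf0 : f 1 = 0 := by simpa using hadd 1 1
  let ψ' : G → K := fun v => if hv : v ∈ U ⊔ W₁ then ψ ⟨v, hv⟩ else 0
  let σ' : G → K → K := fun v => if hv : v ∈ U ⊔ W₁ then σ ⟨v, hv⟩ else id
  have hψ' : ∀ v (hv : v ∈ U), ψ' v = ψ ⟨v, Subgroup.mem_sup_left hv⟩ :=
    fun v hv => dif_pos (Subgroup.mem_sup_left hv)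
  have hcardq : Nat.card (W₁.subgroupOf (U ⊔ W₁)) = Nat.card W₁ :=
    Nat.card_congr (Subgroup.subgroupOfEquivOfLe le_sup_right).toEquiv
  rw [hcardq] at hcard hdvd
  -- the image of `U`
  let e : U →* MulAut (↥(fittingHallOf M) ⧸ H₀.subgroupOf (fittingHallOf M)) :=
    (chiefAct hX1 hX2).comp (Subgroup.inclusion le_sup_left)
  have hrange : e.range = (U.subgroupOf (U ⊔ W₁)).map (chiefAct hX1 hX2) := by
    ext y
    exact ⟨fun ⟨v, hv⟩ => ⟨⟨v, Subgroup.mem_sup_left v.2⟩, v.2, hv⟩,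
      fun ⟨v, hv, hy⟩ => ⟨⟨v, hv⟩, hy⟩⟩
  have hker : e.ker = (stabC M U H₀).subgroupOf U := by
    ext v
    rw [MonoidHom.mem_ker, Subgroup.mem_subgroupOf]
    exact ⟨fun h1 => ⟨v.2, (mem_quotStab_iff_act hX1 hX2
        (g := ⟨v, Subgroup.mem_sup_left v.2⟩)).2 h1⟩,
      fun h1 => (mem_quotStab_iff_act hX1 hX2).1 h1.2⟩
  refine ⟨K, fK, fin, f', ψ', σ', hcard, fun k _ => ?_, fun x hx y hy => ?_, fun x hx => ?_,
    fun v hv => ⟨?_, fun x hx => ?_⟩, fun v hv w hw => ?_, fun v hv => ?_, fun x hx => ?_,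
    fun w hw => ⟨fun x hx => ?_, ?_, ?_⟩, ?_, fun hC => ?_⟩
  · obtain ⟨a, ha⟩ := hbij.2 k
    obtain ⟨x, rfl⟩ := QuotientGroup.mk_surjective a
    exact ⟨x, x.2, (hf' x x.2).trans ha⟩
  · rw [hf' x hx, hf' y hy, hf' _ (mul_mem hx hy)]
    exact hadd (QuotientGroup.mk ⟨x, hx⟩) (QuotientGroup.mk ⟨y, hy⟩)
  · rw [hf' x hx, ← hf0, hbij.1.eq_iff, QuotientGroup.eq_one_iff]
    exact Subgroup.mem_subgroupOf
  · rw [hψ' v hv]; exact (hψ ⟨v, _⟩ hv).1
  · have hx' : v * x * v⁻¹ ∈ fittingHallOf M :=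
      conj_mem_of_le_normalizer hX1 (Subgroup.mem_sup_left hv) hx
    rw [hψ' v hv, hf' x hx, hf' _ hx', ← (hψ ⟨v, Subgroup.mem_sup_left hv⟩ hv).2, hact]
    exact congrArg f (congrArg QuotientGroup.mk (Subtype.ext (by rw [Coprime.coe_conjAut])))
  · rw [hψ' v hv, hψ' w hw, hψ' _ (mul_mem hv hw)]
    exact hψm ⟨v, _⟩ hv ⟨w, _⟩ hw
  · rw [hψ' v hv]
    exact (hψ1 _ hv).trans ((mem_quotStab_iff_act hX1 hX2).symm.trans
      ⟨fun h1 => ⟨hv, h1⟩, fun h1 => h1.2⟩)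
  · rw [hf' x hx, ← hfix, hfixW]
    constructor
    · intro h1
      have hW2n : W₂ ≤ Subgroup.normalizer (H₀ : Set G) := fun z hz =>
        hK.normal (OddTypeP.fittingHallOf_le M (h.data.W₂_le hz).1)
      obtain ⟨a, ha, b, hb, rfl⟩ := (Coprime.mem_sup_iff hW2n).1 h1
      refine ⟨⟨b, (h.data.W₂_le hb).1⟩, hb, QuotientGroup.eq.2 ?_⟩
      show b⁻¹ * (a * b) ∈ H₀
      rw [show b⁻¹ * (a * b) = b⁻¹ * a * b⁻¹⁻¹ by group]
      exact (Subgroup.mem_normalizer_iff.1 (inv_mem (hW2n hb)) a).1 ha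
    · rintro ⟨w, hw, hwx⟩
      have h2 := QuotientGroup.eq.1 hwx
      rw [Subgroup.mem_subgroupOf] at h2
      have h3 : x = (w : G) * ((w : G)⁻¹ * x) := by group
      rw [h3]
      exact mul_mem (Subgroup.mem_sup_right hw) (Subgroup.mem_sup_left h2)
  · have hwX : w ∈ U ⊔ W₁ := Subgroup.mem_sup_right hw
    rw [hf' x hx, hf' _ (conj_mem_of_le_normalizer hX1 hwX hx)]
    show _ = (dite (w ∈ U ⊔ W₁) (fun hv => σ ⟨w, hv⟩) fun _ => id) _
    rw [dif_pos hwX, ← (hσ ⟨w, hwX⟩ hw).1, hact]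
    exact congrArg f (congrArg QuotientGroup.mk (Subtype.ext (by rw [Coprime.coe_conjAut])))
  · intro a b
    simp only [σ', dif_pos (Subgroup.mem_sup_right hw : w ∈ U ⊔ W₁)]
    exact (hσ ⟨w, _⟩ hw).2.1 a b
  · intro a b
    simp only [σ', dif_pos (Subgroup.mem_sup_right hw : w ∈ U ⊔ W₁)]
    exact (hσ ⟨w, _⟩ hw).2.2 a b
  · rw [← hrange] at hdvd
    rw [Subgroup.relIndex, ← hker, Subgroup.index_ker]
    exact hdvd
  · have hinj : Function.Injective e := (MonoidHom.ker_eq_bot_iff e).1 (by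
      rw [hker, hC, Subgroup.bot_subgroupOf])
    rw [← hrange] at hcyc
    exact (MonoidHom.ofInjective hinj).isCyclic.2 hcyc

/-- (9.7)(a): the facts about any invariant line. -/
theorem line_facts (hG : IsMinSimpleOddOrder G) (h : Hyp9 M W₁ U W₂)
    (hK : IsChiefKernel M U H₀) {H₁ : Subgroup G} (hL : IsLinePair M U W₂ H₀ H₁) :
    (⨆ e ∈ W₁, H₁.map (MulAut.conj e).toMonoidHom) = fittingHallOf M ∧
      1 < (U ⊓ quotStab H₁ H₀).relIndex U ∧
      (U ⊓ quotStab H₁ H₀).relIndex U ∣ factorPrime W₂ H₀ - 1 ∧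
      (∀ v ∈ U, v ∈ stabC M U H₀ ↔ ∀ e ∈ W₁, e⁻¹ * v * e ∈ quotStab H₁ H₀) ∧
      (stabC M U H₀).relIndex U ∣
        (U ⊓ quotStab H₁ H₀).relIndex U ^ (Nat.card W₁ - 1) := by
  classical
  haveI := hK.quot_normal
  letI := hK.commGroup
  obtain ⟨p, D, hp, -⟩ := h.exists_modData hG hK
  obtain rfl : p = factorPrime W₂ H₀ := hp.symm
  obtain ⟨hX1, hX2⟩ := h.act_hyps hK
  have hact : ∀ (g : ↥(U ⊔ W₁)) (a : ↥(fittingHallOf M)),
      chiefAct hX1 hX2 g (QuotientGroup.mk a) = QuotientGroup.mk (Coprime.conjAut hX1 g a) :=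
    fun g a => quotAct_mk _ _ _ g a
  have hle := hL.le
  have hleH := hL.le_H
  have hH1n := hL.normal
  set B := (H₁.subgroupOf (fittingHallOf M)).map
    (QuotientGroup.mk' (H₀.subgroupOf (fittingHallOf M))) with hB
  have mem_preImage : ∀ {x : fittingHallOf M}, (x : G) ∈ H₁ ↔ QuotientGroup.mk x ∈ B := by
    intro x
    refine ⟨fun hx => ⟨x, hx, rfl⟩, ?_⟩
    rintro ⟨y, hy, hyx⟩
    have h1 := QuotientGroup.eq.1 hyx
    rw [Subgroup.mem_subgroupOf] at h1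
    rw [show (x : G) = (y : G) * ((y : G)⁻¹ * x) by group]
    exact mul_mem hy (hle h1)
  have hBU : ∀ v ∈ U.subgroupOf (U ⊔ W₁), ∀ b ∈ B, chiefAct hX1 hX2 v b ∈ B := by
    intro v hv b hb
    obtain ⟨x, rfl⟩ := QuotientGroup.mk_surjective b
    rw [hact]
    refine mem_preImage.1 ?_
    rw [Coprime.coe_conjAut]
    exact conj_mem_of_le_normalizer hH1n hv (mem_preImage.2 hb)
  let g : H₁ →* B :=
    { toFun := fun x => ⟨QuotientGroup.mk ⟨x, hleH x.2⟩, mem_preImage.1 x.2⟩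
      map_one' := Subtype.ext rfl
      map_mul' := fun x y => Subtype.ext rfl }
  have hBp : Nat.card B = factorPrime W₂ H₀ := by
    have hgs : Function.Surjective g := by
      rintro ⟨b, hb⟩
      obtain ⟨x, rfl⟩ := QuotientGroup.mk_surjective b
      exact ⟨⟨x, mem_preImage.2 hb⟩, rfl⟩
    have hgk : g.ker = H₀.subgroupOf H₁ := by
      ext x
      rw [MonoidHom.mem_ker, Subgroup.mem_subgroupOf]
      constructor
      · intro h1
        exact Subgroup.mem_subgroupOf.1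
          ((QuotientGroup.eq_one_iff (⟨(x : G), hleH x.2⟩ : fittingHallOf M)).1 (congrArg Subtype.val h1))
      · exact fun h1 => Subtype.ext ((QuotientGroup.eq_one_iff _).2 h1)
    rw [← hL.card, Subgroup.relIndex, ← hgk, Subgroup.index_ker, MonoidHom.range_eq_top.2 hgs,
      Subgroup.card_top]
  obtain ⟨hBbij, ha1, hap, hker, hu⟩ := D.line_facts hBp hBU
  -- `quotStab H₁ H₀` inside `U` is the fixer of `B`
  have hfix : ∀ v : ↥(U ⊔ W₁), (v : G) ∈ U →
      ((v : G) ∈ quotStab H₁ H₀ ↔ v ∈ fixer (chiefAct hX1 hX2) B) := by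
    intro v hv
    constructor
    · intro h1 b hb
      obtain ⟨x, rfl⟩ := QuotientGroup.mk_surjective b
      rw [hact]
      refine (QuotientGroup.eq.2 ?_).symm
      rw [Subgroup.mem_subgroupOf]
      simpa [Coprime.coe_conjAut] using h1.2.2 x (mem_preImage.2 hb)
    · refine fun h1 => ⟨hH1n hv, hX2 v.2, fun z hz => ?_⟩
      have h2 := h1 _ ((mem_preImage (x := ⟨z, hleH hz⟩)).1 hz)
      rw [hact] at h2
      have h3 := QuotientGroup.eq.1 h2.symm
      rw [Subgroup.mem_subgroupOf] at h3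
      simpa [Coprime.coe_conjAut] using h3
  have hidx : (U ⊓ quotStab H₁ H₀).relIndex U =
      (U.subgroupOf (U ⊔ W₁) ⊓ fixer (chiefAct hX1 hX2) B).relIndex (U.subgroupOf (U ⊔ W₁)) := by
    conv_rhs => rw [show U.subgroupOf (U ⊔ W₁) ⊓ fixer (chiefAct hX1 hX2) B =
      (U ⊓ quotStab H₁ H₀).subgroupOf (U ⊔ W₁) from by
        ext v
        exact ⟨fun h1 => ⟨h1.1, (hfix v h1.1).2 h1.2⟩, fun h1 => ⟨h1.1, (hfix v h1.1).1 h1.2⟩⟩]
    rw [Subgroup.relIndex_subgroupOf le_sup_left]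
  refine ⟨?_, hidx ▸ ha1, hidx ▸ hap, fun v hv => ?_, ?_⟩
  · refine le_antisymm (iSup₂_le fun e he => ?_) fun z hz => ?_
    · rintro _ ⟨y, hy, rfl⟩
      exact conj_mem_of_le_normalizer hX1 (Subgroup.mem_sup_right he) (hleH hy)
    · set S := ⨆ e ∈ W₁, H₁.map (MulAut.conj e).toMonoidHom with hS
      have h0S : H₀ ≤ S := by
        refine le_trans (fun x hx => ?_)
          (le_iSup₂ (f := fun (e : G) (_ : e ∈ W₁) => H₁.map (MulAut.conj e).toMonoidHom) 1 (one_mem _))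
        exact ⟨x, hle hx, by simp⟩
      obtain ⟨b, hb⟩ := hBbij.2 (QuotientGroup.mk ⟨z, hz⟩)
      have hmem : ∀ a : ↥(fittingHallOf M) ⧸ H₀.subgroupOf (fittingHallOf M),
          a ∈ (S.subgroupOf (fittingHallOf M)).map (QuotientGroup.mk' _) →
          ∀ y : fittingHallOf M, QuotientGroup.mk y = a → (y : G) ∈ S := by
        rintro _ ⟨t, ht, rfl⟩ y hy
        have h1 := QuotientGroup.eq.1 hy.symm
        rw [Subgroup.mem_subgroupOf] at h1
        rw [show (y : G) = (t : G) * ((t : G)⁻¹ * y) by group]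
        exact mul_mem ht (h0S h1)
      refine hmem _ ?_ ⟨z, hz⟩ hb.symm
      haveI := Fintype.ofFinite (W₁.subgroupOf (U ⊔ W₁))
      show (∏ᶠ e, _) ∈ _
      rw [finprod_eq_prod_of_fintype]
      refine Subgroup.prod_mem _ fun e _ => ?_
      obtain ⟨x, hx⟩ := QuotientGroup.mk_surjective ((b e : B) : ↥(fittingHallOf M) ⧸ H₀.subgroupOf (fittingHallOf M))
      rw [← hx, hact]
      refine ⟨Coprime.conjAut hX1 e x, ?_, rfl⟩
      rw [SetLike.mem_coe, Subgroup.mem_subgroupOf, Coprime.coe_conjAut]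
      refine le_iSup₂ (f := fun (e : G) (_ : e ∈ W₁) => H₁.map (MulAut.conj e).toMonoidHom)
        ((e : ↥(U ⊔ W₁)) : G) e.2 ⟨x, mem_preImage.2 (hx.symm ▸ (b e).2), rfl⟩
  · have hvX : v ∈ U ⊔ W₁ := Subgroup.mem_sup_left hv
    have hkv := hker ⟨v, hvX⟩ hv
    have hconj : ∀ e : ↥(U ⊔ W₁), (e : G) ∈ W₁ → (e : G)⁻¹ * v * e ∈ U := fun e he => by
      simpa using conj_mem_of_le_normalizer h.U_normalized (inv_mem he) hv
    have hval : ∀ e : ↥(U ⊔ W₁),
        ((e⁻¹ * ⟨v, hvX⟩ * e : ↥(U ⊔ W₁)) : G) = (e : G)⁻¹ * v * e := fun e => by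
      rw [Subgroup.coe_mul, Subgroup.coe_mul, InvMemClass.coe_inv]
    have hstab : v ∈ stabC M U H₀ ↔ chiefAct hX1 hX2 ⟨v, hvX⟩ = 1 :=
      ⟨fun h1 => (mem_quotStab_iff_act hX1 hX2 (g := ⟨v, hvX⟩)).1 h1.2,
        fun h1 => ⟨hv, (mem_quotStab_iff_act hX1 hX2 (g := ⟨v, hvX⟩)).2 h1⟩⟩
    constructor
    · intro h1 e he
      have he' : (⟨e, Subgroup.mem_sup_right he⟩ : ↥(U ⊔ W₁)) ∈ W₁.subgroupOf (U ⊔ W₁) :=
        Subgroup.mem_subgroupOf.2 he
      have h2 := hkv.1 (hstab.1 h1) _ he'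
      generalize hx : (⟨e, Subgroup.mem_sup_right he⟩⁻¹ * ⟨v, hvX⟩ * ⟨e, Subgroup.mem_sup_right he⟩ :
        ↥(U ⊔ W₁)) = x at h2
      have hxv : (x : G) = e⁻¹ * v * e := hx ▸ hval _
      have h3 := (hfix x (by rw [hxv]; exact hconj ⟨e, Subgroup.mem_sup_right he⟩ he)).2 h2
      rw [hxv] at h3
      exact h3
    · intro h1
      refine hstab.2 (hkv.2 fun e he => ?_)
      generalize hx : (e⁻¹ * ⟨v, hvX⟩ * e : ↥(U ⊔ W₁)) = x
      have hxv : (x : G) = (e : G)⁻¹ * v * e := hx ▸ hval _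
      refine (hfix x ?_).1 ?_
      · rw [hxv]; exact hconj e (Subgroup.mem_subgroupOf.1 he)
      · rw [hxv]; exact h1 _ (Subgroup.mem_subgroupOf.1 he)
  · rw [hidx, ← Nat.card_congr (Subgroup.subgroupOfEquivOfLe (le_sup_right : W₁ ≤ U ⊔ W₁)).toEquiv]
    refine dvd_trans (dvd_of_eq ?_) hu
    let e : U →* MulAut (↥(fittingHallOf M) ⧸ H₀.subgroupOf (fittingHallOf M)) :=
      (chiefAct hX1 hX2).comp (Subgroup.inclusion le_sup_left)
    rw [show (U.subgroupOf (U ⊔ W₁)).map (chiefAct hX1 hX2) = e.range from ?_, ← Subgroup.index_ker,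
      show e.ker = (stabC M U H₀).subgroupOf U from ?_]
    · rfl
    · ext v
      rw [MonoidHom.mem_ker, Subgroup.mem_subgroupOf]
      exact ⟨fun h1 => ⟨v.2, (mem_quotStab_iff_act hX1 hX2
          (g := ⟨v, Subgroup.mem_sup_left v.2⟩)).2 h1⟩,
        fun h1 => (mem_quotStab_iff_act hX1 hX2).1 h1.2⟩
    · ext y
      exact ⟨fun ⟨v, hv, hy⟩ => ⟨⟨v, hv⟩, hy⟩,
        fun ⟨v, hv⟩ => ⟨⟨v, Subgroup.mem_sup_left v.2⟩, v.2, hv⟩⟩


/-- Field `nonGalois_line`. -/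
theorem nonGalois_line (hG : IsMinSimpleOddOrder G) (h : Hyp9 M W₁ U W₂)
    (hK : IsChiefKernel M U H₀) (hgal : ¬ IsGaloisPair M U H₀) :
    ∃ H₁ : Subgroup G, IsLinePair M U W₂ H₀ H₁ ∧
      (⨆ e ∈ W₁, H₁.map (MulAut.conj e).toMonoidHom) = fittingHallOf M ∧
      1 < (U ⊓ quotStab H₁ H₀).relIndex U ∧
      (U ⊓ quotStab H₁ H₀).relIndex U ∣ factorPrime W₂ H₀ - 1 ∧
      (∀ v ∈ U, v ∈ stabC M U H₀ ↔ ∀ e ∈ W₁, e⁻¹ * v * e ∈ quotStab H₁ H₀) ∧
      (stabC M U H₀).relIndex U ∣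
        (U ⊓ quotStab H₁ H₀).relIndex U ^ (Nat.card W₁ - 1) := by
  classical
  haveI := hK.quot_normal
  letI := hK.commGroup
  obtain ⟨p, D, hp, -⟩ := h.exists_modData hG hK
  obtain rfl : p = factorPrime W₂ H₀ := hp.symm
  obtain ⟨hX1, hX2⟩ := h.act_hyps hK
  have hact : ∀ (g : ↥(U ⊔ W₁)) (a : ↥(fittingHallOf M)),
      chiefAct hX1 hX2 g (QuotientGroup.mk a) = QuotientGroup.mk (Coprime.conjAut hX1 g a) :=
    fun g a => quotAct_mk _ _ _ g a
  have hng : ¬ IsGaloisAction (U.subgroupOf (U ⊔ W₁)) (chiefAct hX1 hX2) := by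
    intro hirr
    apply hgal
    intro N h1 h2 h3
    rcases hirr ((N.subgroupOf (fittingHallOf M)).map (QuotientGroup.mk' _)) (by
      rintro v hv _ ⟨z, hz, rfl⟩
      rw [QuotientGroup.mk'_apply, hact]
      refine ⟨Coprime.conjAut hX1 v z, ?_, rfl⟩
      rw [SetLike.mem_coe, Subgroup.mem_subgroupOf, Coprime.coe_conjAut]
      exact conj_mem_of_le_normalizer h3 hv hz) with hb | hb
    · refine Or.inl (le_antisymm (fun z hz => ?_) h1)
      have : (QuotientGroup.mk' (H₀.subgroupOf (fittingHallOf M))) ⟨z, h2 hz⟩ ∈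
          (N.subgroupOf (fittingHallOf M)).map (QuotientGroup.mk' _) :=
        ⟨_, (Subgroup.mem_subgroupOf.2 hz : (⟨z, h2 hz⟩ : fittingHallOf M) ∈ _), rfl⟩
      rw [hb, Subgroup.mem_bot, QuotientGroup.mk'_apply, QuotientGroup.eq_one_iff] at this
      exact this
    · refine Or.inr (le_antisymm h2 fun z hz => ?_)
      obtain ⟨y, hy, hye⟩ : (QuotientGroup.mk' (H₀.subgroupOf (fittingHallOf M))) ⟨z, hz⟩ ∈
          (N.subgroupOf (fittingHallOf M)).map (QuotientGroup.mk' _) := hb ▸ Subgroup.mem_top _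
      have h4 := QuotientGroup.eq.1 hye
      rw [Subgroup.mem_subgroupOf] at h4
      rw [show z = (y : G) * ((y : G)⁻¹ * z) by group]
      exact mul_mem hy (h1 h4)
  obtain ⟨B, hBp, hBU, -⟩ := D.exists_line hng
  obtain ⟨hle, hleH⟩ := le_preImage hK.le B
  set H₁ := preImage B with hH₁
  have hH1n : U ≤ Subgroup.normalizer (H₁ : Set G) := fun v hv =>
    Coprime.mem_normalizer_of_forall fun z hz => by
      have hz' := hBU ⟨v, Subgroup.mem_sup_left hv⟩ hv _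
        ((mem_preImage (x := ⟨z, hleH hz⟩)).1 hz)
      rw [hact] at hz'
      simpa [Coprime.coe_conjAut] using mem_preImage.2 hz'
  have hL : IsLinePair M U W₂ H₀ H₁ := by
    refine ⟨hle, hleH, ?_, hH1n⟩
    rw [← hBp]
    let g : H₁ →* B :=
      { toFun := fun x => ⟨QuotientGroup.mk ⟨x, hleH x.2⟩, mem_preImage.1 x.2⟩
        map_one' := Subtype.ext rfl
        map_mul' := fun x y => Subtype.ext rfl }
    have hgs : Function.Surjective g := by
      rintro ⟨b, hb⟩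
      obtain ⟨x, rfl⟩ := QuotientGroup.mk_surjective b
      exact ⟨⟨x, mem_preImage.2 hb⟩, rfl⟩
    have hgk : g.ker = H₀.subgroupOf H₁ := by
      ext x
      rw [MonoidHom.mem_ker, Subgroup.mem_subgroupOf]
      constructor
      · intro h1
        exact Subgroup.mem_subgroupOf.1
          ((QuotientGroup.eq_one_iff (⟨(x : G), hleH x.2⟩ : fittingHallOf M)).1 (congrArg Subtype.val h1))
      · exact fun h1 => Subtype.ext ((QuotientGroup.eq_one_iff _).2 h1)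
    rw [Subgroup.relIndex, ← hgk, Subgroup.index_ker, MonoidHom.range_eq_top.2 hgs,
      Subgroup.card_top]
  exact ⟨H₁, hL, h.line_facts hG hK hL⟩

end Hyp9

end Cfsg.Agent.Peterfalvi
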