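import Cfsg.Agent.Lib.CharApp.Clifford
import Cfsg.Agent.Lib.CharApp.Broline
import Cfsg.Agent.Lib.CharApp.CoprimeFixed
import Cfsg.Agent.Lib.Char.Monomial
import Cfsg.Agent.Lib.CyclicTI.Basic

/-!
# Induction of linear characters whose inertia group is the inducing subgroup (owner: helper44)

`N` normal in `L`, `N ≤ T`, `ξ` a linear character of `T` such that only elements of `T` fix `ξ|N`.

* `linInd T ξ` is irreducible of degree `[L : T]`; `linInd_eq_of_restrict`, `exists_conj_of_linInd_eq`,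
  `card_le_of_linInd`
* `exists_conj_of_inner_ne`, `inner_self_ne`: constituents on `N` (no stability needed)
* `exists_linear_below`, `degree_eq_index`: the characters lying over such linear characters
-/

set_option autoImplicit false
set_option linter.style.haveILetI false

namespace Cfsg.Agent.Peterfalvi.Lin9

open Cfsg Cfsg.Agent Cfsg.Agent.Char Cfsg.Agent.CyclicTI

universe u

variable {L : Type u} [Group L]

theorem conj_mem' {N T : Subgroup L} [hN : N.Normal] (hNT : N ≤ T) (x : L) (n : N) :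
    x⁻¹ * n * x ∈ T := hNT (by simpa using hN.conj_mem n n.2 x⁻¹)

/-- Only elements of `T` fix the restriction of `ξ` to `N`. -/
def StabLE (N T : Subgroup L) [N.Normal] (hNT : N ≤ T) (ξ : T →* ℂˣ) : Prop :=
  ∀ g : L, (∀ n : N, ξ ⟨g * n * g⁻¹, hNT (Subgroup.Normal.conj_mem inferInstance (n : L) n.2 g)⟩ =
    ξ ⟨n, hNT n.2⟩) → g ∈ T

variable (N T : Subgroup L) [N.Normal] (hNT : N ≤ T)

theorem inertia_eq {ξ : T →* ℂˣ} (hs : StabLE N T hNT ξ) :
    CharApp.inertia N (lin (ξ.comp (Subgroup.inclusion hNT))) = T := by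
  ext g
  rw [CharApp.mem_inertia_iff]
  constructor
  · exact fun h => hs g fun n => Units.ext (h n)
  · intro hg n
    simp only [lin_apply, MonoidHom.coe_comp, Function.comp_apply]
    congr 1
    rw [show Subgroup.inclusion hNT (⟨g * n * g⁻¹, Subgroup.Normal.conj_mem inferInstance (n : L) n.2 g⟩ : N) =
      ⟨g, hg⟩ * Subgroup.inclusion hNT n * ⟨g, hg⟩⁻¹ from rfl, map_mul, map_mul, map_inv,
      mul_right_comm, mul_inv_cancel, one_mul]

variable [Fintype L]

/-- The character induced by a linear character. -/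
noncomputable def linInd (T : Subgroup L) (ξ : T →* ℂˣ) : L → ℂ := indFun T (lin ξ)

theorem linInd_one (ξ : T →* ℂˣ) : linInd T ξ 1 = (T.index : ℂ) := by
  rw [linInd, indFun_one_apply]
  simp

/-- Clifford: irreducibility and uniqueness above the restriction. -/
theorem linInd_spec {ξ : T →* ℂˣ} (hs : StabLE N T hNT ξ) [Fintype N] :
    IsIrrCharacter L (linInd T ξ) ∧
      classInner (fun n : N => linInd T ξ n) (lin (ξ.comp (Subgroup.inclusion hNT))) = 1 ∧
      ∀ ξ' : T →* ℂˣ, ξ'.comp (Subgroup.inclusion hNT) = ξ.comp (Subgroup.inclusion hNT) →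
        linInd T ξ' = linInd T ξ → ξ' = ξ := by
  classical
  set θ := lin (ξ.comp (Subgroup.inclusion hNT)) with hθdef
  have hθ : IsIrrCharacter N θ := lin_irr _
  have hI : CharApp.inertia N θ = T := inertia_eq N T hNT hs
  haveI := Fintype.ofFinite (CharApp.inertia N θ)
  let ψ : (T →* ℂˣ) → CharApp.inertia N θ → ℂ := fun ξ' => lin (ξ'.comp (Subgroup.inclusion hI.le))
  have hψ : ∀ ξ' : T →* ℂˣ, indFun (CharApp.inertia N θ) (ψ ξ') = linInd T ξ' := fun ξ' =>
    Char.indFun_congr hI fun g hg => rfl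
  have hres : ∀ ξ' : T →* ℂˣ, ξ'.comp (Subgroup.inclusion hNT) = ξ.comp (Subgroup.inclusion hNT) →
      classInner (fun n : N => ψ ξ' ⟨(n : L), CharApp.le_inertia N
        (IsIrrCharacter.isClassFunction hθ) n.2⟩) θ = 1 := by
    intro ξ' he
    refine (congrArg (fun f => classInner f θ) (funext fun n => ?_)).trans (classInner_irr_self hθ)
    exact congrArg Units.val (DFunLike.congr_fun he n)
  obtain ⟨h1, h2, h3⟩ := CharApp.clifford_correspondence N hθ (ψ := ψ ξ) (lin_irr _)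
    (by rw [hres ξ rfl]; exact one_ne_zero)
  rw [hψ] at h1
  refine ⟨h1, ?_, fun ξ' he hind => ?_⟩
  · rw [hres ξ rfl, hψ] at h2
    exact h2
  · have h4 := h3 (ψ ξ') (lin_irr _) (by rw [hres ξ' he]; exact one_ne_zero) (by rw [hψ, hψ, hind])
    have h5 := lin_injective h4
    ext g
    have h6 := DFunLike.congr_fun h5 ⟨(g : L), hI.ge g.2⟩
    exact congrArg Units.val h6

theorem linInd_irr {ξ : T →* ℂˣ} (hs : StabLE N T hNT ξ) : IsIrrCharacter L (linInd T ξ) := by
  haveI := Fintype.ofFinite N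
  exact (linInd_spec N T hNT hs).1

omit [N.Normal] in
theorem linInd_apply_of_forall {ξ : T →* ℂˣ} {y : L}
    (hy : ∀ x : L, ∃ h : x⁻¹ * y * x ∈ T, ξ ⟨_, h⟩ = 1) : linInd T ξ y = linInd T ξ 1 := by
  rw [linInd_one, linInd, indFun, Finset.sum_congr rfl (g := fun _ => (1 : ℂ)) fun x _ => ?_,
    Finset.sum_const, Finset.card_univ, nsmul_eq_mul, mul_one, ← Nat.card_eq_fintype_card,
    CharApp.card_eq_index_mul T, mul_comm (T.index : ℂ), ← mul_assoc,
    inv_mul_cancel₀ (Nat.cast_ne_zero.2 Nat.card_pos.ne'), one_mul]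
  obtain ⟨h, h1⟩ := hy x
  rw [extendByZero_mem _ _ h, lin_apply, h1, Units.val_one]

/-- If `ξ|N` is nontrivial then so is the induced character on `N`. -/
theorem linInd_ne_on {ξ : T →* ℂˣ} (hs : StabLE N T hNT ξ)
    (hne : ξ.comp (Subgroup.inclusion hNT) ≠ 1) : ∃ n : N, linInd T ξ n ≠ linInd T ξ 1 := by
  classical
  by_contra h
  push Not at h
  haveI := Fintype.ofFinite N
  have h1 := (linInd_spec N T hNT hs).2.1
  have hf : (fun n : N => linInd T ξ n) = linInd T ξ 1 • lin (1 : N →* ℂˣ) :=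
    funext fun n => by simp [h n]
  rw [hf, classInner_smul_left, classInner_lin, if_neg (Ne.symm hne), mul_zero] at h1
  exact zero_ne_one h1

theorem exists_conj_of_linInd_eq {ξ ξ' : T →* ℂˣ} (hs : StabLE N T hNT ξ) (hs' : StabLE N T hNT ξ')
    (he : linInd T ξ' = linInd T ξ) : ∃ x : L, ∀ n : N,
      ξ' ⟨n, hNT n.2⟩ = ξ ⟨x⁻¹ * n * x, conj_mem' hNT x n⟩ := by
  haveI := Fintype.ofFinite N
  obtain ⟨h1, h2, -⟩ := linInd_spec N T hNT hs
  obtain ⟨-, h2', -⟩ := linInd_spec N T hNT hs'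
  rw [he] at h2'
  obtain ⟨x, hx⟩ := CliffordChar.constituents_conjugate N h1
    (lin_irr (ξ.comp (Subgroup.inclusion hNT))) (lin_irr (ξ'.comp (Subgroup.inclusion hNT)))
    (by rw [h2]; exact one_ne_zero) (by rw [h2']; exact one_ne_zero)
  refine ⟨x, fun n => Units.ext ?_⟩
  have h3 := congrFun hx n
  rw [CliffordChar.conjFun_apply] at h3
  exact h3.symm

/-- At most `[L : T]` of these linear characters induce the same character. -/
theorem card_le_of_linInd [DecidableEq (L → ℂ)] {P : Finset (T →* ℂˣ)}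
    (hs : ∀ ξ ∈ P, StabLE N T hNT ξ) :
    P.card ≤ T.index * (P.image (linInd T)).card := by
  classical
  haveI := Fintype.ofFinite N
  refine Finset.card_le_mul_card_image P T.index fun b hb => ?_
  obtain ⟨ξ₀, hξ₀, rfl⟩ := Finset.mem_image.1 hb
  have key : ∀ ξ ∈ P.filter (fun ξ => linInd T ξ = linInd T ξ₀), ∃ x : L, ∀ n : N,
      ξ ⟨n, hNT n.2⟩ =
        ξ₀ ⟨x⁻¹ * n * x, conj_mem' hNT x n⟩ :=
    fun ξ hξ => exists_conj_of_linInd_eq N T hNT (hs ξ₀ hξ₀) (hs ξ (Finset.mem_filter.1 hξ).1)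
      (Finset.mem_filter.1 hξ).2
  choose! x hx using key
  haveI : Fintype (L ⧸ T) := Fintype.ofFinite _
  rw [show T.index = (Finset.univ : Finset (L ⧸ T)).card by
    rw [Finset.card_univ, ← Nat.card_eq_fintype_card]; rfl]
  refine Finset.card_le_card_of_injOn (fun ξ => (QuotientGroup.mk (x ξ) : L ⧸ T))
    (fun ξ _ => Finset.mem_coe.2 (Finset.mem_univ _)) fun ξ hξ ξ' hξ' e => ?_
  rw [Finset.mem_coe] at hξ hξ'
  obtain ⟨hξP, hξe⟩ := Finset.mem_filter.1 hξ
  obtain ⟨hξP', hξe'⟩ := Finset.mem_filter.1 hξ'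
  have hcomp : ξ'.comp (Subgroup.inclusion hNT) = ξ.comp (Subgroup.inclusion hNT) := by
    ext n
    have ht : (x ξ)⁻¹ * x ξ' ∈ T := QuotientGroup.eq.1 e
    set t : T := ⟨_, ht⟩
    set m : T := ⟨(x ξ)⁻¹ * n * x ξ, conj_mem' hNT (x ξ) n⟩
    refine congrArg Units.val ?_
    show ξ' ⟨n, _⟩ = ξ ⟨n, _⟩
    rw [hx ξ' hξ' n, hx ξ hξ n]
    rw [show (⟨(x ξ')⁻¹ * n * x ξ', _⟩ : T) = t⁻¹ * m * t from Subtype.ext (by
      show _ = ((x ξ)⁻¹ * x ξ')⁻¹ * ((x ξ)⁻¹ * n * x ξ) * ((x ξ)⁻¹ * x ξ')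
      group), map_mul, map_mul, map_inv, mul_right_comm, inv_mul_cancel, one_mul]
  exact ((linInd_spec N T hNT (hs ξ hξP)).2.2 ξ' hcomp (hξe'.trans hξe.symm)).symm

omit hNT in
/-- A linear constituent of the restriction to `N`. -/
theorem exists_lin_constituent [Fintype N] {θ : L → ℂ} (hθ : IsIrrCharacter L θ) (N₀ : Subgroup L)
    (hcomm : ∀ a ∈ N, ∀ b ∈ N, a * b * a⁻¹ * b⁻¹ ∈ N₀) (htriv : ∀ a ∈ N₀, θ a = θ 1)
    (hne : ∃ n : N, θ n ≠ θ 1) :
    ∃ l : N →* ℂˣ, l ≠ 1 ∧ (∀ n : N, (n : L) ∈ N₀ → l n = 1) ∧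
      classInner (fun n : N => θ n) (lin l) ≠ 0 := by
  classical
  have hr : IsCharacter N (fun n : N => θ n) :=
    IsCharacter.restrict (IsIrrCharacter.isCharacter hθ) N
  obtain ⟨φ, hφ⟩ := CharApp.exists_constituent hr (IsIrrCharacter.apply_one_ne_zero hθ)
  have hφ0 : ∀ n : N, (n : L) ∈ N₀ → (φ : N → ℂ) n = (φ : N → ℂ) 1 := fun n hn =>
    Broline.apply_eq_of_constituent hr φ.2 hφ (by simpa using htriv _ hn)
  have hd : (φ : N → ℂ) 1 = 1 := CharApp.degree_one_of_trivOn (N₀.subgroupOf N)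
    (fun a b => hcomm a a.2 b b.2) φ.2 fun y => hφ0 y y.2
  obtain ⟨l, hl⟩ := exists_hom_of_degree_one (IsIrrCharacter.isCharacter φ.2) hd
  have hlφ : lin l.toHomUnits = (φ : N → ℂ) := by rw [← hl]; rfl
  refine ⟨l.toHomUnits, fun e => ?_, fun n hn => Units.ext ?_, by rw [hlφ]; exact hφ⟩
  · obtain ⟨n, hn⟩ := hne
    refine hn (CharApp.trivOn_of_constituent_one N hθ ?_ n)
    have h1 : (1 : N → ℂ) = (φ : N → ℂ) := by rw [← hlφ, e]; funext n; simp
    rw [h1]
    exact hφ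
  · have h1 := hφ0 n hn
    rw [hd, ← hlφ] at h1
    exact h1

omit hNT in
/-- A character trivial on `N₀ ⊇ [N, N]` and not on `N` lies over a nontrivial linear character of
`N` trivial on `N₀`; its degree is a multiple of the index of the inertia group. -/
theorem exists_linear_below {θ : L → ℂ} (hθ : IsIrrCharacter L θ) (N₀ : Subgroup L)
    (hcomm : ∀ a ∈ N, ∀ b ∈ N, a * b * a⁻¹ * b⁻¹ ∈ N₀) (htriv : ∀ a ∈ N₀, θ a = θ 1)
    (hne : ∃ n : N, θ n ≠ θ 1) :
    ∃ l : N →* ℂˣ, l ≠ 1 ∧ (∀ n : N, (n : L) ∈ N₀ → l n = 1) ∧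
      ∃ k : ℕ, θ 1 = ((k * (CharApp.inertia N (lin l)).index : ℕ) : ℂ) := by
  classical
  haveI := Fintype.ofFinite N
  obtain ⟨l, hl1, hl0, hl⟩ := exists_lin_constituent N hθ N₀ hcomm htriv hne
  haveI := Fintype.ofFinite (CharApp.inertia N (lin l))
  obtain ⟨ψ, hψ, hind, -⟩ := CharApp.exists_correspondent N (lin_irr l) hθ hl
  obtain ⟨d, -, hd'⟩ := IsIrrCharacter.exists_degree hψ
  exact ⟨l, hl1, hl0, d, by rw [← hind, indFun_one_apply, hd']; push_cast; ring⟩

omit hNT in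
/-- If the inertia group is abelian modulo a subgroup in the kernel, the degree is its index. -/
theorem degree_eq_index {θ : L → ℂ} (hθ : IsIrrCharacter L θ) (N₀ Y : Subgroup L)
    (hcomm : ∀ a ∈ N, ∀ b ∈ N, a * b * a⁻¹ * b⁻¹ ∈ N₀) (htriv : ∀ a ∈ N₀, θ a = θ 1)
    (hY : ∀ a ∈ Y, θ a = θ 1) (hne : ∃ n : N, θ n ≠ θ 1)
    (hI : ∀ l : N →* ℂˣ, l ≠ 1 → (∀ n : N, (n : L) ∈ N₀ → l n = 1) → CharApp.inertia N (lin l) = T)
    (hTY : ∀ a ∈ T, ∀ b ∈ T, a * b * a⁻¹ * b⁻¹ ∈ Y) :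
    θ 1 = (T.index : ℂ) ∧ ∃ ξ : T →* ℂˣ, θ = linInd T ξ := by
  classical
  haveI := Fintype.ofFinite N
  haveI := Fintype.ofFinite T
  obtain ⟨l, hl1, hl0, hl⟩ := exists_lin_constituent N hθ N₀ hcomm htriv hne
  have hIT : CharApp.inertia N (lin l) = T := hI l hl1 hl0
  haveI := Fintype.ofFinite (CharApp.inertia N (lin l))
  obtain ⟨ψ, hψ, hind, -⟩ := CharApp.exists_correspondent N (lin_irr l) hθ hl
  have hne' : classInner (fun t : CharApp.inertia N (lin l) => θ t) ψ ≠ 0 := by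
    have h2 : classInner (indFun (CharApp.inertia N (lin l)) ψ) θ = 1 := by
      rw [hind]; exact classInner_irr_self hθ
    rw [frobenius_reciprocity _ _ (IsIrrCharacter.isClassFunction hθ)] at h2
    intro h0
    rw [← classInner_conj_symm, h0, map_zero] at h2
    exact zero_ne_one h2
  have hψ1 : ψ 1 = 1 := CharApp.degree_one_of_trivOn
    (Y.subgroupOf (CharApp.inertia N (lin l)))
    (fun a b => hTY a (hIT.le a.2) b (hIT.le b.2)) hψ fun y =>
    Broline.apply_eq_of_constituent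
      (IsCharacter.restrict (IsIrrCharacter.isCharacter hθ) _) hψ hne' (by simpa using hY _ y.2)
  obtain ⟨m, hm⟩ := exists_hom_of_degree_one (IsIrrCharacter.isCharacter hψ) hψ1
  refine ⟨by rw [← hind, indFun_one_apply, hψ1, mul_one, hIT],
    m.toHomUnits.comp (Subgroup.inclusion hIT.ge), ?_⟩
  rw [← hind, linInd]
  refine Char.indFun_congr hIT fun g hg => ?_
  rw [← hm]
  rfl

omit hNT in
/-- The kernel of an irreducible character absorbs. -/
theorem irr_mul_ker {χ : L → ℂ} (hχ : IsIrrCharacter L χ) {y : L} (hy : χ y = χ 1) (x : L) :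
    χ (x * y) = χ x := by
  obtain ⟨n, ρ, hρ, rfl⟩ := hχ
  have h1 : ρ y = LinearMap.id :=
    (Char.character_eq_finrank_iff ρ y).1 (hy.trans (Representation.char_one ρ))
  have h2 : ρ (x * y) = ρ x := by rw [map_mul, h1]; rfl
  show ρ.character (x * y) = ρ.character x
  rw [Representation.character, h2]
  rfl

/-- Every linear constituent on `N` of an induced linear character is a conjugate of `ξ|N`. -/
theorem exists_conj_of_inner_ne [Fintype N] (ξ : T →* ℂˣ) (χ : N →* ℂˣ)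
    (h : classInner (fun n : N => linInd T ξ n) (lin χ) ≠ 0) :
    ∃ x : L, ∀ n : N, χ n = ξ ⟨x⁻¹ * n * x, conj_mem' hNT x n⟩ := by
  classical
  by_contra hno
  push Not at hno
  refine h ?_
  let ξ₀ : N →* ℂˣ := ξ.comp (Subgroup.inclusion hNT)
  have h1 : (fun n : N => linInd T ξ n) =
      (Nat.card T : ℂ)⁻¹ • ∑ x : L, CliffordChar.conjFun N x (lin ξ₀) := by
    funext n
    rw [linInd, indFun, Pi.smul_apply, Finset.sum_apply, smul_eq_mul]
    congr 1
    refine Finset.sum_congr rfl fun x _ => ?_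
    rw [extendByZero_mem _ _ (conj_mem' hNT x n), CliffordChar.conjFun_apply]
    rfl
  rw [h1, classInner_smul_left, classInner_sum_left, Finset.sum_eq_zero, mul_zero]
  intro x _
  refine classInner_irr_of_ne (CliffordChar.isIrr_conjFun N x (lin_irr ξ₀)) (lin_irr χ) fun e => ?_
  obtain ⟨n, hn⟩ := hno x
  have h2 := congrFun e n
  rw [CliffordChar.conjFun_apply] at h2
  exact hn (Units.ext h2).symm

/-- The restriction of `ξ` is a constituent of the induced character. -/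
theorem inner_self_ne [Fintype N] (ξ : T →* ℂˣ) :
    classInner (fun n : N => linInd T ξ n) (lin (ξ.comp (Subgroup.inclusion hNT))) ≠ 0 := by
  classical
  let ξ₀ : N →* ℂˣ := ξ.comp (Subgroup.inclusion hNT)
  have h1 : (fun n : N => linInd T ξ n) =
      (Nat.card T : ℂ)⁻¹ • CliffordChar.orbitSum N (lin ξ₀) := by
    funext n
    rw [linInd, indFun, CliffordChar.orbitSum, Pi.smul_apply, Finset.sum_apply, smul_eq_mul]
    congr 1
    refine Finset.sum_congr rfl fun x _ => ?_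
    rw [extendByZero_mem _ _ (conj_mem' hNT x n), CliffordChar.conjFun_apply]
    rfl
  rw [h1, classInner_smul_left]
  exact mul_ne_zero (inv_ne_zero (Nat.cast_ne_zero.2 Nat.card_pos.ne'))
    (CliffordChar.orbitSum_inner_self_ne_zero N (lin_irr ξ₀))

end Cfsg.Agent.Peterfalvi.Lin9
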