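import Cfsg.Agent.Lib.FixedFormula.Frobenius
import Cfsg.Agent.Lib.Coprime.Factorization
import Mathlib.FieldTheory.Finite.GaloisField

/-!
# Peterfalvi (9.6), (9.7): the module of a Frobenius group `U E` of type `(p^q)` (owner: helper44)

`ModData`: `Γ = U E` Frobenius, `E` of prime order `q`, acting irreducibly on the elementary
abelian `p`-group `A`, with `U'` acting trivially, `C_A(U) = 1` and `|C_A(E)| = p`.

* `ModData.card_eq`: `|A| = p ^ q`
* `ModData.mem_ker_of_fixed`: `E` has no fixed points on the image of `U`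
* `ModData.exists_field`: the Galois case (`U` irreducible)
* `ModData.exists_line`: the other case
-/

set_option autoImplicit false

namespace Cfsg.Agent.Peterfalvi

open Cfsg.Agent.FixedFormula

universe u v

/-- The module hypothesis. -/
structure ModData {Γ : Type u} [Group Γ] [Finite Γ] {A : Type v} [CommGroup A] [Finite A]
    (U E : Subgroup Γ) (φ : Γ →* MulAut A) (p : ℕ) : Prop where
  frob : FrobData U E
  prime_p : p.Prime
  prime_q : (Nat.card E).Prime
  exp : ∀ a : A, a ^ p = 1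
  coprime : (Nat.card Γ).Coprime p
  irred : ∀ B : Subgroup A, (∀ g : Γ, ∀ b ∈ B, φ g b ∈ B) → B = ⊥ ∨ B = ⊤
  derived : ∀ u ∈ U, ∀ v ∈ U, φ (u * v) = φ (v * u)
  fixU : fixBy φ U = ⊥
  fixE : Nat.card (fixBy φ E) = p

variable {Γ : Type u} [Group Γ] [Finite Γ] {A : Type v} [CommGroup A] [Finite A]
  {U E : Subgroup Γ} {φ : Γ →* MulAut A} {p : ℕ}

/-- `U` acts irreducibly. -/
def IsGaloisAction (U : Subgroup Γ) (φ : Γ →* MulAut A) : Prop :=
  ∀ B : Subgroup A, (∀ u ∈ U, ∀ b ∈ B, φ u b ∈ B) → B = ⊥ ∨ B = ⊤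

variable (D : ModData U E φ p)
include D

theorem ModData.card_eq : Nat.card A = p ^ Nat.card E := by
  have := Fact.mk D.prime_p
  have h := elementary_formula D.frob D.exp D.coprime φ
  have htop : fixBy φ (⊤ : Subgroup Γ) = ⊥ :=
    le_bot_iff.1 (D.fixU ▸ fun a ha k _ => ha k (Subgroup.mem_top k))
  rwa [htop, D.fixU, D.fixE, Subgroup.card_bot, one_pow, one_mul, mul_one] at h

theorem ModData.mul_decomp (g : Γ) : ∃ u ∈ U, ∃ e ∈ E, g = u * e := by
  haveI := D.frob.normal
  have hg : g ∈ (↑(U ⊔ E) : Set Γ) := by rw [D.frob.sup]; trivial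
  rw [Subgroup.normal_mul] at hg
  obtain ⟨u, hu, e, he, rfl⟩ := hg
  exact ⟨u, hu, e, he, rfl⟩

/-- `E` has no fixed points on the image of `U`. -/
theorem ModData.mem_ker_of_fixed {e u : Γ} (he : e ∈ E) (he1 : e ≠ 1) (hu : u ∈ U)
    (h : φ (e * u * e⁻¹) = φ u) : φ u = 1 := by
  classical
  haveI := D.frob.normal
  let C : Subgroup Γ := U ⊓ φ.ker
  haveI : C.Normal := inferInstance
  let f : C → C := fun c => ⟨(c : Γ)⁻¹ * (e * c * e⁻¹),
    C.mul_mem (C.inv_mem c.2) (Subgroup.Normal.conj_mem inferInstance _ c.2 e)⟩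
  have inj : ∀ x ∈ U, ∀ y ∈ U, x⁻¹ * (e * x * e⁻¹) = y⁻¹ * (e * y * e⁻¹) → x = y := by
    intro x hx y hy hxy
    have h1 : e * (x * y⁻¹) = x * y⁻¹ * e := by
      calc e * (x * y⁻¹) = x * (x⁻¹ * (e * x * e⁻¹)) * e * y⁻¹ := by group
        _ = x * (y⁻¹ * (e * y * e⁻¹)) * e * y⁻¹ := by rw [hxy]
        _ = _ := by group
    exact eq_of_mul_inv_eq_one (D.frob.fpf e he he1 _ (U.mul_mem hx (U.inv_mem hy)) h1)
  have hf : Function.Surjective f := Finite.surjective_of_injective fun x y hxy =>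
    Subtype.ext (inj x x.2.1 y y.2.1 (congrArg Subtype.val hxy))
  have hc : u⁻¹ * (e * u * e⁻¹) ∈ C :=
    ⟨U.mul_mem (U.inv_mem hu) (Subgroup.Normal.conj_mem inferInstance _ hu e),
      by show φ (u⁻¹ * (e * u * e⁻¹)) = 1; rw [map_mul, h, map_inv, inv_mul_cancel]⟩
  obtain ⟨c, hce⟩ := hf ⟨_, hc⟩
  have := inj c c.2.1 u hu (congrArg Subtype.val hce)
  exact this ▸ c.2.2

/-- The image of `U` is abelian. -/
theorem ModData.map_comm : IsMulCommutative (U.map φ) := by
  refine ⟨⟨fun a b => Subtype.ext ?_⟩⟩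
  obtain ⟨u, hu, hu'⟩ := a.2
  obtain ⟨w, hw, hw'⟩ := b.2
  show (a : MulAut A) * b = b * a
  rw [← hu', ← hw', ← map_mul, ← map_mul, D.derived u hu w hw]

/-- The Galois case. -/
theorem ModData.exists_field (hgal : IsGaloisAction U φ) :
    ∃ (F : Type) (_ : Field F) (_ : Finite F) (f : A → F) (ψ : Γ → F) (σ : Γ → F → F),
      Nat.card F = p ^ Nat.card E ∧ Function.Bijective f ∧
      (∀ a b, f (a * b) = f a + f b) ∧
      (∀ u ∈ U, ψ u ≠ 0 ∧ ∀ a, f (φ u a) = ψ u * f a) ∧
      (∀ u ∈ U, ∀ w ∈ U, ψ (u * w) = ψ u * ψ w) ∧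
      (∀ u ∈ U, ψ u = 1 ↔ φ u = 1) ∧
      (∀ a, a ∈ fixBy φ E ↔ f a ^ p = f a) ∧
      (∀ e ∈ E, (∀ a, f (φ e a) = σ e (f a)) ∧ (∀ x y, σ e (x + y) = σ e x + σ e y) ∧
        (∀ x y, σ e (x * y) = σ e x * σ e y)) ∧
      IsCyclic (U.map φ) ∧ Nat.card (U.map φ) * (p - 1) ∣ p ^ Nat.card E - 1 := by
  classical
  haveI := Fintype.ofFinite A
  haveI := D.frob.normal
  have := Fact.mk D.prime_p
  let L : Γ → AddMonoid.End (Additive A) := fun g => (φ g).toMonoidHom.toAdditive
  have hL : ∀ g a, L g (Additive.ofMul a) = Additive.ofMul (φ g a) := fun g a => rfl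
  have hLmul : ∀ g h, L (g * h) = L g * L h := fun g h => AddMonoidHom.ext fun x => by
    show Additive.ofMul (φ (g * h) x.toMul) = Additive.ofMul (φ g (φ h x.toMul))
    rw [map_mul]; rfl
  have hL1 : L 1 = 1 := AddMonoidHom.ext fun x => by
    show Additive.ofMul (φ 1 x.toMul) = x
    rw [map_one]; rfl
  have hLcomm : ∀ u ∈ U, ∀ w ∈ U, L u * L w = L w * L u := fun u hu w hw => by
    rw [← hLmul, ← hLmul]
    exact congrArg (fun f : MulAut A => f.toMonoidHom.toAdditive) (D.derived u hu w hw)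
  let R : Subring (AddMonoid.End (Additive A)) := Subring.closure (L '' (U : Set Γ))
  have hRU : ∀ u ∈ U, L u ∈ R := fun u hu => Subring.subset_closure ⟨u, hu, rfl⟩
  have hRcen : ∀ r ∈ R, ∀ u ∈ U, L u * r = r * L u := by
    intro r hr u hu
    induction hr using Subring.closure_induction with
    | mem x hx => obtain ⟨w, hw, rfl⟩ := hx; exact hLcomm u hu w hw
    | zero => rw [mul_zero, zero_mul]
    | one => rw [mul_one, one_mul]
    | add x y _ _ hx hy => rw [mul_add, add_mul, hx, hy]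
    | neg x _ hx => exact Commute.neg_right hx
    | mul x y _ _ hx hy => rw [← mul_assoc, hx, mul_assoc, hy, mul_assoc]
  have hRcomm : ∀ r ∈ R, ∀ s ∈ R, r * s = s * r := by
    intro r hr s hs
    induction hs using Subring.closure_induction with
    | mem x hx => obtain ⟨w, hw, rfl⟩ := hx; exact (hRcen r hr w hw).symm
    | zero => rw [mul_zero, zero_mul]
    | one => rw [mul_one, one_mul]
    | add x y _ _ hx hy => rw [mul_add, add_mul, hx, hy]
    | neg x _ hx => exact Commute.neg_right hx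
    | mul x y _ _ hx hy => rw [← mul_assoc, hx, mul_assoc, hy, mul_assoc]
  -- kernels and images of elements of `R` are invariant under `U`
  have hinj : ∀ r : R, r ≠ 0 → Function.Injective (fun x => (r : AddMonoid.End (Additive A)) x) := by
    intro r hr
    let B : Subgroup A := AddSubgroup.toSubgroup' (AddMonoidHom.ker (r.1 : Additive A →+ Additive A))
    have hB : ∀ u ∈ U, ∀ b ∈ B, φ u b ∈ B := fun u hu b hb => by
      show r.1 (L u (Additive.ofMul b)) = 0
      have h1 : (r.1 * L u) (Additive.ofMul b) = (L u * r.1) (Additive.ofMul b) := by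
        rw [hRcen r.1 r.2 u hu]
      refine h1.trans ?_
      show L u (r.1 (Additive.ofMul b)) = 0
      rw [show r.1 (Additive.ofMul b) = 0 from hb, map_zero]
    rcases hgal B hB with h | h
    · intro x y hxy
      have h1 : (x - y).toMul ∈ B := by
        show r.1 (x - y) = 0
        rw [map_sub]
        exact sub_eq_zero.2 hxy
      rw [h, Subgroup.mem_bot] at h1
      exact sub_eq_zero.1 (Additive.toMul.injective h1)
    · refine absurd (Subtype.ext (AddMonoidHom.ext fun x => ?_)) hr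
      have h1 : x.toMul ∈ B := h ▸ Subgroup.mem_top _
      exact h1
  have hA1 : 1 < Nat.card A := D.card_eq ▸ Nat.one_lt_pow D.prime_q.ne_zero D.prime_p.one_lt
  haveI : Nontrivial A := Finite.one_lt_card_iff_nontrivial.1 hA1
  haveI : Nontrivial (Additive A) := inferInstance
  letI : CommRing R := { (inferInstance : Ring R) with
    mul_comm := fun r s => Subtype.ext (hRcomm r.1 r.2 s.1 s.2) }
  haveI : IsDomain R := by
    have hnt : Nontrivial R := ⟨⟨0, 1, fun h => by
      obtain ⟨x, hx⟩ := exists_ne (0 : Additive A)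
      exact hx (by
        have := congrArg (fun r : R => (r : AddMonoid.End (Additive A)) x) h
        exact this.symm)⟩⟩
    have : NoZeroDivisors R := ⟨fun {r s} h => by
      by_contra hcon
      push Not at hcon
      obtain ⟨hr, hs⟩ := hcon
      refine hs (Subtype.ext (AddMonoidHom.ext fun x => hinj r hr ?_))
      show r.1 (s.1 x) = r.1 0
      rw [map_zero]
      exact congrArg (fun t : R => (t : AddMonoid.End (Additive A)) x) h⟩
    exact NoZeroDivisors.to_isDomain _
  haveI : Finite (AddMonoid.End (Additive A)) :=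
    Finite.of_injective (fun r => ((r : Additive A →+ Additive A) : Additive A → Additive A))
      DFunLike.coe_injective
  letI : Field R := (Finite.isDomain_to_isField R).toField
  -- the fixed point of `E`
  obtain ⟨⟨a₀, ha₀⟩, ha₀1⟩ : ∃ a : fixBy φ E, a ≠ 1 := by
    haveI : Nontrivial (fixBy φ E) := Finite.one_lt_card_iff_nontrivial.1 (D.fixE ▸ D.prime_p.one_lt)
    exact exists_ne 1
  have hx₀ : Additive.ofMul a₀ ≠ 0 := fun h => ha₀1 (Subtype.ext (Additive.ofMul.injective h))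
  let ev : R → A := fun r => ((r : AddMonoid.End (Additive A)) (Additive.ofMul a₀)).toMul
  have hev_mul : ∀ r s : R, ev (r + s) = ev r * ev s := fun r s => rfl
  have hev_U : ∀ (u : Γ) (hu : u ∈ U) (r : R), φ u (ev r) = ev (⟨L u, hRU u hu⟩ * r) :=
    fun u hu r => rfl
  have hbij : Function.Bijective ev := by
    refine ⟨fun r s h => ?_, ?_⟩
    · by_contra hne
      refine hx₀ (hinj (r - s) (sub_ne_zero.2 hne) ?_)
      show r.1 (Additive.ofMul a₀) - s.1 (Additive.ofMul a₀) = (r - s).1 0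
      rw [map_zero, sub_eq_zero]
      exact Additive.toMul.injective h
    · let B : Subgroup A :=
        { carrier := Set.range ev
          one_mem' := ⟨0, rfl⟩
          mul_mem' := by rintro _ _ ⟨r, rfl⟩ ⟨s, rfl⟩; exact ⟨r + s, hev_mul r s⟩
          inv_mem' := by rintro _ ⟨r, rfl⟩; exact ⟨-r, rfl⟩ }
      rcases hgal B (by rintro u hu _ ⟨r, rfl⟩; exact ⟨_, (hev_U u hu r).symm⟩) with h | h
      · have h1 : ev 1 ∈ B := ⟨1, rfl⟩
        rw [h, Subgroup.mem_bot] at h1
        exact absurd (Subtype.ext h1) ha₀1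
      · exact fun a => (h ▸ Subgroup.mem_top a : a ∈ B)
  let ε : R ≃ A := Equiv.ofBijective ev hbij
  have hcardR : Nat.card R = p ^ Nat.card E := (Nat.card_congr ε).trans D.card_eq
  -- transport to `Type`
  haveI := Fintype.ofFinite R
  haveI : Fintype (GaloisField p (Nat.card E)) := Fintype.ofFinite _
  let T : R ≃+* GaloisField p (Nat.card E) := FiniteField.ringEquivOfCardEq
    (by rw [← Nat.card_eq_fintype_card, ← Nat.card_eq_fintype_card, hcardR,
      GaloisField.card p _ D.prime_q.ne_zero])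
  let ψ : Γ → GaloisField p (Nat.card E) := fun g => if hg : g ∈ U then T ⟨L g, hRU g hg⟩ else 0
  let f : A → GaloisField p (Nat.card E) := fun a => T (ε.symm a)
  let σ : Γ → GaloisField p (Nat.card E) → GaloisField p (Nat.card E) := fun g x => f (φ g (ε (T.symm x)))
  have hψ : ∀ u (hu : u ∈ U), ψ u = T ⟨L u, hRU u hu⟩ := fun u hu => dif_pos hu
  have hψ0 : ∀ u ∈ U, ψ u ≠ 0 := fun u hu h => by
    rw [hψ u hu, map_eq_zero_iff _ T.injective] at h
    have h1 : φ u a₀ = 1 := congrArg (fun r : R => ev r) h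
    exact ha₀1 (Subtype.ext ((φ u).injective (h1.trans (map_one (φ u)).symm)))
  have hfφ : ∀ u ∈ U, ∀ a, f (φ u a) = ψ u * f a := fun u hu a => by
    rw [hψ u hu, ← map_mul]
    refine congrArg T (ε.injective ?_)
    rw [ε.apply_symm_apply]
    exact (congrArg (φ u) (ε.apply_symm_apply a).symm).trans (hev_U u hu (ε.symm a))
  have hfadd : ∀ a b, f (a * b) = f a + f b := fun a b => by
    rw [← map_add]
    refine congrArg T (ε.injective ?_)
    rw [ε.apply_symm_apply]
    exact ((congrArg₂ (· * ·) (ε.apply_symm_apply a) (ε.apply_symm_apply b)).symm.trans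
      (hev_mul (ε.symm a) (ε.symm b)).symm)
  have hfbij : Function.Bijective f := T.bijective.comp ε.symm.bijective
  -- the action of `E` is semilinear
  have hRe : ∀ e ∈ E, ∀ r ∈ R, L e * r * L e⁻¹ ∈ R := by
    intro e he r hr
    have hee : L e⁻¹ * L e = 1 := by rw [← hLmul, inv_mul_cancel, hL1]
    induction hr using Subring.closure_induction with
    | mem x hx =>
      obtain ⟨w, hw, rfl⟩ := hx
      rw [← hLmul, ← hLmul]
      exact hRU _ (D.frob.normal.conj_mem w hw e)
    | zero => rw [mul_zero, zero_mul]; exact R.zero_mem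
    | one => rw [mul_one, ← hLmul, mul_inv_cancel, hL1]; exact R.one_mem
    | add x y _ _ hx hy => rw [mul_add, add_mul]; exact R.add_mem hx hy
    | neg x _ hx =>
      convert R.neg_mem hx using 1
      exact AddMonoidHom.ext fun a => map_neg (L e) (x (L e⁻¹ a))
    | mul x y _ _ hx hy =>
      rw [show L e * (x * y) * L e⁻¹ = (L e * x * L e⁻¹) * (L e * y * L e⁻¹) by
        rw [mul_assoc (L e * x), ← mul_assoc (L e⁻¹), ← mul_assoc (L e⁻¹), hee, one_mul]
        simp only [mul_assoc]]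
      exact R.mul_mem hx hy
  have hσev : ∀ e (he : e ∈ E) (r : R),
      φ e (ev r) = ev ⟨L e * r.1 * L e⁻¹, hRe e he r.1 r.2⟩ := by
    intro e he r
    show φ e (ev r) = (L e (r.1 (Additive.ofMul (φ e⁻¹ a₀)))).toMul
    rw [ha₀ e⁻¹ (E.inv_mem he)]
    rfl
  have hσR : ∀ e (he : e ∈ E) (r : R),
      σ e (T r) = T ⟨L e * r.1 * L e⁻¹, hRe e he r.1 r.2⟩ := by
    intro e he r
    refine congrArg T (ε.injective ?_)
    rw [ε.apply_symm_apply, T.symm_apply_apply]
    exact hσev e he r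
  have hσmul : ∀ e ∈ E, ∀ x y, σ e (x * y) = σ e x * σ e y := by
    intro e he x y
    obtain ⟨r, rfl⟩ := T.surjective x
    obtain ⟨s, rfl⟩ := T.surjective y
    rw [← map_mul, hσR e he, hσR e he, hσR e he, ← map_mul]
    refine congrArg T (Subtype.ext ?_)
    show L e * (r.1 * s.1) * L e⁻¹ = L e * r.1 * L e⁻¹ * (L e * s.1 * L e⁻¹)
    rw [mul_assoc (L e * r.1), ← mul_assoc (L e⁻¹), ← mul_assoc (L e⁻¹), ← hLmul, inv_mul_cancel,
      hL1, one_mul]
    simp only [mul_assoc]
  have hσf : ∀ e a, f (φ e a) = σ e (f a) := fun e a => by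
    show f (φ e a) = f (φ e (ε (T.symm (T (ε.symm a)))))
    rw [T.symm_apply_apply, ε.apply_symm_apply]
  have hσadd : ∀ e, ∀ x y, σ e (x + y) = σ e x + σ e y := by
    intro e x y
    obtain ⟨a, rfl⟩ := hfbij.2 x
    obtain ⟨b, rfl⟩ := hfbij.2 y
    rw [← hfadd, ← hσf, ← hσf, ← hσf, map_mul, hfadd]
  have hf1 : f a₀ = 1 := by
    show T (ε.symm a₀) = 1
    rw [show ε.symm a₀ = 1 from ε.symm_apply_eq.2 rfl, map_one]
  -- the fixed points of `E` form the prime field
  let c : ZMod p →+* GaloisField p (Nat.card E) := algebraMap _ _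
  have hcinj : Function.Injective c := c.injective
  have hcpow : ∀ z, c z ^ p = c z := fun z => by rw [← map_pow, ZMod.pow_card]
  have hcf : ∀ z, ∃ a, a ∈ fixBy φ E ∧ f a = c z := by
    intro z
    obtain ⟨a, ha⟩ := hfbij.2 (c z)
    refine ⟨a, fun e he => hfbij.1 ?_, ha⟩
    rw [hσf e a, ha]
    have h1 : σ e 1 = 1 := by rw [← hf1, ← hσf, ha₀ e he]
    let g : GaloisField p (Nat.card E) →+* GaloisField p (Nat.card E) :=
      RingHom.mk' ⟨⟨σ e, h1⟩, hσmul e he⟩ (hσadd e)
    exact RingHom.congr_fun (RingHom.ext_zmod (g.comp c) c) z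
  have hroots : ∀ x : GaloisField p (Nat.card E), x ^ p = x → ∃ z, c z = x := by
    intro x hx
    by_contra hno
    push Not at hno
    let S : Finset (GaloisField p (Nat.card E)) := insert x (Finset.univ.image c)
    have hS : S.card = p + 1 := by
      rw [Finset.card_insert_of_notMem (by simpa using hno), Finset.card_image_of_injective _ hcinj,
        Finset.card_univ, ZMod.card]
    let P : Polynomial (GaloisField p (Nat.card E)) := Polynomial.X ^ p - Polynomial.X
    have hP : P ≠ 0 := FiniteField.X_pow_card_sub_X_ne_zero _ D.prime_p.one_lt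
    have hle : S.card ≤ p := by
      refine (Finset.card_le_card (t := P.roots.toFinset) fun y hy => ?_).trans
        ((Multiset.toFinset_card_le _).trans ((Polynomial.card_roots' P).trans
          (FiniteField.X_pow_card_sub_X_natDegree_eq _ D.prime_p.one_lt).le))
      rw [Multiset.mem_toFinset, Polynomial.mem_roots hP]
      have hy' : y ^ p = y := by
        rcases Finset.mem_insert.1 hy with rfl | hy
        · exact hx
        · obtain ⟨z, -, rfl⟩ := Finset.mem_image.1 hy
          exact hcpow z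
      simp [P, hy']
    omega
  have hfix : ∀ a, a ∈ fixBy φ E ↔ f a ^ p = f a := by
    intro a
    constructor
    · intro ha
      choose g hg hgf using hcf
      have hgb : Function.Bijective (fun z => (⟨g z, hg z⟩ : fixBy φ E)) :=
        (Nat.bijective_iff_injective_and_card _).2
          ⟨fun z w h => hcinj (by rw [← hgf z, ← hgf w]; exact congrArg f (congrArg Subtype.val h)),
            by rw [D.fixE, Nat.card_zmod]⟩
      obtain ⟨z, hz⟩ := hgb.2 ⟨a, ha⟩
      rw [← show g z = a from congrArg Subtype.val hz, hgf]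
      exact hcpow z
    · intro ha
      obtain ⟨z, hz⟩ := hroots _ ha
      obtain ⟨b, hb, hbf⟩ := hcf z
      rwa [← hfbij.1 (hbf.trans hz)]
  have hψmul : ∀ u ∈ U, ∀ w ∈ U, ψ (u * w) = ψ u * ψ w := by
    intro u hu w hw
    rw [hψ u hu, hψ w hw, hψ _ (U.mul_mem hu hw), ← map_mul]
    exact congrArg T (Subtype.ext (hLmul u w))
  have hψ1 : ∀ u ∈ U, (ψ u = 1 ↔ φ u = 1) := by
    intro u hu
    constructor
    · intro h
      refine MulEquiv.ext fun a => hfbij.1 ?_
      rw [hfφ u hu, h, one_mul]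
      rfl
    · intro h
      have := hfφ u hu a₀
      rw [h, hf1, mul_one] at this
      exact this.symm.trans hf1
  -- the image of `U` in the multiplicative group
  let χ : U →* (GaloisField p (Nat.card E))ˣ :=
    MonoidHom.mk' (fun u => Units.mk0 (ψ u) (hψ0 u u.2))
      (fun u w => Units.ext (hψmul u u.2 w w.2))
  let ι : (ZMod p)ˣ →* (GaloisField p (Nat.card E))ˣ := Units.map c.toMonoidHom
  have hχker : ∀ u : U, χ u = 1 ↔ φ u = 1 := fun u => by
    rw [← hψ1 u u.2]
    exact ⟨fun h => congrArg Units.val h, fun h => Units.ext h⟩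
  let κ : U →* U.map φ :=
    MonoidHom.mk' (fun u => ⟨φ u, ⟨u, u.2, rfl⟩⟩) (fun u w => Subtype.ext (map_mul φ (u : Γ) w))
  have hκ : Function.Surjective κ := by
    rintro ⟨_, u, hu, rfl⟩
    exact ⟨⟨u, hu⟩, rfl⟩
  have hker : κ.ker = χ.ker := by
    ext u
    rw [MonoidHom.mem_ker, MonoidHom.mem_ker, hχker]
    exact ⟨fun h => congrArg Subtype.val h, fun h => Subtype.ext h⟩
  let iso : U.map φ ≃* χ.range :=
    ((QuotientGroup.quotientKerEquivOfSurjective κ hκ).symm.trans
      (QuotientGroup.quotientMulEquivOfEq hker)).trans (QuotientGroup.quotientKerEquivRange χ)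
  have hcyc : IsCyclic (U.map φ) := iso.isCyclic.2 inferInstance
  have hdisj : ∀ x ∈ χ.range, x ∈ ι.range → x = 1 := by
    rintro _ ⟨u, rfl⟩ ⟨z, hz⟩
    rw [hχker]
    obtain ⟨e, he, he1⟩ : ∃ e ∈ E, e ≠ 1 := by
      haveI : Nontrivial E := Finite.one_lt_card_iff_nontrivial.1 D.prime_q.one_lt
      obtain ⟨e, he⟩ := exists_ne (1 : E)
      exact ⟨e, e.2, fun h => he (Subtype.ext h)⟩
    refine D.mem_ker_of_fixed he he1 u.2 ?_
    have hu' : e * (u : Γ) * e⁻¹ ∈ U := D.frob.normal.conj_mem _ u.2 e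
    have hfu : φ (u : Γ) a₀ ∈ fixBy φ E := (hfix _).2 (by
      rw [hfφ _ u.2, hf1, mul_one, show ψ u = c z from (congrArg Units.val hz).symm]
      exact hcpow z)
    have h1 : f (φ (e * (u : Γ) * e⁻¹) a₀) = f (φ (u : Γ) a₀) := by
      rw [map_mul, map_mul, MulAut.mul_apply, MulAut.mul_apply, ha₀ e⁻¹ (E.inv_mem he),
        hfu e he]
    rw [hfφ _ hu', hfφ _ u.2, hf1, mul_one, mul_one] at h1
    refine MulEquiv.ext fun a => hfbij.1 ?_
    rw [hfφ _ hu', hfφ _ u.2, h1]
  have hdvd : Nat.card (U.map φ) * (p - 1) ∣ p ^ Nat.card E - 1 := by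
    have h1 : Nat.card (χ.range × ι.range) ∣ Nat.card (GaloisField p (Nat.card E))ˣ := by
      refine Subgroup.card_dvd_of_injective
        (χ.range.subtype.coprod ι.range.subtype) ((injective_iff_map_eq_one _).2 ?_)
      rintro ⟨⟨x, hx⟩, ⟨y, hy⟩⟩ h
      have hxy : x * y = 1 := h
      have hx1 : x = 1 := hdisj x hx (eq_inv_of_mul_eq_one_left hxy ▸ ι.range.inv_mem hy)
      subst hx1
      rw [one_mul] at hxy
      subst hxy
      rfl
    rw [Nat.card_prod, ← Nat.card_congr iso.toEquiv, Nat.card_units,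
      GaloisField.card p _ D.prime_q.ne_zero] at h1
    refine dvd_trans (dvd_of_eq ?_) h1
    congr 1
    rw [Nat.card_congr (MonoidHom.ofInjective (f := ι) ?_).toEquiv.symm, Nat.card_units,
      Nat.card_zmod]
    exact Units.map_injective hcinj
  exact ⟨_, inferInstance, inferInstance, f, ψ, σ, GaloisField.card p _ D.prime_q.ne_zero, hfbij,
    hfadd, fun u hu => ⟨hψ0 u hu, hfφ u hu⟩, hψmul, hψ1, hfix,
    fun e he => ⟨hσf e, hσadd e, hσmul e he⟩, hcyc, hdvd⟩

omit D in
/-- The fixer of a subgroup of `A`. -/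
def fixer (φ : Γ →* MulAut A) (B : Subgroup A) : Subgroup Γ where
  carrier := {g | ∀ b ∈ B, φ g b = b}
  one_mem' := fun b _ => by rw [map_one]; rfl
  mul_mem' := fun {g h} hg hh b hb => by rw [map_mul, MulAut.mul_apply, hh b hb, hg b hb]
  inv_mem' := fun {g} hg b hb => by
    conv_lhs => rw [← hg b hb]
    rw [map_inv]
    exact (φ g).symm_apply_apply b

/-- A proper minimal `U`-invariant subgroup is a line and `A` is the product of its `q` images. -/
theorem ModData.line_of_minimal {B : Subgroup A}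
    (hBinv : B ≠ ⊥ ∧ ∀ u ∈ U, ∀ b ∈ B, φ u b ∈ B)
    (hBmin : ∀ X ≤ B, (X ≠ ⊥ ∧ ∀ u ∈ U, ∀ b ∈ X, φ u b ∈ X) → X = B) (hBtop : B ≠ ⊤) :
    Nat.card B = p ∧ Function.Bijective (fun b : E → B => ∏ᶠ e : E, φ (e : Γ) (b e : A)) ∧
      1 < (U ⊓ fixer φ B).relIndex U ∧ (U ⊓ fixer φ B).relIndex U ∣ p - 1 ∧
      (∀ u ∈ U, φ u = 1 ↔ ∀ e ∈ E, e⁻¹ * u * e ∈ fixer φ B) ∧
      Nat.card (U.map φ) ∣ (U ⊓ fixer φ B).relIndex U ^ (Nat.card E - 1) := by
  classical
  haveI := Fintype.ofFinite E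
  haveI := D.frob.normal
  have := Fact.mk D.prime_p
  let T : E → Subgroup A := fun e => B.map (φ (e : Γ)).toMonoidHom
  have hTU : ∀ e : E, ∀ u ∈ U, ∀ b ∈ T e, φ u b ∈ T e := by
    rintro e u hu _ ⟨b, hb, rfl⟩
    refine ⟨φ ((e : Γ)⁻¹ * u * e) b, hBinv.2 _ ?_ b hb, ?_⟩
    · simpa using D.frob.normal.conj_mem u hu (e : Γ)⁻¹
    · show φ (e : Γ) (φ ((e : Γ)⁻¹ * u * e) b) = φ u (φ (e : Γ) b)
      rw [← MulAut.mul_apply, ← map_mul, ← MulAut.mul_apply, ← map_mul]
      congr 2
      group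
  have hTmin : ∀ e : E, ∀ X ≤ T e, (∀ u ∈ U, ∀ b ∈ X, φ u b ∈ X) → X = ⊥ ∨ X = T e := by
    intro e X hX hXi
    rcases eq_or_ne X ⊥ with h | h
    · exact Or.inl h
    right
    have h1 : X.comap (φ (e : Γ)).toMonoidHom = B := by
      refine hBmin _ (fun b hb => ?_) ⟨fun h0 => h ?_, fun u hu b hb => ?_⟩
      · obtain ⟨c, hc, hce⟩ := hX hb
        rwa [← (φ (e : Γ)).injective hce]
      · rw [← Subgroup.map_comap_eq_self_of_surjective (f := (φ (e : Γ)).toMonoidHom)
          (φ (e : Γ)).surjective X, h0, Subgroup.map_bot]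
      · show φ (e : Γ) (φ u b) ∈ X
        have h2 := hXi ((e : Γ) * u * (e : Γ)⁻¹) (D.frob.normal.conj_mem u hu e) _ hb
        have h3 : φ (e : Γ) (φ u b) =
            φ ((e : Γ) * u * (e : Γ)⁻¹) ((φ (e : Γ)).toMonoidHom b) := by
          show _ = φ ((e : Γ) * u * (e : Γ)⁻¹) (φ (e : Γ) b)
          rw [← MulAut.mul_apply, ← map_mul, ← MulAut.mul_apply, ← map_mul]
          congr 2
          group
        exact h3 ▸ h2
    show X = T e
    rw [← Subgroup.map_comap_eq_self_of_surjective (f := (φ (e : Γ)).toMonoidHom)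
      (φ (e : Γ)).surjective X, h1]
  have hTcard : ∀ e : E, Nat.card (T e) = Nat.card B := fun e =>
    Subgroup.card_map_of_injective (φ (e : Γ)).injective
  have hsup : ∀ s : Finset E, (∀ u ∈ U, ∀ b ∈ s.sup T, φ u b ∈ s.sup T) ∧
      ∃ j, Nat.card (s.sup T : Subgroup A) = Nat.card B ^ j := by
    intro s
    induction s using Finset.induction with
    | empty =>
      refine ⟨fun u _ b hb => ?_, 0, by simp⟩
      rw [Finset.sup_empty, Subgroup.mem_bot] at hb ⊢
      rw [hb, map_one]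
    | @insert e s he ih =>
      rw [Finset.sup_insert]
      set S := s.sup T
      refine ⟨fun u hu b hb => ?_, ?_⟩
      · obtain ⟨x, hx, y, hy, rfl⟩ := Subgroup.mem_sup.1 hb
        rw [map_mul]
        exact Subgroup.mul_mem_sup (hTU e u hu x hx) (ih.1 u hu y hy)
      · obtain ⟨j, hj⟩ := ih.2
        rcases hTmin e (T e ⊓ S) inf_le_left
          (fun u hu b hb => ⟨hTU e u hu b hb.1, ih.1 u hu b hb.2⟩) with h | h
        · refine ⟨j + 1, ?_⟩
          have h1 := Coprime.card_mul_inf (T e) S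
          rw [h, Subgroup.card_bot, mul_one, ← Subgroup.mul_normal, hTcard, hj] at h1
          rw [pow_succ']
          exact h1
        · rw [sup_eq_right.2 (h ▸ inf_le_right)]
          exact ⟨j, hj⟩
  have hall : (Finset.univ : Finset E).sup T = ⊤ := by
    refine (D.irred _ fun g b hb => ?_).resolve_left fun h => hBinv.1 ?_
    · obtain ⟨u, hu, c, hc, rfl⟩ := D.mul_decomp g
      rw [map_mul, MulAut.mul_apply]
      refine (hsup _).1 u hu _ ?_
      have hmap : ((Finset.univ : Finset E).sup T).map (φ c).toMonoidHom ≤ Finset.univ.sup T := by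
        rw [Finset.sup_eq_iSup, Subgroup.map_iSup]
        refine iSup_le fun e => ?_
        rw [Subgroup.map_iSup]
        refine iSup_le fun _ => ?_
        refine le_trans (fun x hx => ?_)
          (le_iSup₂ (f := fun (d : E) (_ : d ∈ Finset.univ) => T d) (⟨c, hc⟩ * e) (Finset.mem_univ _))
        obtain ⟨_, ⟨b', hb', rfl⟩, rfl⟩ := hx
        exact ⟨b', hb', by show φ (c * (e : Γ)) b' = _; rw [map_mul]; rfl⟩
      exact hmap ⟨b, hb, rfl⟩
    · have h1 : T 1 ≤ (⊥ : Subgroup A) := h ▸ Finset.le_sup (Finset.mem_univ _)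
      rw [eq_bot_iff]
      intro b hb
      refine h1 ⟨b, hb, ?_⟩
      show φ ((1 : E) : Γ) b = b
      rw [OneMemClass.coe_one, map_one]
      rfl
  obtain ⟨k, hk⟩ := IsPGroup.iff_card.1
    (IsPGroup.to_subgroup (fun a => ⟨1, by rw [pow_one]; exact D.exp a⟩) B : IsPGroup p B)
  have hBp : Nat.card B = p := by
    obtain ⟨j, hj⟩ := (hsup Finset.univ).2
    rw [hall, Subgroup.card_top, D.card_eq, hk, ← pow_mul] at hj
    rcases D.prime_q.eq_one_or_self_of_dvd k
      (Dvd.intro _ (Nat.pow_right_injective D.prime_p.two_le hj).symm) with h | h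
    · rw [hk, h, pow_one]
    · refine absurd ?_ hBtop
      refine Subgroup.eq_top_of_card_eq B ?_
      rw [hk, h, D.card_eq]
  let prod : (E → B) →* A := MonoidHom.mk' (fun b => ∏ e : E, φ (e : Γ) (b e : A)) fun b c => by
    rw [← Finset.prod_mul_distrib]
    exact Finset.prod_congr rfl fun e _ => map_mul (φ (e : Γ)) _ _
  have hsurj : Function.Surjective prod := by
    intro x
    have h1 : (Finset.univ : Finset E).sup T ≤ prod.range := Finset.sup_le fun e _ => by
      rintro _ ⟨b, hb, rfl⟩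
      refine ⟨Pi.mulSingle e ⟨b, hb⟩, ?_⟩
      show ∏ d : E, φ (d : Γ) (((Pi.mulSingle e ⟨b, hb⟩ : E → B) d : B) : A) = φ (e : Γ) b
      rw [Finset.prod_eq_single e (fun d _ hd => by rw [Pi.mulSingle_eq_of_ne hd]; exact map_one _)
        (fun h => absurd (Finset.mem_univ e) h), Pi.mulSingle_eq_same]
    exact h1 (hall ▸ Subgroup.mem_top x)
  have hbij : Function.Bijective prod := (Nat.bijective_iff_surjective_and_card _).2
    ⟨hsurj, by rw [Nat.card_fun, hBp, D.card_eq]⟩
  have hfun : (fun b : E → B => ∏ᶠ e : E, φ (e : Γ) (b e : A)) = prod :=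
    funext fun b => finprod_eq_prod_of_fintype _
  -- the kernel
  have hker : ∀ u ∈ U, φ u = 1 ↔ ∀ e ∈ E, e⁻¹ * u * e ∈ fixer φ B := by
    intro u _
    constructor
    · intro h e _ b _
      rw [map_mul, map_mul, h, mul_one, ← map_mul, inv_mul_cancel, map_one]
      rfl
    · intro h
      refine MulEquiv.ext fun x => ?_
      obtain ⟨b, rfl⟩ := hsurj x
      show φ u (∏ e : E, φ (e : Γ) (b e : A)) = _
      rw [map_prod]
      refine Finset.prod_congr rfl fun e _ => ?_
      have h1 : φ ((e : Γ)⁻¹ * u * e) (b e : A) = b e := h e e.2 _ (b e).2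
      conv_rhs => rw [← h1]
      rw [← MulAut.mul_apply, ← map_mul, ← MulAut.mul_apply, ← map_mul]
      congr 2
      group
  -- the action of `U` on `B`
  let F : U →* MulAut B :=
    { toFun := fun u =>
        { toFun := fun b => ⟨φ (u : Γ) b, hBinv.2 u u.2 b b.2⟩
          invFun := fun b => ⟨φ ((u⁻¹ : U) : Γ) b, hBinv.2 _ (u⁻¹).2 b b.2⟩
          left_inv := fun b => Subtype.ext (by
            show φ ((u⁻¹ : U) : Γ) (φ (u : Γ) b) = b
            rw [InvMemClass.coe_inv, map_inv]; exact (φ (u : Γ)).symm_apply_apply b)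
          right_inv := fun b => Subtype.ext (by
            show φ (u : Γ) (φ ((u⁻¹ : U) : Γ) b) = b
            rw [InvMemClass.coe_inv, map_inv]; exact (φ (u : Γ)).apply_symm_apply b)
          map_mul' := fun a b => Subtype.ext (map_mul (φ (u : Γ)) _ _) }
      map_one' := MulEquiv.ext fun b => Subtype.ext (by
        show φ ((1 : U) : Γ) b = b
        rw [OneMemClass.coe_one, map_one]; rfl)
      map_mul' := fun u w => MulEquiv.ext fun b => Subtype.ext (by
        show φ ((u * w : U) : Γ) b = φ (u : Γ) (φ (w : Γ) b)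
        rw [Subgroup.coe_mul, map_mul]; rfl) }
  have hFker : ∀ u : U, F u = 1 ↔ (u : Γ) ∈ fixer φ B := fun u =>
    ⟨fun h b hb => congrArg (fun f : MulAut B => ((f ⟨b, hb⟩ : B) : A)) h,
      fun h => MulEquiv.ext fun b => Subtype.ext (h b b.2)⟩
  have hFrange : (U ⊓ fixer φ B).relIndex U = Nat.card F.range := by
    rw [← Subgroup.index_ker]
    show ((U ⊓ fixer φ B).subgroupOf U).index = F.ker.index
    congr 1
    ext u
    rw [Subgroup.mem_subgroupOf, MonoidHom.mem_ker, hFker]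
    exact ⟨fun h => h.2, fun h => ⟨u.2, h⟩⟩
  have hne1 : (U ⊓ fixer φ B).relIndex U ≠ 1 := by
    intro h
    refine hBinv.1 (le_bot_iff.1 (D.fixU ▸ fun b hb u hu => ?_))
    exact (Subgroup.relIndex_eq_one.1 h hu).2 b hb
  have hcycB : IsCyclic B := isCyclic_of_prime_card hBp
  have haut : Nat.card (MulAut B) = p - 1 := by
    rw [IsCyclic.card_mulAut, hBp, Nat.totient_prime D.prime_p]
  refine ⟨hBp, hfun ▸ hbij, ?_, ?_, hker, ?_⟩
  · have : (U ⊓ fixer φ B).relIndex U ≠ 0 := by rw [hFrange]; exact Nat.card_pos.ne'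
    omega
  · rw [hFrange, ← haut]
    exact Subgroup.card_subgroup_dvd_card _
  -- embedding of the image of `U` in `F.range ^ (q - 1)`
  rw [hFrange]
  let G' : U →* ({e : E // e ≠ 1} → F.range) :=
    { toFun := fun u e => F.rangeRestrict ⟨(e.1 : Γ)⁻¹ * (u : Γ) * (e.1 : Γ),
        by simpa using D.frob.normal.conj_mem _ u.2 (e.1 : Γ)⁻¹⟩
      map_one' := funext fun e => by
        refine (congrArg F.rangeRestrict (Subtype.ext ?_)).trans (map_one _)
        show (e.1 : Γ)⁻¹ * 1 * (e.1 : Γ) = 1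
        group
      map_mul' := fun u w => funext fun e => by
        show F.rangeRestrict _ = F.rangeRestrict _ * F.rangeRestrict _
        rw [← map_mul]
        refine congrArg _ (Subtype.ext ?_)
        show (e.1 : Γ)⁻¹ * ((u : Γ) * w) * (e.1 : Γ) =
          (e.1 : Γ)⁻¹ * (u : Γ) * (e.1 : Γ) * ((e.1 : Γ)⁻¹ * (w : Γ) * (e.1 : Γ))
        group }
  have hG'ker : ∀ u : U, G' u = 1 → φ (u : Γ) = 1 := by
    intro u hu
    have h1 : ∀ e ∈ E, e ≠ 1 → e⁻¹ * (u : Γ) * e ∈ fixer φ B := by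
      intro e he he1
      have h2 := congrArg Subtype.val (congrFun hu ⟨⟨e, he⟩, fun h => he1 (congrArg Subtype.val h)⟩)
      exact (hFker _).1 h2
    obtain ⟨g, hg, hg1⟩ : ∃ g ∈ E, g ≠ (1 : Γ) := by
      haveI : Nontrivial E := Finite.one_lt_card_iff_nontrivial.1 D.prime_q.one_lt
      obtain ⟨e, he⟩ := exists_ne (1 : E)
      exact ⟨e, e.2, fun h => he (Subtype.ext h)⟩
    haveI hcU := D.map_comm
    let ι : E → U.map φ := fun e => ⟨φ ((e : Γ)⁻¹ * u * e),
      ⟨_, by simpa using D.frob.normal.conj_mem _ u.2 (e : Γ)⁻¹, rfl⟩⟩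
    letI : CommGroup (U.map φ) := { (inferInstance : Group (U.map φ)) with
      mul_comm := fun a b => hcU.is_comm.comm a b }
    set P : U.map φ := ∏ e : E, ι e with hP
    obtain ⟨v, hv, hvP⟩ := P.2
    -- `P` is fixed by `E`
    have hP1 : φ v = 1 := by
      refine D.mem_ker_of_fixed hg hg1 hv ?_
      let c : U.map φ →* MulAut A :=
        (MulAut.conj (φ g)).toMonoidHom.comp (U.map φ).subtype
      have hc : ∀ x : U.map φ, c x = φ g * x * (φ g)⁻¹ := fun x => rfl
      rw [map_mul, map_mul, map_inv, hvP, ← hc]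
      let σ : U.map φ →* U.map φ := MonoidHom.codRestrict c _ fun x => by
        obtain ⟨y, hy, hyx⟩ := x.2
        exact ⟨g * y * g⁻¹, D.frob.normal.conj_mem y hy g, by rw [map_mul, map_mul, map_inv, hyx]; rfl⟩
      refine congrArg Subtype.val (show σ P = P from ?_)
      rw [hP, map_prod]
      refine Fintype.prod_equiv (Equiv.mulRight ((⟨g, hg⟩ : E)⁻¹)) _ _ fun e => Subtype.ext ?_
      show φ g * φ ((e : Γ)⁻¹ * u * e) * (φ g)⁻¹ =
        φ (((e : Γ) * g⁻¹)⁻¹ * u * ((e : Γ) * g⁻¹))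
      rw [← map_inv, ← map_mul, ← map_mul]
      congr 1
      group
    refine (hker u u.2).2 fun e he => ?_
    rcases eq_or_ne e 1 with rfl | he1
    · intro b hb
      have hprod : ∀ s : Finset E, (∀ x ∈ s, x ≠ 1) → ((∏ e ∈ s, ι e : U.map φ) : MulAut A) b = b := by
        intro s hs
        induction s using Finset.induction with
        | empty => rfl
        | @insert x s hx ih =>
          rw [Finset.prod_insert hx]
          show (ι x : MulAut A) (((∏ e ∈ s, ι e : U.map φ) : MulAut A) b) = b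
          rw [ih fun y hy => hs y (Finset.mem_insert_of_mem hy)]
          exact h1 x x.2 (fun h => hs x (Finset.mem_insert_self _ _) (Subtype.ext h)) b hb
      have h2 : (P : MulAut A) b = b := by rw [← hvP, hP1]; rfl
      rw [hP, ← Finset.mul_prod_erase Finset.univ ι (Finset.mem_univ 1)] at h2
      have h3 : (ι 1 : MulAut A)
          (((∏ e ∈ Finset.univ.erase 1, ι e : U.map φ) : MulAut A) b) = b := h2
      rwa [hprod _ fun x hx => (Finset.mem_erase.1 hx).1] at h3
    · exact h1 e he he1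
  have hcard : Nat.card (U.map φ) ∣ Nat.card G'.range := by
    rw [← Subgroup.index_ker]
    have : Nat.card (U.map φ) = ((φ.comp U.subtype).ker).index := by
      rw [Subgroup.index_ker, MonoidHom.range_comp, U.range_subtype]
    rw [this]
    exact Subgroup.index_dvd_of_le fun u hu => hG'ker u hu
  refine hcard.trans ((Subgroup.card_subgroup_dvd_card _).trans (dvd_of_eq ?_))
  rw [Nat.card_fun, Nat.card_eq_fintype_card (α := {e : E // e ≠ 1}), Fintype.card_subtype_compl,
    Fintype.card_subtype_eq, ← Nat.card_eq_fintype_card]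

/-- An invariant subgroup of order `p` is such a line. -/
theorem ModData.line_facts {B : Subgroup A} (hBp : Nat.card B = p)
    (hBU : ∀ u ∈ U, ∀ b ∈ B, φ u b ∈ B) :
    Function.Bijective (fun b : E → B => ∏ᶠ e : E, φ (e : Γ) (b e : A)) ∧
      1 < (U ⊓ fixer φ B).relIndex U ∧ (U ⊓ fixer φ B).relIndex U ∣ p - 1 ∧
      (∀ u ∈ U, φ u = 1 ↔ ∀ e ∈ E, e⁻¹ * u * e ∈ fixer φ B) ∧
      Nat.card (U.map φ) ∣ (U ⊓ fixer φ B).relIndex U ^ (Nat.card E - 1) :=
  (D.line_of_minimal (B := B)
    ⟨fun h => D.prime_p.one_lt.ne (by rw [← hBp, h, Subgroup.card_bot]), hBU⟩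
    (fun X hX hXi => Subgroup.eq_of_le_of_card_ge hX (by
      have h1 := Subgroup.card_dvd_of_le hX
      rw [hBp, Nat.dvd_prime D.prime_p] at h1
      rcases h1 with h1 | h1
      · exact absurd (Subgroup.eq_bot_of_card_eq _ h1) hXi.1
      · rw [h1, hBp]))
    (fun h => by
      rw [h, Subgroup.card_top, D.card_eq] at hBp
      exact absurd (Nat.pow_right_injective D.prime_p.two_le (hBp.trans (pow_one p).symm))
        D.prime_q.one_lt.ne')).2

/-- The other case: `A` is the product of `q` lines permuted by `E`; `a = [U : C_U(B)]`. -/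
theorem ModData.exists_line (hgal : ¬ IsGaloisAction U φ) :
    ∃ B : Subgroup A, Nat.card B = p ∧ (∀ u ∈ U, ∀ b ∈ B, φ u b ∈ B) ∧
      Function.Bijective (fun b : E → B => ∏ᶠ e : E, φ (e : Γ) (b e : A)) ∧
      1 < (U ⊓ fixer φ B).relIndex U ∧ (U ⊓ fixer φ B).relIndex U ∣ p - 1 ∧
      (∀ u ∈ U, φ u = 1 ↔ ∀ e ∈ E, e⁻¹ * u * e ∈ fixer φ B) ∧
      Nat.card (U.map φ) ∣ (U ⊓ fixer φ B).relIndex U ^ (Nat.card E - 1) := by
  classical
  let Inv : Subgroup A → Prop := fun X => X ≠ ⊥ ∧ ∀ u ∈ U, ∀ b ∈ X, φ u b ∈ X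
  obtain ⟨X₀, hX₀, hX₀1⟩ : ∃ X, Inv X ∧ X ≠ ⊤ := by
    simp only [IsGaloisAction, not_forall] at hgal
    obtain ⟨X, hX, hne⟩ := hgal
    push Not at hne
    exact ⟨X, ⟨hne.1, hX⟩, hne.2⟩
  obtain ⟨B, hBX, hBinv, hBmin⟩ : ∃ B ≤ X₀, Inv B ∧ ∀ X ≤ B, Inv X → X = B := by
    haveI : Finite (Subgroup A) := Finite.of_injective _ SetLike.coe_injective
    obtain ⟨B, hB⟩ := Set.Finite.exists_minimal (s := {X | X ≤ X₀ ∧ Inv X}) (Set.toFinite _)
      ⟨X₀, le_rfl, hX₀⟩
    exact ⟨B, hB.1.1, hB.1.2, fun X hX hXi =>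
      le_antisymm hX (hB.2 ⟨hX.trans hB.1.1, hXi⟩ hX)⟩
  obtain ⟨h1, h2⟩ := D.line_of_minimal hBinv hBmin (fun h => hX₀1 (top_le_iff.1 (h ▸ hBX)))
  exact ⟨B, h1, hBinv.2, h2⟩

end Cfsg.Agent.Peterfalvi
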