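import Cfsg.Agent.Lib.Peterfalvi.Sec9Module
import Cfsg.Agent.Lib.Peterfalvi.Sec8
import Cfsg.Agent.Lib.Coprime.Invariant
import Cfsg.Agent.Lib.Cores.Frattini

/-!
# Peterfalvi (9.1)-(9.5): a chief factor of a maximal subgroup of Type II, III or IV (owner: helper44)

* `Hyp9`: hypothesis (9.1); `hyp9_of_type`: it holds for all data of such a subgroup
* `IsChiefKernel`, `Hyp9.exists_chiefKernel`: the chief factor `H / H₀`
* `chiefAct`, `Hyp9.exists_modData`: `U W₁` on `H / H₀` satisfies `ModData`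
* `chiefStab`: `C = C_U(H / H₀)`
-/

set_option autoImplicit false

namespace Cfsg.Agent.Peterfalvi

open scoped Pointwise commutatorElement
open Cfsg OddMax FixedFormula

universe u

variable {G : Type u} [Group G]

/-- Hypothesis (9.1). -/
structure Hyp9 (M W₁ U W₂ : Subgroup G) : Prop where
  coatom : IsCoatom M
  data : IsTypePWith M W₁ U W₂
  U_ne : U ≠ ⊥
  prime : (Nat.card W₁).Prime

/-- `H / H₀` is a chief factor of `M` on which `U` has no fixed point. -/
structure IsChiefKernel (M U H₀ : Subgroup G) : Prop where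
  le : H₀ ≤ fittingHallOf M
  ne : H₀ ≠ fittingHallOf M
  normal : M ≤ Subgroup.normalizer (H₀ : Set G)
  maximal : ∀ N : Subgroup G, H₀ ≤ N → N ≤ fittingHallOf M →
    M ≤ Subgroup.normalizer (N : Set G) → N = H₀ ∨ N = fittingHallOf M
  comm_le : ⁅fittingHallOf M, fittingHallOf M⁆ ≤ H₀
  fixed_le : fittingHallOf M ⊓ Subgroup.centralizer (U : Set G) ≤ H₀

theorem IsChiefKernel.quot_normal {M U H₀ : Subgroup G} (hK : IsChiefKernel M U H₀) :
    (H₀.subgroupOf (fittingHallOf M)).Normal :=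
  ⟨fun n hn g => conj_mem_of_le_normalizer hK.normal (OddTypeP.fittingHallOf_le M g.2) hn⟩

/-- The quotient `H / H₀` is abelian. -/
abbrev IsChiefKernel.commGroup {M U H₀ : Subgroup G} [(H₀.subgroupOf (fittingHallOf M)).Normal]
    (hK : IsChiefKernel M U H₀) :
    CommGroup (↥(fittingHallOf M) ⧸ H₀.subgroupOf (fittingHallOf M)) :=
  { (inferInstance : Group (↥(fittingHallOf M) ⧸ H₀.subgroupOf (fittingHallOf M))) with
    mul_comm := by
      rintro ⟨a⟩ ⟨b⟩
      refine QuotientGroup.eq.2 ?_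
      show ((a : G) * b)⁻¹ * (b * a) ∈ H₀
      rw [show ((a : G) * b)⁻¹ * (b * a) = ⁅(b : G)⁻¹, (a : G)⁻¹⁆ by
        rw [commutatorElement_def]; group]
      exact hK.comm_le (Subgroup.commutator_mem_commutator (inv_mem b.2) (inv_mem a.2)) }

/-- Conjugation on `H / H₀`. -/
def chiefAct {X H H₀ : Subgroup G} [(H₀.subgroupOf H).Normal]
    (h1 : X ≤ Subgroup.normalizer (H : Set G)) (h2 : X ≤ Subgroup.normalizer (H₀ : Set G)) :
    X →* MulAut (H ⧸ H₀.subgroupOf H) :=
  quotAct (Coprime.conjAut h1) (H₀.subgroupOf H) fun g a ha => by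
    show ((Coprime.conjAut h1 g a : H) : G) ∈ H₀
    rw [Coprime.coe_conjAut]
    exact conj_mem_of_le_normalizer h2 g.2 ha

/-- `C_U(H / H₀)`. -/
def chiefStab {X H H₀ : Subgroup G} [(H₀.subgroupOf H).Normal]
    (h1 : X ≤ Subgroup.normalizer (H : Set G)) (h2 : X ≤ Subgroup.normalizer (H₀ : Set G))
    (U : Subgroup G) : Subgroup G :=
  U ⊓ (chiefAct h1 h2).ker.map X.subtype

theorem chiefAct_eq_one {X H H₀ : Subgroup G} [(H₀.subgroupOf H).Normal]
    (h1 : X ≤ Subgroup.normalizer (H : Set G)) (h2 : X ≤ Subgroup.normalizer (H₀ : Set G))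
    {g : X} : chiefAct h1 h2 g = 1 ↔ ∀ h ∈ H, h⁻¹ * ((g : G) * h * (g : G)⁻¹) ∈ H₀ := by
  constructor
  · intro hg h hh
    have h3 : chiefAct h1 h2 g (QuotientGroup.mk ⟨h, hh⟩) = QuotientGroup.mk ⟨h, hh⟩ := by
      rw [hg]; rfl
    rw [chiefAct, quotAct_mk] at h3
    have h4 := QuotientGroup.eq.1 h3.symm
    rw [Subgroup.mem_subgroupOf] at h4
    simpa [Coprime.coe_conjAut] using h4
  · intro hg
    refine MulEquiv.ext ?_
    rintro ⟨a⟩
    show chiefAct h1 h2 g (QuotientGroup.mk a) = QuotientGroup.mk a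
    rw [chiefAct, quotAct_mk]
    refine (QuotientGroup.eq.2 ?_).symm
    rw [Subgroup.mem_subgroupOf]
    simpa [Coprime.coe_conjAut] using hg a a.2

variable {M W₁ U W₂ H₀ : Subgroup G}

theorem Hyp9.le_M (h : Hyp9 M W₁ U W₂) :
    fittingHallOf M ≤ ⁅M, M⁆ ∧ U ≤ ⁅M, M⁆ ∧ ⁅M, M⁆ ≤ M ∧ W₁ ≤ M ∧ U ≤ M :=
  ⟨h.data.U_compl.1, h.data.U_compl.2.1, h.data.W₁_compl.1, h.data.W₁_compl.2.1,
    h.data.U_compl.2.1.trans h.data.W₁_compl.1⟩

theorem Hyp9.sup_le (h : Hyp9 M W₁ U W₂) : U ⊔ W₁ ≤ M :=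
  _root_.sup_le h.le_M.2.2.2.2 h.le_M.2.2.2.1

theorem Hyp9.H_U_inf (h : Hyp9 M W₁ U W₂) : fittingHallOf M ⊓ U = ⊥ := h.data.U_compl.2.2.1

theorem Hyp9.fpf (h : Hyp9 M W₁ U W₂) {e u : G} (he : e ∈ W₁) (he1 : e ≠ 1) (hu : u ∈ U)
    (hc : e * u = u * e) : u = 1 := by
  have h1 : u ∈ W₂ := by
    rw [← h.data.W₂_centralizer e he he1]
    exact ⟨h.le_M.2.1 hu, Subgroup.mem_centralizer_singleton_iff.2 hc.symm⟩
  have h2 : u ∈ fittingHallOf M ⊓ U := ⟨(h.data.W₂_le h1).1, hu⟩
  rwa [h.H_U_inf, Subgroup.mem_bot] at h2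

theorem Hyp9.U_normalized (h : Hyp9 M W₁ U W₂) : W₁ ≤ Subgroup.normalizer (U : Set G) :=
  h.data.U_normal

theorem Hyp9.W₁_inf_U (h : Hyp9 M W₁ U W₂) : U ⊓ W₁ = ⊥ := by
  rw [← le_bot_iff, ← h.data.W₁_compl.2.2.1]
  exact inf_le_inf_right _ h.le_M.2.1

variable [Finite G]

theorem Hyp9.coprime_U (h : Hyp9 M W₁ U W₂) :
    (Nat.card U).Coprime (Nat.card (fittingHallOf M)) :=
  (OddTypeP.card_complement_coprime h.le_M.2.2.2.2 h.H_U_inf).symm

theorem Hyp9.coprime_W (h : Hyp9 M W₁ U W₂) :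
    (Nat.card W₁).Coprime (Nat.card ↥⁅M, M⁆) := by
  have h1 := h.data.W₁_hall
  rwa [compl_relIndex_left h.data.W₁_compl] at h1

theorem Hyp9.coprime_sup (h : Hyp9 M W₁ U W₂) :
    (Nat.card ↥(U ⊔ W₁)).Coprime (Nat.card (fittingHallOf M)) := by
  rw [Coprime.card_sup_of_coprime h.U_normalized
    ((h.coprime_W.coprime_dvd_right (Subgroup.card_dvd_of_le h.le_M.2.1)).symm)]
  exact Nat.Coprime.mul_left h.coprime_U
    (h.coprime_W.coprime_dvd_right (Subgroup.card_dvd_of_le h.le_M.1))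

theorem Hyp9.solvable (hG : IsMinSimpleOddOrder G) (h : Hyp9 M W₁ U W₂) {X : Subgroup G}
    (hX : X ≤ M) : Group.IsSolvable X :=
  Coprime.isSolvable_of_le hX (OddSigma.proper_solvable hG h.coatom.1)

/-- `U'` centralises `H`. -/
theorem Hyp9.commutator_centralizes (h : Hyp9 M W₁ U W₂) :
    ⁅U, U⁆ ≤ Subgroup.centralizer (fittingHallOf M : Set G) := fun u hu =>
  OddTypeP.mem_centralizer_of_mem_sup_centralizer h.le_M.2.2.2.2 h.H_U_inf
    (Subgroup.commutator_le_self U hu)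
    (h.data.derived_two_le (Subgroup.commutator_mono h.le_M.2.1 h.le_M.2.1 hu))

/-- `U` does not centralise `H`. -/
theorem Hyp9.not_centralizes (h : Hyp9 M W₁ U W₂) :
    ¬ fittingHallOf M ≤ Subgroup.centralizer (U : Set G) := by
  intro hc
  refine h.U_ne ?_
  have hHU : fittingHallOf M ≤ Subgroup.normalizer (U : Set G) :=
    hc.trans fun x hx => Coprime.mem_normalizer_of_forall fun z hz => by
      rwa [← Subgroup.mem_centralizer_iff.1 hx z hz, mul_inv_cancel_right]
  have hMU : M ≤ Subgroup.normalizer (U : Set G) := by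
    rw [← compl_eq_sup h.data.W₁_compl, ← compl_eq_sup h.data.U_compl]
    exact _root_.sup_le (_root_.sup_le hHU Subgroup.le_normalizer) h.U_normalized
  have hUH : U ≤ fittingHallOf M := by
    refine le_fittingHallOf h.le_M.2.2.2.2 hMU h.data.U_nilpotent ?_
    have hM : Nat.card U * U.relIndex M = Nat.card U * (Nat.card (fittingHallOf M) * Nat.card W₁) := by
      rw [card_mul_relIndex h.le_M.2.2.2.2, ← compl_card h.data.W₁_compl,
        ← compl_card h.data.U_compl]
      ring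
    rw [Nat.eq_of_mul_eq_mul_left Nat.card_pos hM]
    exact Nat.Coprime.mul_right h.coprime_U
      (h.coprime_W.coprime_dvd_right (Subgroup.card_dvd_of_le h.le_M.2.1)).symm
  rw [← le_bot_iff, ← h.H_U_inf]
  exact le_inf hUH le_rfl

/-- Peterfalvi (9.4): the chief factor. -/
theorem Hyp9.exists_chiefKernel (h : Hyp9 M W₁ U W₂) :
    ∃ H₀ : Subgroup G, IsChiefKernel M U H₀ := by
  set H := fittingHallOf M with hH
  set C := H ⊓ Subgroup.centralizer (U : Set G) with hC
  set R := C ⊔ ⁅H, H⁆ with hR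
  have hHn : M ≤ Subgroup.normalizer (H : Set G) := le_normalizer_fittingHallOf M
  have hRH : R ≤ H := _root_.sup_le inf_le_left (Subgroup.commutator_le_self H)
  have hRne : R ≠ H := by
    intro hRe
    refine h.not_centralizes ?_
    have hnil : Group.IsNilpotent H := fittingHallOf_nilpotent M
    suffices C.subgroupOf H = ⊤ by
      rw [Subgroup.subgroupOf_eq_top] at this
      exact this.trans inf_le_right
    by_contra htop
    obtain ⟨N, hN, hCN⟩ := (eq_top_or_exists_le_coatom (C.subgroupOf H)).resolve_left htop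
    refine hN.1 (top_le_iff.1 ?_)
    have hder : _root_.commutator H ≤ N := (Cores.commutator_le_frattini).trans (frattini_le_coatom hN)
    intro x _
    have hx : (x : G) ∈ N.map H.subtype := by
      have hle : R ≤ N.map H.subtype := _root_.sup_le
        (fun c hc => ⟨⟨c, hc.1⟩, hCN hc, rfl⟩)
        (by rw [← Subgroup.map_subtype_commutator]; exact Subgroup.map_mono hder)
      exact hle (hRe.symm ▸ x.2)
    obtain ⟨y, hy, hye⟩ := hx
    rwa [show y = x from Subtype.ext hye] at hy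
  have hW : W₁ ≤ M := h.le_M.2.2.2.1
  have hUM : U ≤ M := h.le_M.2.2.2.2
  have hCn : U ⊔ W₁ ≤ Subgroup.normalizer (C : Set G) := by
    intro g hg
    refine Coprime.mem_normalizer_of_forall fun z hz =>
      ⟨conj_mem_of_le_normalizer hHn (h.sup_le hg) hz.1, ?_⟩
    have hgU : g⁻¹ ∈ Subgroup.normalizer (U : Set G) :=
      inv_mem ((_root_.sup_le Subgroup.le_normalizer h.U_normalized : U ⊔ W₁ ≤ _) hg)
    refine Subgroup.mem_centralizer_iff.2 fun v hv => ?_
    have hv' : g⁻¹ * v * g⁻¹⁻¹ ∈ U := (Subgroup.mem_normalizer_iff.1 hgU v).1 hv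
    rw [inv_inv] at hv'
    have e := Subgroup.mem_centralizer_iff.1 hz.2 _ hv'
    calc v * (g * z * g⁻¹) = g * (g⁻¹ * v * g * z) * g⁻¹ := by group
      _ = g * (z * (g⁻¹ * v * g)) * g⁻¹ := by rw [e]
      _ = _ := by group
  have hDn : M ≤ Subgroup.normalizer ((⁅H, H⁆ : Subgroup G) : Set G) := fun g hg =>
    Coprime.mem_normalizer_of_forall fun z hz => by
      have h1 : z ∈ (⁅H, H⁆ : Subgroup G) := hz
      induction h1 using Subgroup.closure_induction with
      | mem x hx =>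
        obtain ⟨a, ha, b, hb, rfl⟩ := hx
        rw [← MulAut.conj_apply, map_commutatorElement]
        exact Subgroup.commutator_mem_commutator (conj_mem_of_le_normalizer hHn hg ha)
          (conj_mem_of_le_normalizer hHn hg hb)
      | one => simp
      | mul x y _ _ hx hy =>
        rw [show g * (x * y) * g⁻¹ = g * x * g⁻¹ * (g * y * g⁻¹) by group]
        exact mul_mem (hx (by assumption)) (hy (by assumption))
      | inv x _ hx =>
        rw [show g * x⁻¹ * g⁻¹ = (g * x * g⁻¹)⁻¹ by group]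
        exact inv_mem (hx (by assumption))
  have hRn : M ≤ Subgroup.normalizer (R : Set G) := by
    rw [← compl_eq_sup h.data.W₁_compl, ← compl_eq_sup h.data.U_compl]
    have hX : U ⊔ W₁ ≤ Subgroup.normalizer (R : Set G) := fun g hg =>
      Coprime.mem_normalizer_of_forall fun z hz => by
        have hle : R ≤ R.comap (MulAut.conj g).toMonoidHom := _root_.sup_le
          (fun c hc => Subgroup.mem_sup_left (conj_mem_of_le_normalizer hCn hg hc))
          (fun c hc => Subgroup.mem_sup_right (conj_mem_of_le_normalizer hDn (h.sup_le hg) hc))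
        exact hle hz
    refine _root_.sup_le (_root_.sup_le (fun g hg => Coprime.mem_normalizer_of_forall fun z hz => ?_)
      (le_sup_left.trans hX)) (le_sup_right.trans hX)
    rw [show g * z * g⁻¹ = ⁅g, z⁆ * z by rw [commutatorElement_def]; group]
    exact mul_mem (Subgroup.mem_sup_right (Subgroup.commutator_mem_commutator hg (hRH hz))) hz
  haveI : Finite (Subgroup G) := Finite.of_injective _ SetLike.coe_injective
  obtain ⟨H₀, hH₀⟩ := Set.Finite.exists_maximal
    (s := {N : Subgroup G | R ≤ N ∧ N ≤ H ∧ N ≠ H ∧ M ≤ Subgroup.normalizer (N : Set G)})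
    (Set.toFinite _) ⟨R, le_rfl, hRH, hRne, hRn⟩
  obtain ⟨⟨hR0, h0H, h0ne, h0n⟩, hmax⟩ := hH₀
  refine ⟨H₀, h0H, h0ne, h0n, fun N h1 h2 h3 => ?_, le_sup_right.trans hR0, le_sup_left.trans hR0⟩
  by_cases hN : N = H
  · exact Or.inr hN
  · exact Or.inl (le_antisymm (hmax ⟨hR0.trans h1, h2, hN, h3⟩ h1) h1)

/-- Peterfalvi (9.4), (9.5): `U W₁` acting on `H / H₀`. -/
theorem Hyp9.exists_modData (hG : IsMinSimpleOddOrder G) (h : Hyp9 M W₁ U W₂)
    (hK : IsChiefKernel M U H₀) [(H₀.subgroupOf (fittingHallOf M)).Normal] :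
    letI := hK.commGroup
    ∃ p : ℕ, ModData (U.subgroupOf (U ⊔ W₁)) (W₁.subgroupOf (U ⊔ W₁))
        (chiefAct (h.sup_le.trans (le_normalizer_fittingHallOf M)) (h.sup_le.trans hK.normal)) p ∧
      (W₂ ⊓ H₀).relIndex W₂ = p ∧
      (∀ a, a ∈ fixBy (chiefAct (h.sup_le.trans (le_normalizer_fittingHallOf M))
          (h.sup_le.trans hK.normal)) (W₁.subgroupOf (U ⊔ W₁)) ↔
        ∃ w : fittingHallOf M, (w : G) ∈ W₂ ∧ QuotientGroup.mk w = a) := by
  set H := fittingHallOf M
  letI : CommGroup (↥H ⧸ H₀.subgroupOf H) := hK.commGroup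
  set X := U ⊔ W₁
  set h1 : X ≤ Subgroup.normalizer (H : Set G) :=
    h.sup_le.trans (le_normalizer_fittingHallOf M)
  set h2 : X ≤ Subgroup.normalizer (H₀ : Set G) := h.sup_le.trans hK.normal
  set φ := chiefAct h1 h2 with hφ
  have hUX : U ≤ X := le_sup_left
  have hWX : W₁ ≤ X := le_sup_right
  have hact : ∀ (g : X) (a : H), φ g (QuotientGroup.mk a) =
      QuotientGroup.mk (Coprime.conjAut h1 g a) := fun g a => quotAct_mk _ _ _ g a
  have hHM : H ≤ M := OddTypeP.fittingHallOf_le M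
  -- fixed points lift
  have lift : ∀ A : Subgroup G, A ≤ X → ∀ a, a ∈ fixBy φ (A.subgroupOf X) →
      ∃ w : H, (w : G) ∈ Subgroup.centralizer (A : Set G) ∧ QuotientGroup.mk w = a := by
    intro A hA a ha
    obtain ⟨k, rfl⟩ := QuotientGroup.mk_surjective a
    obtain ⟨c, hc, hck⟩ := Coprime.exists_mem_centralizer_of_coset' (A := A) (K := H) (N := H₀)
      (hA.trans h1) (h.coprime_sup.coprime_dvd_left (Subgroup.card_dvd_of_le hA))
      (Or.inr (h.solvable hG hHM)) hK.le (hA.trans h2) k.2 (fun x hx => by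
        have h3 := ha ⟨x, hA hx⟩ hx
        rw [hact] at h3
        have h4 := QuotientGroup.eq.1 h3.symm
        rw [Subgroup.mem_subgroupOf] at h4
        simpa [Coprime.coe_conjAut, mul_assoc] using h4)
    exact ⟨⟨c, hc.1⟩, hc.2, (QuotientGroup.eq.2 (Subgroup.mem_subgroupOf.2 hck)).symm⟩
  have hfixW : ∀ a, a ∈ fixBy φ (W₁.subgroupOf X) ↔
      ∃ w : H, (w : G) ∈ W₂ ∧ QuotientGroup.mk w = a := by
    intro a
    constructor
    · intro ha
      obtain ⟨w, hw, rfl⟩ := lift W₁ hWX a ha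
      obtain ⟨⟨x, hx⟩, hx1⟩ := Subgroup.ne_bot_iff_exists_ne_one.1 h.data.W₁_ne
      refine ⟨w, ?_, rfl⟩
      rw [← h.data.W₂_centralizer x hx fun e => hx1 (Subtype.ext e)]
      exact ⟨h.le_M.1 w.2,
        Subgroup.mem_centralizer_singleton_iff.2 (Subgroup.mem_centralizer_iff.1 hw x hx).symm⟩
    · rintro ⟨w, hw, rfl⟩ x hx
      rw [hact]
      refine congrArg QuotientGroup.mk (Subtype.ext ?_)
      rw [Coprime.coe_conjAut, show (x : G) * w = w * x from h.data.selfNormalizing.2.2.2.1 _ hx _ hw,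
        mul_inv_cancel_right]
  have hfixU : fixBy φ (U.subgroupOf X) = ⊥ := by
    rw [eq_bot_iff]
    intro a ha
    obtain ⟨w, hw, rfl⟩ := lift U hUX a ha
    rw [Subgroup.mem_bot, QuotientGroup.eq_one_iff]
    exact hK.fixed_le ⟨w.2, hw⟩
  have hUn : (U.subgroupOf X).Normal :=
    ⟨fun n hn g => conj_mem_of_le_normalizer
      (_root_.sup_le Subgroup.le_normalizer h.U_normalized : X ≤ _) g.2 hn⟩
  have hfrob : FrobData (U.subgroupOf X) (W₁.subgroupOf X) := by
    refine ⟨hUn, ?_, ?_, fun e he he1 v hv hev => Subtype.ext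
      (h.fpf he (fun e' => he1 (Subtype.ext e')) hv (congrArg Subtype.val hev))⟩
    · rw [eq_bot_iff]
      rintro ⟨x, hx⟩ ⟨h3, h4⟩
      have h5 : x ∈ U ⊓ W₁ := ⟨h3, h4⟩
      rw [h.W₁_inf_U, Subgroup.mem_bot] at h5
      exact Subtype.ext h5
    · rw [← Subgroup.subgroupOf_sup hUX hWX, Subgroup.subgroupOf_self]
  have hA1 : 1 < Nat.card (↥H ⧸ H₀.subgroupOf H) := by
    rw [Finite.one_lt_card_iff_nontrivial]
    refine QuotientGroup.nontrivial_iff.2 fun htop => hK.ne (le_antisymm hK.le ?_)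
    rwa [Subgroup.subgroupOf_eq_top] at htop
  -- irreducibility
  have hirr : ∀ B : Subgroup (↥H ⧸ H₀.subgroupOf H), (∀ g : X, ∀ b ∈ B, φ g b ∈ B) →
      B = ⊥ ∨ B = ⊤ := by
    intro B hB
    set N := (B.comap (QuotientGroup.mk' (H₀.subgroupOf H))).map H.subtype with hN
    have hmemN : ∀ x : H, (x : G) ∈ N ↔ QuotientGroup.mk x ∈ B := fun x => by
      constructor
      · rintro ⟨y, hy, hyx⟩
        rw [← show y = x from Subtype.ext hyx]
        exact hy
      · exact fun hx => ⟨x, hx, rfl⟩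
    have h0N : H₀ ≤ N := fun x hx => (hmemN ⟨x, hK.le hx⟩).2 (by
      rw [(QuotientGroup.eq_one_iff _).2 (Subgroup.mem_subgroupOf.2 hx)]
      exact one_mem B)
    have hNn : M ≤ Subgroup.normalizer (N : Set G) := by
      rw [← compl_eq_sup h.data.W₁_compl, ← compl_eq_sup h.data.U_compl]
      have hX : X ≤ Subgroup.normalizer (N : Set G) := fun g hg =>
        Coprime.mem_normalizer_of_forall fun z hz => by
          have hzH : z ∈ H := Subgroup.map_subtype_le _ hz
          have h3 := hB ⟨g, hg⟩ _ ((hmemN ⟨z, hzH⟩).1 hz)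
          rw [hact] at h3
          simpa [Coprime.coe_conjAut] using (hmemN _).2 h3
      refine _root_.sup_le (_root_.sup_le (fun g hg => Coprime.mem_normalizer_of_forall fun z hz => ?_)
        (le_sup_left.trans hX)) (le_sup_right.trans hX)
      rw [show g * z * g⁻¹ = ⁅g, z⁆ * z by rw [commutatorElement_def]; group]
      exact mul_mem (h0N (hK.comm_le
        (Subgroup.commutator_mem_commutator hg (Subgroup.map_subtype_le _ hz)))) hz
    rcases hK.maximal N h0N (Subgroup.map_subtype_le _) hNn with he | he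
    · left
      rw [eq_bot_iff]
      intro b hb
      obtain ⟨x, rfl⟩ := QuotientGroup.mk_surjective b
      rw [Subgroup.mem_bot, QuotientGroup.eq_one_iff, Subgroup.mem_subgroupOf, ← he]
      exact (hmemN x).2 hb
    · right
      rw [eq_top_iff]
      rintro b -
      obtain ⟨x, rfl⟩ := QuotientGroup.mk_surjective b
      exact (hmemN x).1 (he ▸ x.2)
  -- the exponent
  obtain ⟨p, hp, hpd⟩ := Nat.exists_prime_and_dvd hA1.ne'
  have := Fact.mk hp
  have hexp : ∀ a : ↥H ⧸ H₀.subgroupOf H, a ^ p = 1 := by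
    let B : Subgroup (↥H ⧸ H₀.subgroupOf H) := (powMonoidHom p).ker
    rcases hirr B (fun g b hb => by
      show (φ g b) ^ p = 1
      rw [← map_pow, show b ^ p = 1 from hb, map_one]) with hB | hB
    · obtain ⟨a, ha⟩ := exists_prime_orderOf_dvd_card' p hpd
      have hab : a ∈ B := by
        show a ^ p = 1
        rw [← ha, pow_orderOf_eq_one]
      rw [hB, Subgroup.mem_bot] at hab
      rw [hab, orderOf_one] at ha
      exact absurd ha.symm hp.one_lt.ne'
    · exact fun a => (hB ▸ Subgroup.mem_top a : a ∈ B)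
  have hcop : (Nat.card X).Coprime p :=
    h.coprime_sup.coprime_dvd_right (hpd.trans (Subgroup.card_quotient_dvd_card _))
  -- the fixed points of `W₁` form a cyclic group of exponent `p`
  let j : W₂ →* H := (Subgroup.inclusion (fun x hx => (h.data.W₂_le hx).1))
  let f : W₂ →* ↥H ⧸ H₀.subgroupOf H := (QuotientGroup.mk' _).comp j
  have hrange : fixBy φ (W₁.subgroupOf X) = f.range := by
    ext a
    rw [hfixW]
    exact ⟨fun ⟨w, hw, e⟩ => ⟨⟨w, hw⟩, e⟩, fun ⟨w, e⟩ => ⟨j w, w.2, e⟩⟩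
  have hfp : Nat.card f.range = p := by
    have hne : Nat.card (fixBy φ (W₁.subgroupOf X)) ≠ 1 := by
      intro h1'
      have := elementary_formula hfrob hexp hcop φ
      rw [h1', one_pow, one_mul, hfixU, Subgroup.card_bot] at this
      exact hA1.ne' (Nat.eq_one_of_mul_eq_one_left this)
    rw [hrange] at hne
    haveI : IsCyclic W₂ := by
      have hc := h.data.selfNormalizing.2.2.2.2.1
      exact isCyclic_of_injective (Subgroup.inclusion (le_sup_right : W₂ ≤ W₁ ⊔ W₂))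
        (Subgroup.inclusion_injective _)
    haveI : IsCyclic f.range := isCyclic_of_surjective f.rangeRestrict f.rangeRestrict_surjective
    obtain ⟨g, hg⟩ := IsCyclic.exists_generator (α := f.range)
    rw [← orderOf_eq_card_of_forall_mem_zpowers hg] at hne ⊢
    exact (hp.eq_one_or_self_of_dvd _
      (orderOf_dvd_of_pow_eq_one (Subtype.ext ((SubmonoidClass.coe_pow g p).trans (hexp _))))).resolve_left hne
  refine ⟨p, ⟨hfrob, hp, ?_, hexp, hcop, hirr, fun u hu v hv => ?_, hfixU, hrange ▸ hfp⟩, ?_, hfixW⟩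
  · rw [Nat.card_congr (Subgroup.subgroupOfEquivOfLe hWX).toEquiv]
    exact h.prime
  · rw [← mul_inv_eq_one, ← map_inv, ← map_mul, hφ, chiefAct_eq_one]
    intro x hx
    have h3 : ((u * v * (v * u)⁻¹ : X) : G) ∈ ⁅U, U⁆ := by
      have h4 := Subgroup.commutator_mem_commutator (H₁ := U) (H₂ := U) hu hv
      rw [commutatorElement_def] at h4
      simpa [mul_assoc] using h4
    have h5 := Subgroup.mem_centralizer_iff.1 (h.commutator_centralizes h3) x hx
    rw [← h5, mul_inv_cancel_right, inv_mul_cancel]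
    exact one_mem H₀
  · rw [← hfp, ← Subgroup.index_ker]
    show ((W₂ ⊓ H₀).subgroupOf W₂).index = _
    congr 1
    ext w
    rw [Subgroup.mem_subgroupOf, MonoidHom.mem_ker]
    show _ ↔ QuotientGroup.mk (j w) = 1
    rw [QuotientGroup.eq_one_iff, Subgroup.mem_subgroupOf]
    exact ⟨fun h3 => h3.2, fun h3 => ⟨w.2, h3⟩⟩

/-- Peterfalvi (9.4). -/
theorem Hyp9.factor_facts (hG : IsMinSimpleOddOrder G) (h : Hyp9 M W₁ U W₂)
    (hK : IsChiefKernel M U H₀) :
    ∃ p : ℕ, p.Prime ∧ (W₂ ⊓ H₀).relIndex W₂ = p ∧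
      H₀.relIndex (fittingHallOf M) = p ^ Nat.card W₁ ∧
      ∀ x ∈ fittingHallOf M, x ^ p ∈ H₀ := by
  haveI := hK.quot_normal
  letI := hK.commGroup
  obtain ⟨p, D, hW, -⟩ := h.exists_modData hG hK
  refine ⟨p, D.prime_p, hW, ?_, fun x hx => ?_⟩
  · rw [← Nat.card_congr (Subgroup.subgroupOfEquivOfLe (le_sup_right : W₁ ≤ U ⊔ W₁)).toEquiv]
    exact D.card_eq
  · have h1 := D.exp (QuotientGroup.mk ⟨x, hx⟩)
    change QuotientGroup.mk ((⟨x, hx⟩ : fittingHallOf M) ^ p) = 1 at h1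
    exact Subgroup.mem_subgroupOf.1 ((QuotientGroup.eq_one_iff _).1 h1)

/-- Hypothesis (9.1) holds for all data of a subgroup of Type II, III or IV. -/
theorem hyp9_of_type (hM : IsCoatom M) (hP : IsTypePWith M W₁ U W₂)
    (ht : IsOfTypeII M ∨ IsOfTypeIII M ∨ IsOfTypeIV M) : Hyp9 M W₁ U W₂ := by
  obtain ⟨V₁, U', V₂, hP', hU', hq⟩ :
      ∃ V₁ U' V₂ : Subgroup G, IsTypePWith M V₁ U' V₂ ∧ U' ≠ ⊥ ∧ (Nat.card V₁).Prime := by
    rcases ht with ⟨a, b, c, h1, h2, h3, -⟩ | ⟨a, b, c, h1, h2, h3, -⟩ | ⟨a, b, c, h1, h2, h3, -⟩ <;>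
      exact ⟨a, b, c, h1, h2, h3⟩
  refine ⟨hM, hP, fun hU => hU' ?_, ?_⟩
  · have h1 := (compl_card hP.U_compl).trans (compl_card hP'.U_compl).symm
    rw [hU, Subgroup.card_bot, mul_one] at h1
    exact Subgroup.eq_bot_of_card_eq _
      (Nat.eq_of_mul_eq_mul_left Nat.card_pos (h1.symm.trans (mul_one _).symm))
  · rw [show Nat.card W₁ = Nat.card V₁ from Nat.eq_of_mul_eq_mul_left Nat.card_pos
      ((compl_card hP.W₁_compl).trans (compl_card hP'.W₁_compl).symm)]
    exact hq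

end Cfsg.Agent.Peterfalvi
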