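import Cfsg.Agent.Lib.Peterfalvi.Sec9Dual
import Cfsg.Agent.Lib.Peterfalvi.Sec9Linear
import Cfsg.Agent.Lib.Peterfalvi.Sec5TypeP

/-!
# The characters of `M'` induced from linear characters of `H V` (owner: helper44)

* `inD M X`, `thetaOf M X f`, `ThetaData`
* `ThetaData.irr`, `degree`, `mem_irrD`, `ind`, `conj_of_eq`, `count_theta`
* `fixed_of_reducible`, `reducible_ncard_le`
-/

set_option autoImplicit false
set_option linter.style.haveILetI false
set_option linter.unusedSectionVars false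

namespace Cfsg.Agent.Peterfalvi

open scoped Pointwise commutatorElement
open Cfsg OddMax

universe u

variable {G : Type u} [Group G]

/-- A subgroup of `G` inside `M'`. -/
def inD (M X : Subgroup G) : Subgroup ↥(derivedIn M) := (X.subgroupOf M).subgroupOf (derivedIn M)

theorem mem_inD {M X : Subgroup G} {a : ↥(derivedIn M)} : a ∈ inD M X ↔ ((a : ↥M) : G) ∈ X :=
  Iff.rfl

theorem inD_normal {M X : Subgroup G} (hn : ⁅M, M⁆ ≤ Subgroup.normalizer (X : Set G)) :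
    (inD M X).Normal :=
  ⟨fun _ hn' g => conj_mem_of_le_normalizer hn g.2 hn'⟩

theorem derived_le (M : Subgroup G) : ⁅M, M⁆ ≤ M := Subgroup.commutator_le_self M

/-- An element of `M'` in `derivedIn M`. -/
def liftD (M : Subgroup G) (x : G) (hx : x ∈ ⁅M, M⁆) : ↥(derivedIn M) :=
  ⟨⟨x, derived_le M hx⟩, hx⟩

theorem index_inD {M X : Subgroup G} : (inD M X).index = X.relIndex ⁅M, M⁆ :=
  Subgroup.relIndex_subgroupOf (derived_le M)

variable [Finite G]

open Classical in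
/-- A linear character of `inD M X` from a function on `G`. -/
noncomputable def toLin (M X : Subgroup G) (f : G → ℂˣ) : ↥(inD M X) →* ℂˣ :=
  if h : ∀ x ∈ X, ∀ y ∈ X, f (x * y) = f x * f y then
    MonoidHom.mk' (fun a => f ((a : ↥(derivedIn M)) : G)) fun a b => h _ a.2 _ b.2
  else 1

theorem toLin_apply {M X : Subgroup G} {f : G → ℂˣ}
    (h : ∀ x ∈ X, ∀ y ∈ X, f (x * y) = f x * f y) (a : inD M X) :
    toLin M X f a = f ((a : ↥(derivedIn M)) : G) := by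
  rw [toLin, dif_pos h]
  rfl

variable [Fintype G]

/-- The function induced to `M'`. -/
noncomputable def thetaOf (M X : Subgroup G) [Fintype ↥(derivedIn M)] (f : G → ℂˣ) :
    ↥(derivedIn M) → ℂ :=
  indFun (inD M X) fun a => (f ((a : ↥(derivedIn M)) : G) : ℂ)

theorem thetaOf_eq {M X : Subgroup G} [Fintype ↥(derivedIn M)] {f : G → ℂˣ}
    (h : ∀ x ∈ X, ∀ y ∈ X, f (x * y) = f x * f y) :
    thetaOf M X f = Lin9.linInd (inD M X) (toLin M X f) :=
  congrArg (indFun _) (funext fun a => congrArg Units.val (toLin_apply h a).symm)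

open Classical in
/-- The restriction of `f` to `X`, trivial outside. -/
noncomputable def resTo (X : Subgroup G) (f : G → ℂˣ) : G → ℂˣ := fun x => if x ∈ X then f x else 1

/-- A linear character of `H V` whose restriction to `H` is fixed by `V` only. -/
structure ThetaData (M U H₀ V : Subgroup G) (f : G → ℂˣ) : Prop where
  V_le : V ≤ U
  mul : ∀ x ∈ fittingHallOf M ⊔ V, ∀ y ∈ fittingHallOf M ⊔ V, f (x * y) = f x * f y
  ker : ∀ x ∈ H₀, f x = 1
  ne : ∃ x ∈ fittingHallOf M, f x ≠ 1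
  stab : U ⊓ fixSub (fittingHallOf M) f ≤ V

variable {M W₁ U W₂ H₀ V : Subgroup G} [Fintype ↥M] [Fintype ↥(derivedIn M)] {f f' : G → ℂˣ}

omit [Fintype G] [Fintype ↥M] [Fintype ↥(derivedIn M)] in
theorem Hyp9.H_le_sup (V : Subgroup G) : fittingHallOf M ≤ fittingHallOf M ⊔ V := le_sup_left

omit [Fintype G] [Fintype ↥M] [Fintype ↥(derivedIn M)] in
theorem Hyp9.M'_eq (h : Hyp9 M W₁ U W₂) : fittingHallOf M ⊔ U = ⁅M, M⁆ :=
  compl_eq_sup h.data.U_compl

omit [Fintype G] [Fintype ↥M] [Fintype ↥(derivedIn M)] in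
theorem Hyp9.H_normalized (h : Hyp9 M W₁ U W₂) :
    ⁅M, M⁆ ≤ Subgroup.normalizer (fittingHallOf M : Set G) :=
  (derived_le M).trans (le_normalizer_fittingHallOf M)

omit [Fintype G] [Fintype ↥M] [Fintype ↥(derivedIn M)] in
theorem Hyp9.exists_mul (h : Hyp9 M W₁ U W₂) {x : G} (hx : x ∈ ⁅M, M⁆) :
    ∃ a ∈ fittingHallOf M, ∃ v ∈ U, a * v = x := by
  obtain ⟨a, ha, v, hv, e⟩ := h.data.U_compl.2.2.2 x hx
  exact ⟨a, ha, v, hv, e.symm⟩

omit [Fintype G] [Fintype ↥M] [Fintype ↥(derivedIn M)] in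
theorem Hyp9.exists_M_mul (h : Hyp9 M W₁ U W₂) {x : G} (hx : x ∈ M) :
    ∃ a ∈ ⁅M, M⁆, ∃ e ∈ W₁, a * e = x := by
  obtain ⟨a, ha, v, hv, e⟩ := h.data.W₁_compl.2.2.2 x hx
  exact ⟨a, ha, v, hv, e.symm⟩

omit [Fintype G] [Fintype ↥M] [Fintype ↥(derivedIn M)] in
theorem Hyp9.relIndex_sup (h : Hyp9 M W₁ U W₂) (hV : V ≤ U) :
    (fittingHallOf M ⊔ V).relIndex ⁅M, M⁆ = V.relIndex U := by
  have h1 := Coprime.card_sup_of_coprime (N := fittingHallOf M) (H := V)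
    ((hV.trans h.le_M.2.1).trans h.H_normalized)
    (h.coprime_U.symm.coprime_dvd_right (Subgroup.card_dvd_of_le hV))
  have h2 := card_mul_relIndex (_root_.sup_le h.le_M.1 (hV.trans h.le_M.2.1) :
    fittingHallOf M ⊔ V ≤ ⁅M, M⁆)
  rw [h1, ← compl_card h.data.U_compl, ← card_mul_relIndex hV, mul_assoc] at h2
  exact Nat.eq_of_mul_eq_mul_left Nat.card_pos (Nat.eq_of_mul_eq_mul_left Nat.card_pos h2)

omit [Fintype G] [Fintype ↥M] [Fintype ↥(derivedIn M)] in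
theorem Hyp9.inD_H_normal (h : Hyp9 M W₁ U W₂) : (inD M (fittingHallOf M)).Normal :=
  inD_normal h.H_normalized

namespace ThetaData

theorem le_sup (_hT : ThetaData M U H₀ V f) : inD M (fittingHallOf M) ≤ inD M (fittingHallOf M ⊔ V) :=
  fun _ ha => Subgroup.mem_sup_left (S := fittingHallOf M) ha

theorem map_inv (hT : ThetaData M U H₀ V f) {x : G} (hx : x ∈ fittingHallOf M ⊔ V) :
    f x⁻¹ = (f x)⁻¹ := by
  refine eq_inv_of_mul_eq_one_left ?_
  rw [← hT.mul _ (inv_mem hx) _ hx, inv_mul_cancel, hT.ker 1 (one_mem _)]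

theorem conj_eq (hT : ThetaData M U H₀ V f) {a x : G} (ha : a ∈ fittingHallOf M ⊔ V)
    (hx : x ∈ fittingHallOf M ⊔ V) : f (a * x * a⁻¹) = f x := by
  rw [hT.mul _ (mul_mem ha hx) _ (inv_mem ha), hT.mul _ ha _ hx, hT.map_inv ha, mul_right_comm,
    mul_inv_cancel, one_mul]

theorem stabLE (hT : ThetaData M U H₀ V f) (h : Hyp9 M W₁ U W₂) :
    letI := h.inD_H_normal
    Lin9.StabLE (inD M (fittingHallOf M)) (inD M (fittingHallOf M ⊔ V)) hT.le_sup
      (toLin M (fittingHallOf M ⊔ V) f) := by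
  intro g hg
  obtain ⟨a, ha, v, hv, hav⟩ := h.exists_mul (show ((g : ↥M) : G) ∈ ⁅M, M⁆ from g.2)
  rw [mem_inD, ← hav]
  refine mul_mem (Subgroup.mem_sup_left ha) (Subgroup.mem_sup_right (hT.stab ⟨hv,
    h.H_normalized (h.le_M.2.1 hv), fun x hx => ?_⟩))
  have hvx : v * x * v⁻¹ ∈ fittingHallOf M :=
    conj_mem_of_le_normalizer h.H_normalized (h.le_M.2.1 hv) hx
  have h1 := hg ⟨liftD M x (h.le_M.1 hx), hx⟩
  rw [toLin_apply hT.mul, toLin_apply hT.mul] at h1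
  change f (((g : ↥M) : G) * x * ((g : ↥M) : G)⁻¹) = f x at h1
  rw [← hav, show a * v * x * (a * v)⁻¹ = a * (v * x * v⁻¹) * a⁻¹ by group,
    hT.conj_eq (Subgroup.mem_sup_left ha) (Subgroup.mem_sup_left hvx)] at h1
  exact h1

theorem irr (hT : ThetaData M U H₀ V f) (h : Hyp9 M W₁ U W₂) :
    IsIrrCharacter ↥(derivedIn M) (thetaOf M (fittingHallOf M ⊔ V) f) := by
  haveI := h.inD_H_normal
  rw [thetaOf_eq hT.mul]
  exact Lin9.linInd_irr _ _ hT.le_sup (hT.stabLE h)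

theorem degree (hT : ThetaData M U H₀ V f) (h : Hyp9 M W₁ U W₂) :
    thetaOf M (fittingHallOf M ⊔ V) f 1 = (V.relIndex U : ℂ) := by
  rw [thetaOf_eq hT.mul, Lin9.linInd_one, index_inD, h.relIndex_sup hT.V_le]

theorem ne_on (hT : ThetaData M U H₀ V f) (h : Hyp9 M W₁ U W₂) :
    ∃ a : derivedIn M, ((a : ↥M) : G) ∈ fittingHallOf M ∧
      thetaOf M (fittingHallOf M ⊔ V) f a ≠ thetaOf M (fittingHallOf M ⊔ V) f 1 := by
  haveI := h.inD_H_normal
  rw [thetaOf_eq hT.mul]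
  obtain ⟨n, hn⟩ := Lin9.linInd_ne_on _ _ hT.le_sup (hT.stabLE h) fun e => by
    obtain ⟨x, hx, hx1⟩ := hT.ne
    have h1 := DFunLike.congr_fun e ⟨liftD M x (h.le_M.1 hx), hx⟩
    refine hx1 ?_
    rw [MonoidHom.comp_apply, toLin_apply hT.mul] at h1
    exact h1
  exact ⟨n, n.2, hn⟩

theorem triv (hT : ThetaData M U H₀ V f) {Y : Subgroup G}
    (hY : ∀ x ∈ ⁅M, M⁆, ∀ y ∈ Y, x⁻¹ * y * x ∈ fittingHallOf M ⊔ V ∧ f (x⁻¹ * y * x) = 1) :
    ∀ a : derivedIn M, ((a : ↥M) : G) ∈ Y →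
      thetaOf M (fittingHallOf M ⊔ V) f a = thetaOf M (fittingHallOf M ⊔ V) f 1 := by
  intro a ha
  rw [thetaOf_eq hT.mul]
  refine Lin9.linInd_apply_of_forall _ fun x => ?_
  obtain ⟨h1, h2⟩ := hY _ x.2 _ ha
  exact ⟨h1, (toLin_apply hT.mul _).trans h2⟩

theorem mem_irrD (hT : ThetaData M U H₀ V f) (h : Hyp9 M W₁ U W₂) {Y : Subgroup G}
    (hY : ∀ x ∈ ⁅M, M⁆, ∀ y ∈ Y, x⁻¹ * y * x ∈ fittingHallOf M ⊔ V ∧ f (x⁻¹ * y * x) = 1) :
    thetaOf M (fittingHallOf M ⊔ V) f ∈ irrD M (fittingHallOf M) Y :=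
  ⟨hT.irr h, hT.triv hY, hT.ne_on h⟩

/-- Induction to `M` in one step. -/
theorem ind (hT : ThetaData M U H₀ V f) (h : Hyp9 M W₁ U W₂) :
    indFun (derivedIn M) (thetaOf M (fittingHallOf M ⊔ V) f) =
      indFun ((fittingHallOf M ⊔ V).subgroupOf M) fun a => (f ((a : ↥M) : G) : ℂ) :=
  Char.indFun_trans ((fittingHallOf M ⊔ V).subgroupOf M) (derivedIn M) (fun _ ha => (_root_.sup_le h.le_M.1 (hT.V_le.trans h.le_M.2.1) :
    fittingHallOf M ⊔ V ≤ ⁅M, M⁆) ha) fun a : ↥((fittingHallOf M ⊔ V).subgroupOf M) =>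
    (f ((a : ↥M) : G) : ℂ)

/-- If `θ_{f'}` is the conjugate of `θ_f` by `g ∈ M`, then so are the characters of `H`, up to `U`. -/
theorem conj_of_eq {V' : Subgroup G} (hT : ThetaData M U H₀ V f) (hT' : ThetaData M U H₀ V' f')
    (h : Hyp9 M W₁ U W₂) {g : ↥M}
    (he : CliffordChar.conjFun (derivedIn M) g (thetaOf M (fittingHallOf M ⊔ V) f) =
      thetaOf M (fittingHallOf M ⊔ V') f') :
    ∃ u ∈ U, ∀ x ∈ fittingHallOf M, f' x = f (u⁻¹ * ((g : G)⁻¹ * x * g) * u) := by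
  classical
  haveI := h.inD_H_normal
  haveI := Fintype.ofFinite ↥(inD M (fittingHallOf M))
  rw [thetaOf_eq hT.mul, thetaOf_eq hT'.mul] at he
  have h1 := Lin9.inner_self_ne (inD M (fittingHallOf M)) _ hT'.le_sup
    (toLin M (fittingHallOf M ⊔ V') f')
  rw [← he] at h1
  have hmem : ∀ (k : ↥M) (n : inD M (fittingHallOf M)),
      (k : G) * (((n : ↥(derivedIn M)) : ↥M) : G) * (k : G)⁻¹ ∈ fittingHallOf M := fun k n =>
    conj_mem_of_le_normalizer (le_normalizer_fittingHallOf M) k.2 n.2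
  let c : ↥M → (inD M (fittingHallOf M) →* inD M (fittingHallOf M)) := fun k =>
    MonoidHom.mk' (fun n => ⟨liftD M _ (h.le_M.1 (hmem k n)), hmem k n⟩) fun a b =>
      Subtype.ext (Subtype.ext (Subtype.ext (by
        show (k : G) * ((((a * b : inD M (fittingHallOf M)) : ↥(derivedIn M)) : ↥M) : G) * (k : G)⁻¹ =
          ((k : G) * (((a : ↥(derivedIn M)) : ↥M) : G) * (k : G)⁻¹) *
            ((k : G) * (((b : ↥(derivedIn M)) : ↥M) : G) * (k : G)⁻¹)
        simp only [Subgroup.coe_mul]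
        group)))
  let χ₀ : inD M (fittingHallOf M) →* ℂˣ :=
    ((toLin M (fittingHallOf M ⊔ V') f').comp (Subgroup.inclusion hT'.le_sup)).comp (c g)
  let eqv : inD M (fittingHallOf M) ≃* inD M (fittingHallOf M) :=
    { c g with
      invFun := c g⁻¹
      left_inv := fun n => Subtype.ext (Subtype.ext (Subtype.ext (by
        show ((g⁻¹ : ↥M) : G) * ((g : G) * _ * (g : G)⁻¹) * ((g⁻¹ : ↥M) : G)⁻¹ = _
        rw [InvMemClass.coe_inv]
        group)))
      right_inv := fun n => Subtype.ext (Subtype.ext (Subtype.ext (by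
        show (g : G) * (((g⁻¹ : ↥M) : G) * _ * ((g⁻¹ : ↥M) : G)⁻¹) * (g : G)⁻¹ = _
        rw [InvMemClass.coe_inv]
        group))) }
  have h2 : classInner (fun n : inD M (fittingHallOf M) =>
      Lin9.linInd (inD M (fittingHallOf M ⊔ V)) (toLin M (fittingHallOf M ⊔ V) f) n)
      (CyclicTI.lin χ₀) ≠ 0 := by
    intro e0
    apply h1
    rw [← Char.classInner_comp_equiv eqv]
    refine Eq.trans ?_ e0
    refine congrArg₂ classInner (funext fun n => ?_) rfl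
    rw [CliffordChar.conjFun_apply]
    refine congrArg (Lin9.linInd _ _) (Subtype.ext (Subtype.ext ?_))
    show (g : G)⁻¹ * ((g : G) * (((n : ↥(derivedIn M)) : ↥M) : G) * (g : G)⁻¹) * g = _
    group
  obtain ⟨y, hy⟩ := Lin9.exists_conj_of_inner_ne _ _ hT.le_sup _ χ₀ h2
  obtain ⟨a, ha, u, hu, hau⟩ := h.exists_mul (show ((y : ↥M) : G) ∈ ⁅M, M⁆ from y.2)
  refine ⟨u, hu, fun x hx => ?_⟩
  have hx' : (g : G)⁻¹ * x * g ∈ fittingHallOf M := by
    simpa using conj_mem_of_le_normalizer (le_normalizer_fittingHallOf M) (inv_mem g.2) hx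
  have h3 := hy ⟨liftD M _ (h.le_M.1 hx'), hx'⟩
  rw [MonoidHom.comp_apply, MonoidHom.comp_apply, toLin_apply hT'.mul, toLin_apply hT.mul] at h3
  change f' ((g : G) * ((g : G)⁻¹ * x * g) * (g : G)⁻¹) =
    f (((y : ↥M) : G)⁻¹ * ((g : G)⁻¹ * x * g) * ((y : ↥M) : G)) at h3
  rw [← hau, show (g : G) * ((g : G)⁻¹ * x * g) * (g : G)⁻¹ = x by group] at h3
  rw [h3, show (a * u)⁻¹ * ((g : G)⁻¹ * x * g) * (a * u) =
    u⁻¹ * a⁻¹ * u * (u⁻¹ * ((g : G)⁻¹ * x * g) * u) * (u⁻¹ * a⁻¹ * u)⁻¹ by group]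
  refine hT.conj_eq (Subgroup.mem_sup_left ?_) (Subgroup.mem_sup_left ?_)
  · simpa using conj_mem_of_le_normalizer h.H_normalized (inv_mem (h.le_M.2.1 hu)) (inv_mem ha)
  · simpa using conj_mem_of_le_normalizer h.H_normalized (inv_mem (h.le_M.2.1 hu)) hx'

end ThetaData

/-- `(l, b) ↦ θ` has fibres of size at most `[U : V]`. -/
theorem Hyp9.count_theta (h : Hyp9 M W₁ U W₂) (hK : IsChiefKernel M U H₀) {Y : Subgroup G}
    [(Y.subgroupOf V).Normal] (hYV : Y ≤ V) (hV : V ≤ U) {S : Set (G → ℂˣ)}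
    (hS : ∀ l ∈ S, l ∈ facChars (fittingHallOf M) H₀ ∧ l ≠ 1 ∧
      U ⊓ fixSub (fittingHallOf M) l = V) {T : Set (↥(derivedIn M) → ℂ)} (hTfin : T.Finite)
    (hT : ∀ f, ThetaData M U H₀ V f → resTo (fittingHallOf M) f ∈ S → (∀ y ∈ Y, f y = 1) →
      thetaOf M (fittingHallOf M ⊔ V) f ∈ T) :
    S.ncard * (facChars V Y).ncard ≤ V.relIndex U * T.ncard := by
  classical
  haveI := hK.quot_normal
  haveI := h.inD_H_normal
  have hSfin : S.Finite := (facChars_finite hK.le).subset fun l hl => (hS l hl).1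
  have hBfin : (facChars V Y).Finite := facChars_finite hYV
  have hd : fittingHallOf M ⊓ V = ⊥ :=
    le_bot_iff.1 (h.H_U_inf ▸ inf_le_inf_left _ hV)
  have hex : ∀ lb : S × facChars V Y, ∃ f : G → ℂˣ,
      (∀ x ∈ fittingHallOf M ⊔ V, ∀ y ∈ fittingHallOf M ⊔ V, f (x * y) = f x * f y) ∧
        (∀ x ∈ fittingHallOf M, f x = lb.1.1 x) ∧ ∀ x ∈ V, f x = lb.2.1 x := fun lb =>
    exists_ext (hS _ lb.1.2).1 ((hS _ lb.1.2).2.2.ge.trans inf_le_right) hd _ lb.2.2.1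
  choose F hmul hFH hFV using hex
  have hdata : ∀ lb, ThetaData M U H₀ V (F lb) := fun lb => by
    refine ⟨hV, hmul lb, fun x hx => ?_, ?_, fun v hv => ?_⟩
    · rw [hFH lb x (hK.le hx)]; exact (hS _ lb.1.2).1.2.1 x hx
    · obtain ⟨x, hx, hx1⟩ := exists_ne_one (hS _ lb.1.2).1 (hS _ lb.1.2).2.1
      exact ⟨x, hx, by rwa [hFH lb x hx]⟩
    · rw [← (hS _ lb.1.2).2.2]
      refine ⟨hv.1, hv.2.1, fun x hx => ?_⟩
      rw [← hFH lb _ ((Subgroup.mem_normalizer_iff.1 hv.2.1 x).1 hx), ← hFH lb x hx]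
      exact hv.2.2 x hx
  have hres : ∀ lb, resTo (fittingHallOf M) (F lb) = lb.1.1 := fun lb => funext fun x => by
    by_cases hx : x ∈ fittingHallOf M
    · rw [resTo, if_pos hx, hFH lb x hx]
    · rw [resTo, if_neg hx, (hS _ lb.1.2).1.2.2 x hx]
  haveI := hSfin.fintype
  haveI := hBfin.fintype
  let Φ : S × facChars V Y → (↥(inD M (fittingHallOf M ⊔ V)) →* ℂˣ) := fun lb =>
    toLin M (fittingHallOf M ⊔ V) (F lb)
  have hXD : fittingHallOf M ⊔ V ≤ ⁅M, M⁆ := _root_.sup_le h.le_M.1 (hV.trans h.le_M.2.1)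
  have hinj : Function.Injective Φ := by
    intro a b e
    have key : ∀ x ∈ fittingHallOf M ⊔ V, F a x = F b x := fun x hx => by
      have h1 := DFunLike.congr_fun e ⟨liftD M x (hXD hx), hx⟩
      simp only [Φ, toLin_apply (hmul _)] at h1
      exact h1
    refine Prod.ext (Subtype.ext (fac_ext (hS _ a.1.2).1 (hS _ b.1.2).1 fun x hx => ?_))
      (Subtype.ext (fac_ext a.2.2 b.2.2 fun x hx => ?_))
    · rw [← hFH a x hx, ← hFH b x hx, key x (Subgroup.mem_sup_left hx)]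
    · rw [← hFV a x hx, ← hFV b x hx, key x (Subgroup.mem_sup_right hx)]
  set P := Finset.univ.image Φ with hP
  have hcard : P.card = S.ncard * (facChars V Y).ncard := by
    rw [hP, Finset.card_image_of_injective _ hinj, Finset.card_univ, Fintype.card_prod,
      ← Nat.card_eq_fintype_card, ← Nat.card_eq_fintype_card, Nat.card_coe_set_eq,
      Nat.card_coe_set_eq]
  rw [← hcard]
  refine (Lin9.card_le_of_linInd (inD M (fittingHallOf M)) _
    (fun a ha => Subgroup.mem_sup_left (S := fittingHallOf M) ha) (P := P) ?_).trans ?_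
  · intro ξ hξ
    obtain ⟨lb, -, rfl⟩ := Finset.mem_image.1 hξ
    exact (hdata lb).stabLE h
  rw [index_inD, h.relIndex_sup hV, ← Set.ncard_coe_finset]
  refine Nat.mul_le_mul_left _ (Set.ncard_le_ncard ?_ hTfin)
  intro θ hθ
  obtain ⟨ξ, hξ, rfl⟩ := Finset.mem_image.1 (Finset.mem_coe.1 hθ)
  obtain ⟨lb, -, rfl⟩ := Finset.mem_image.1 hξ
  rw [← thetaOf_eq (hmul lb)]
  refine hT _ (hdata lb) ?_ fun y hy => ?_
  · rw [hres]; exact lb.1.2
  · rw [hFV lb y (hYV hy)]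
    exact lb.2.2.2.1 y hy

/-- A character of `M'` is fixed by `M` as soon as it induces reducibly. -/
theorem Hyp9.fixed_of_reducible (hG : IsMinSimpleOddOrder G) (h : Hyp9 M W₁ U W₂)
    {θ : ↥(derivedIn M) → ℂ} (hθ : IsIrrCharacter ↥(derivedIn M) θ)
    (hred : ¬ IsIrrCharacter ↥M (indFun (derivedIn M) θ)) (g : ↥M) :
    CliffordChar.conjFun (derivedIn M) g θ = θ := by
  obtain ⟨μ, δ, η, R, P⟩ := exists_typePChars hG h.coatom h.data
  rcases P.mu.dichotomy hθ with ⟨ω, hω⟩ | ⟨hirr, -⟩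
  · subst hω
    exact CliffordChar.conjFun_restrict (derivedIn M)
      (Char.IsIrrCharacter.isClassFunction (P.mu.irr ω)) g
  · exact absurd hirr hred

/-- A fixed character induces reducibly. -/
theorem Hyp9.not_irr_of_fixed (h : Hyp9 M W₁ U W₂) {θ : ↥(derivedIn M) → ℂ}
    (hθ : IsIrrCharacter ↥(derivedIn M) θ)
    (hfix : ∀ g : ↥M, CliffordChar.conjFun (derivedIn M) g θ = θ) :
    ¬ IsIrrCharacter ↥M (indFun (derivedIn M) θ) := by
  intro hirr
  have hres : (fun a : derivedIn M => indFun (derivedIn M) θ a) =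
      ((derivedIn M).index : ℂ) • θ := by
    funext a
    rw [CliffordChar.indFun_coe, CliffordChar.orbitSum,
      Finset.sum_congr rfl fun x _ => hfix x, Finset.sum_const, Finset.card_univ, Pi.smul_apply,
      Pi.smul_apply, ← Nat.card_eq_fintype_card, ← Subgroup.card_mul_index (derivedIn M),
      nsmul_eq_mul, Nat.cast_mul, smul_eq_mul, ← mul_assoc, ← mul_assoc,
      inv_mul_cancel₀ (Nat.cast_ne_zero.2 Nat.card_pos.ne'), one_mul]
  have h1 := Char.classInner_irr_self hirr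
  rw [Char.frobenius_reciprocity (derivedIn M) θ (Char.indFun_isClassFunction _ _), hres,
    Char.classInner_smul_right, Char.classInner_irr_self hθ, mul_one, Complex.conj_natCast] at h1
  have h2 : (derivedIn M).index = 1 := by exact_mod_cast h1
  obtain ⟨⟨w, hw⟩, hw1⟩ := Subgroup.ne_bot_iff_exists_ne_one.1 h.data.W₁_ne
  have h3 : (⟨w, h.le_M.2.2.2.1 hw⟩ : ↥M) ∈ derivedIn M := by
    rw [Subgroup.index_eq_one.1 h2]; exact Subgroup.mem_top _
  have h4 : w ∈ ⁅M, M⁆ ⊓ W₁ := ⟨h3, hw⟩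
  rw [h.data.W₁_compl.2.2.1, Subgroup.mem_bot] at h4
  exact hw1 (Subtype.ext h4)

/-- At most `p - 1` members of `irrD M H H₀` induce reducibly. -/
theorem Hyp9.reducible_ncard_le (hG : IsMinSimpleOddOrder G) (h : Hyp9 M W₁ U W₂)
    (hK : IsChiefKernel M U H₀) :
    {θ ∈ irrD M (fittingHallOf M) H₀ | ¬ IsIrrCharacter ↥M (indFun (derivedIn M) θ)}.ncard ≤
      factorPrime W₂ H₀ - 1 := by
  classical
  obtain ⟨μ, δ, η, R, P⟩ := exists_typePChars hG h.coatom h.data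
  have hcomm : ∀ a ∈ W₂, ∀ b ∈ W₂, a * b = b * a := fun a ha b hb => congrArg Subtype.val
    (P.dade.toPrimeTI.comm ⟨a, Subgroup.mem_sup_right ha⟩ ⟨b, Subgroup.mem_sup_right hb⟩)
  haveI : ((W₂ ⊓ H₀).subgroupOf W₂).Normal := ⟨fun n hn g => by
    rw [Subgroup.mem_subgroupOf] at hn ⊢
    rw [Subgroup.coe_mul, Subgroup.coe_mul, InvMemClass.coe_inv, hcomm _ g.2 _ n.2,
      mul_inv_cancel_right]
    exact hn⟩
  set A := {θ ∈ irrD M (fittingHallOf M) H₀ | ¬ IsIrrCharacter ↥M (indFun (derivedIn M) θ)}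
  have hω : ∀ θ ∈ A, ∃ ω, θ = resK M ⁅M, M⁆ (μ ω) := fun θ hθ =>
    (P.mu.dichotomy hθ.1.1).resolve_right fun e => hθ.2 e.1
  choose! w hw using hω
  let ψ : (↥(W₁ ⊔ W₂) →* ℂˣ) → G → ℂˣ := fun ω x =>
    if hx : x ∈ W₂ then ω ⟨x, Subgroup.mem_sup_right hx⟩ else 1
  have hone : ∀ θ ∈ A, ¬ SameCol (w θ) 1 := by
    intro θ hθ hs
    obtain ⟨a, -, ha⟩ := hθ.1.2.2
    refine ha ?_
    rw [hw θ hθ, P.mu.res_col _ _ hs, (P.mu.mu_one).1]
    rfl
  have hψ : ∀ θ ∈ A, ψ (w θ) ∈ facChars W₂ (W₂ ⊓ H₀) ∧ ψ (w θ) ≠ 1 := by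
    intro θ hθ
    refine ⟨⟨fun x hx y hy => ?_, fun y hy => ?_, fun x hx => dif_neg hx⟩, fun e => hone θ hθ ?_⟩
    · simp only [ψ, dif_pos hx, dif_pos hy, dif_pos (mul_mem hx hy), ← map_mul]
      rfl
    · obtain ⟨a, ha, -, ha2⟩ := P.dade.toPrimeTI.exists_off
      show dite _ _ _ = _
      rw [dif_pos (show y ∈ W₂ from hy.1)]
      set b : ↥(W₁ ⊔ W₂) := ⟨y, Subgroup.mem_sup_right hy.1⟩
      have hab : ((a * b : ↥(W₁ ⊔ W₂)) : G) ∉ W₂ := fun e => ha2 (by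
        simpa [b] using W₂.mul_mem e (W₂.inv_mem hy.1))
      have hker : μ (w θ) (P.dade.toPrimeTI.emb b) = μ (w θ) 1 := by
        have hb : y ∈ ⁅M, M⁆ := h.le_M.1 (h.data.W₂_le hy.1).1
        have h1 := hθ.1.2.1 (liftD M y hb) hy.2
        rw [hw θ hθ] at h1
        exact h1
      have h2 := P.mu.apply_W (w θ) (a * b) hab
      rw [map_mul, Lin9.irr_mul_ker (P.mu.irr _) hker, P.mu.apply_W (w θ) a ha2, map_mul] at h2
      have h3 := mul_left_cancel₀ (P.mu.sign_ne _) h2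
      rw [Units.val_mul] at h3
      exact Units.ext ((mul_right_eq_self₀.1 h3.symm).resolve_right (Units.ne_zero _))
    · intro v hv
      have h1 := congrFun e (v : G)
      simp only [ψ, dif_pos hv, Pi.one_apply] at h1
      simpa using h1
  have hfin : (facChars W₂ (W₂ ⊓ H₀)).Finite := facChars_finite inf_le_left
  have hcard : (facChars W₂ (W₂ ⊓ H₀) \ {1}).ncard = factorPrime W₂ H₀ - 1 := by
    rw [Set.ncard_sdiff_singleton_of_mem facChars_one, card_facChars inf_le_left fun x hx y hy => by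
      rw [hcomm x hx y hy, mul_inv_cancel_right, mul_inv_cancel]
      exact one_mem _]
    rfl
  rw [← hcard]
  refine Set.ncard_le_ncard_of_injOn (fun θ => ψ (w θ)) (fun θ hθ => ⟨(hψ θ hθ).1, (hψ θ hθ).2⟩)
    (fun θ hθ θ' hθ' e => ?_) (hfin.sdiff)
  rw [hw θ hθ, hw θ' hθ']
  refine P.mu.res_col _ _ fun v hv => ?_
  have h1 := congrFun e (v : G)
  simp only [ψ, dif_pos hv] at h1
  exact h1

end Cfsg.Agent.Peterfalvi
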